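import Cfsg.Agent.Chev.Bruhat

/-!
The sum `∑ q ^ N(w)` over standard parabolic subgroups of the Weyl group, by orbits of
fundamental coweights.
-/

set_option autoImplicit false

namespace Cfsg.Agent.Chev

open Cfsg.Lie

universe u

variable {D : ChevalleyDatum}

/-- A linear functional on coroot coordinates, evaluated at a root. -/
def lamF (v : Fin D.rank → ℤ) (r : ℕ) : ℤ := ∑ j : Fin D.rank, coef D r j * v j

/-- The action of a fundamental reflection on functionals. -/
def stepV (i : Fin D.rank) (v : Fin D.rank → ℤ) : Fin D.rank → ℤ :=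
  fun j => v j - v i * D.cartan j (D.simple i)

theorem inv_app {α : Type*} (π : Equiv.Perm α) (r : α) : π⁻¹ (π r) = r :=
  π.symm_apply_apply r

theorem app_inv {α : Type*} (π : Equiv.Perm α) (r : α) : π (π⁻¹ r) = r :=
  π.apply_symm_apply r

variable (hF : Facts.{u} D)
include hF

theorem coef_nonneg {r : ℕ} (hr : r < D.nroots) (hp : half D ≤ r) {j : ℕ} :
    0 ≤ coef D r j := by
  have h := ((hF.posRoot_iff r hr).2 hp).2
  rw [coef]
  revert h
  generalize D.coroot.getD r #[] = a
  intro h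
  by_cases hj : j < a.size
  · have e : a.getD j 0 = a[j] := by simp [Array.getD, hj]
    rw [e]
    exact h _ (Array.mem_toList_iff.2 (Array.getElem_mem hj))
  · simp [Array.getD, hj]

theorem pos_iff_exists_coef {r : ℕ} (hr : r < D.nroots) :
    half D ≤ r ↔ ∃ j < D.rank, 0 < coef D r j := by
  constructor
  · intro hp
    obtain ⟨j, hj, hne⟩ := hF.coef_unit (F := AuxF.{u}) hr
    refine ⟨j, hj, lt_of_le_of_ne (coef_nonneg hF hr hp) fun e => hne ?_⟩
    rw [← e, Int.cast_zero]
  · rintro ⟨j, hj, hpos⟩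
    by_contra hn
    have h1 := coef_nonneg hF (neg_lt hF hr) ((half_le_neg_iff hF hr).2 (not_le.1 hn)) (j := j)
    rw [hF.coef_neg r hr j hj] at h1
    omega

theorem lamF_step (i : Fin D.rank) (v : Fin D.rank → ℤ) (r : Fin D.nroots) :
    lamF v (wPerm hF i r : ℕ) = lamF (stepV i v) r := by
  simp only [lamF, wPerm_val, stepV]
  have e : ∀ j : Fin D.rank, coef D (D.reflectRoot i r) j * v j = coef D r j * v j -
      (if j = i then (∑ k : Fin D.rank, coef D r k * D.cartan k (D.simple i)) * v i else 0) := by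
    intro j
    rw [hF.coef_refl i i.2 r r.2 j j.2]
    by_cases h : j = i
    · subst h; simp; ring
    · rw [if_neg (fun e => h (Fin.ext e)), if_neg h]; ring
  simp only [e, Finset.sum_sub_distrib, Finset.sum_ite_eq', Finset.mem_univ, if_true,
    Finset.sum_mul]
  rw [← Finset.sum_sub_distrib]
  exact Finset.sum_congr rfl fun j _ => by ring

theorem lamF_simple (v : Fin D.rank → ℤ) (i : Fin D.rank) :
    lamF v (sRoot hF i : ℕ) = v i := by
  rw [lamF, Finset.sum_eq_single i]
  · show coef D (D.simple i) i * v i = v i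
    rw [hF.coef_simple i i.2 i i.2, if_pos rfl, one_mul]
  · intro j _ hj
    show coef D (D.simple i) j * v j = 0
    rw [hF.coef_simple i i.2 j j.2, if_neg fun e => hj (Fin.ext e), zero_mul]
  · intro h; exact absurd (Finset.mem_univ _) h

theorem coef_pWord (w : List (Fin D.rank)) : ∀ (r : Fin D.nroots) (j : Fin D.rank),
    coef D (pWord hF w r : ℕ) j =
      ∑ l : Fin D.rank, coef D r l * coef D (pWord hF w (sRoot hF l) : ℕ) j := by
  induction w with
  | nil =>
    intro r j
    rw [Finset.sum_eq_single j]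
    · show coef D r j = coef D r j * coef D (D.simple j) j
      rw [hF.coef_simple j j.2 j j.2, if_pos rfl, mul_one]
    · intro l _ hl
      show coef D r l * coef D (D.simple l) j = 0
      rw [hF.coef_simple l l.2 j j.2, if_neg fun e => hl (Fin.ext e).symm, mul_zero]
    · intro h; exact absurd (Finset.mem_univ _) h
  | cons i w ih =>
    intro r j
    simp only [pWord_cons, Equiv.Perm.mul_apply, wPerm_val]
    rw [hF.coef_refl i i.2 _ (pWord hF w r).2 j j.2, ih r j]
    have e : ∀ l : Fin D.rank, coef D r l * coef D (D.reflectRoot i (pWord hF w (sRoot hF l))) j =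
        coef D r l * coef D (pWord hF w (sRoot hF l) : ℕ) j - coef D r l *
          (if (j : ℕ) = i then
            ∑ k : Fin D.rank, coef D (pWord hF w (sRoot hF l) : ℕ) k * D.cartan k (D.simple i)
          else 0) := fun l => by
      rw [hF.coef_refl i i.2 _ (pWord hF w (sRoot hF l)).2 j j.2, mul_sub]
    simp only [e, Finset.sum_sub_distrib]
    congr 1
    split
    · simp only [ih r, Finset.sum_mul, Finset.mul_sum]
      rw [Finset.sum_comm]
      exact Finset.sum_congr rfl fun l _ => Finset.sum_congr rfl fun k _ => by ring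
    · simp

/-- The standard parabolic subgroup of the Weyl group. -/
def wJ (J : Finset (Fin D.rank)) : Subgroup (Equiv.Perm (Fin D.nroots)) :=
  Subgroup.closure (wPerm hF '' (J : Set (Fin D.rank)))

theorem wJ_le (J : Finset (Fin D.rank)) : wJ hF J ≤ weyl hF :=
  Subgroup.closure_mono (Set.image_subset_range _ _)

theorem wJ_univ : wJ hF Finset.univ = weyl hF := by
  rw [wJ, weyl, Finset.coe_univ, Set.image_univ]

theorem wJ_mono {J K : Finset (Fin D.rank)} (h : K ⊆ J) : wJ hF K ≤ wJ hF J :=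
  Subgroup.closure_mono (Set.image_mono (by simpa using h))

theorem exists_pWord_J {J : Finset (Fin D.rank)} {π : Equiv.Perm (Fin D.nroots)}
    (hπ : π ∈ wJ hF J) : ∃ w : List (Fin D.rank), (∀ i ∈ w, i ∈ J) ∧ pWord hF w = π := by
  induction hπ using Subgroup.closure_induction_left with
  | one => exact ⟨[], by simp, rfl⟩
  | mul_left x hx y _ ih =>
    obtain ⟨i, hi, rfl⟩ := hx
    obtain ⟨w, hw, rfl⟩ := ih
    exact ⟨i :: w, List.forall_mem_cons.2 ⟨hi, hw⟩, rfl⟩
  | inv_mul_cancel x hx y _ ih =>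
    obtain ⟨i, hi, rfl⟩ := hx
    obtain ⟨w, hw, rfl⟩ := ih
    exact ⟨i :: w, List.forall_mem_cons.2 ⟨hi, hw⟩, by rw [pWord_cons, wPerm_inv]⟩

theorem pWord_mem_J {J : Finset (Fin D.rank)} {w : List (Fin D.rank)} (hw : ∀ i ∈ w, i ∈ J) :
    pWord hF w ∈ wJ hF J :=
  Subgroup.list_prod_mem _ fun g hg => by
    obtain ⟨i, hi, rfl⟩ := List.mem_map.1 hg
    exact Subgroup.subset_closure ⟨i, hw i hi, rfl⟩

theorem coef_pWord_of_not_mem {J : Finset (Fin D.rank)} : ∀ {w : List (Fin D.rank)},
    (∀ i ∈ w, i ∈ J) → ∀ (r : Fin D.nroots) {j : Fin D.rank}, j ∉ J →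
      coef D (pWord hF w r : ℕ) j = coef D r j := by
  intro w
  induction w with
  | nil => intro _ r j _; rfl
  | cons i w ih =>
    intro hw r j hj
    simp only [List.mem_cons, forall_eq_or_imp] at hw
    simp only [pWord_cons, Equiv.Perm.mul_apply, wPerm_val]
    rw [hF.coef_refl i i.2 _ (pWord hF w r).2 j j.2, ih hw.2 r hj,
      if_neg (fun e => hj (by rw [Fin.ext e]; exact hw.1)), sub_zero]

theorem coef_of_not_mem {J : Finset (Fin D.rank)} {π : Equiv.Perm (Fin D.nroots)}
    (hπ : π ∈ wJ hF J) (r : Fin D.nroots) {j : Fin D.rank} (hj : j ∉ J) :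
    coef D (π r : ℕ) j = coef D r j := by
  obtain ⟨w, hw, rfl⟩ := exists_pWord_J hF hπ
  exact coef_pWord_of_not_mem hF hw r hj

/-- The coordinates of a root vanish outside `J`. -/
theorem coef_eq_zero_of_inverted {J : Finset (Fin D.rank)} {π : Equiv.Perm (Fin D.nroots)}
    (hπ : π ∈ wJ hF J) {r : Fin D.nroots} (h1 : half D ≤ (r : ℕ)) (h2 : (π r : ℕ) < half D)
    {j : Fin D.rank} (hj : j ∉ J) : coef D r j = 0 := by
  refine le_antisymm ?_ (coef_nonneg hF r.2 h1)
  by_contra hpos
  have := (pos_iff_exists_coef hF (π r).2).2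
    ⟨j, j.2, by rw [coef_of_not_mem hF hπ r hj]; omega⟩
  omega

theorem mem_of_inverted_simple {J : Finset (Fin D.rank)} {π : Equiv.Perm (Fin D.nroots)}
    (hπ : π ∈ wJ hF J) {i : Fin D.rank} (h : (π (sRoot hF i) : ℕ) < half D) : i ∈ J := by
  by_contra hi
  have := coef_eq_zero_of_inverted hF hπ (r := sRoot hF i) (hF.simple_pos i i.2) h hi
  rw [show ((sRoot hF i : Fin D.nroots) : ℕ) = D.simple i from rfl,
    hF.coef_simple i i.2 i i.2, if_pos rfl] at this
  exact one_ne_zero this

theorem shorten {J : Finset (Fin D.rank)} {w : List (Fin D.rank)} (hw : ∀ i ∈ w, i ∈ J)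
    {i : Fin D.rank} (h : (pWord hF w (sRoot hF i) : ℕ) < half D) :
    i ∈ J ∧ ∃ v : List (Fin D.rank), (∀ j ∈ v, j ∈ J) ∧ v.length < w.length ∧
      pWord hF w * wPerm hF i = pWord hF v := by
  refine ⟨mem_of_inverted_simple hF (pWord_mem_J hF hw) h, ?_⟩
  obtain ⟨u, j, v, rfl, hp⟩ := exchange_perm hF w i h
  exact ⟨u ++ v, fun x hx => hw x (by simp only [List.mem_append, List.mem_cons] at hx ⊢; tauto),
    by simp, hp⟩

theorem coef_wPerm_of_ne {i k : Fin D.rank} (h : k ≠ i) (r : Fin D.nroots) :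
    coef D (wPerm hF i r : ℕ) k = coef D r k := by
  rw [wPerm_val, hF.coef_refl i i.2 r r.2 k k.2, if_neg (fun e => h (Fin.ext e)), sub_zero]

/-- The stabiliser of the coordinate `k` in `W_J` is `W_{J - k}`. -/
theorem stab_coord {J : Finset (Fin D.rank)} {k : Fin D.rank} : ∀ (n : ℕ) (w : List (Fin D.rank)),
    w.length = n → (∀ i ∈ w, i ∈ J) →
    (∀ r : Fin D.nroots, coef D (pWord hF w r : ℕ) k = coef D r k) →
    pWord hF w ∈ wJ hF (J.erase k) := by
  intro n
  induction n using Nat.strong_induction_on with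
  | _ n ih =>
    intro w hn hw hfix
    by_cases hall : ∀ i, half D ≤ (pWord hF w (sRoot hF i) : ℕ)
    · rw [pWord_eq_one_of_pos hF w hall]; exact Subgroup.one_mem _
    push Not at hall
    obtain ⟨i, hi⟩ := hall
    obtain ⟨hiJ, v, hv, hlen, hp⟩ := shorten hF hw hi
    have hik : k ≠ i := by
      rintro rfl
      have h1 := hfix (sRoot hF k)
      rw [show ((sRoot hF k : Fin D.nroots) : ℕ) = D.simple k from rfl,
        hF.coef_simple k k.2 k k.2, if_pos rfl] at h1
      have := (pos_iff_exists_coef hF (pWord hF w (sRoot hF k)).2).2 ⟨k, k.2, by rw [h1]; norm_num⟩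
      omega
    have hfix' : ∀ r : Fin D.nroots, coef D (pWord hF v r : ℕ) k = coef D r k := fun r => by
      rw [← hp, Equiv.Perm.mul_apply, hfix, coef_wPerm_of_ne hF hik]
    have := ih _ (hn ▸ hlen) v rfl hv hfix'
    have hw' : pWord hF w = pWord hF v * wPerm hF i := by
      rw [← hp, mul_assoc, wPerm_sq, mul_one]
    rw [hw']
    exact Subgroup.mul_mem _ this
      (Subgroup.subset_closure ⟨i, Finset.mem_coe.2 (Finset.mem_erase.2 ⟨hik.symm, hiJ⟩), rfl⟩)

/-- The functional attached to the coset of `π` modulo the stabiliser of coordinate `k`. -/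
def cosetFun (k : Fin D.rank) (π : Equiv.Perm (Fin D.nroots)) : Fin D.nroots → ℤ :=
  fun r => coef D (π⁻¹ r : Fin D.nroots) k

/-- Inverted roots of a permutation. -/
def invSet (π : Equiv.Perm (Fin D.nroots)) : Finset (Fin D.nroots) :=
  Finset.univ.filter fun r => half D ≤ (r : ℕ) ∧ (π r : ℕ) < half D

omit hF in
theorem invCard_eq (π : Equiv.Perm (Fin D.nroots)) : invCard π = (invSet π).card := by
  rw [invCard, Nat.card_eq_fintype_card, Fintype.card_subtype, invSet]

/-- The negative roots at which a functional is positive. -/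
def posNegCount (f : Fin D.nroots → ℤ) : ℕ :=
  (Finset.univ.filter fun r : Fin D.nroots => (r : ℕ) < half D ∧ 0 < f r).card

theorem invCard_split {J : Finset (Fin D.rank)} {k : Fin D.rank} {u v : Equiv.Perm (Fin D.nroots)}
    (hu : u ∈ wJ hF J) (hmin : ∀ i ∈ J.erase k, half D ≤ (u (sRoot hF i) : ℕ))
    (hv : v ∈ wJ hF (J.erase k)) :
    invCard (u * v) = posNegCount (cosetFun k u) + invCard v := by
  classical
  have hk : k ∉ J.erase k := Finset.notMem_erase k J
  rw [invCard_eq, invCard_eq]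
  have hsplit := Finset.card_filter_add_card_filter_not (s := invSet (u * v))
    (fun r => coef D r k ≠ 0)
  rw [← hsplit]
  have hvJ : v ∈ wJ hF J := wJ_mono hF (Finset.erase_subset k J) hv
  congr 1
  · rw [posNegCount]
    refine Finset.card_bij (fun r _ => (u * v) r) ?_ (fun a _ b _ e => (u * v).injective e) ?_
    · intro r hr
      simp only [invSet, Finset.mem_filter, Finset.mem_univ, true_and] at hr ⊢
      refine ⟨hr.1.2, ?_⟩
      rw [cosetFun, Equiv.Perm.mul_apply, inv_app, coef_of_not_mem hF hv r hk]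
      exact lt_of_le_of_ne (coef_nonneg hF r.2 hr.1.1) (Ne.symm hr.2)
    · intro s hs
      simp only [Finset.mem_filter, Finset.mem_univ, true_and] at hs
      refine ⟨v⁻¹ (u⁻¹ s), ?_, by simp⟩
      have e : coef D (v⁻¹ (u⁻¹ s) : Fin D.nroots) k = coef D (u⁻¹ s : Fin D.nroots) k :=
        coef_of_not_mem hF (Subgroup.inv_mem _ hv) _ hk
      have hpos : 0 < coef D (v⁻¹ (u⁻¹ s) : Fin D.nroots) k := by rw [e]; exact hs.2
      simp only [invSet, Finset.mem_filter, Finset.mem_univ, true_and]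
      refine ⟨⟨(pos_iff_exists_coef hF (v⁻¹ (u⁻¹ s)).2).2 ⟨k, k.2, hpos⟩, by simpa using hs.1⟩,
        hpos.ne'⟩
  · congr 1
    ext r
    simp only [invSet, Finset.mem_filter, Finset.mem_univ, true_and, not_not]
    rw [Equiv.Perm.mul_apply]
    have key : ∀ r : Fin D.nroots, (∀ j, j ∉ J.erase k → coef D r j = 0) →
        half D ≤ (r : ℕ) → half D ≤ (u r : ℕ) := by
      intro r hr0 hrp
      obtain ⟨w, hw, rfl⟩ := exists_pWord_J hF hu
      by_contra hneg
      obtain ⟨j, hj, hpos⟩ := (pos_iff_exists_coef hF (neg_lt hF (pWord hF w r).2)).1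
        ((pos_negF_iff hF (pWord hF w r)).2 (not_le.1 hneg))
      rw [hF.coef_neg _ (pWord hF w r).2 j hj] at hpos
      have hnn : 0 ≤ coef D (pWord hF w r : ℕ) j := by
        rw [show j = ((⟨j, hj⟩ : Fin D.rank) : ℕ) from rfl, coef_pWord hF w r ⟨j, hj⟩]
        refine Finset.sum_nonneg fun l _ => ?_
        by_cases hl : l ∈ J.erase k
        · exact mul_nonneg (coef_nonneg hF r.2 hrp)
            (coef_nonneg hF (pWord hF w (sRoot hF l)).2 (hmin l hl))
        · rw [hr0 l hl, zero_mul]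
      omega
    constructor
    · rintro ⟨⟨h1, h2⟩, h0⟩
      refine ⟨h1, ?_⟩
      by_contra hvr
      refine absurd h2 (not_lt.2 (key (v r) (fun j hj => ?_) (not_lt.1 hvr)))
      rw [coef_of_not_mem hF hv r hj]
      by_cases hjk : j = k
      · rw [hjk]; exact h0
      · exact coef_eq_zero_of_inverted hF (Subgroup.mul_mem _ hu hvJ) h1 h2
          fun hJ => hj (Finset.mem_erase.2 ⟨hjk, hJ⟩)
    · rintro ⟨h1, h2⟩
      have h0 : ∀ j, j ∉ J.erase k → coef D r j = 0 := fun j hj =>
        coef_eq_zero_of_inverted hF hv h1 h2 hj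
      refine ⟨⟨h1, ?_⟩, h0 k hk⟩
      have hp := key (negF hF (v r)) (fun j hj => ?_) ((pos_negF_iff hF (v r)).2 h2)
      · obtain ⟨w, -, rfl⟩ := exists_pWord_J hF hu
        rw [pWord_negF, pos_negF_iff] at hp
        exact hp
      · show coef D (D.neg (v r : ℕ)) j = 0
        rw [hF.coef_neg _ (v r).2 j j.2, coef_of_not_mem hF hv r hj, h0 j hj, neg_zero]

/-- `∑ q ^ N(w)` over a standard parabolic subgroup. -/
noncomputable def poin (J : Finset (Fin D.rank)) (q : ℕ) : ℕ :=
  ∑ π ∈ (wJ hF J : Set (Equiv.Perm (Fin D.nroots))).toFinite.toFinset, q ^ invCard π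

theorem poin_empty (q : ℕ) : poin hF ∅ q = 1 := by
  have h : wJ hF (∅ : Finset (Fin D.rank)) = ⊥ := by simp [wJ]
  have hs : (wJ hF (∅ : Finset (Fin D.rank)) : Set (Equiv.Perm (Fin D.nroots))).toFinite.toFinset
      = {1} := by
    ext π
    simp [h]
  rw [poin, hs, Finset.sum_singleton, invCard_eq]
  have : invSet (D := D) (1 : Equiv.Perm (Fin D.nroots)) = ∅ := by
    ext r
    simp only [invSet, Finset.mem_filter, Finset.mem_univ, true_and, Finset.notMem_empty,
      iff_false, not_and, not_lt]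
    exact fun h => h
  rw [this, Finset.card_empty, pow_zero]

theorem lamF_injective {v v' : Fin D.rank → ℤ}
    (h : ∀ r : Fin D.nroots, lamF v (r : ℕ) = lamF v' (r : ℕ)) : v = v' :=
  funext fun i => by rw [← lamF_simple hF v i, ← lamF_simple hF v' i, h]

theorem cosetFun_step {k i : Fin D.rank} {π : Equiv.Perm (Fin D.nroots)} {v : Fin D.rank → ℤ}
    (h : cosetFun k π = fun r : Fin D.nroots => lamF v (r : ℕ)) :
    cosetFun k (wPerm hF i * π) = fun r : Fin D.nroots => lamF (stepV i v) (r : ℕ) := by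
  funext r
  rw [cosetFun, mul_inv_rev, wPerm_inv, Equiv.Perm.mul_apply]
  exact (congrFun h (wPerm hF i r)).trans (lamF_step hF i v r)

omit hF in
theorem cosetFun_one (k : Fin D.rank) :
    cosetFun k (1 : Equiv.Perm (Fin D.nroots)) =
      fun r : Fin D.nroots => lamF (Pi.single k (1 : ℤ)) (r : ℕ) := by
  funext r
  rw [cosetFun, inv_one, Equiv.Perm.one_apply, lamF, Finset.sum_eq_single k]
  · simp
  · intro j _ hj; simp [hj]
  · intro h; exact absurd (Finset.mem_univ _) h

theorem cosetFun_eq_iff {J : Finset (Fin D.rank)} {k : Fin D.rank}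
    {π π' : Equiv.Perm (Fin D.nroots)} (hπ : π ∈ wJ hF J) (hπ' : π' ∈ wJ hF J) :
    cosetFun k π = cosetFun k π' ↔ π⁻¹ * π' ∈ wJ hF (J.erase k) := by
  constructor
  · intro h
    obtain ⟨w, hw, e⟩ := exists_pWord_J hF (Subgroup.mul_mem _ (Subgroup.inv_mem _ hπ) hπ')
    rw [← e]
    refine stab_coord hF _ w rfl hw fun r => ?_
    rw [e, Equiv.Perm.mul_apply]
    have := congrFun h (π' r)
    simp only [cosetFun, inv_app] at this
    exact this
  · intro h
    funext r
    simp only [cosetFun]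
    have := coef_of_not_mem hF h (π'⁻¹ r) (Finset.notMem_erase k J)
    rw [← Equiv.Perm.mul_apply, mul_assoc, mul_inv_cancel, mul_one] at this
    exact this

/-- The minimal coset representative. -/
theorem exists_minimal {J : Finset (Fin D.rank)} {k : Fin D.rank}
    {π : Equiv.Perm (Fin D.nroots)} (hπ : π ∈ wJ hF J) :
    ∃ u ∈ wJ hF J, cosetFun k u = cosetFun k π ∧
      ∀ i ∈ J.erase k, half D ≤ (u (sRoot hF i) : ℕ) := by
  obtain ⟨w₀, hw₀, e₀⟩ := exists_pWord_J hF hπ
  obtain ⟨w, ⟨hw, hc⟩, hmin⟩ := WellFounded.has_min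
    (InvImage.wf List.length (Nat.lt_wfRel.wf))
    {w : List (Fin D.rank) | (∀ i ∈ w, i ∈ J) ∧ cosetFun k (pWord hF w) = cosetFun k π}
    ⟨w₀, hw₀, by rw [e₀]⟩
  refine ⟨pWord hF w, pWord_mem_J hF hw, hc, fun i hi => ?_⟩
  by_contra hneg
  obtain ⟨hiJ, v, hv, hlen, hp⟩ := shorten hF hw (not_le.1 hneg)
  refine hmin v ⟨hv, ?_⟩ hlen
  rw [← hp, ← hc]
  refine ((cosetFun_eq_iff hF (Subgroup.mul_mem _ (pWord_mem_J hF hw)
    (Subgroup.subset_closure ⟨i, hiJ, rfl⟩)) (pWord_mem_J hF hw)).2 ?_)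
  rw [mul_inv_rev, wPerm_inv, inv_mul_cancel_right]
  exact Subgroup.subset_closure ⟨i, hi, rfl⟩

/-- The recursion along an orbit. -/
theorem poin_step {J : Finset (Fin D.rank)} {k : Fin D.rank} (q : ℕ)
    (L : List (Fin D.rank → ℤ)) (hnd : L.Nodup)
    (hone : Pi.single k (1 : ℤ) ∈ L)
    (hclosed : ∀ v ∈ L, ∀ i ∈ J, stepV i v ∈ L)
    (hreach : ∀ v ∈ L, ∃ π ∈ wJ hF J, cosetFun k π = fun r : Fin D.nroots => lamF v (r : ℕ)) :
    poin hF J q =
      (L.map fun v => q ^ posNegCount (D := D) (fun r : Fin D.nroots => lamF v (r : ℕ))).sum *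
        poin hF (J.erase k) q := by
  classical
  set S := (wJ hF J : Set (Equiv.Perm (Fin D.nroots))).toFinite.toFinset with hS
  set T := (wJ hF (J.erase k) : Set (Equiv.Perm (Fin D.nroots))).toFinite.toFinset with hT
  set Λ := L.toFinset.image fun v => fun r : Fin D.nroots => lamF v (r : ℕ) with hΛ
  have hmaps : ∀ π ∈ S, cosetFun k π ∈ Λ := by
    intro π hπ
    rw [hS, Set.Finite.mem_toFinset, SetLike.mem_coe] at hπ
    obtain ⟨w, hw, rfl⟩ := exists_pWord_J hF hπ
    clear hπ
    suffices H : ∃ v ∈ L, cosetFun k (pWord hF w) = fun r : Fin D.nroots => lamF v (r : ℕ) by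
      obtain ⟨v, hv, e⟩ := H
      exact Finset.mem_image.2 ⟨v, List.mem_toFinset.2 hv, e.symm⟩
    induction w with
    | nil => exact ⟨_, hone, cosetFun_one k⟩
    | cons i w ih =>
      simp only [List.mem_cons, forall_eq_or_imp] at hw
      obtain ⟨v, hv, e⟩ := ih hw.2
      exact ⟨_, hclosed v hv i hw.1, cosetFun_step hF e⟩
  have hfib : ∀ f ∈ Λ, ∑ π ∈ S with cosetFun k π = f, q ^ invCard π =
      q ^ posNegCount f * poin hF (J.erase k) q := by
    intro f hf
    obtain ⟨v, hv, rfl⟩ := Finset.mem_image.1 hf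
    obtain ⟨π₀, hπ₀, e₀⟩ := hreach v (List.mem_toFinset.1 hv)
    obtain ⟨u, hu, hcu, hmin⟩ := exists_minimal hF (k := k) hπ₀
    rw [poin, ← hT, Finset.mul_sum]
    refine Finset.sum_bij' (fun π _ => u⁻¹ * π) (fun τ _ => u * τ) ?_ ?_ ?_ ?_ ?_
    · intro π hπ
      simp only [hS, hT, Finset.mem_filter, Set.Finite.mem_toFinset, SetLike.mem_coe] at hπ ⊢
      exact (cosetFun_eq_iff hF hu hπ.1).1 (hcu.trans (e₀.trans hπ.2.symm))
    · intro τ hτ
      simp only [hS, hT, Finset.mem_filter, Set.Finite.mem_toFinset, SetLike.mem_coe] at hτ ⊢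
      have huτ : u * τ ∈ wJ hF J :=
        Subgroup.mul_mem _ hu (wJ_mono hF (Finset.erase_subset k J) hτ)
      refine ⟨huτ, ?_⟩
      rw [← e₀, ← hcu]
      exact ((cosetFun_eq_iff hF hu huτ).2 (by rwa [inv_mul_cancel_left])).symm
    · intro π _; exact mul_inv_cancel_left u π
    · intro τ _; exact inv_mul_cancel_left u τ
    · intro π hπ
      simp only [hS, Finset.mem_filter, Set.Finite.mem_toFinset, SetLike.mem_coe] at hπ
      have h := (cosetFun_eq_iff hF hu hπ.1).1 (hcu.trans (e₀.trans hπ.2.symm))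
      have := invCard_split hF hu hmin h
      rw [mul_inv_cancel_left, hcu, e₀] at this
      rw [this, pow_add]
  rw [poin, ← hS, ← Finset.sum_fiberwise_of_maps_to hmaps, Finset.sum_congr rfl hfib,
    ← Finset.sum_mul, hΛ, Finset.sum_image (fun a _ b _ e => lamF_injective hF (congrFun e)),
    List.sum_toFinset _ hnd]

end Cfsg.Agent.Chev
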