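import Cfsg.Agent.Chev.Bruhat
import Cfsg.Agent.Chev.Orbits

/-!
The order of the group, from the Bruhat normal form.
-/

set_option autoImplicit false

namespace Cfsg.Agent.Chev

open Cfsg.Lie
open scoped MatrixGroups

universe u

variable {D : ChevalleyDatum} {F : Type u} [Field F] (hF : Facts.{u} D)
include hF

theorem card_borel :
    Nat.card ↥(D.borelSubgroup F) =
      Nat.card ↥(D.posUnipotent F) * Nat.card ↥(D.diagonalSubgroup F) := by
  rw [← Nat.card_prod]
  refine (Nat.card_congr (Equiv.ofBijective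
    (fun p : ↥(D.posUnipotent F) × ↥(D.diagonalSubgroup F) =>
      (⟨(p.1 : GL D.Idx F) * p.2, Subgroup.mul_mem _ (Subgroup.mem_sup_left p.1.2)
        (Subgroup.mem_sup_right p.2.2)⟩ : ↥(D.borelSubgroup F))) ⟨?_, ?_⟩)).symm
  · rintro ⟨⟨a, ha⟩, b, hb⟩ ⟨⟨a', ha'⟩, b', hb'⟩ e
    have e' : a * b = a' * b' := congrArg Subtype.val e
    have h1 : a'⁻¹ * a = b' * b⁻¹ := by
      rw [eq_mul_inv_iff_mul_eq, mul_assoc, e', inv_mul_cancel_left]
    have h2 : a'⁻¹ * a ∈ D.posUnipotent F ⊓ D.diagonalSubgroup F :=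
      ⟨Subgroup.mul_mem _ (Subgroup.inv_mem _ ha') ha,
        h1 ▸ Subgroup.mul_mem _ hb' (Subgroup.inv_mem _ hb)⟩
    rw [posUnipotent_inf_diagonal hF, Subgroup.mem_bot, inv_mul_eq_one] at h2
    subst h2
    simp only [mul_right_inj] at e'
    subst e'
    rfl
  · intro g
    obtain ⟨v, hv, c, e⟩ := (mem_borel_iff hF).1 g.2
    exact ⟨(⟨v, hv⟩, ⟨_, torusHom_mem hF c⟩), Subtype.ext e.symm⟩

theorem card_posUnipotent [Fintype F] :
    Nat.card ↥(D.posUnipotent F) = Fintype.card F ^ half D := by
  rw [← Nat.card_congr (posUnipotentEquiv hF (F := F)), Nat.card_fun, Nat.card_fin,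
    Nat.card_eq_fintype_card]

/-- `|G| = q^N |H| ∑ q^N(w)`. -/
theorem card_group [Fintype F] :
    Nat.card ↥(D.group F) = Fintype.card F ^ half D * Nat.card ↥(D.diagonalSubgroup F) *
      poin hF Finset.univ (Fintype.card F) := by
  classical
  have hword : ∀ π : ↥(weyl hF), ∃ w, pWord hF w = π := fun π => exists_pWord hF π.2
  choose word hword using hword
  let f : (Σ π : ↥(weyl hF),
      ↥(D.borelSubgroup F) × ↥(uMinus hF (π : Equiv.Perm (Fin D.nroots)) (F := F))) →
      ↥(D.group F) := fun p =>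
    ⟨(p.2.1 : GL D.Idx F) * nWord hF (word p.1) * (p.2.2 : GL D.Idx F),
      Subgroup.mul_mem _ (Subgroup.mul_mem _ (borel_le_group hF p.2.1.2)
        (monomial_le_group hF (nWord_mem hF _)))
        (borel_le_group hF (uMinus_le_borel hF _ p.2.2.2))⟩
  have hf : Function.Bijective f := by
    constructor
    · rintro ⟨π, b, x⟩ ⟨π', b', x'⟩ e
      have e' := congrArg Subtype.val e
      simp only [f] at e'
      have hp : ∀ σ : ↥(weyl hF), monPerm hF (nWord hF (word σ) : GL D.Idx F) = σ := fun σ => by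
        rw [monPerm_eq hF (isMon_nWord hF _), hword]
      have h := normalForm_unique hF b.2 b'.2 (nWord_mem hF (word π)) (nWord_mem hF (word π'))
        (by rw [hp]; exact x.2) (by rw [hp]; exact x'.2) e'
      have hπ : π = π' := by
        obtain ⟨c, hc⟩ := (mem_diagonal_iff hF).1 h.1
        apply Subtype.ext
        rw [← hp π, ← hp π']
        have hn : (nWord hF (word π') : GL D.Idx F) = nWord hF (word π) * torusHom c := by
          rw [hc, mul_inv_cancel_left]
        rw [monPerm_eq hF (isMon_nWord hF _), hn,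
          monPerm_eq hF (isMon_mul hF (isMon_nWord hF _) (isMon_torus hF c)), mul_one]
      subst hπ
      obtain ⟨h1, h2⟩ := h.2 rfl
      rw [Subtype.ext h1, Subtype.ext h2]
    · intro g
      obtain ⟨b, hb, w, x, hx, e⟩ := exists_normalForm hF g.2
      set π : ↥(weyl hF) := ⟨pWord hF w, pWord_mem hF w⟩ with hπ
      have hd : (nWord hF (word π) : GL D.Idx F)⁻¹ * nWord hF w ∈ D.diagonalSubgroup F := by
        refine mem_diagonal_of_isMon_one hF
          (Subgroup.mul_mem _ (Subgroup.inv_mem _ (nWord_mem hF _)) (nWord_mem hF _)) ?_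
        have hn := Subgroup.mul_mem _ (Subgroup.inv_mem _ (nWord_mem hF (word π) (F := F)))
          (nWord_mem hF w)
        have h := isMon_monPerm hF hn
        have : monPerm hF ((nWord hF (word π) : GL D.Idx F)⁻¹ * nWord hF w) = 1 := by
          have := map_mul (monHom hF (F := F)) (⟨_, nWord_mem hF (word π)⟩ : ↥(D.monomialSubgroup F))⁻¹
            ⟨_, nWord_mem hF w⟩
          rw [map_inv] at this
          change monPerm hF _ = (monPerm hF _)⁻¹ * monPerm hF _ at this
          rw [show monPerm hF ((nWord hF (word π) : GL D.Idx F)⁻¹ * nWord hF w) = _ from this,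
            monPerm_eq hF (isMon_nWord hF _), monPerm_eq hF (isMon_nWord hF _), hword π]
          exact inv_mul_cancel _
        rwa [this] at h
      obtain ⟨c, hc⟩ := (mem_diagonal_iff hF).1 hd
      obtain ⟨c', hc'⟩ := nWord_torus hF (word π) c (F := F)
      refine ⟨⟨π, ⟨b * torusHom c',
        Subgroup.mul_mem _ hb (Subgroup.mem_sup_right (torusHom_mem hF c'))⟩, ⟨x, hx⟩⟩,
        Subtype.ext ?_⟩
      show b * torusHom c' * nWord hF (word π) * x = (g : GL D.Idx F)
      rw [e, mul_assoc b, ← hc', hc, mul_inv_cancel_left]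
  let : Fintype ↥(weyl hF) := Fintype.ofFinite _
  rw [← Nat.card_congr (Equiv.ofBijective f hf), Nat.card_sigma]
  have hterm : ∀ π : ↥(weyl hF),
      Nat.card (↥(D.borelSubgroup F) × ↥(uMinus hF (π : Equiv.Perm (Fin D.nroots)) (F := F))) =
        Nat.card ↥(D.borelSubgroup F) * Fintype.card F ^ invCard (π : Equiv.Perm (Fin D.nroots)) := by
    intro π
    have hn := isMon_nWord hF (word π) (F := F)
    rw [hword π] at hn
    rw [Nat.card_prod, card_uMinus hF hn]
  rw [Finset.sum_congr rfl fun π _ => hterm π, ← Finset.mul_sum, card_borel hF,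
    card_posUnipotent hF, poin]
  congr 1
  exact (Finset.sum_subtype _ (p := fun π => π ∈ weyl hF)
    (fun π => by rw [Set.Finite.mem_toFinset, SetLike.mem_coe, wJ_univ])
    (fun π => Fintype.card F ^ invCard π)).symm

end Cfsg.Agent.Chev
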