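import Cfsg.Agent.Chev.SoundConj

/-!
The defining relations follow from the checks of a certificate; assembly of `Facts`.
-/

set_option autoImplicit false

namespace Cfsg.Agent.Chev

open Cfsg.Lie

universe u

variable {D : ChevalleyDatum} {C : Cert} (h : Checks D C)
include h

theorem cEta_sq {F : Type*} [Field F] (i s : ℕ) :
    ((C.cEta i s : ℤ) : F) * ((C.cEta i s : ℤ) : F) = 1 := by
  rw [← Int.cast_mul, Cert.cEta, bitSign_mul_self, Int.cast_one]

theorem x_add {F : Type*} [Field F] {r : ℕ} (hr : r < D.nroots) : ∀ t₁ t₂ : F,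
    D.x F r t₁ * D.x F r t₂ = D.x F r (t₁ + t₂) := by
  suffices H : ∀ d r, r < D.nroots → C.depth r = d → ∀ t₁ t₂ : F,
      D.x F r t₁ * D.x F r t₂ = D.x F r (t₁ + t₂) from H _ r hr rfl
  intro d
  induction d using Nat.strong_induction_on with
  | _ d ih =>
    intro r hr hd t₁ t₂
    cases hrep : C.isRep r with
    | true =>
      have := h.add
      simp only [chkAdd, List.all_eq_true] at this
      have he := wordMat_eq_of_eqFree h.tab t₁ t₂
        (this r (List.mem_filter.2 ⟨List.mem_range.2 hr, hrep⟩))
      simpa [evalW, monsVal, Mon.val, wordMat_cons, ChevalleyDatum.wordMat] using he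
    | false =>
      obtain ⟨hi, hlt⟩ := stepI_spec h hr hrep
      set i := C.stepI r with hi'
      set r' := D.reflectRoot i r with hr'
      have hlt' : r' < D.nroots := refl_lt h hi hr
      have hback : D.reflectRoot i r' = r := refl_refl h hi hr
      set η : F := ((C.cEta i r' : ℤ) : F) with hη
      have hη2 : η * η = 1 := cEta_sq h i r'
      have hK : ∀ a : F, shapeOne D C F i * D.x F r' a =
          D.x F r (η * a) * shapeOne D C F i := fun a => by rw [conj_x h hi hlt', hback]
      apply shapeOne_cancel h hi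
      have e1 : ∀ a : F, D.x F r a * shapeOne D C F i = shapeOne D C F i * D.x F r' (η * a) :=
        fun a => by rw [hK, ← mul_assoc, hη2, one_mul]
      rw [mul_assoc, e1, ← mul_assoc, e1, mul_assoc, ih _ (hd ▸ hlt) r' hlt' rfl, ← mul_add,
        ← e1]

theorem chainEntry_eq (r s : ℕ) : D.chainEntry r s = C.cE D r s := by
  have hcE : C.cE D r s = cond ((Nat.blt r D.nroots && Nat.blt s D.nroots) &&
      (!Nat.beq s r && !Nat.beq s (D.nroots - 1 - r)))
      (decRaw C.T.K (C.T.slot r (D.rank + s))) [] := rfl
  rw [hcE, ChevalleyDatum.chainEntry]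
  by_cases hr : r < D.nroots
  swap
  · rw [nblt_false_iff.2 (not_lt.1 hr)]
    have hsz : D.chain.size ≤ r := le_trans (base_split h).2.2.2.2 (not_lt.1 hr)
    have h0 : D.chain.getD r #[] = #[] := by
      simp [Array.getD_eq_getD_getElem?, Array.getElem?_eq_none hsz]
    rw [h0]
    simp
  obtain ⟨-, -, -, -, -, hchain⟩ := chkTab_row h.tab hr
  by_cases hgood : s < D.nroots ∧ s ≠ r ∧ s ≠ D.nroots - 1 - r
  · obtain ⟨hs, h1, h2⟩ := hgood
    rw [nblt_iff.2 hr, nblt_iff.2 hs, nbeq_false_iff.2 h1, nbeq_false_iff.2 h2]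
    have hf := filter_chain h.tab hr hs h1 h2
    rw [← List.head?_filter]
    generalize hl : (D.chain.getD r #[]).toList.filter (fun e => decide (e.1 = s)) = l at hf
    cases hdec : decRaw C.T.K (C.T.slot r (D.rank + s)) with
    | nil =>
      rw [hdec] at hf
      cases l with
      | nil => simp [hl]
      | cons a l => simp at hf
    | cons b L =>
      rw [hdec] at hf
      cases l with
      | nil => simp at hf
      | cons a l =>
        simp only [List.map_cons, List.cons.injEq] at hf
        simp [hl, hf.1]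
  · have hfalse : ((Nat.blt r D.nroots && Nat.blt s D.nroots) &&
        (!Nat.beq s r && !Nat.beq s (D.nroots - 1 - r))) = false := by
      by_contra e
      simp only [Bool.not_eq_false, Bool.and_eq_true, nblt_iff, Bool.not_eq_true',
        nbeq_false_iff] at e
      exact hgood ⟨e.1.2, e.2.1, e.2.2⟩
    rw [hfalse, cond_false]
    have hnone : (D.chain.getD r #[]).toList.find? (fun e => decide (e.1 = s)) = none := by
      rw [List.find?_eq_none]
      intro e he hes
      simp only [decide_eq_true_eq] at hes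
      have := List.mem_map_of_mem (f := fun e : ℕ × Array (ℕ × ℤ) => (e.1, e.2.toList)) he
      rw [hchain, chainRebuilt_eq, List.mem_filterMap] at this
      obtain ⟨x, hx, hxe⟩ := this
      rw [List.mem_range] at hx
      cases hb : (x == D.nroots - 1 - r || x == r) with
      | true => simp [hb] at hxe
      | false =>
        simp only [Bool.or_eq_false_iff, beq_eq_false_iff_ne] at hb
        have hxs : x = s := by
          rw [show (x == D.nroots - 1 - r || x == r) = false by simp [hb.1, hb.2],
            cond_false] at hxe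
          cases hdec : decRaw C.T.K (C.T.slot r (D.rank + x)) with
          | nil => simp [hdec] at hxe
          | cons a L =>
            simp only [hdec, Option.some.injEq, Prod.mk.injEq] at hxe
            omega
        exact hgood ⟨hxs ▸ hx, hxs ▸ hb.2, hxs ▸ hb.1⟩
    rw [hnone]

theorem cTerms_eq_gen (r s : ℕ) : C.cTerms D r s = C.cTermsGen D r s := by
  rw [Cert.cTerms]
  cases hA : C.cE D r s with
  | nil =>
    cases hB : C.cE D s r with
    | nil => simp [Cert.cTermsGen, Cert.cRoot, Cert.cM, hA, hB]
    | cons b L => simp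
  | cons a L =>
    cases L with
    | cons a' L' => simp
    | nil =>
      cases hB : C.cE D s r with
      | nil => simp [show Nat.beq 0 1 = false from rfl]
      | cons b L' =>
        cases L' with
        | nil => simp [Cert.cTermsGen, Cert.cRoot, Cert.cM, hA, hB]
        | cons b' L'' =>
          simp [show ∀ n, Nat.beq (n + 1 + 1) 1 = false from fun n =>
            nbeq_false_iff.2 (by omega)]

theorem commTerms_eq (r s : ℕ) : D.commTerms r s = C.cTerms D r s := by
  rw [cTerms_eq_gen h]
  simp only [ChevalleyDatum.commTerms, Cert.cTermsGen, ChevalleyDatum.chainRoot, Cert.cRoot,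
    ChevalleyDatum.chainM, Cert.cM, chainEntry_eq h]

theorem cE_eq_nil_of_noTerms {r s : ℕ} (hn : C.noTerms D r s = true) :
    C.cE D r s = [] ∧ C.cE D s r = [] := by
  simp only [Cert.noTerms, Nat.add_eq, Bool.and_eq_true, nbeq_iff] at hn
  constructor <;> · rw [Cert.cE, Nat.add_eq]; simp [hn, decRaw_of_zero]

theorem cTerms_of_nil {r s : ℕ} (h₁ : C.cE D r s = []) (h₂ : C.cE D s r = []) :
    C.cTerms D r s = [] := by
  simp [Cert.cTerms, h₁, h₂]

theorem cTerms_of_excluded {r s : ℕ} (hr : r < D.nroots) (hs : s < D.nroots)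
    (he : s = r ∨ s = D.nroots - 1 - r) : C.cTerms D r s = [] := by
  refine cTerms_of_nil h ?_ ?_ <;> rw [Cert.cE, negN_eq]
  · rcases he with e | e
    · rw [nbeq_iff.2 e]; simp
    · rw [nbeq_iff.2 e]; simp
  · rcases he with e | e
    · rw [nbeq_iff.2 e.symm]; simp
    · rw [nbeq_iff.2 (show r = D.nroots - 1 - s by omega)]; simp

theorem order_spec {r s : ℕ} (hr : r < D.nroots) (hs : s < D.nroots) {c : ℕ × ℤ × ℕ × ℕ}
    (hc : c ∈ D.commTerms r s) :
    c.1 < D.nroots ∧ (half D ≤ r → half D ≤ s → r < c.1 ∧ s < c.1) ∧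
      (∀ i < D.rank, r = D.nroots - 1 - D.simple i → half D ≤ s → s ≠ D.simple i →
        half D ≤ c.1 ∧ c.1 ≠ D.simple i) := by
  rw [commTerms_eq h] at hc
  have hno : C.noTerms D r s = false := by
    rw [← Bool.not_eq_true]
    intro e
    obtain ⟨e1, e2⟩ := cE_eq_nil_of_noTerms h e
    rw [cTerms_of_nil h e1 e2] at hc
    simp at hc
  have hne : s ≠ r ∧ s ≠ D.nroots - 1 - r := by
    constructor <;> intro e
    · rw [cTerms_of_excluded h hr hs (Or.inl e)] at hc; simp at hc
    · rw [cTerms_of_excluded h hr hs (Or.inr e)] at hc; simp at hc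
  have := (h.pair r hr s hs).2
  simp only [chkOrder, hno, negN_eq, nbeq_false_iff.2 hne.1, nbeq_false_iff.2 hne.2,
    Bool.or_self, cond_false, List.all_eq_true, Bool.and_eq_true] at this
  obtain ⟨⟨h1, h2⟩, h3⟩ := this c hc
  refine ⟨nblt_iff.1 h1, fun hr' hs' => ?_, fun i hi e hs' hsi => ?_⟩
  · rw [nble_iff.2 hr', nble_iff.2 hs', Bool.and_self, cond_true, Bool.and_eq_true, nblt_iff,
      nblt_iff] at h2
    exact h2
  · have hp := simple_split h hi
    have hev := (base_split h).2.1
    have hrh : r < half D := by omega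
    have hany : ((List.range D.rank).any fun i =>
        Nat.beq r (D.nroots - 1 - D.simple i) && !Nat.beq s (D.simple i)) = true := by
      simp only [List.any_eq_true, List.mem_range, Bool.and_eq_true, nbeq_iff, Bool.not_eq_true',
        nbeq_false_iff]
      exact ⟨i, hi, e, hsi⟩
    rw [nble_iff.2 hs', nblt_iff.2 hrh, hany] at h3
    simp only [Bool.and_self, cond_true, Bool.and_eq_true, nble_iff, Bool.not_eq_true',
      nbeq_false_iff] at h3
    refine ⟨h3.1, fun e' => h3.2 ?_⟩
    rw [e', e]; have := hp.1; omega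

theorem sameTerms_spec {i br bs : ℕ} (hbr : br ≤ 1) (hbs : bs ≤ 1) : ∀ l l' : List (ℕ × ℤ × ℕ × ℕ),
    sameTerms C i br bs l l' = true →
      l = l'.map fun b => (C.cW i b.1,
        bitSign br ^ b.2.2.1 * bitSign bs ^ b.2.2.2 * C.cEta i b.1 * b.2.1, b.2.2) := by
  intro l
  induction l with
  | nil => intro l' e; cases l' <;> simp_all [sameTerms]
  | cons a l ih =>
    intro l' e
    cases l' with
    | nil => simp [sameTerms] at e
    | cons b L =>
      have he : sameTerms C i br bs (a :: l) (b :: L) =
          (Nat.beq a.1 (C.cW i b.1) && (Nat.beq a.2.2.1 b.2.2.1 && (Nat.beq a.2.2.2 b.2.2.2 &&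
          (zbeq a.2.1 (cond (Nat.beq ((b.2.2.1 * br + b.2.2.2 * bs + C.cB i b.1) % 2) 0) b.2.1
            (-b.2.1)) && sameTerms C i br bs l L)))) := rfl
      rw [he] at e
      simp only [Bool.and_eq_true, nbeq_iff, zbeq_iff] at e
      obtain ⟨e1, e2, e3, e4, e5⟩ := e
      rw [List.map_cons, ← ih L e5]
      congr 1
      obtain ⟨a1, a2, a3, a4⟩ := a
      simp only at e1 e2 e3 e4
      subst e1 e2 e3 e4
      congr 2
      have hsmall : ∀ b : ℕ, b ≤ 1 → bitSign b = (-1) ^ b := fun b hb => by
        rw [neg_one_pow_eq_bitSign, Nat.mod_eq_of_lt (by omega)]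
      rw [show C.cEta i b.1 = bitSign (C.cB i b.1) from rfl, hsmall br hbr, hsmall bs hbs,
        hsmall (C.cB i b.1) (Nat.le_of_lt_succ (Nat.mod_lt _ (by norm_num))), ← pow_mul, ← pow_mul,
        ← pow_add, ← pow_add, mul_comm br, mul_comm bs, neg_one_pow_eq_bitSign]
      rcases Nat.mod_two_eq_zero_or_one (b.2.2.1 * br + b.2.2.2 * bs + C.cB i b.1) with e | e <;>
        rw [e]
      · rw [show Nat.beq 0 0 = true from rfl, cond_true, show bitSign 0 = 1 from rfl, one_mul]
      · rw [show Nat.beq 1 0 = false from rfl, cond_false, show bitSign 1 = -1 from rfl,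
          neg_one_mul]

/-- `n_p` carries the matrix of a word to that of the transported word. -/
theorem shape_mul_wordMat {F : Type*} [Field F] {i : ℕ} (hi : i < D.rank) :
    ∀ w : List (ℕ × F), (∀ p ∈ w, p.1 < D.nroots) →
      shapeOne D C F i * D.wordMat F w =
        D.wordMat F (w.map fun p => (D.reflectRoot i p.1, ((C.cEta i p.1 : ℤ) : F) * p.2)) *
          shapeOne D C F i := by
  intro w
  induction w with
  | nil => intro _; simp [ChevalleyDatum.wordMat]
  | cons p w ih =>
    intro hw
    rw [List.map_cons, wordMat_cons, wordMat_cons, ← mul_assoc,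
      conj_x h hi (hw p (List.mem_cons_self ..)), mul_assoc,
      ih fun q hq => hw q (List.mem_cons_of_mem _ hq), ← mul_assoc]

theorem wordMat_append (F : Type*) [Field F] (l l' : List (ℕ × F)) :
    D.wordMat F (l ++ l') = D.wordMat F l * D.wordMat F l' := by
  simp [ChevalleyDatum.wordMat]

/-- The commutator formula for `(r, s)`. -/
def CommOk (D : ChevalleyDatum) (F : Type*) [Field F] (r s : ℕ) : Prop :=
  ∀ t v : F, D.x F s v * D.x F r t = D.x F r t * D.x F s v * D.wordMat F (D.commWord F r s t v)

theorem commOk_transport {F : Type*} [Field F] {i r s : ℕ} (hi : i < D.rank) (hr : r < D.nroots)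
    (hs : s < D.nroots) (hT : chkTerms D C i r s = true)
    (hok : CommOk D F (D.reflectRoot i r) (D.reflectRoot i s)) : CommOk D F r s := by
  intro t v
  have hr' := refl_lt h hi hr
  have hs' := refl_lt h hi hs
  have hterms : D.commTerms r s = (D.commTerms (D.reflectRoot i r) (D.reflectRoot i s)).map
      fun b => (D.reflectRoot i b.1, C.cEta i (D.reflectRoot i r) ^ b.2.2.1 *
        C.cEta i (D.reflectRoot i s) ^ b.2.2.2 * C.cEta i b.1 * b.2.1, b.2.2) := by
    have hlt : ∀ b ∈ C.cTerms D (D.reflectRoot i r) (D.reflectRoot i s), b.1 < D.nroots :=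
      fun b hb => (order_spec h hr' hs' (by rwa [commTerms_eq h])).1
    rw [commTerms_eq h, commTerms_eq h]
    simp only [chkTerms, force_eq, ← (refl_split h hi hr).1, ← (refl_split h hi hs).1] at hT
    cases hno : (C.noTerms D r s && C.noTerms D (D.reflectRoot i r) (D.reflectRoot i s)) with
    | true =>
      rw [Bool.and_eq_true] at hno
      obtain ⟨e1, e2⟩ := cE_eq_nil_of_noTerms h hno.1
      obtain ⟨e3, e4⟩ := cE_eq_nil_of_noTerms h hno.2
      rw [cTerms_of_nil h e1 e2, cTerms_of_nil h e3 e4, List.map_nil]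
    | false =>
      rw [hno, cond_false] at hT
      rw [sameTerms_spec h (Nat.le_of_lt_succ (Nat.mod_lt _ (by norm_num)))
        (Nat.le_of_lt_succ (Nat.mod_lt _ (by norm_num))) _ _ hT]
      refine List.map_congr_left fun b hb => ?_
      rw [← (refl_split h hi (hlt b hb)).1]
      rfl
  have hw : D.commWord F r s t v =
      (D.commWord F (D.reflectRoot i r) (D.reflectRoot i s)
        (((C.cEta i (D.reflectRoot i r) : ℤ) : F) * t)
        (((C.cEta i (D.reflectRoot i s) : ℤ) : F) * v)).map
        fun p => (D.reflectRoot i p.1, ((C.cEta i p.1 : ℤ) : F) * p.2) := by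
    rw [ChevalleyDatum.commWord, ChevalleyDatum.commWord, hterms, List.map_map, List.map_map]
    refine List.map_congr_left fun b _ => ?_
    simp only [Function.comp_apply]
    push_cast
    rw [Prod.mk.injEq]
    refine ⟨rfl, ?_⟩
    rw [← mul_neg, mul_pow, mul_pow]
    ring
  apply shapeOne_cancel h hi
  set a : F := ((C.cEta i (D.reflectRoot i r) : ℤ) : F) with ha
  set b : F := ((C.cEta i (D.reflectRoot i s) : ℤ) : F) with hb
  have hKr : ∀ c : F, shapeOne D C F i * D.x F (D.reflectRoot i r) c =
      D.x F r (a * c) * shapeOne D C F i := fun c => by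
    rw [conj_x h hi hr', refl_refl h hi hr]
  have hKs : ∀ c : F, shapeOne D C F i * D.x F (D.reflectRoot i s) c =
      D.x F s (b * c) * shapeOne D C F i := fun c => by
    rw [conj_x h hi hs', refl_refl h hi hs]
  have e1 : D.x F r t * shapeOne D C F i =
      shapeOne D C F i * D.x F (D.reflectRoot i r) (a * t) := by
    rw [hKr, ← mul_assoc, cEta_sq h, one_mul]
  have e2 : D.x F s v * shapeOne D C F i =
      shapeOne D C F i * D.x F (D.reflectRoot i s) (b * v) := by
    rw [hKs, ← mul_assoc, cEta_sq h, one_mul]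
  have hwlt : ∀ p ∈ D.commWord F (D.reflectRoot i r) (D.reflectRoot i s) (a * t) (b * v),
      p.1 < D.nroots := by
    intro p hp
    rw [ChevalleyDatum.commWord, List.mem_map] at hp
    obtain ⟨c, hc, rfl⟩ := hp
    exact (order_spec h hr' hs' hc).1
  rw [hw, mul_assoc (D.x F s v), e1, ← mul_assoc, e2, mul_assoc, hok (a * t) (b * v),
    mul_assoc _ (D.wordMat F _), ← shape_mul_wordMat h hi _ hwlt, mul_assoc (D.x F r t),
    ← mul_assoc (D.x F s v), e2]
  simp only [← mul_assoc]
  rw [e1]

theorem commOk_direct {F : Type*} [Field F] {r s : ℕ} (hd : chkDirect D C r s = true) :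
    CommOk D F r s := by
  intro t v
  have he := wordMat_eq_of_eqFree h.tab t v hd
  have e : evalW t v (C.cWord D r s) = D.commWord F r s t v := by
    rw [ChevalleyDatum.commWord, commTerms_eq h, evalW, Cert.cWord, List.map_map]
    refine List.map_congr_left fun c _ => ?_
    simp only [Function.comp_apply, monsVal, Mon.val, List.map_cons, List.map_nil, List.sum_cons,
      List.sum_nil, add_zero, neg_pow t c.2.2.1, Prod.mk.injEq, true_and]
    rcases Nat.mod_two_eq_zero_or_one c.2.2.1 with e | e <;> rw [e]
    · rw [Even.neg_one_pow (Nat.even_iff.2 e)]; simp; ring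
    · rw [Odd.neg_one_pow (Nat.odd_iff.2 e)]; simp; ring
  have e1 : evalW t v [(s, [(⟨0, 1, 1⟩ : Mon)]), (r, [⟨1, 0, 1⟩])] = [(s, v), (r, t)] := by
    simp [evalW, monsVal, Mon.val]
  have e2 : evalW t v ([(r, [(⟨1, 0, 1⟩ : Mon)]), (s, [⟨0, 1, 1⟩])] ++ C.cWord D r s) =
      [(r, t), (s, v)] ++ D.commWord F r s t v := by
    rw [← e]; simp [evalW, monsVal, Mon.val]
  rw [e1, e2, wordMat_append h] at he
  simpa [ChevalleyDatum.wordMat] using he

theorem x_comm {F : Type*} [Field F] {r s : ℕ} (hr : r < D.nroots) (hs : s < D.nroots)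
    (hne : s ≠ r) (hne' : s ≠ D.nroots - 1 - r) : CommOk D F r s := by
  suffices H : ∀ d r, r < D.nroots → C.depth r = d → ∀ e s, s < D.nroots →
      C.pStep r s / 256 = e → s ≠ r → s ≠ D.nroots - 1 - r → CommOk D F r s from
    H _ r hr rfl _ s hs rfl hne hne'
  intro d
  induction d using Nat.strong_induction_on with
  | _ d ihd =>
    intro r hr hd e
    induction e using Nat.strong_induction_on with
    | _ e ihe =>
      intro s hs he h1 h2
      have hchk := (h.pair r hr s hs).1
      simp only [chkPair, negN_eq, nbeq_false_iff.2 h1, nbeq_false_iff.2 h2, Bool.or_self,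
        cond_false, force_eq, Nat.sub_eq] at hchk
      have hne1 : ∀ {i : ℕ}, i < D.rank → D.reflectRoot i s ≠ D.reflectRoot i r := fun hi e' =>
        h1 (by rw [← refl_refl h hi hs, e', refl_refl h hi hr])
      have hne2 : ∀ {i : ℕ}, i < D.rank →
          D.reflectRoot i s ≠ D.nroots - 1 - D.reflectRoot i r := fun {i} hi e' => by
        obtain ⟨hw, -, -, hwn, -⟩ := refl_split h hi hr
        rw [hw, ← hwn, ← (refl_split h hi (by omega)).1] at e'
        exact h2 (by rw [← refl_refl h hi hs, e', refl_refl h hi (by omega)])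
      cases hrep : C.isRep r with
      | false =>
        rw [hrep, cond_false] at hchk
        obtain ⟨hi, hlt⟩ := stepI_spec h hr hrep
        refine commOk_transport h hi hr hs hchk ?_
        exact ihd _ (hd ▸ hlt) _ (refl_lt h hi hr) rfl _ _ (refl_lt h hi hs) rfl (hne1 hi) (hne2 hi)
      | true =>
        rw [hrep, cond_true] at hchk
        cases hz : Nat.beq (Nat.mod (C.pStep r s) 256) 0 with
        | true => rw [hz, cond_true] at hchk; exact commOk_direct h hchk
        | false =>
          simp only [hz, cond_false, Bool.and_eq_true, nblt_iff, nbeq_iff] at hchk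
          obtain ⟨⟨⟨hi, hfix⟩, hlt⟩, hT⟩ := hchk
          refine commOk_transport h hi hr hs hT ?_
          have hfix' : D.reflectRoot (Nat.mod (C.pStep r s) 256 - 1) r = r := by
            rw [(refl_split h hi hr).1, hfix]
          have a1 := hne1 hi
          have a2 := hne2 hi
          rw [hfix'] at a1 a2 ⊢
          refine ihe _ ?_ _ (refl_lt h hi hs) rfl a1 a2
          rw [← he, (refl_split h hi hs).1]
          exact hlt

omit h in
theorem facts (h : Checks D C) : Facts.{u} D where
  rank_pos := (base_split h).1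
  nroots_even := (base_split h).2.1
  neg_eq r hr := neg_eq h hr
  posRoot_iff r hr := (root_split h hr).1
  negRoot_iff r hr := (root_split h hr).2.1
  simple_lt i hi := (simple_split h hi).1
  simple_pos i hi := (simple_split h hi).2.1
  coef_simple i hi := (simple_split h hi).2.2.2.2.2
  coef_neg r hr j hj := by rw [neg_eq h hr]; exact coef_neg h hj hr
  coef_unit hr := coef_unit h hr
  cartan_self i hi := (simple_split h hi).2.2.1
  cartan_neg r hr i hi := by rw [neg_eq h hr]; exact cartan_neg h hi hr
  refl_lt i hi s hs := refl_lt h hi hs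
  refl_refl i hi s hs := refl_refl h hi hs
  refl_neg i hi s hs := by
    obtain ⟨hw, hlt, -, hwn, -⟩ := refl_split h hi hs
    rw [neg_eq h hs, hw, neg_eq h hlt, (refl_split h hi (by omega)).1, hwn]
  refl_simple i hi := by
    have hp := simple_split h hi
    rw [neg_eq h hp.1, (refl_split h hi hp.1).1, hp.2.2.2.1]
  refl_pos i hi s hs h1 h2 := by
    rw [(refl_split h hi hs).1]; exact (refl_split h hi hs).2.2.2.2.2.2.1 h1 h2
  cartan_refl i hi s hs j hj := by
    obtain ⟨hw, -, -, -, -, -, -, hlin⟩ := refl_split h hi hs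
    rw [hw]; exact (hlin j hj).1
  coef_refl i hi s hs j hj := by
    obtain ⟨hw, -, -, -, -, -, -, hlin⟩ := refl_split h hi hs
    rw [hw]; exact (hlin j hj).2
  root_induction := root_induction h
  longest := longest_spec h
  n_simple i hi := by
    have hp := simple_split h hi
    exact ⟨fun s => C.cEta i s, fun s _ => bitSign_cases _, hp.2.2.2.2.1,
      fun s hs => eta_mul_eta h hi hs,
      fun s hs => by rw [neg_eq h hs]; exact (refl_split h hi hs).2.2.2.2.1,
      fun F _ t ht => nMat_simple h hi ht, fun F _ s hs t => conj_x h hi hs t⟩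
  x_add F _ r hr := x_add h hr
  x_comm F _ r s hr hs h1 h2 := x_comm h hr hs h1 (by rwa [neg_eq h hr] at h2)
  torus_x F _ c hc r hr t := torus_x h c hc hr t
  x_lower F _ r hr hp t a b hab := x_lower h hr hp t a b hab
  x_upper F _ r hr hp t a b hab := x_upper h hr hp t a b hab
  comm_lt r s hr hs c hc := (order_spec h hr hs hc).1
  comm_pos r s hr hs h1 h2 c hc := (order_spec h hr hs hc).2.1 h1 h2
  comm_neg_simple i hi s hs h1 h2 c hc := by
    have hp := (simple_split h hi).1
    rw [neg_eq h hp] at hc
    exact (order_spec h (by omega) hs hc).2.2 i hi rfl h1 h2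

end Cfsg.Agent.Chev
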