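import Cfsg.Agent.Chev.Torus
import Cfsg.Agent.Chev.Sound
import Mathlib.GroupTheory.SpecificGroups.Cyclic
import Mathlib.Data.Matrix.Basic
import Mathlib.RingTheory.IntegralDomain

/-!
The order of the diagonal subgroup over a finite field, from a diagonalisation of the Cartan matrix.
-/

set_option autoImplicit false

namespace Cfsg.Agent.Chev

open Cfsg.Lie
open scoped MatrixGroups

universe u

/-- The action of an integer matrix on tuples in an abelian group. -/
def zAct {n : ℕ} {A : Type u} [CommGroup A] (M : Matrix (Fin n) (Fin n) ℤ) (c : Fin n → A) :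
    Fin n → A :=
  fun i => ∏ j, c j ^ M i j

theorem zpow_finset_sum {A : Type u} [CommGroup A] {ι : Type*} (a : A) (f : ι → ℤ)
    (s : Finset ι) : a ^ (∑ i ∈ s, f i) = ∏ i ∈ s, a ^ f i := by
  classical
  induction s using Finset.induction_on with
  | empty => simp
  | insert i s hi ih => rw [Finset.sum_insert hi, Finset.prod_insert hi, zpow_add, ih]

theorem zAct_mul {n : ℕ} {A : Type u} [CommGroup A] (M N : Matrix (Fin n) (Fin n) ℤ)
    (c : Fin n → A) : zAct (M * N) c = zAct M (zAct N c) := by
  funext i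
  simp only [zAct, Matrix.mul_apply, zpow_finset_sum, ← Finset.prod_zpow]
  rw [Finset.prod_comm]
  exact Finset.prod_congr rfl fun k _ => Finset.prod_congr rfl fun j _ => by
    rw [← zpow_mul, mul_comm]

theorem zAct_diagonal {n : ℕ} {A : Type u} [CommGroup A] (d : Fin n → ℤ) (c : Fin n → A) :
    zAct (Matrix.diagonal d) c = fun i => c i ^ d i := by
  funext i
  rw [zAct, Finset.prod_eq_single i]
  · rw [Matrix.diagonal_apply_eq]
  · intro j _ hj; rw [Matrix.diagonal_apply_ne _ hj.symm, zpow_zero]
  · intro h; exact absurd (Finset.mem_univ _) h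

theorem zAct_one {n : ℕ} {A : Type u} [CommGroup A] (c : Fin n → A) :
    zAct (1 : Matrix (Fin n) (Fin n) ℤ) c = c := by
  rw [← Matrix.diagonal_one, zAct_diagonal]
  simp

theorem zAct_apply_one {n : ℕ} {A : Type u} [CommGroup A] (M : Matrix (Fin n) (Fin n) ℤ) :
    zAct M (1 : Fin n → A) = 1 := by
  funext i; simp [zAct]

/-- The number of solutions of a diagonalisable system. -/
theorem card_zAct_eq_one {n : ℕ} {A : Type u} [CommGroup A] [Finite A] [IsCyclic A]
    {M P P' Q Q' : Matrix (Fin n) (Fin n) ℤ} {d : Fin n → ℕ} (hP : P' * P = 1)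
    (hQ : Q * Q' = 1) (hQ' : Q' * Q = 1) (hd : P * M * Q = Matrix.diagonal fun i => (d i : ℤ)) :
    Nat.card {c : Fin n → A // zAct M c = 1} = ∏ i, (Nat.card A).gcd (d i) := by
  let e : (Fin n → A) ≃ (Fin n → A) :=
    ⟨zAct Q', zAct Q, fun c => by rw [← zAct_mul, hQ, zAct_one],
      fun c => by rw [← zAct_mul, hQ', zAct_one]⟩
  have key : ∀ c : Fin n → A,
      zAct M c = 1 ↔ ∀ i, e c i ∈ (powMonoidHom (d i) : A →* A).ker := by
    intro c
    have h1 : zAct (Matrix.diagonal fun i => (d i : ℤ)) (e c) = zAct P (zAct M c) := by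
      rw [← hd]
      show zAct (P * M * Q) (zAct Q' c) = _
      rw [← zAct_mul, Matrix.mul_assoc (P * M), hQ, Matrix.mul_one, zAct_mul]
    rw [zAct_diagonal] at h1
    constructor
    · intro hc i
      rw [hc, zAct_apply_one] at h1
      simpa using congrFun h1 i
    · intro hc
      have h2 : zAct P (zAct M c) = 1 := by
        rw [← h1]
        funext i
        simpa using hc i
      have := congrArg (zAct P') h2
      rwa [← zAct_mul, hP, zAct_one, zAct_apply_one] at this
  rw [Nat.card_congr ((e.subtypeEquiv key).trans Equiv.subtypePiEquivPi), Nat.card_pi]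
  exact Finset.prod_congr rfl fun i _ => IsCyclic.card_powMonoidHom_ker A (d i)

/-- Entry of an integer matrix given by lists. -/
def entL (M : List (List ℤ)) (i j : ℕ) : ℤ := (M.getD i []).getD j 0

/-- An integer matrix given by lists. -/
def matL (n : ℕ) (M : List (List ℤ)) : Matrix (Fin n) (Fin n) ℤ :=
  Matrix.of fun i j => entL M i j

/-- The product entry of two matrices given by lists. -/
noncomputable def mulL (n : ℕ) (f g : ℕ → ℕ → ℤ) (i j : ℕ) : ℤ :=
  ((List.range n).map fun k => f i k * g k j).sum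

/-- The check of a diagonalisation of the Cartan matrix. -/
noncomputable def chkSmith (D : ChevalleyDatum) (C : Cert) (P P' Q Q' : List (List ℤ))
    (d : List ℕ) : Bool :=
  allBelow (fun i => allBelow (fun j =>
    zbeq (mulL D.rank (entL P') (entL P) i j) (cond (Nat.beq i j) 1 0) &&
    zbeq (mulL D.rank (entL Q) (entL Q') i j) (cond (Nat.beq i j) 1 0) &&
    zbeq (mulL D.rank (entL Q') (entL Q) i j) (cond (Nat.beq i j) 1 0) &&
    zbeq (mulL D.rank (mulL D.rank (entL P) fun a b => C.cA b (D.simple a)) (entL Q) i j)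
      (cond (Nat.beq i j) (d.getD i 0 : ℤ) 0)) D.rank) D.rank

variable {D : ChevalleyDatum} {C : Cert} {F : Type u} [Field F]

theorem mem_torusHom_ker (hF : Facts.{u} D) (c : Fin D.rank → Fˣ) :
    c ∈ (torusHom : (Fin D.rank → Fˣ) →* GL D.Idx F).ker ↔
      zAct (Matrix.of fun i j : Fin D.rank => D.cartan j (D.simple i)) c = 1 := by
  rw [MonoidHom.mem_ker, torusHom_eq_one_iff]
  constructor
  · intro h
    funext i
    exact h ⟨D.simple i, hF.simple_lt i i.2⟩
  · intro h s
    refine hF.root_induction (fun r => chiU c r = 1) (fun i hi => ?_) (fun i hi r hr ih => ?_) s s.2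
    · exact congrFun h ⟨i, hi⟩
    · have := chiU_refl hF hi c hr
      rw [show chiU c (D.simple i) = 1 from congrFun h ⟨i, hi⟩, inv_one, Pi.mulSingle_one,
        mul_one, ih] at this
      exact this

theorem card_diagonal [Fintype F] (h : Checks D C) (hF : Facts.{u} D) {P P' Q Q' : List (List ℤ)}
    {d : List ℕ} (hc : chkSmith D C P P' Q Q' d = true) :
    (∏ i : Fin D.rank, (Fintype.card F - 1).gcd (d.getD i 0)) *
      Nat.card ↥(D.diagonalSubgroup F) = (Fintype.card F - 1) ^ D.rank := by
  simp only [chkSmith, allBelow_iff, Bool.and_eq_true, zbeq_iff] at hc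
  have hm : ∀ f g : ℕ → ℕ → ℤ, ∀ i j : Fin D.rank, mulL D.rank f g i j =
      ((Matrix.of fun a b : Fin D.rank => f a b) * (Matrix.of fun a b : Fin D.rank => g a b)) i j :=
    fun f g i j => by simp [mulL, list_range_map_sum, Matrix.mul_apply]
  have hone : ∀ i j : Fin D.rank, (cond (Nat.beq i j) 1 0 : ℤ) =
      (1 : Matrix (Fin D.rank) (Fin D.rank) ℤ) i j := by
    intro i j
    by_cases e : i = j
    · subst e; simp [nbeq_iff.2 rfl]
    · rw [nbeq_false_iff.2 fun e' => e (Fin.ext e'), Matrix.one_apply_ne e]; rfl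
  have hk := card_zAct_eq_one (A := Fˣ)
    (M := Matrix.of fun i j : Fin D.rank => D.cartan j (D.simple i))
    (P := matL D.rank P) (P' := matL D.rank P') (Q := matL D.rank Q) (Q' := matL D.rank Q')
    (d := fun i : Fin D.rank => d.getD i 0)
    (Matrix.ext fun i j => by
      rw [← hone i j, ← (hc i i.2 j j.2).1.1.1, hm]; rfl)
    (Matrix.ext fun i j => by
      rw [← hone i j, ← (hc i i.2 j j.2).1.1.2, hm]; rfl)
    (Matrix.ext fun i j => by
      rw [← hone i j, ← (hc i i.2 j j.2).1.2, hm]; rfl)
    (Matrix.ext fun i j => by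
      have hd : Matrix.diagonal (fun i : Fin D.rank => ((d.getD i 0 : ℕ) : ℤ)) i j =
          (cond (Nat.beq i j) ((d.getD i 0 : ℕ) : ℤ) 0 : ℤ) := by
        by_cases e : i = j
        · subst e; simp [nbeq_iff.2 rfl]
        · rw [nbeq_false_iff.2 fun e' => e (Fin.ext e'), Matrix.diagonal_apply_ne _ e]; rfl
      rw [hd, ← (hc i i.2 j j.2).2, hm]
      simp only [Matrix.mul_apply, matL, Matrix.of_apply, hm]
      refine Finset.sum_congr rfl fun k _ => ?_
      congr 1
      exact Finset.sum_congr rfl fun l _ => by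
        rw [cartan_eq h k.2 (hF.simple_lt l l.2)])
  classical
  have hker : Nat.card ↥(torusHom : (Fin D.rank → Fˣ) →* GL D.Idx F).ker =
      ∏ i : Fin D.rank, (Fintype.card F - 1).gcd (d.getD i 0) := by
    rw [← Fintype.card_units, ← Nat.card_eq_fintype_card, ← hk]
    exact Nat.card_congr (Equiv.subtypeEquivRight (mem_torusHom_ker hF))
  rw [← hker, diagonal_eq_range hF, mul_comm, ← Subgroup.index_ker, mul_comm,
    Subgroup.card_mul_index, Nat.card_fun, Nat.card_fin, Nat.card_eq_fintype_card,
    Fintype.card_units]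

end Cfsg.Agent.Chev
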