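import Cfsg.Agent.Chev.BNpair

/-!
The permutation group generated by the fundamental reflections is the Coxeter group of the type.
-/

set_option autoImplicit false

namespace Cfsg.Agent.Chev

open Cfsg.Lie
open scoped MatrixGroups

universe u

variable {D : ChevalleyDatum} (hF : Facts.{u} D)
include hF

/-- The fundamental reflections inside the Weyl group. -/
def wGen (i : Fin D.rank) : ↥(weyl hF) := ⟨wPerm hF i, Subgroup.subset_closure ⟨i, rfl⟩⟩

theorem wGen_sq (i : Fin D.rank) : wGen hF i * wGen hF i = 1 := Subtype.ext (wPerm_sq hF i)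

theorem wGen_injective : Function.Injective (wGen hF) :=
  fun _ _ h => wPerm_injective hF (congrArg Subtype.val h)

theorem coe_prod_wGen (w : List (Fin D.rank)) :
    ((w.map (wGen hF)).prod : Equiv.Perm (Fin D.nroots)) = pWord hF w := by
  induction w with
  | nil => rfl
  | cons i w ih => rw [List.map_cons, List.prod_cons, Subgroup.coe_mul, ih]; rfl

theorem wGen_generates (n : ↥(weyl hF)) : ∃ w : List (Fin D.rank), (w.map (wGen hF)).prod = n := by
  obtain ⟨w, hw⟩ := exists_pWord hF n.2
  exact ⟨w, Subtype.ext ((coe_prod_wGen hF w).trans hw)⟩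

theorem wGen_exchange : BN.Exch.Exchange (wGen hF) := by
  intro i w hw hle
  have hinv : ∀ j, (wGen hF j)⁻¹ = wGen hF j := fun j =>
    inv_eq_of_mul_eq_one_right (wGen_sq hF j)
  by_cases hneg : (pWord hF w.reverse (sRoot hF i) : ℕ) < half D
  · obtain ⟨u, j, v, hw', hp⟩ := exchange_perm hF w.reverse i hneg
    refine ⟨v.reverse, j, u.reverse, ?_, Subtype.ext ?_⟩
    · rw [← List.reverse_reverse w, hw']
      simp
    · rw [Subgroup.coe_mul, coe_prod_wGen, coe_prod_wGen, ← List.reverse_append, pWord_reverse]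
      have := congrArg (·⁻¹) hp
      simp only [mul_inv_rev, wPerm_inv, pWord_reverse, inv_inv] at this
      exact this
  · exfalso
    obtain ⟨x, hx, hxp⟩ := Nat.sInf_mem
      (s := {k | ∃ v : List (Fin D.rank),
        v.length = k ∧ (v.map (wGen hF)).prod = wGen hF i * (w.map (wGen hF)).prod})
      (by
        obtain ⟨v, hv⟩ := wGen_generates hF (wGen hF i * (w.map (wGen hF)).prod)
        exact ⟨v.length, v, rfl, hv⟩)
    have hxlen : x.length ≤ w.length := le_of_eq_of_le hx hle
    have hxrev : pWord hF x.reverse = pWord hF w.reverse * wPerm hF i := by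
      rw [pWord_reverse, ← coe_prod_wGen, hxp, Subgroup.coe_mul, coe_prod_wGen, mul_inv_rev,
        pWord_reverse]
      congr 1
    have hxneg : (pWord hF x.reverse (sRoot hF i) : ℕ) < half D := by
      rw [hxrev, Equiv.Perm.mul_apply, wPerm_sRoot, pWord_negF]
      exact (neg_lt_half_iff hF (pWord hF w.reverse (sRoot hF i)).2).2 (not_lt.1 hneg)
    obtain ⟨u, j, v, hsplit, hp⟩ := exchange_perm hF x.reverse i hxneg
    rw [hxrev, mul_assoc, wPerm_sq, mul_one, pWord_reverse] at hp
    have hshort := BN.Exch.rlen_le (f := wGen hF) (u ++ v).reverse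
    have e : ((u ++ v).reverse.map (wGen hF)).prod = (w.map (wGen hF)).prod :=
      Subtype.ext (by rw [coe_prod_wGen, coe_prod_wGen, pWord_reverse, ← hp, inv_inv])
    rw [e, hw, List.length_reverse] at hshort
    have := congrArg List.length hsplit
    simp only [List.length_reverse, List.length_append, List.length_cons] at this hshort
    omega

/-- The Coxeter system on the Weyl group, for any matrix listing the orders of the products. -/
theorem exists_weylCoxeter (M : CoxeterMatrix (Fin D.rank))
    (hM : ∀ i j, orderOf (wPerm hF i * wPerm hF j) = M i j) :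
    ∃ cs : CoxeterSystem M ↥(weyl hF), ∀ i, cs.simple i = wGen hF i := by
  have e : BN.Exch.matrix (wGen hF) (wGen_injective hF) (wGen_sq hF) = M := by
    ext i j
    show orderOf (wGen hF i * wGen hF j) = M i j
    rw [← hM i j, ← Subgroup.orderOf_coe]
    rfl
  subst e
  exact BN.Exch.exists_coxeterSystem_matrix (wGen_injective hF) (wGen_sq hF) (wGen_generates hF)
    (wGen_exchange hF)

/-- `N / H` is the Coxeter group. -/
theorem exists_monomial_hom (F : Type u) [Field F] (M : CoxeterMatrix (Fin D.rank))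
    (hM : ∀ i j, orderOf (wPerm hF i * wPerm hF j) = M i j) :
    ∃ φ : ↥(D.monomialSubgroup F) →* M.Group, Function.Surjective φ ∧
      φ.ker = (D.diagonalSubgroup F).subgroupOf (D.monomialSubgroup F) ∧
      ∀ (i : Fin D.rank) (g : ↥(D.monomialSubgroup F)),
        ((g : GL D.Idx F) : Matrix D.Idx D.Idx F) = D.nMat F (D.simple i) 1 →
          φ g = M.simple i := by
  obtain ⟨cs, hcs⟩ := exists_weylCoxeter hF M hM
  let ψ : ↥(D.monomialSubgroup F) →* ↥(weyl hF) :=
    (monHom hF).codRestrict (weyl hF) fun g => monPerm_mem_weyl hF g.2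
  refine ⟨cs.mulEquiv.toMonoidHom.comp ψ, ?_, ?_, ?_⟩
  · refine cs.mulEquiv.surjective.comp ?_
    rintro ⟨π, hπ⟩
    rw [← monHom_range hF (F := F)] at hπ
    obtain ⟨a, rfl⟩ := hπ
    exact ⟨a, rfl⟩
  · rw [← monHom_ker hF (F := F), ← MonoidHom.ker_codRestrict (monHom hF) (weyl hF)
      fun g => monPerm_mem_weyl hF g.2]
    ext g
    simp only [MonoidHom.mem_ker, MonoidHom.comp_apply, MulEquiv.coe_toMonoidHom,
      MulEquiv.map_eq_one_iff]
    rfl
  · intro i g hg
    have e : (g : GL D.Idx F) = nS hF (i : ℕ) := Units.ext (hg.trans (nG_val hF _ 1).symm)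
    have h1 : ψ g = wGen hF i := Subtype.ext (by
      show monPerm hF (g : GL D.Idx F) = _
      rw [e]
      exact monPerm_eq hF (isMon_nS hF i))
    show cs.mulEquiv (ψ g) = M.simple i
    rw [h1, ← hcs i]
    exact cs.mulEquiv.apply_symm_apply _

theorem card_coxeterGroup (M : CoxeterMatrix (Fin D.rank))
    (hM : ∀ i j, orderOf (wPerm hF i * wPerm hF j) = M i j) :
    Nat.card M.Group = Nat.card ↥(weyl hF) := by
  obtain ⟨cs, -⟩ := exists_weylCoxeter hF M hM
  exact Nat.card_congr cs.mulEquiv.symm.toEquiv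

theorem orderOf_coxeterElement (M : CoxeterMatrix (Fin D.rank))
    (hM : ∀ i j, orderOf (wPerm hF i * wPerm hF j) = M i j) (w : List (Fin D.rank)) :
    orderOf (w.map M.simple).prod = orderOf (pWord hF w) := by
  obtain ⟨cs, hcs⟩ := exists_weylCoxeter hF M hM
  have e : cs.mulEquiv (w.map (wGen hF)).prod = (w.map M.simple).prod := by
    rw [map_list_prod, List.map_map]
    refine congrArg List.prod (List.map_congr_left fun i _ => ?_)
    show cs.mulEquiv (wGen hF i) = M.simple i
    rw [← hcs i]
    exact cs.mulEquiv.apply_symm_apply _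
  rw [← e, MulEquiv.orderOf_eq, ← Subgroup.orderOf_coe, coe_prod_wGen]

end Cfsg.Agent.Chev
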