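import Cfsg.Agent.Chev.Weyl
import Cfsg.Agent.Chev.Sound
import Mathlib.GroupTheory.OrderOfElement

/-!
Orders of products of fundamental reflections, checked on the packed tables.
-/

set_option autoImplicit false

namespace Cfsg.Agent.Chev

open Cfsg.Lie

universe u

variable (D : ChevalleyDatum) (C : Cert)

/-- Image of a root under a word of fundamental reflections. -/
noncomputable def appWord (w : List ℕ) (s : ℕ) : ℕ :=
  w.foldr (fun i x => force x fun x => C.cW i x) s

/-- Image of a root under a power of a word. -/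
noncomputable def appPow (w : List ℕ) (k : ℕ) : ℕ → ℕ :=
  Nat.rec (motive := fun _ => ℕ → ℕ) (fun s => s) (fun _ ih s => appWord C w (ih s)) k

/-- The check that a word has the order `m`. -/
noncomputable def chkOrd (w : List ℕ) (m : ℕ) : Bool :=
  Nat.blt 0 m &&
  (allBelow (fun s => Nat.beq (appPow C w m s) s) D.nroots) &&
  (allBelow (fun k => (List.range D.nroots).any fun s => !Nat.beq (appPow C w (k + 1) s) s) (m - 1))

/-- The check that the orders of the products of two fundamental reflections are `M`. -/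
noncomputable def chkCox (M : ℕ → ℕ → ℕ) : Bool :=
  allBelow (fun i => allBelow (fun j => chkOrd D C [i, j] (M i j)) D.rank) D.rank

variable {D C} (h : Checks D C) (hF : Facts.{u} D)
include h

theorem appWord_eq : ∀ (w : List (Fin D.rank)) (r : Fin D.nroots),
    appWord C (w.map Fin.val) r = (pWord hF w r : ℕ)
  | [], _ => rfl
  | i :: w, r => by
    have ih := appWord_eq w r
    simp only [appWord, List.map_cons, List.foldr_cons, force_eq] at ih ⊢
    rw [ih, pWord_cons, Equiv.Perm.mul_apply, wPerm_val, (refl_split h i.2 (pWord hF w r).2).1]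

theorem appPow_eq (w : List (Fin D.rank)) : ∀ (k : ℕ) (r : Fin D.nroots),
    appPow C (w.map Fin.val) k r = ((pWord hF w ^ k) r : ℕ)
  | 0, _ => rfl
  | k + 1, r => by
    show appWord C (w.map Fin.val) (appPow C (w.map Fin.val) k r) = _
    rw [appPow_eq w k r, appWord_eq h hF w, pow_succ', Equiv.Perm.mul_apply]

theorem orderOf_pWord {w : List (Fin D.rank)} {m : ℕ}
    (hc : chkOrd D C (w.map Fin.val) m = true) : orderOf (pWord hF w) = m := by
  simp only [chkOrd, Bool.and_eq_true, allBelow_iff, nblt_iff, nbeq_iff, List.any_eq_true,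
    List.mem_range, Bool.not_eq_true', nbeq_false_iff] at hc
  obtain ⟨⟨hm, hone⟩, hne⟩ := hc
  rw [orderOf_eq_iff hm]
  refine ⟨Equiv.ext fun r => Fin.ext ?_, fun k hk hk0 e => ?_⟩
  · rw [← appPow_eq h hF w m r, hone r r.2]
    rfl
  · obtain ⟨k, rfl⟩ : ∃ k', k = k' + 1 := ⟨k - 1, by omega⟩
    obtain ⟨s, hs, hs'⟩ := hne k (by omega)
    refine hs' ?_
    rw [appPow_eq h hF w (k + 1) ⟨s, hs⟩, e]
    rfl

theorem orderOf_cox {M : ℕ → ℕ → ℕ} (hc : chkCox D C M = true) (i j : Fin D.rank) :
    orderOf (wPerm hF i * wPerm hF j) = M i j := by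
  simp only [chkCox, allBelow_iff] at hc
  have e : pWord hF [i, j] = wPerm hF i * wPerm hF j := by simp [pWord]
  rw [← e]
  exact orderOf_pWord h hF (w := [i, j]) (hc i i.2 j j.2)

end Cfsg.Agent.Chev
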