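import Cfsg.Agent.Chev.Poly
import Cfsg.Agent.Chev.TorusCard
import Cfsg.Agent.Chev.GroupCard
import Cfsg.Agent.Chev.WeylCoxeter
import Cfsg.Agent.Chev.WeylOrders

/-!
Consequences of a checked certificate of the Weyl group: orders of `W` and of the group.
-/

set_option autoImplicit false

namespace Cfsg.Agent.Chev

open Cfsg.Lie
open scoped MatrixGroups

universe u

variable {D : ChevalleyDatum} {C : Cert} {rows : List (List ℤ)} {Ls : List Level}

/-- The certificate of the Weyl group has been checked. -/
structure WeylChecks (D : ChevalleyDatum) (C : Cert) (rows : List (List ℤ)) (Ls : List Level) :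
    Prop where
  checks : Checks D C
  rowsOk : chkRows D C rows = true
  chain : chkChain D C rows Ls = true
  all : allBelow (fun i => (Ls.map Level.k).contains i) D.rank = true

theorem card_weyl (hW : WeylChecks D C rows Ls) (hF : Facts.{u} D) :
    Nat.card ↥(weyl hF) = (Ls.map fun L => L.deg.length).prod := by
  classical
  have h1 := poin_univ hW.checks hF hW.rowsOk 1 hW.chain hW.all
  simp only [one_pow, List.map_const', List.sum_replicate, smul_eq_mul, mul_one] at h1
  rw [← wJ_univ hF, ← h1, poin]
  simp only [one_pow, Finset.sum_const, smul_eq_mul, mul_one]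
  rw [← Nat.card_eq_card_finite_toFinset]
  rfl

theorem card_group_factor (hW : WeylChecks D C rows Ls) (hF : Facts.{u} D) {ds : List ℕ}
    (hf : chkFactor (Ls.map Level.deg) D.rank ds = true) {P P' Q Q' : List (List ℤ)} {d : List ℕ}
    (hs : chkSmith D C P P' Q Q' d = true) (F : Type u) [Field F] [Fintype F] :
    (∏ i : Fin D.rank, (Fintype.card F - 1).gcd (d.getD i 0)) * Nat.card ↥(D.group F) =
      Fintype.card F ^ half D * (ds.map fun e => Fintype.card F ^ e - 1).prod := by
  rw [← factor_of_chk hf (Fintype.card_pos (α := F)), List.map_map,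
    ← card_diagonal hW.checks hF hs (F := F), card_group hF,
    poin_univ hW.checks hF hW.rowsOk _ hW.chain hW.all]
  simp only [Function.comp_def]
  ring

end Cfsg.Agent.Chev
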