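import Cfsg.Agent.Chev.All
import Cfsg.Agent.Chev.WeylCard
import Cfsg.Agent.Chev.WeylData.G2
import Cfsg.Agent.Chev.WeylData.B2
import Cfsg.Agent.Chev.WeylData.D4
import Cfsg.Agent.Chev.WeylData.F4
import Cfsg.Agent.Chev.WeylData.E6
import Cfsg.Agent.Chev.WeylData.E7
import Cfsg.Agent.Chev.WeylData.E8

/-! The Weyl groups and the orders of the seven tabulated groups. -/

set_option autoImplicit false

namespace Cfsg.Agent.Chev

open Cfsg.Lie

universe u

theorem g2_weylChecks : WeylChecks chevG2 g2Cert g2Rows g2Levels :=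
  ⟨g2_checks, g2_rows, g2_chain, g2_all⟩

theorem g2_coxMatrix (i j : Fin 2) :
    CoxeterMatrix.G₂ i j = (g2Cox.getD i []).getD j 0 := by
  revert i j
  suffices H : ∀ p : Fin 2 × Fin 2, CoxeterMatrix.G₂ p.1 p.2 = (g2Cox.getD p.1 []).getD p.2 0 from fun i j => H (i, j)
  decide +kernel

theorem g2_orderOf (i j : Fin chevG2.rank) :
    orderOf (wPerm facts_chevG2.{u} i * wPerm facts_chevG2 j) = CoxeterMatrix.G₂ i j :=
  (orderOf_cox g2_checks facts_chevG2 g2_cox i j).trans (g2_coxMatrix i j).symm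

theorem g2_card_coxeterGroup : Nat.card CoxeterMatrix.G₂.Group = 12 :=
  ((card_coxeterGroup facts_chevG2.{0} CoxeterMatrix.G₂ g2_orderOf).trans
    (card_weyl g2_weylChecks facts_chevG2)).trans g2_weyl_size

theorem g2_orderOf_coxeterElement :
    orderOf ((List.finRange 2).map CoxeterMatrix.G₂.simple).prod = 6 := by
  refine (orderOf_coxeterElement facts_chevG2.{0} CoxeterMatrix.G₂ g2_orderOf (List.finRange 2)).trans
    (orderOf_pWord g2_checks facts_chevG2 (w := List.finRange 2) ?_)
  exact (List.map_coe_finRange_eq_range (n := _)).symm ▸ g2_coxeterElement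

theorem g2_card_group (F : Type u) [Field F] [Fintype F] :
    (∏ i : Fin 2, (Fintype.card F - 1).gcd ([1, 1].getD i 0)) * Nat.card ↥(chevG2.group F) =
      Fintype.card F ^ 6 * (([2, 6] : List ℕ).map fun e => Fintype.card F ^ e - 1).prod :=
  card_group_factor g2_weylChecks facts_chevG2 g2_factor g2_smith F

theorem g2_card_diagonal (F : Type u) [Field F] [Fintype F] :
    (∏ i : Fin 2, (Fintype.card F - 1).gcd ([1, 1].getD i 0)) *
        Nat.card ↥(chevG2.diagonalSubgroup F) = (Fintype.card F - 1) ^ chevG2.rank :=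
  card_diagonal g2_checks facts_chevG2 g2_smith

theorem b2_weylChecks : WeylChecks chevB2 b2Cert b2Rows b2Levels :=
  ⟨b2_checks, b2_rows, b2_chain, b2_all⟩

theorem b2_coxMatrix (i j : Fin 2) :
    (CoxeterMatrix.B 2) i j = (b2Cox.getD i []).getD j 0 := by
  revert i j
  suffices H : ∀ p : Fin 2 × Fin 2, (CoxeterMatrix.B 2) p.1 p.2 = (b2Cox.getD p.1 []).getD p.2 0 from fun i j => H (i, j)
  decide +kernel

theorem b2_orderOf (i j : Fin chevB2.rank) :
    orderOf (wPerm facts_chevB2.{u} i * wPerm facts_chevB2 j) = (CoxeterMatrix.B 2) i j :=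
  (orderOf_cox b2_checks facts_chevB2 b2_cox i j).trans (b2_coxMatrix i j).symm

theorem b2_card_coxeterGroup : Nat.card (CoxeterMatrix.B 2).Group = 8 :=
  ((card_coxeterGroup facts_chevB2.{0} (CoxeterMatrix.B 2) b2_orderOf).trans
    (card_weyl b2_weylChecks facts_chevB2)).trans b2_weyl_size

theorem b2_orderOf_coxeterElement :
    orderOf ((List.finRange 2).map (CoxeterMatrix.B 2).simple).prod = 4 := by
  refine (orderOf_coxeterElement facts_chevB2.{0} (CoxeterMatrix.B 2) b2_orderOf (List.finRange 2)).trans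
    (orderOf_pWord b2_checks facts_chevB2 (w := List.finRange 2) ?_)
  exact (List.map_coe_finRange_eq_range (n := _)).symm ▸ b2_coxeterElement

theorem b2_card_group (F : Type u) [Field F] [Fintype F] :
    (∏ i : Fin 2, (Fintype.card F - 1).gcd ([1, 2].getD i 0)) * Nat.card ↥(chevB2.group F) =
      Fintype.card F ^ 4 * (([2, 4] : List ℕ).map fun e => Fintype.card F ^ e - 1).prod :=
  card_group_factor b2_weylChecks facts_chevB2 b2_factor b2_smith F

theorem b2_card_diagonal (F : Type u) [Field F] [Fintype F] :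
    (∏ i : Fin 2, (Fintype.card F - 1).gcd ([1, 2].getD i 0)) *
        Nat.card ↥(chevB2.diagonalSubgroup F) = (Fintype.card F - 1) ^ chevB2.rank :=
  card_diagonal b2_checks facts_chevB2 b2_smith

theorem d4_weylChecks : WeylChecks chevD4 d4Cert d4Rows d4Levels :=
  ⟨d4_checks, d4_rows, d4_chain, d4_all⟩

theorem d4_coxMatrix (i j : Fin 4) :
    coxeterD4 i j = (d4Cox.getD i []).getD j 0 := by
  revert i j
  suffices H : ∀ p : Fin 4 × Fin 4, coxeterD4 p.1 p.2 = (d4Cox.getD p.1 []).getD p.2 0 from fun i j => H (i, j)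
  decide +kernel

theorem d4_orderOf (i j : Fin chevD4.rank) :
    orderOf (wPerm facts_chevD4.{u} i * wPerm facts_chevD4 j) = coxeterD4 i j :=
  (orderOf_cox d4_checks facts_chevD4 d4_cox i j).trans (d4_coxMatrix i j).symm

theorem d4_card_coxeterGroup : Nat.card coxeterD4.Group = 192 :=
  ((card_coxeterGroup facts_chevD4.{0} coxeterD4 d4_orderOf).trans
    (card_weyl d4_weylChecks facts_chevD4)).trans d4_weyl_size

theorem d4_orderOf_coxeterElement :
    orderOf ((List.finRange 4).map coxeterD4.simple).prod = 6 := by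
  refine (orderOf_coxeterElement facts_chevD4.{0} coxeterD4 d4_orderOf (List.finRange 4)).trans
    (orderOf_pWord d4_checks facts_chevD4 (w := List.finRange 4) ?_)
  exact (List.map_coe_finRange_eq_range (n := _)).symm ▸ d4_coxeterElement

theorem d4_card_group (F : Type u) [Field F] [Fintype F] :
    (∏ i : Fin 4, (Fintype.card F - 1).gcd ([1, 1, 2, 2].getD i 0)) * Nat.card ↥(chevD4.group F) =
      Fintype.card F ^ 12 * (([2, 4, 4, 6] : List ℕ).map fun e => Fintype.card F ^ e - 1).prod :=
  card_group_factor d4_weylChecks facts_chevD4 d4_factor d4_smith F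

theorem d4_card_diagonal (F : Type u) [Field F] [Fintype F] :
    (∏ i : Fin 4, (Fintype.card F - 1).gcd ([1, 1, 2, 2].getD i 0)) *
        Nat.card ↥(chevD4.diagonalSubgroup F) = (Fintype.card F - 1) ^ chevD4.rank :=
  card_diagonal d4_checks facts_chevD4 d4_smith

theorem f4_weylChecks : WeylChecks chevF4 f4Cert f4Rows f4Levels :=
  ⟨f4_checks, f4_rows, f4_chain, f4_all⟩

theorem f4_coxMatrix (i j : Fin 4) :
    CoxeterMatrix.F₄ i j = (f4Cox.getD i []).getD j 0 := by
  revert i j
  suffices H : ∀ p : Fin 4 × Fin 4, CoxeterMatrix.F₄ p.1 p.2 = (f4Cox.getD p.1 []).getD p.2 0 from fun i j => H (i, j)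
  decide +kernel

theorem f4_orderOf (i j : Fin chevF4.rank) :
    orderOf (wPerm facts_chevF4.{u} i * wPerm facts_chevF4 j) = CoxeterMatrix.F₄ i j :=
  (orderOf_cox f4_checks facts_chevF4 f4_cox i j).trans (f4_coxMatrix i j).symm

theorem f4_card_coxeterGroup : Nat.card CoxeterMatrix.F₄.Group = 1152 :=
  ((card_coxeterGroup facts_chevF4.{0} CoxeterMatrix.F₄ f4_orderOf).trans
    (card_weyl f4_weylChecks facts_chevF4)).trans f4_weyl_size

theorem f4_orderOf_coxeterElement :
    orderOf ((List.finRange 4).map CoxeterMatrix.F₄.simple).prod = 12 := by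
  refine (orderOf_coxeterElement facts_chevF4.{0} CoxeterMatrix.F₄ f4_orderOf (List.finRange 4)).trans
    (orderOf_pWord f4_checks facts_chevF4 (w := List.finRange 4) ?_)
  exact (List.map_coe_finRange_eq_range (n := _)).symm ▸ f4_coxeterElement

theorem f4_card_group (F : Type u) [Field F] [Fintype F] :
    (∏ i : Fin 4, (Fintype.card F - 1).gcd ([1, 1, 1, 1].getD i 0)) * Nat.card ↥(chevF4.group F) =
      Fintype.card F ^ 24 * (([2, 6, 8, 12] : List ℕ).map fun e => Fintype.card F ^ e - 1).prod :=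
  card_group_factor f4_weylChecks facts_chevF4 f4_factor f4_smith F

theorem f4_card_diagonal (F : Type u) [Field F] [Fintype F] :
    (∏ i : Fin 4, (Fintype.card F - 1).gcd ([1, 1, 1, 1].getD i 0)) *
        Nat.card ↥(chevF4.diagonalSubgroup F) = (Fintype.card F - 1) ^ chevF4.rank :=
  card_diagonal f4_checks facts_chevF4 f4_smith

theorem e6_weylChecks : WeylChecks chevE6 e6Cert e6Rows e6Levels :=
  ⟨e6_checks, e6_rows, e6_chain, e6_all⟩

theorem e6_coxMatrix (i j : Fin 6) :
    CoxeterMatrix.E₆ i j = (e6Cox.getD i []).getD j 0 := by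
  revert i j
  suffices H : ∀ p : Fin 6 × Fin 6, CoxeterMatrix.E₆ p.1 p.2 = (e6Cox.getD p.1 []).getD p.2 0 from fun i j => H (i, j)
  decide +kernel

theorem e6_orderOf (i j : Fin chevE6.rank) :
    orderOf (wPerm facts_chevE6.{u} i * wPerm facts_chevE6 j) = CoxeterMatrix.E₆ i j :=
  (orderOf_cox e6_checks facts_chevE6 e6_cox i j).trans (e6_coxMatrix i j).symm

theorem e6_card_coxeterGroup : Nat.card CoxeterMatrix.E₆.Group = 51840 :=
  ((card_coxeterGroup facts_chevE6.{0} CoxeterMatrix.E₆ e6_orderOf).trans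
    (card_weyl e6_weylChecks facts_chevE6)).trans e6_weyl_size

theorem e6_orderOf_coxeterElement :
    orderOf ((List.finRange 6).map CoxeterMatrix.E₆.simple).prod = 12 := by
  refine (orderOf_coxeterElement facts_chevE6.{0} CoxeterMatrix.E₆ e6_orderOf (List.finRange 6)).trans
    (orderOf_pWord e6_checks facts_chevE6 (w := List.finRange 6) ?_)
  exact (List.map_coe_finRange_eq_range (n := _)).symm ▸ e6_coxeterElement

theorem e6_card_group (F : Type u) [Field F] [Fintype F] :
    (∏ i : Fin 6, (Fintype.card F - 1).gcd ([1, 1, 1, 1, 1, 3].getD i 0)) * Nat.card ↥(chevE6.group F) =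
      Fintype.card F ^ 36 * (([2, 5, 6, 8, 9, 12] : List ℕ).map fun e => Fintype.card F ^ e - 1).prod :=
  card_group_factor e6_weylChecks facts_chevE6 e6_factor e6_smith F

theorem e6_card_diagonal (F : Type u) [Field F] [Fintype F] :
    (∏ i : Fin 6, (Fintype.card F - 1).gcd ([1, 1, 1, 1, 1, 3].getD i 0)) *
        Nat.card ↥(chevE6.diagonalSubgroup F) = (Fintype.card F - 1) ^ chevE6.rank :=
  card_diagonal e6_checks facts_chevE6 e6_smith

theorem e7_weylChecks : WeylChecks chevE7 e7Cert e7Rows e7Levels :=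
  ⟨e7_checks, e7_rows, e7_chain, e7_all⟩

theorem e7_coxMatrix (i j : Fin 7) :
    CoxeterMatrix.E₇ i j = (e7Cox.getD i []).getD j 0 := by
  revert i j
  suffices H : ∀ p : Fin 7 × Fin 7, CoxeterMatrix.E₇ p.1 p.2 = (e7Cox.getD p.1 []).getD p.2 0 from fun i j => H (i, j)
  decide +kernel

theorem e7_orderOf (i j : Fin chevE7.rank) :
    orderOf (wPerm facts_chevE7.{u} i * wPerm facts_chevE7 j) = CoxeterMatrix.E₇ i j :=
  (orderOf_cox e7_checks facts_chevE7 e7_cox i j).trans (e7_coxMatrix i j).symm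

theorem e7_card_coxeterGroup : Nat.card CoxeterMatrix.E₇.Group = 2903040 :=
  ((card_coxeterGroup facts_chevE7.{0} CoxeterMatrix.E₇ e7_orderOf).trans
    (card_weyl e7_weylChecks facts_chevE7)).trans e7_weyl_size

theorem e7_orderOf_coxeterElement :
    orderOf ((List.finRange 7).map CoxeterMatrix.E₇.simple).prod = 18 := by
  refine (orderOf_coxeterElement facts_chevE7.{0} CoxeterMatrix.E₇ e7_orderOf (List.finRange 7)).trans
    (orderOf_pWord e7_checks facts_chevE7 (w := List.finRange 7) ?_)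
  exact (List.map_coe_finRange_eq_range (n := _)).symm ▸ e7_coxeterElement

theorem e7_card_group (F : Type u) [Field F] [Fintype F] :
    (∏ i : Fin 7, (Fintype.card F - 1).gcd ([1, 1, 1, 1, 1, 1, 2].getD i 0)) * Nat.card ↥(chevE7.group F) =
      Fintype.card F ^ 63 * (([2, 6, 8, 10, 12, 14, 18] : List ℕ).map fun e => Fintype.card F ^ e - 1).prod :=
  card_group_factor e7_weylChecks facts_chevE7 e7_factor e7_smith F

theorem e7_card_diagonal (F : Type u) [Field F] [Fintype F] :
    (∏ i : Fin 7, (Fintype.card F - 1).gcd ([1, 1, 1, 1, 1, 1, 2].getD i 0)) *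
        Nat.card ↥(chevE7.diagonalSubgroup F) = (Fintype.card F - 1) ^ chevE7.rank :=
  card_diagonal e7_checks facts_chevE7 e7_smith

theorem e8_weylChecks : WeylChecks chevE8 e8Cert e8Rows e8Levels :=
  ⟨e8_checks, e8_rows, e8_chain, e8_all⟩

theorem e8_coxMatrix (i j : Fin 8) :
    CoxeterMatrix.E₈ i j = (e8Cox.getD i []).getD j 0 := by
  revert i j
  suffices H : ∀ p : Fin 8 × Fin 8, CoxeterMatrix.E₈ p.1 p.2 = (e8Cox.getD p.1 []).getD p.2 0 from fun i j => H (i, j)
  decide +kernel

theorem e8_orderOf (i j : Fin chevE8.rank) :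
    orderOf (wPerm facts_chevE8.{u} i * wPerm facts_chevE8 j) = CoxeterMatrix.E₈ i j :=
  (orderOf_cox e8_checks facts_chevE8 e8_cox i j).trans (e8_coxMatrix i j).symm

theorem e8_card_coxeterGroup : Nat.card CoxeterMatrix.E₈.Group = 696729600 :=
  ((card_coxeterGroup facts_chevE8.{0} CoxeterMatrix.E₈ e8_orderOf).trans
    (card_weyl e8_weylChecks facts_chevE8)).trans e8_weyl_size

theorem e8_orderOf_coxeterElement :
    orderOf ((List.finRange 8).map CoxeterMatrix.E₈.simple).prod = 30 := by
  refine (orderOf_coxeterElement facts_chevE8.{0} CoxeterMatrix.E₈ e8_orderOf (List.finRange 8)).trans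
    (orderOf_pWord e8_checks facts_chevE8 (w := List.finRange 8) ?_)
  exact (List.map_coe_finRange_eq_range (n := _)).symm ▸ e8_coxeterElement

theorem e8_card_group (F : Type u) [Field F] [Fintype F] :
    (∏ i : Fin 8, (Fintype.card F - 1).gcd ([1, 1, 1, 1, 1, 1, 1, 1].getD i 0)) * Nat.card ↥(chevE8.group F) =
      Fintype.card F ^ 120 * (([2, 8, 12, 14, 18, 20, 24, 30] : List ℕ).map fun e => Fintype.card F ^ e - 1).prod :=
  card_group_factor e8_weylChecks facts_chevE8 e8_factor e8_smith F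

theorem e8_card_diagonal (F : Type u) [Field F] [Fintype F] :
    (∏ i : Fin 8, (Fintype.card F - 1).gcd ([1, 1, 1, 1, 1, 1, 1, 1].getD i 0)) *
        Nat.card ↥(chevE8.diagonalSubgroup F) = (Fintype.card F - 1) ^ chevE8.rank :=
  card_diagonal e8_checks facts_chevE8 e8_smith

end Cfsg.Agent.Chev
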