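import Cfsg.Agent.Chev.GroupCard

/-!
The matrices and subgroups of a datum under a homomorphism of fields, and the elements fixed by
an endomorphism of the field.
-/

set_option autoImplicit false

namespace Cfsg.Agent.Chev

open Cfsg.Lie
open scoped MatrixGroups

universe u v

variable {D : ChevalleyDatum}

section

variable {E : Type u} [Field E] {F : Type v} [Field F]

theorem x_map (f : E →+* F) (r : ℕ) (t : E) :
    f.mapMatrix (D.x E r t) = D.x F r (f t) := by
  by_cases hr : r < D.nroots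
  · rw [ChevalleyDatum.x, ChevalleyDatum.x, dif_pos hr, dif_pos hr]
    ext a b
    simp only [RingHom.mapMatrix_apply, Matrix.map_apply, ChevalleyDatum.xMat, Matrix.of_apply]
    rcases b with j | s <;> rcases a with j' | w <;> dsimp only <;> (try split_ifs) <;>
      simp [map_list_sum, List.map_map, Function.comp_def]
  · rw [x_of_ge hr, x_of_ge hr, map_one]

/-- A homomorphism of fields, on matrices. -/
abbrev gmap (D : ChevalleyDatum) (f : E →+* F) : GL D.Idx E →* GL D.Idx F :=
  Matrix.GeneralLinearGroup.map f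

theorem gmap_apply (f : E →+* F) (g : GL D.Idx E) (a b : D.Idx) :
    ((gmap D f g : GL D.Idx F) : Matrix D.Idx D.Idx F) a b =
      f ((g : Matrix D.Idx D.Idx E) a b) := rfl

theorem gmap_injective (f : E →+* F) : Function.Injective (gmap D f) := fun g h e => by
  apply Units.ext
  ext a b
  exact f.injective (by rw [← gmap_apply f g, ← gmap_apply f h, e])

theorem gmap_wordG (hE : Facts.{u} D) (hF : Facts.{v} D) (f : E →+* F) (w : List (ℕ × E)) :
    gmap D f (wordG hE w) = wordG hF (w.map fun p => (p.1, f p.2)) := by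
  rw [wordG, wordG, map_list_prod, List.map_map, List.map_map]
  refine congrArg List.prod (List.map_congr_left fun p _ => Units.ext ?_)
  exact x_map f p.1 p.2

theorem gmap_xG (hE : Facts.{u} D) (hF : Facts.{v} D) (f : E →+* F) (r : ℕ) (t : E) :
    gmap D f (xG hE r t) = xG hF r (f t) := Units.ext (x_map f r t)

theorem gmap_nG (hE : Facts.{u} D) (hF : Facts.{v} D) (f : E →+* F) (r : ℕ) (t : E) :
    gmap D f (nG hE r t) = nG hF r (f t) := by
  simp only [nG, map_mul, gmap_xG hE hF, map_neg, map_inv₀]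

theorem gmap_nWord (hE : Facts.{u} D) (hF : Facts.{v} D) (f : E →+* F) (w : List (Fin D.rank)) :
    gmap D f (nWord hE w) = nWord hF w := by
  rw [nWord, nWord, map_list_prod, List.map_map]
  refine congrArg List.prod (List.map_congr_left fun i _ => ?_)
  show gmap D f (nG hE _ 1) = nG hF _ 1
  rw [gmap_nG hE hF, map_one]

theorem gmap_torusHom (f : E →+* F) (c : Fin D.rank → Eˣ) :
    gmap D f (torusHom c) = torusHom fun j => Units.map f.toMonoidHom (c j) := by
  apply Units.ext
  ext a b
  rw [gmap_apply, torusHom_val, torusHom_val, torus, torus, Matrix.diagonal_apply,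
    Matrix.diagonal_apply]
  by_cases h : a = b
  · subst h
    rw [if_pos rfl, if_pos rfl]
    rcases a with j | s
    · simp
    · simp [chi]
  · rw [if_neg h, if_neg h, map_zero]

theorem gmap_prodFrom (hE : Facts.{u} D) (hF : Facts.{v} D) (f : E →+* F) (k : ℕ) (t : ℕ → E) :
    gmap D f (prodFrom hE k t) = prodFrom hF k fun r => f (t r) := by
  rw [prodFrom, prodFrom, gmap_wordG hE hF, List.map_map]
  rfl

theorem gmap_mem_group (hE : Facts.{u} D) (hF : Facts.{v} D) (f : E →+* F) {g : GL D.Idx E}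
    (hg : g ∈ D.group E) : gmap D f g ∈ D.group F := by
  refine ((Subgroup.closure_le _).2 ?_ : D.group E ≤ (D.group F).comap (gmap D f)) hg
  rintro y ⟨r, t, hy⟩
  obtain rfl : y = xG hE r t :=
    Units.ext (hy.trans (by rw [xG_val, ChevalleyDatum.x, dif_pos r.2]))
  show gmap D f (xG hE r t) ∈ D.group F
  rw [gmap_xG hE hF]
  exact xG_mem_group hF _ _

/-- A homomorphism of fields, on the groups of a datum. -/
def groupMap (hE : Facts.{u} D) (hF : Facts.{v} D) (f : E →+* F) :
    ↥(D.group E) →* ↥(D.group F) :=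
  ((gmap D f).comp (D.group E).subtype).codRestrict (D.group F)
    fun g => gmap_mem_group hE hF f g.2

theorem groupMap_injective (hE : Facts.{u} D) (hF : Facts.{v} D) (f : E →+* F) :
    Function.Injective (groupMap hE hF f) := fun g h e =>
  Subtype.ext (gmap_injective f (congrArg (fun x : ↥(D.group F) => (x : GL D.Idx F)) e))

end

section

variable {F : Type v} [Field F] (hF : Facts.{v} D)
include hF

theorem gmap_uMinus (σ : F →+* F) (π : Equiv.Perm (Fin D.nroots)) {x : GL D.Idx F}
    (hx : x ∈ uMinus hF π) : gmap D σ x ∈ uMinus hF π := by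
  refine ((Subgroup.closure_le _).2 ?_ : uMinus hF π (F := F) ≤ (uMinus hF π).comap (gmap D σ)) hx
  rintro _ ⟨r, t, h1, h2, rfl⟩
  show gmap D σ (xG hF r t) ∈ uMinus hF π
  rw [gmap_xG hF hF]
  exact Subgroup.subset_closure ⟨r, σ t, h1, h2, rfl⟩

theorem gmap_posUnipotent (σ : F →+* F) {v : GL D.Idx F} (hv : v ∈ D.posUnipotent F) :
    gmap D σ v ∈ D.posUnipotent F := by
  obtain ⟨t, rfl⟩ := (mem_posUnipotent_iff hF).1 hv
  exact (mem_posUnipotent_iff hF).2 ⟨_, gmap_prodFrom hF hF σ _ t⟩

theorem gmap_borel (σ : F →+* F) {b : GL D.Idx F} (hb : b ∈ D.borelSubgroup F) :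
    gmap D σ b ∈ D.borelSubgroup F := by
  obtain ⟨v, hv, c, rfl⟩ := (mem_borel_iff hF).1 hb
  rw [map_mul, gmap_torusHom]
  exact Subgroup.mul_mem _ (Subgroup.mem_sup_left (gmap_posUnipotent hF σ hv))
    (Subgroup.mem_sup_right (torusHom_mem hF _))

theorem uMinus_le_posUnipotent (π : Equiv.Perm (Fin D.nroots)) :
    uMinus hF π (F := F) ≤ D.posUnipotent F := by
  refine (Subgroup.closure_le _).2 ?_
  rintro _ ⟨r, s, h1, -, rfl⟩
  exact mem_posUnipotent_of hF r.2 h1 s

theorem posUnipotent_torus_unique {v v' : GL D.Idx F} (hv : v ∈ D.posUnipotent F)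
    (hv' : v' ∈ D.posUnipotent F) {c c' : Fin D.rank → Fˣ}
    (e : v * torusHom c = v' * torusHom c') :
    v = v' ∧ (torusHom c : GL D.Idx F) = torusHom c' := by
  have h : v'⁻¹ * v ∈ D.posUnipotent F ⊓ D.diagonalSubgroup F := by
    refine ⟨Subgroup.mul_mem _ (Subgroup.inv_mem _ hv') hv, ?_⟩
    have : v'⁻¹ * v = torusHom c' * (torusHom c)⁻¹ := by
      rw [eq_mul_inv_iff_mul_eq, mul_assoc, e, inv_mul_cancel_left]
    rw [this]
    exact Subgroup.mul_mem _ (torusHom_mem hF c') (Subgroup.inv_mem _ (torusHom_mem hF c))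
  rw [posUnipotent_inf_diagonal hF, Subgroup.mem_bot, inv_mul_eq_one] at h
  subst h
  exact ⟨rfl, mul_left_cancel e⟩

/-- An element of the group fixed by an endomorphism `σ` of the field has a normal form with
fixed parameters. -/
theorem exists_fixed_normalForm (σ : F →+* F) {g : GL D.Idx F} (hg : g ∈ D.group F)
    (hfix : gmap D σ g = g) :
    ∃ (t t' : ℕ → F) (c : Fin D.rank → Fˣ) (w : List (Fin D.rank)),
      (∀ r, half D ≤ r → r < D.nroots → σ (t r) = t r) ∧
      (∀ r, half D ≤ r → r < D.nroots → σ (t' r) = t' r) ∧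
      gmap D σ (torusHom c) = torusHom c ∧
      g = prodFrom hF (half D) t * torusHom c * nWord hF w * prodFrom hF (half D) t' := by
  obtain ⟨b, hb, w, x, hx, rfl⟩ := exists_normalForm hF hg
  rw [map_mul, map_mul, gmap_nWord hF hF] at hfix
  have hm : monPerm hF (nWord hF w : GL D.Idx F) = pWord hF w := monPerm_eq hF (isMon_nWord hF w)
  obtain ⟨hb', hx'⟩ := (normalForm_unique hF (gmap_borel hF σ hb) hb (nWord_mem hF w)
    (nWord_mem hF w) (by rw [hm]; exact gmap_uMinus hF σ _ hx) (by rw [hm]; exact hx) hfix).2 rfl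
  obtain ⟨v, hv, c, rfl⟩ := (mem_borel_iff hF).1 hb
  rw [map_mul, gmap_torusHom] at hb'
  obtain ⟨hv', hc'⟩ := posUnipotent_torus_unique hF (gmap_posUnipotent hF σ hv) hv hb'
  obtain ⟨t, rfl⟩ := (mem_posUnipotent_iff hF).1 hv
  obtain ⟨t', rfl⟩ := (mem_posUnipotent_iff hF).1 (uMinus_le_posUnipotent hF _ hx)
  rw [gmap_prodFrom hF hF] at hv' hx'
  exact ⟨t, t', c, w, prodFrom_inj hF _ _ rfl le_rfl hv', prodFrom_inj hF _ _ rfl le_rfl hx',
    (gmap_torusHom σ c).trans hc', rfl⟩

end

end Cfsg.Agent.Chev
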