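import Cfsg.Agent.Chev.Functorial

/-!
The centraliser in the group of a regular element of the torus is the torus.
-/

set_option autoImplicit false

namespace Cfsg.Agent.Chev

open Cfsg.Lie
open scoped MatrixGroups

universe u

variable {D : ChevalleyDatum} {F : Type u} [Field F] (hF : Facts.{u} D)
include hF

/-- Conjugating an ordered product by a torus element scales the parameters. -/
theorem torusHom_prodFrom (c : Fin D.rank → Fˣ) (t : ℕ → F) : ∀ (d k : ℕ), D.nroots - k = d →
    torusHom c * prodFrom hF k t =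
      prodFrom hF k (fun r => (chiU c r : F) * t r) * torusHom c := by
  intro d
  induction d with
  | zero =>
    intro k hd
    rw [prodFrom_top hF (by omega), prodFrom_top hF (by omega), mul_one, one_mul]
  | succ d ih =>
    intro k hd
    have hkn : k < D.nroots := by omega
    rw [prodFrom_succ hF hkn, prodFrom_succ hF hkn, ← mul_assoc, torusHom_conj hF c hkn,
      mul_assoc, ih (k + 1) (by omega), mul_assoc]

/-- An ordered product fixed by a regular torus element is trivial. -/
theorem prodFrom_eq_one_of_comm {c : Fin D.rank → Fˣ}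
    (hc : ∀ r : Fin D.nroots, chiU c (r : ℕ) ≠ 1) {t : ℕ → F}
    (h : torusHom c * prodFrom hF (half D) t = prodFrom hF (half D) t * torusHom c) :
    prodFrom hF (half D) t = 1 := by
  rw [torusHom_prodFrom hF c t _ _ rfl, mul_left_inj] at h
  have hz : ∀ r, half D ≤ r → r < D.nroots → t r = 0 := by
    intro r h1 h2
    have e : (chiU c r : F) * t r = t r := prodFrom_inj hF _ _ rfl le_rfl h r h1 h2
    have hne : (chiU c r : F) - 1 ≠ 0 := sub_ne_zero.2 fun e' => hc ⟨r, h2⟩ (Units.ext e')
    have e2 : ((chiU c r : F) - 1) * t r = 0 := by rw [sub_mul, e, one_mul, sub_self]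
    exact (mul_eq_zero.1 e2).resolve_left hne
  rw [prodFrom_congr hF (t' := fun _ => (0 : F)) hz]
  have : ∀ (d k : ℕ), D.nroots - k = d → prodFrom hF k (fun _ => (0 : F)) = 1 := by
    intro d
    induction d with
    | zero => intro k hd; exact prodFrom_top hF (by omega) _
    | succ d ih =>
      intro k hd
      rw [prodFrom_succ hF (by omega), ih (k + 1) (by omega), mul_one]
      exact (xG_eq_one_iff hF (show k < D.nroots by omega)).2 rfl
  exact this _ _ rfl

/-- The centraliser of a regular torus element, none of whose nontrivial Weyl conjugates is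
itself, consists of torus elements. -/
theorem eq_torusHom_of_comm {c : Fin D.rank → Fˣ}
    (hc : ∀ r : Fin D.nroots, chiU c (r : ℕ) ≠ 1)
    (hW : ∀ w : List (Fin D.rank),
      (∀ r : Fin D.nroots, chiU c (pWord hF w r : ℕ) = chiU c (r : ℕ)) → pWord hF w = 1)
    {g : GL D.Idx F} (hg : g ∈ D.group F) (hcomm : torusHom c * g = g * torusHom c) :
    ∃ d : Fin D.rank → Fˣ, g = torusHom d := by
  obtain ⟨b, hb, w, x, hx, rfl⟩ := exists_normalForm hF hg
  obtain ⟨v, hv, e, rfl⟩ := (mem_borel_iff hF).1 hb
  set h : GL D.Idx F := torusHom c with hh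
  set n : GL D.Idx F := nWord hF w with hn
  obtain ⟨c', hc'⟩ := nWord_torus hF w c⁻¹ (F := F)
  -- The element conjugated by the torus element.
  have hconj : h * (v * torusHom e * n * x) * h⁻¹ = v * torusHom e * n * x := by
    rw [hcomm, mul_inv_cancel_right]
  have hcell : h * (v * torusHom e * n * x) * h⁻¹ =
      (h * v * h⁻¹ * torusHom (e * (c * c'))) * n * (h * x * h⁻¹) := by
    rw [map_mul, map_mul, ← hh]
    calc h * (v * torusHom e * n * x) * h⁻¹
        = (h * v * h⁻¹) * (h * torusHom e) * (n * torusHom c⁻¹) * (h * x * h⁻¹) := by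
          rw [map_inv, ← hh]; group
      _ = (h * v * h⁻¹) * (h * torusHom e) * (torusHom c' * n) * (h * x * h⁻¹) := by rw [hc']
      _ = _ := by
          rw [show h * torusHom e = torusHom e * h by rw [hh, ← map_mul, ← map_mul, mul_comm]]
          group
  have hvU : h * v * h⁻¹ ∈ D.posUnipotent F :=
    (Subgroup.mem_normalizer_iff.1 (torusHom_mem_normalizer hF c) v).1 hv
  have hxM : h * x * h⁻¹ ∈ uMinus hF (pWord hF w) (F := F) := by
    have hle : uMinus hF (pWord hF w) (F := F) ≤ (uMinus hF (pWord hF w)).comap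
        (MulAut.conj h).toMonoidHom := by
      refine (Subgroup.closure_le _).2 ?_
      rintro y ⟨r, t, h1, h2, rfl⟩
      show h * xG hF r t * h⁻¹ ∈ uMinus hF (pWord hF w)
      rw [hh, torusHom_conj hF c r.2, mul_inv_cancel_right]
      exact Subgroup.subset_closure ⟨r, _, h1, h2, rfl⟩
    exact hle hx
  have hm : monPerm hF (n : GL D.Idx F) = pWord hF w := monPerm_eq hF (isMon_nWord hF w)
  have hB : h * v * h⁻¹ * torusHom (e * (c * c')) ∈ D.borelSubgroup F :=
    Subgroup.mul_mem _ (Subgroup.mem_sup_left hvU) (Subgroup.mem_sup_right (torusHom_mem hF _))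
  obtain ⟨hbb, hxx⟩ := (normalForm_unique hF hB hb (nWord_mem hF w) (nWord_mem hF w)
    (by rw [hm]; exact hxM) (by rw [hm]; exact hx) (hcell.symm.trans hconj)).2 rfl
  obtain ⟨hvv, hcc⟩ := posUnipotent_torus_unique hF hvU hv hbb
  have hv1 : v = 1 := by
    obtain ⟨t, rfl⟩ := (mem_posUnipotent_iff hF).1 hv
    exact prodFrom_eq_one_of_comm hF hc (mul_inv_eq_iff_eq_mul.1 hvv)
  have hx1 : x = 1 := by
    obtain ⟨t, rfl⟩ := (mem_posUnipotent_iff hF).1 (uMinus_le_posUnipotent hF _ hx)
    exact prodFrom_eq_one_of_comm hF hc (mul_inv_eq_iff_eq_mul.1 hxx)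
  -- The Weyl part commutes with the torus element.
  have hnh : h * n = n * h := by
    have h1 : torusHom (c * c') = (1 : GL D.Idx F) := by
      rw [map_mul] at hcc
      exact mul_eq_left.1 hcc
    rw [map_mul, ← hh] at h1
    have h2 : n * h⁻¹ = h⁻¹ * n := by
      rw [hh, ← map_inv, hc', map_inv, ← hh, eq_inv_of_mul_eq_one_right h1]
    calc h * n = h * (n * h⁻¹) * h := by group
      _ = h * (h⁻¹ * n) * h := by rw [h2]
      _ = n * h := by group
  have hπ : pWord hF w = 1 := by
    refine hW w fun r => ?_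
    obtain ⟨a, ha, hconjn⟩ := isMon_nWord hF w (F := F) r
    have e1 : h * (n * xG hF r 1) = (n * xG hF r (chiU c r : F)) * h := by
      rw [← mul_assoc, hnh, mul_assoc, hh, torusHom_conj hF c r.2, mul_one, ← mul_assoc]
    rw [hn, hconjn, hconjn, ← mul_assoc, hh, torusHom_conj hF c (pWord hF w r).2, ← hh, ← hn,
      mul_assoc, hnh, ← mul_assoc, mul_left_inj, mul_left_inj] at e1
    have := (eq_of_x_eq hF (pWord hF w r).2 (mul_ne_zero (Units.ne_zero _) (by simpa using ha))
      (congrArg Units.val e1)).2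
    rw [mul_one, mul_comm a] at this
    exact Units.ext (mul_right_cancel₀ ha this)
  obtain ⟨d, hd⟩ := (mem_diagonal_iff hF).1 (nWord_mem_diagonal hF w hπ (F := F))
  refine ⟨e * d, ?_⟩
  rw [hv1, hx1, one_mul, mul_one, map_mul, hd, hn]

end Cfsg.Agent.Chev
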