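import Cfsg.Agent.Chev.Basic
import Mathlib.GroupTheory.Nilpotent

/-!
The unipotent subgroup `U`: triangularity, nilpotency, and unique ordered products.
-/

set_option autoImplicit false

namespace Cfsg.Agent.Chev

open Cfsg.Lie
open scoped MatrixGroups

universe u

/-- An element normalises a closure once it and its inverse carry the generators into it. -/
theorem mem_normalizer_closure {G : Type*} [Group G] {S : Set G} {a : G}
    (h₁ : ∀ x ∈ S, a * x * a⁻¹ ∈ Subgroup.closure S)
    (h₂ : ∀ x ∈ S, a⁻¹ * x * a ∈ Subgroup.closure S) :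
    a ∈ Subgroup.normalizer (Subgroup.closure S : Set G) := by
  have key : ∀ b : G, (∀ x ∈ S, b * x * b⁻¹ ∈ Subgroup.closure S) →
      ∀ y ∈ Subgroup.closure S, b * y * b⁻¹ ∈ Subgroup.closure S := by
    intro b hb y hy
    have hle : Subgroup.closure S ≤
        (Subgroup.closure S).comap (MulAut.conj b).toMonoidHom :=
      (Subgroup.closure_le _).2 fun x hx => by simpa using hb x hx
    simpa using hle hy
  rw [Subgroup.mem_normalizer_iff]
  intro y
  refine ⟨key a h₁ y, fun hy => ?_⟩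
  have := key a⁻¹ (fun x hx => by simpa using h₂ x hx) _ hy
  simpa [mul_assoc] using this

variable {D : ChevalleyDatum} {F : Type u} [Field F]

/-- `A` is strictly lower triangular by at least `k` steps for the order `pos`. -/
def BelowBy (k : ℕ) (A : Matrix D.Idx D.Idx F) : Prop :=
  ∀ a b : D.Idx, pos D a < pos D b + k → A a b = 0

theorem BelowBy.mul {k l : ℕ} {A B : Matrix D.Idx D.Idx F} (hA : BelowBy k A) (hB : BelowBy l B) :
    BelowBy (k + l) (A * B) := by
  intro a b hab
  rw [Matrix.mul_apply]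
  refine Finset.sum_eq_zero fun c _ => ?_
  by_cases h : pos D a < pos D c + k
  · rw [hA a c h, zero_mul]
  · rw [hB c b (by omega), mul_zero]

theorem BelowBy.add {k : ℕ} {A B : Matrix D.Idx D.Idx F} (hA : BelowBy k A) (hB : BelowBy k B) :
    BelowBy k (A + B) := fun a b h => by rw [Matrix.add_apply, hA a b h, hB a b h, add_zero]

theorem BelowBy.sub {k : ℕ} {A B : Matrix D.Idx D.Idx F} (hA : BelowBy k A) (hB : BelowBy k B) :
    BelowBy k (A - B) := fun a b h => by rw [Matrix.sub_apply, hA a b h, hB a b h, sub_zero]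

theorem BelowBy.mono {k l : ℕ} (hkl : k ≤ l) {A : Matrix D.Idx D.Idx F} (hA : BelowBy l A) :
    BelowBy k A := fun a b h => hA a b (by omega)

/-- The group of lower unitriangular matrices at distance at least `k` from the diagonal. -/
def lowerGroup (k : ℕ) : Subgroup (GL D.Idx F) where
  carrier := {g | BelowBy k ((g : Matrix D.Idx D.Idx F) - 1) ∧
    BelowBy k (((g⁻¹ : GL D.Idx F) : Matrix D.Idx D.Idx F) - 1)}
  one_mem' := by simp [BelowBy]
  mul_mem' := by
    have key : ∀ A B : Matrix D.Idx D.Idx F, BelowBy k (A - 1) → BelowBy k (B - 1) →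
        BelowBy k (A * B - 1) := by
      intro A B hA hB
      have e : A * B - 1 = (A - 1) + (B - 1) + (A - 1) * (B - 1) := by noncomm_ring
      rw [e]
      exact (hA.add hB).add ((hA.mul hB).mono (Nat.le_add_right k k))
    rintro g g' ⟨h1, h2⟩ ⟨h3, h4⟩
    exact ⟨by rw [Units.val_mul]; exact key _ _ h1 h3,
      by rw [mul_inv_rev, Units.val_mul]; exact key _ _ h4 h2⟩
  inv_mem' := by
    rintro g ⟨h1, h2⟩
    exact ⟨h2, by rwa [inv_inv]⟩

theorem lowerGroup_anti {k l : ℕ} (hkl : k ≤ l) :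
    lowerGroup (D := D) (F := F) l ≤ lowerGroup k :=
  fun _ hg => ⟨hg.1.mono hkl, hg.2.mono hkl⟩

theorem pos_lt_top (hF : Facts.{u} D) (a : D.Idx) : pos D a < D.rank + D.nroots := by
  have := hF.nroots_even
  have := hF.rank_pos
  rcases a with j | s
  · have := j.2; simp only [pos]; omega
  · have := s.2; simp only [pos]; split <;> omega

theorem pos_lt_pos_iff {u s : Fin D.nroots} :
    pos D (Sum.inr u) < pos D (Sum.inr s) ↔ u < s := by
  rw [Fin.lt_def]; simp only [pos]; split <;> split <;> omega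

theorem eq_one_of_mem_lowerGroup_top (hF : Facts.{u} D) {g : GL D.Idx F}
    (hg : g ∈ lowerGroup (D.rank + D.nroots)) : g = 1 := by
  apply Units.ext
  ext a b
  have := hg.1 a b (by have := pos_lt_top hF a; omega)
  rw [Matrix.sub_apply, sub_eq_zero] at this
  simpa using this

theorem comm_mem_lowerGroup {k : ℕ} {g h : GL D.Idx F} (hg : g ∈ lowerGroup 1)
    (hh : h ∈ lowerGroup k) : g * h * g⁻¹ * h⁻¹ ∈ lowerGroup (k + 1) := by
  have key : ∀ g h : GL D.Idx F, BelowBy 1 ((g : Matrix D.Idx D.Idx F) - 1) →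
      BelowBy k ((h : Matrix D.Idx D.Idx F) - 1) →
      BelowBy 1 (((g⁻¹ : GL D.Idx F) : Matrix D.Idx D.Idx F) - 1) →
      BelowBy k (((h⁻¹ : GL D.Idx F) : Matrix D.Idx D.Idx F) - 1) →
      BelowBy (k + 1) (((g * h * g⁻¹ * h⁻¹ : GL D.Idx F) : Matrix D.Idx D.Idx F) - 1) ∧
      BelowBy (k + 1) (((h * g * h⁻¹ * g⁻¹ : GL D.Idx F) : Matrix D.Idx D.Idx F) - 1) := by
    intro g h hg hh hg' hh'
    set A : Matrix D.Idx D.Idx F := g - 1 with hA
    set B : Matrix D.Idx D.Idx F := h - 1 with hB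
    have hAB : BelowBy (k + 1) (A * B - B * A) :=
      ((hg.mul hh).mono (by omega)).sub (hh.mul hg)
    have hBA : BelowBy (k + 1) (B * A - A * B) :=
      (hh.mul hg).sub ((hg.mul hh).mono (by omega))
    have hz : ∀ M : Matrix D.Idx D.Idx F, BelowBy 0 (M - 1) → BelowBy 0 M := fun M hM a b hab => by
      have := hM a b hab
      rw [Matrix.sub_apply, Matrix.one_apply_ne (fun e => by subst e; omega), sub_zero] at this
      exact this
    have hgi : BelowBy 0 ((g⁻¹ : GL D.Idx F) : Matrix D.Idx D.Idx F) := hz _ (hg'.mono (by omega))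
    have hhi : BelowBy 0 ((h⁻¹ : GL D.Idx F) : Matrix D.Idx D.Idx F) := hz _ (hh'.mono (by omega))
    constructor
    · have e : ((g * h * g⁻¹ * h⁻¹ : GL D.Idx F) : Matrix D.Idx D.Idx F) - 1 =
          (A * B - B * A) * ((g⁻¹ : GL D.Idx F) : Matrix D.Idx D.Idx F) *
            ((h⁻¹ : GL D.Idx F) : Matrix D.Idx D.Idx F) := by
        have e1 : A * B - B * A = (g : Matrix D.Idx D.Idx F) * h - h * g := by
          rw [hA, hB]; noncomm_ring
        rw [e1, sub_mul, sub_mul]
        simp only [← Units.val_mul]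
        rw [show h * g * g⁻¹ * h⁻¹ = 1 by group, Units.val_one]
      rw [e]
      exact ((hAB.mul hgi).mul hhi).mono (by omega)
    · have e : ((h * g * h⁻¹ * g⁻¹ : GL D.Idx F) : Matrix D.Idx D.Idx F) - 1 =
          (B * A - A * B) * ((h⁻¹ : GL D.Idx F) : Matrix D.Idx D.Idx F) *
            ((g⁻¹ : GL D.Idx F) : Matrix D.Idx D.Idx F) := by
        have e1 : B * A - A * B = (h : Matrix D.Idx D.Idx F) * g - g * h := by
          rw [hA, hB]; noncomm_ring
        rw [e1, sub_mul, sub_mul]
        simp only [← Units.val_mul]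
        rw [show g * h * h⁻¹ * g⁻¹ = 1 by group, Units.val_one]
      rw [e]
      exact ((hBA.mul hhi).mul hgi).mono (by omega)
  obtain ⟨h1, h2⟩ := key g h hg.1 hh.1 hg.2 hh.2
  refine ⟨h1, ?_⟩
  rw [show (g * h * g⁻¹ * h⁻¹)⁻¹ = h * g * h⁻¹ * g⁻¹ by group]
  exact h2

variable (hF : Facts.{u} D)
include hF

theorem xG_mem_lowerGroup {r : ℕ} (hr : r < D.nroots) (hp : half D ≤ r) (t : F) :
    xG hF r t ∈ lowerGroup 1 := by
  have key : ∀ v : F, BelowBy 1 (D.x F r v - 1) := fun v a b hab => by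
    rw [Matrix.sub_apply, hF.x_lower F r hr hp v a b (by omega), Matrix.one_apply, sub_self]
  refine ⟨key t, ?_⟩
  rw [xG_inv]
  exact key (-t)

theorem mem_posUnipotent_of {r : ℕ} (hr : r < D.nroots) (hp : half D ≤ r) (t : F) :
    xG hF r t ∈ D.posUnipotent F :=
  Subgroup.subset_closure ⟨r, t, (hF.posRoot_iff r hr).2 hp, rfl⟩

/-- The positive roots of index at least `k` and their root subgroups. -/
def rootsFrom (k : ℕ) : Set (GL D.Idx F) :=
  {g | ∃ (r : ℕ) (t : F), k ≤ r ∧ r < D.nroots ∧ g = xG hF r t}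

theorem posUnipotent_eq : D.posUnipotent F = Subgroup.closure (rootsFrom hF (half D)) := by
  unfold ChevalleyDatum.posUnipotent
  congr 1
  ext g
  constructor
  · rintro ⟨r, t, hr, e⟩
    exact ⟨r, t, (hF.posRoot_iff r hr.1).1 hr, hr.1, Units.ext e⟩
  · rintro ⟨r, t, hk, hr, rfl⟩
    exact ⟨r, t, (hF.posRoot_iff r hr).2 hk, rfl⟩

theorem posUnipotent_le_lowerGroup : D.posUnipotent F ≤ lowerGroup 1 := by
  rw [posUnipotent_eq hF, Subgroup.closure_le]
  rintro g ⟨r, t, hk, hr, rfl⟩
  exact xG_mem_lowerGroup hF hr hk t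

theorem pow_sub_one_eq_zero {g : GL D.Idx F} (hg : g ∈ D.posUnipotent F) :
    ((g : Matrix D.Idx D.Idx F) - 1) ^ (D.rank + D.nroots) = 0 := by
  have h1 := (posUnipotent_le_lowerGroup hF hg).1
  have key : ∀ m, BelowBy m (((g : Matrix D.Idx D.Idx F) - 1) ^ m) := by
    intro m
    induction m with
    | zero =>
      intro a b hab
      rw [pow_zero, Matrix.one_apply_ne fun e => by subst e; omega]
    | succ m ih => rw [pow_succ]; exact ih.mul h1
  ext a b
  exact key _ a b (by have := pos_lt_top hF a; omega)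

theorem posUnipotent_isNilpotent : Group.IsNilpotent (D.posUnipotent F) := by
  rw [Subgroup.nilpotent_iff_finite_descending_central_series]
  refine ⟨D.rank + D.nroots,
    fun n => (lowerGroup (D := D) (F := F) (n + 1)).subgroupOf (D.posUnipotent F), ⟨?_, ?_⟩, ?_⟩
  · ext g
    simpa [Subgroup.mem_subgroupOf] using posUnipotent_le_lowerGroup hF g.2
  · intro x n hx g
    rw [Subgroup.mem_subgroupOf] at hx ⊢
    have := comm_mem_lowerGroup (posUnipotent_le_lowerGroup hF g.2) hx
    have := Subgroup.inv_mem _ this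
    simpa [commutatorElement_def, mul_assoc] using this
  · ext g
    rw [Subgroup.mem_subgroupOf, Subgroup.mem_bot]
    refine ⟨fun hg => Subtype.ext (eq_one_of_mem_lowerGroup_top hF (lowerGroup_anti (by omega) hg)),
      fun hg => by rw [hg]; exact Subgroup.one_mem _⟩

theorem wordG_mem {S : Subgroup (GL D.Idx F)} {w : List (ℕ × F)}
    (h : ∀ p ∈ w, xG hF p.1 p.2 ∈ S) : wordG hF w ∈ S :=
  Subgroup.list_prod_mem _ fun g hg => by
    obtain ⟨p, hp, rfl⟩ := List.mem_map.1 hg
    exact h p hp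

theorem wordG_append (w w' : List (ℕ × F)) :
    wordG hF (w ++ w') = wordG hF w * wordG hF w' := by
  simp [wordG]

theorem wordG_cons (p : ℕ × F) (w : List (ℕ × F)) :
    wordG hF (p :: w) = xG hF p.1 p.2 * wordG hF w := by
  simp [wordG]

theorem commWord_gt {r s : ℕ} (hr : r < D.nroots) (hs : s < D.nroots) (hpr : half D ≤ r)
    (hps : half D ≤ s) (t v : F) (p : ℕ × F) (hp : p ∈ D.commWord F r s t v) :
    r < p.1 ∧ s < p.1 ∧ p.1 < D.nroots := by
  obtain ⟨c, hc, rfl⟩ := List.mem_map.1 hp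
  exact ⟨(hF.comm_pos r s hr hs hpr hps c hc).1, (hF.comm_pos r s hr hs hpr hps c hc).2,
    hF.comm_lt r s hr hs c hc⟩

theorem xG_mem_normalizer {k : ℕ} (hk : half D ≤ k) (hkn : k < D.nroots) (t : F) :
    xG hF k t ∈
      Subgroup.normalizer (Subgroup.closure (rootsFrom hF (k + 1) (F := F)) : Set (GL D.Idx F)) := by
  have key : ∀ (v : F), ∀ x ∈ (rootsFrom hF (k + 1) : Set (GL D.Idx F)),
      xG hF k (-v) * x * xG hF k v ∈ Subgroup.closure (rootsFrom hF (k + 1)) := by
    rintro v x ⟨s, a, hks, hs, rfl⟩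
    have hne : s ≠ D.neg k := by
      have := (neg_lt_half_iff hF hkn).2 hk; omega
    rw [mul_assoc, xG_comm hF hkn hs (by omega) hne, ← mul_assoc, ← mul_assoc, xG_mul,
      neg_add_cancel, xG_zero, one_mul]
    refine Subgroup.mul_mem _ (Subgroup.subset_closure ⟨s, a, hks, hs, rfl⟩) (wordG_mem hF ?_)
    intro p hp
    have := commWord_gt hF hkn hs hk (by omega) _ _ p hp
    exact Subgroup.subset_closure ⟨p.1, p.2, by omega, this.2.2, rfl⟩
  refine mem_normalizer_closure (fun x hx => ?_) (fun x hx => ?_)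
  · have := key (-t) x hx
    rwa [neg_neg, ← xG_inv] at this
  · have := key t x hx
    rwa [← xG_inv] at this

/-- The ordered product `∏_{r ≥ k} x_r(t_r)`. -/
def prodFrom (k : ℕ) (t : ℕ → F) : GL D.Idx F :=
  wordG hF ((List.range' k (D.nroots - k)).map fun r => (r, t r))

theorem prodFrom_top {k : ℕ} (hk : D.nroots ≤ k) (t : ℕ → F) : prodFrom hF k t = 1 := by
  simp [prodFrom, wordG, Nat.sub_eq_zero_of_le hk]

theorem prodFrom_succ {k : ℕ} (hk : k < D.nroots) (t : ℕ → F) :
    prodFrom hF k t = xG hF k (t k) * prodFrom hF (k + 1) t := by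
  rw [prodFrom, show D.nroots - k = (D.nroots - (k + 1)) + 1 by omega, List.range'_succ,
    List.map_cons, wordG_cons]
  rfl

theorem prodFrom_congr {k : ℕ} {t t' : ℕ → F} (h : ∀ r, k ≤ r → r < D.nroots → t r = t' r) :
    prodFrom hF k t = prodFrom hF k t' := by
  rw [prodFrom, prodFrom]
  congr 1
  refine List.map_congr_left fun r hr => ?_
  rw [List.mem_range'_1] at hr
  rw [h r hr.1 (by omega)]

theorem prodFrom_mem (k : ℕ) (t : ℕ → F) :
    prodFrom hF k t ∈ Subgroup.closure (rootsFrom hF k) := by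
  refine wordG_mem hF fun p hp => ?_
  obtain ⟨r, hr, rfl⟩ := List.mem_map.1 hp
  rw [List.mem_range'_1] at hr
  exact Subgroup.subset_closure ⟨r, t r, hr.1, by omega, rfl⟩

theorem exists_prodFrom : ∀ (d k : ℕ), D.nroots - k = d → half D ≤ k →
    ∀ g ∈ Subgroup.closure (rootsFrom hF k (F := F)), ∃ t, g = prodFrom hF k t := by
  intro d
  induction d with
  | zero =>
    intro k hd _ g hg
    refine ⟨0, ?_⟩
    rw [prodFrom_top hF (by omega)]
    have : rootsFrom hF k (F := F) = ∅ := by
      ext x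
      simp only [rootsFrom, Set.mem_setOf_eq, Set.mem_empty_iff_false, iff_false]
      rintro ⟨r, -, h1, h2, -⟩
      omega
    rwa [this, Subgroup.closure_empty, Subgroup.mem_bot] at hg
  | succ d ih =>
    intro k hd hk g hg
    have hkn : k < D.nroots := by omega
    have hX : (xHom hF k (F := F)).range ≤
        Subgroup.normalizer (Subgroup.closure (rootsFrom hF (k + 1) (F := F)) : Set (GL D.Idx F)) := by
      rintro x ⟨t, rfl⟩
      exact xG_mem_normalizer hF hk hkn _
    have hle : Subgroup.closure (rootsFrom hF k (F := F)) ≤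
        (xHom hF k (F := F)).range ⊔ Subgroup.closure (rootsFrom hF (k + 1)) := by
      rw [Subgroup.closure_le]
      rintro x ⟨r, t, h1, h2, rfl⟩
      rcases Nat.lt_or_eq_of_le h1 with h | rfl
      · exact Subgroup.mem_sup_right (Subgroup.subset_closure ⟨r, t, h, h2, rfl⟩)
      · exact Subgroup.mem_sup_left ⟨Multiplicative.ofAdd t, rfl⟩
    have hmem : g ∈ ((xHom hF k (F := F)).range ⊔
        Subgroup.closure (rootsFrom hF (k + 1)) : Subgroup (GL D.Idx F)) := hle hg
    rw [← SetLike.mem_coe, Subgroup.coe_mul_of_left_le_normalizer_right _ _ hX,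
      Set.mem_mul] at hmem
    obtain ⟨_, ⟨a, rfl⟩, y, hy, rfl⟩ := hmem
    obtain ⟨t, rfl⟩ := ih (k + 1) (by omega) (by omega) y hy
    refine ⟨fun r => if r = k then a.toAdd else t r, ?_⟩
    rw [prodFrom_succ hF hkn, if_pos rfl]
    congr 1
    exact prodFrom_congr hF fun r hr _ => by rw [if_neg (by omega)]

/-- The matrices whose columns of roots of index at least `m` have no coroot component. -/
def noCoroot (m : ℕ) : Subgroup (GL D.Idx F) where
  carrier := {g | g ∈ lowerGroup 1 ∧ ∀ (j : Fin D.rank) (s : Fin D.nroots), m ≤ (s : ℕ) →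
    (g : Matrix D.Idx D.Idx F) (Sum.inl j) (Sum.inr s) = 0 ∧
    ((g⁻¹ : GL D.Idx F) : Matrix D.Idx D.Idx F) (Sum.inl j) (Sum.inr s) = 0}
  one_mem' := ⟨Subgroup.one_mem _, fun j s _ => by simp⟩
  mul_mem' := by
    rintro g h ⟨hg, hg'⟩ ⟨hh, hh'⟩
    have key : ∀ A B : Matrix D.Idx D.Idx F, BelowBy 1 (B - 1) →
        (∀ (j : Fin D.rank) (s : Fin D.nroots), m ≤ (s : ℕ) → A (Sum.inl j) (Sum.inr s) = 0) →
        (∀ (j : Fin D.rank) (s : Fin D.nroots), m ≤ (s : ℕ) → B (Sum.inl j) (Sum.inr s) = 0) →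
        ∀ (j : Fin D.rank) (s : Fin D.nroots), m ≤ (s : ℕ) →
          (A * B) (Sum.inl j) (Sum.inr s) = 0 := by
      intro A B hB hA' hB' j s hs
      rw [Matrix.mul_apply, Fintype.sum_sum_type,
        Finset.sum_eq_zero (fun l _ => by rw [hB' l s hs, mul_zero]), zero_add]
      refine Finset.sum_eq_zero fun v _ => ?_
      by_cases hv : v < s
      · have := hB (Sum.inr v) (Sum.inr s)
          (by have := (pos_lt_pos_iff (u := v) (s := s)).2 hv; omega)
        rw [Matrix.sub_apply, Matrix.one_apply_ne (by simp [hv.ne]), sub_zero] at this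
        rw [this, mul_zero]
      · rw [hA' j v (le_trans hs (not_lt.1 hv)), zero_mul]
    refine ⟨Subgroup.mul_mem _ hg hh, fun j s hs => ⟨?_, ?_⟩⟩
    · rw [Units.val_mul]
      exact key _ _ hh.1 (fun j s hs => (hg' j s hs).1) (fun j s hs => (hh' j s hs).1) j s hs
    · rw [mul_inv_rev, Units.val_mul]
      exact key _ _ hg.2 (fun j s hs => (hh' j s hs).2) (fun j s hs => (hg' j s hs).2) j s hs
  inv_mem' := by
    rintro g ⟨hg, hg'⟩
    exact ⟨Subgroup.inv_mem _ hg, fun j s hs => ⟨(hg' j s hs).2, by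
      rw [inv_inv]; exact (hg' j s hs).1⟩⟩

theorem closure_le_noCoroot {k : ℕ} (hk : half D ≤ k) (hkn : k < D.nroots) :
    Subgroup.closure (rootsFrom hF (k + 1) (F := F)) ≤ noCoroot (D.neg k) := by
  rw [Subgroup.closure_le]
  rintro _ ⟨r, t, h1, h2, rfl⟩
  have hne : ∀ s : ℕ, D.neg k ≤ s → ¬ (r < D.nroots ∧ s = D.neg r) := by
    rintro s hs ⟨-, e⟩
    rw [hF.neg_eq r h2] at e
    rw [hF.neg_eq k hkn] at hs
    omega
  refine ⟨xG_mem_lowerGroup hF h2 (by omega) t, fun j s hs => ⟨?_, ?_⟩⟩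
  · rw [xG_val]; exact x_col_inl_zero hF s.2 t j (hne s hs)
  · rw [xG_inv, xG_val]; exact x_col_inl_zero hF s.2 _ j (hne s hs)

theorem prodFrom_coroot {k : ℕ} (hk : half D ≤ k) (hkn : k < D.nroots) (t : ℕ → F)
    (j : Fin D.rank) :
    ((prodFrom hF k t : GL D.Idx F) : Matrix D.Idx D.Idx F) (Sum.inl j)
      (Sum.inr ⟨D.neg k, neg_lt hF hkn⟩) = ((coef D k j : ℤ) : F) * t k := by
  obtain ⟨hlow, hno⟩ := closure_le_noCoroot hF hk hkn (prodFrom_mem hF (k + 1) t)
  rw [prodFrom_succ hF hkn, Units.val_mul, xG_val, Matrix.mul_apply, Fintype.sum_sum_type,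
    Finset.sum_eq_zero (fun l _ => by rw [(hno l ⟨D.neg k, neg_lt hF hkn⟩ le_rfl).1, mul_zero]),
    zero_add, Finset.sum_eq_single ⟨D.neg k, neg_lt hF hkn⟩]
  · have := hlow.1 (Sum.inr ⟨D.neg k, neg_lt hF hkn⟩) (Sum.inr ⟨D.neg k, neg_lt hF hkn⟩) (by omega)
    rw [Matrix.sub_apply, Matrix.one_apply_eq, sub_eq_zero] at this
    rw [this, mul_one, x_neg_col hF hkn]
  · intro v _ hv
    rw [x_col_inl_zero hF v.2 _ j (fun e => hv (Fin.ext e.2)), zero_mul]
  · intro hn; exact absurd (Finset.mem_univ _) hn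

theorem prodFrom_inj {t t' : ℕ → F} : ∀ (d k : ℕ), D.nroots - k = d → half D ≤ k →
    prodFrom hF k t = prodFrom hF k t' → ∀ r, k ≤ r → r < D.nroots → t r = t' r := by
  intro d
  induction d with
  | zero => intro k hd _ _ r h1 h2; omega
  | succ d ih =>
    intro k hd hk e r h1 h2
    have hkn : k < D.nroots := by omega
    have hk' : t k = t' k := by
      obtain ⟨j, hj, hne⟩ := hF.coef_unit (F := F) hkn
      have a := prodFrom_coroot hF hk hkn t ⟨j, hj⟩
      rw [e, prodFrom_coroot hF hk hkn t' ⟨j, hj⟩] at a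
      exact mul_left_cancel₀ hne a.symm
    rw [prodFrom_succ hF hkn, prodFrom_succ hF hkn, hk', mul_left_cancel_iff] at e
    rcases Nat.lt_or_eq_of_le h1 with h | rfl
    · exact ih (k + 1) (by omega) (by omega) e r h h2
    · exact hk'

theorem posRoots_eq : D.posRoots = List.range' (half D) (D.nroots - half D) := by
  have hev := hF.nroots_even
  unfold ChevalleyDatum.posRoots
  have hdec : ∀ r ∈ List.range D.nroots,
      decide (D.IsPosRoot r) = decide (half D ≤ r) := by
    intro r hr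
    exact decide_eq_decide.2 (hF.posRoot_iff r (List.mem_range.1 hr))
  rw [List.filter_congr hdec, show D.nroots = half D + (D.nroots - half D) by omega,
    List.range_add, List.filter_append, List.filter_eq_nil_iff.2 (fun r hr => by
      simp [List.mem_range.1 hr]), List.nil_append, List.filter_eq_self.2 (fun r hr => by
      obtain ⟨a, -, rfl⟩ := List.mem_map.1 hr; simp), List.range'_eq_map_range]
  simp only [Nat.add_sub_cancel_left]

theorem wordMat_posRoots (t : ℕ → F) :
    D.wordMat F (D.posRoots.map fun r => (r, t r)) =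
      ((prodFrom hF (half D) t : GL D.Idx F) : Matrix D.Idx D.Idx F) := by
  rw [posRoots_eq hF, prodFrom, wordG_val]

/-- The elements of `U` are the ordered products. -/
theorem mem_posUnipotent_iff {g : GL D.Idx F} :
    g ∈ D.posUnipotent F ↔ ∃ t, g = prodFrom hF (half D) t := by
  rw [posUnipotent_eq hF]
  exact ⟨exists_prodFrom hF _ _ rfl le_rfl g, fun ⟨t, e⟩ => e ▸ prodFrom_mem hF _ t⟩

/-- `U` is in bijection with the families of parameters of the positive roots. -/
noncomputable def posUnipotentEquiv : (Fin (half D) → F) ≃ ↥(D.posUnipotent F) :=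
  Equiv.ofBijective
    (fun t => ⟨prodFrom hF (half D) (fun r => if h : r - half D < half D then t ⟨r - half D, h⟩ else 0),
      (mem_posUnipotent_iff hF).2 ⟨_, rfl⟩⟩)
    ⟨fun t t' e => funext fun i => by
      have hev := hF.nroots_even
      have := prodFrom_inj hF _ _ rfl le_rfl (congrArg Subtype.val e) (half D + i)
        (Nat.le_add_right _ _) (by have := i.2; omega)
      simpa using this,
    fun g => by
      obtain ⟨t, ht⟩ := (mem_posUnipotent_iff hF).1 g.2
      refine ⟨fun i => t (half D + i), Subtype.ext (Eq.trans ?_ ht.symm)⟩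
      refine prodFrom_congr hF fun r h1 h2 => ?_
      have := hF.nroots_even
      rw [dif_pos (by omega)]
      show t (half D + (r - half D)) = t r
      congr 1
      omega⟩

end Cfsg.Agent.Chev
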