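import Cfsg.Agent.Chev.Simple
import Cfsg.Agent.Chev.Unipotent
import Mathlib.GroupTheory.Solvable

/-!
The diagonal subgroup `H`, the Borel subgroup `B = UH` and its intersection with `V`.
-/

set_option autoImplicit false

namespace Cfsg.Agent.Chev

open Cfsg.Lie
open scoped MatrixGroups

universe u

variable {D : ChevalleyDatum} {F : Type u} [Field F]

/-- Upper unitriangular matrices for the order `pos`. -/
def upperGroup : Subgroup (GL D.Idx F) where
  carrier := {g | (∀ a b, pos D b ≤ pos D a →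
      (g : Matrix D.Idx D.Idx F) a b = if a = b then 1 else 0) ∧
    ∀ a b, pos D b ≤ pos D a →
      ((g⁻¹ : GL D.Idx F) : Matrix D.Idx D.Idx F) a b = if a = b then 1 else 0}
  one_mem' := by simp [Matrix.one_apply]
  mul_mem' := by
    have key : ∀ A B : Matrix D.Idx D.Idx F,
        (∀ a b, pos D b ≤ pos D a → A a b = if a = b then 1 else 0) →
        (∀ a b, pos D b ≤ pos D a → B a b = if a = b then 1 else 0) →
        ∀ a b, pos D b ≤ pos D a → (A * B) a b = if a = b then 1 else 0 := by
      intro A B hA hB a b hab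
      rw [Matrix.mul_apply, Finset.sum_eq_single a]
      · rw [hA a a le_rfl, if_pos rfl, one_mul, hB a b hab]
      · intro c _ hc
        by_cases h : pos D c ≤ pos D a
        · rw [hA a c h, if_neg (Ne.symm hc), zero_mul]
        · rw [hB c b (by omega), if_neg (fun e => h (by rw [e]; exact hab)), mul_zero]
      · intro hn; exact absurd (Finset.mem_univ _) hn
    rintro g g' ⟨h1, h2⟩ ⟨h3, h4⟩
    exact ⟨by rw [Units.val_mul]; exact key _ _ h1 h3,
      by rw [mul_inv_rev, Units.val_mul]; exact key _ _ h4 h2⟩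
  inv_mem' := by
    rintro g ⟨h1, h2⟩
    exact ⟨h2, by rwa [inv_inv]⟩

theorem torusHom_apply (c : Fin D.rank → Fˣ) (a b : D.Idx) :
    ((torusHom c : GL D.Idx F) : Matrix D.Idx D.Idx F) a b =
      if a = b then Sum.elim (fun _ => (1 : F)) (fun s : Fin D.nroots => (chiU c s : F)) a else 0 := by
  show Matrix.diagonal _ a b = _
  rw [Matrix.diagonal_apply]

variable (hF : Facts.{u} D)
include hF

theorem chiU_neg (c : Fin D.rank → Fˣ) {s : ℕ} (hs : s < D.nroots) :
    chiU c (D.neg s) = (chiU c s)⁻¹ := by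
  simp only [chiU, ← Finset.prod_inv_distrib]
  exact Finset.prod_congr rfl fun j _ => by rw [hF.cartan_neg s hs j j.2, zpow_neg]

theorem hG_mem_diagonal {r : ℕ} (hr : r < D.nroots) {t : F} (ht : t ≠ 0) :
    hG hF r t ∈ D.diagonalSubgroup F :=
  Subgroup.subset_closure ⟨r, t, hr, ht, hG_val hF r t⟩

theorem torusHom_mem (c : Fin D.rank → Fˣ) : torusHom c ∈ D.diagonalSubgroup F := by
  rw [← Finset.univ_prod_mulSingle c]
  refine Subgroup.mem_comap.1 (Subgroup.prod_mem _ fun j _ => Subgroup.mem_comap.2 ?_)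
  rw [← coH_simple hF j.2, ← hG_eq_torus hF (hF.simple_lt j j.2)]
  exact hG_mem_diagonal hF (hF.simple_lt j j.2) (Units.ne_zero _)

theorem diagonal_eq_range :
    D.diagonalSubgroup F = (torusHom : (Fin D.rank → Fˣ) →* GL D.Idx F).range := by
  refine le_antisymm ((Subgroup.closure_le _).2 ?_) ?_
  · rintro g ⟨r, t, hr, ht, e⟩
    have : g = hG hF r t := Units.ext (e.trans (hG_val hF r t).symm)
    subst this
    exact ⟨coH r (Units.mk0 t ht), by rw [← hG_eq_torus hF hr, Units.val_mk0]⟩
  · rintro g ⟨c, rfl⟩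
    exact torusHom_mem hF c

theorem mem_diagonal_iff {g : GL D.Idx F} :
    g ∈ D.diagonalSubgroup F ↔ ∃ c : Fin D.rank → Fˣ, torusHom c = g := by
  rw [diagonal_eq_range hF]; rfl

theorem torusHom_eq_wordG (c : Fin D.rank → Fˣ) :
    wordG hF ((List.range D.rank).flatMap fun i =>
      D.hWord (D.simple i) (if h : i < D.rank then (c ⟨i, h⟩ : F) else 1)) = torusHom c := by
  have key : ∀ l : List (Fin D.rank),
      wordG hF ((l.map Fin.val).flatMap fun i =>
        D.hWord (D.simple i) (if h : i < D.rank then (c ⟨i, h⟩ : F) else 1)) =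
      torusHom ((l.map fun j => Pi.mulSingle j (c j)).prod) := by
    intro l
    induction l with
    | nil => simp [wordG]
    | cons a l ih =>
      rw [List.map_cons, List.flatMap_cons, wordG_append, ih, List.map_cons, List.prod_cons,
        map_mul]
      congr 1
      rw [dif_pos a.2, Fin.eta, ← coH_simple hF a.2, ← hG_eq_torus hF (hF.simple_lt a a.2)]
      apply Units.ext
      rw [wordG_val, hG_val]
      rfl
  have := key (List.finRange D.rank)
  rw [List.map_coe_finRange_eq_range] at this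
  rw [this]
  congr 1
  rw [← List.ofFn_eq_map, List.prod_ofFn, Finset.univ_prod_mulSingle]

theorem torusHom_mem_normalizer (c : Fin D.rank → Fˣ) :
    (torusHom c : GL D.Idx F) ∈ Subgroup.normalizer (D.posUnipotent F : Set (GL D.Idx F)) := by
  rw [posUnipotent_eq hF]
  have key : ∀ d : Fin D.rank → Fˣ, ∀ x ∈ rootsFrom hF (half D) (F := F),
      (torusHom d : GL D.Idx F) * x * (torusHom d)⁻¹ ∈
        Subgroup.closure (rootsFrom hF (half D)) := by
    rintro d x ⟨r, t, h1, h2, rfl⟩
    rw [torusHom_conj hF d h2, mul_inv_cancel_right]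
    exact Subgroup.subset_closure ⟨r, _, h1, h2, rfl⟩
  refine mem_normalizer_closure (key c) fun x hx => ?_
  have := key c⁻¹ x hx
  rwa [map_inv, inv_inv] at this

theorem diagonal_le_normalizer :
    D.diagonalSubgroup F ≤ Subgroup.normalizer (D.posUnipotent F : Set (GL D.Idx F)) := by
  intro g hg
  obtain ⟨c, rfl⟩ := (mem_diagonal_iff hF).1 hg
  exact torusHom_mem_normalizer hF c

theorem mem_borel_iff {g : GL D.Idx F} :
    g ∈ D.borelSubgroup F ↔ ∃ v ∈ D.posUnipotent F, ∃ c, g = v * torusHom c := by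
  rw [ChevalleyDatum.borelSubgroup, ← SetLike.mem_coe,
    Subgroup.coe_mul_of_right_le_normalizer_left _ _ (diagonal_le_normalizer hF), Set.mem_mul]
  constructor
  · rintro ⟨v, hv, h, hh, rfl⟩
    obtain ⟨c, rfl⟩ := (mem_diagonal_iff hF).1 hh
    exact ⟨v, hv, c, rfl⟩
  · rintro ⟨v, hv, c, rfl⟩
    exact ⟨v, hv, _, torusHom_mem hF c, rfl⟩

theorem torusHom_eq_one_of_mem_lower {c : Fin D.rank → Fˣ}
    (h : (torusHom c : GL D.Idx F) ∈ lowerGroup 1) : (torusHom c : GL D.Idx F) = 1 := by
  rw [torusHom_eq_one_iff]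
  intro s
  have := h.1 (Sum.inr s) (Sum.inr s) (by omega)
  rw [Matrix.sub_apply, torusHom_apply, if_pos rfl, Matrix.one_apply_eq, sub_eq_zero] at this
  exact Units.ext this

theorem posUnipotent_inf_diagonal : D.posUnipotent F ⊓ D.diagonalSubgroup F = ⊥ := by
  rw [eq_bot_iff]
  rintro g ⟨hg, hd⟩
  obtain ⟨c, rfl⟩ := (mem_diagonal_iff hF).1 hd
  exact torusHom_eq_one_of_mem_lower hF (posUnipotent_le_lowerGroup hF hg)

theorem negUnipotent_le_upperGroup : D.negUnipotent F ≤ upperGroup := by
  refine (Subgroup.closure_le _).2 ?_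
  rintro g ⟨r, t, hr, e⟩
  have : g = xG hF r t := Units.ext e
  subst this
  have key : ∀ v : F, ∀ a b, pos D b ≤ pos D a → D.x F r v a b = if a = b then 1 else 0 :=
    fun v a b hab => hF.x_upper F r hr.1 ((hF.negRoot_iff r hr.1).1 hr) v a b hab
  exact ⟨key t, by rw [xG_inv]; exact key (-t)⟩

theorem mem_negUnipotent_of {r : ℕ} (hr : r < D.nroots) (hn : r < half D) (t : F) :
    xG hF r t ∈ D.negUnipotent F :=
  Subgroup.subset_closure ⟨r, t, (hF.negRoot_iff r hr).2 hn, rfl⟩

theorem borel_inf_upper {g : GL D.Idx F} (hb : g ∈ D.borelSubgroup F) (hg : g ∈ upperGroup) :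
    g = 1 := by
  obtain ⟨v, hv, c, rfl⟩ := (mem_borel_iff hF).1 hb
  have hv' := (posUnipotent_le_lowerGroup hF hv).1
  have hentry : ∀ a b : D.Idx, ((v * torusHom c : GL D.Idx F) : Matrix D.Idx D.Idx F) a b =
      (v : Matrix D.Idx D.Idx F) a b *
        Sum.elim (fun _ => (1 : F)) (fun s : Fin D.nroots => (chiU c s : F)) b := by
    intro a b
    rw [Units.val_mul, show ((torusHom c : GL D.Idx F) : Matrix D.Idx D.Idx F) =
      Matrix.diagonal (Sum.elim (fun _ => (1 : F)) fun s : Fin D.nroots => (chiU c s : F))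
      from rfl, Matrix.mul_diagonal]
  have hvd : ∀ a b : D.Idx, pos D a ≤ pos D b →
      (v : Matrix D.Idx D.Idx F) a b = if a = b then 1 else 0 := by
    intro a b hab
    have := hv' a b (by omega)
    rwa [Matrix.sub_apply, sub_eq_zero, Matrix.one_apply] at this
  have hd : ∀ a : D.Idx,
      Sum.elim (fun _ => (1 : F)) (fun s : Fin D.nroots => (chiU c s : F)) a = 1 := by
    intro a
    have := hg.1 a a le_rfl
    rwa [hentry, hvd a a le_rfl, if_pos rfl, one_mul] at this
  apply Units.ext
  ext a b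
  rw [hentry, hd, mul_one, Units.val_one, Matrix.one_apply]
  by_cases hab : pos D a ≤ pos D b
  · exact hvd a b hab
  · have := hg.1 a b (by omega)
    rwa [hentry, hd, mul_one] at this

theorem borel_inf_negUnipotent : D.borelSubgroup F ⊓ D.negUnipotent F = ⊥ := by
  rw [eq_bot_iff]
  rintro g ⟨hb, hv⟩
  exact borel_inf_upper hF hb (negUnipotent_le_upperGroup hF hv)

theorem diagonal_le_normalizer_neg :
    D.diagonalSubgroup F ≤ Subgroup.normalizer (D.negUnipotent F : Set (GL D.Idx F)) := by
  intro g hg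
  obtain ⟨c, rfl⟩ := (mem_diagonal_iff hF).1 hg
  have key : ∀ d : Fin D.rank → Fˣ, ∀ x ∈ {g : GL D.Idx F | ∃ (r : ℕ) (t : F),
      D.IsNegRoot r ∧ (g : Matrix D.Idx D.Idx F) = D.x F r t},
      (torusHom d : GL D.Idx F) * x * (torusHom d)⁻¹ ∈ D.negUnipotent F := by
    rintro d x ⟨r, t, hr, e⟩
    have : x = xG hF r t := Units.ext e
    subst this
    rw [torusHom_conj hF d hr.1, mul_inv_cancel_right]
    exact mem_negUnipotent_of hF hr.1 ((hF.negRoot_iff r hr.1).1 hr) _
  refine mem_normalizer_closure (key c) fun x hx => ?_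
  have := key c⁻¹ x hx
  rwa [map_inv, inv_inv] at this

theorem borel_inf_negBorel : D.borelSubgroup F ⊓ (D.negUnipotent F ⊔ D.diagonalSubgroup F) =
    D.diagonalSubgroup F := by
  refine le_antisymm ?_ (le_inf le_sup_right le_sup_right)
  intro g hgg
  obtain ⟨hb, hg⟩ := Subgroup.mem_inf.1 hgg
  rw [← SetLike.mem_coe, Subgroup.coe_mul_of_right_le_normalizer_left _ _
    (diagonal_le_normalizer_neg hF), Set.mem_mul] at hg
  obtain ⟨v, hv, h, hh, rfl⟩ := hg
  have hvb : v ∈ D.borelSubgroup F := by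
    have := Subgroup.mul_mem _ hb (Subgroup.inv_mem _ (Subgroup.mem_sup_right hh))
    rwa [mul_inv_cancel_right] at this
  have : v = 1 := borel_inf_upper hF hvb (negUnipotent_le_upperGroup hF hv)
  rw [this, one_mul]; exact hh

theorem borel_isSolvable : Group.IsSolvable ↥(D.borelSubgroup F) := by
  set U' := (D.posUnipotent F).subgroupOf (D.borelSubgroup F)
  haveI : U'.Normal := by
    refine ⟨fun n hn b => ?_⟩
    obtain ⟨v, hv, c, e⟩ := (mem_borel_iff hF).1 b.2
    rw [Subgroup.mem_subgroupOf] at hn ⊢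
    simp only [Subgroup.coe_mul, Subgroup.coe_inv, e, mul_inv_rev]
    have h1 := (Subgroup.mem_normalizer_iff.1 (torusHom_mem_normalizer hF c) _).1 hn
    have := Subgroup.mul_mem _ (Subgroup.mul_mem _ hv h1) (Subgroup.inv_mem _ hv)
    simpa [mul_assoc] using this
  rw [Group.isSolvable_iff_subgroup_quotient (H := U')]
  constructor
  · haveI := posUnipotent_isNilpotent (F := F) hF
    haveI : Group.IsNilpotent U' :=
      (Group.isNilpotent_congr (Subgroup.subgroupOfEquivOfLe le_sup_left)).2 inferInstance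
    infer_instance
  · refine Group.isSolvable_of_comm ?_
    have hrep : ∀ x : ↥(D.borelSubgroup F) ⧸ U', ∃ c : Fin D.rank → Fˣ,
        x = QuotientGroup.mk ⟨torusHom c, Subgroup.mem_sup_right (torusHom_mem hF c)⟩ := by
      intro x
      induction x using QuotientGroup.induction_on with
      | H b =>
        obtain ⟨v, hv, c, e⟩ := (mem_borel_iff hF).1 b.2
        refine ⟨c, QuotientGroup.eq.2 ?_⟩
        rw [Subgroup.mem_subgroupOf]
        simp only [Subgroup.coe_mul, Subgroup.coe_inv, e, mul_inv_rev]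
        have h1 := (Subgroup.mem_normalizer_iff.1
          (Subgroup.inv_mem _ (torusHom_mem_normalizer hF c)) _).1 (Subgroup.inv_mem _ hv)
        simpa [mul_assoc] using h1
    intro a b
    obtain ⟨c, rfl⟩ := hrep a
    obtain ⟨d, rfl⟩ := hrep b
    rw [← QuotientGroup.mk_mul, ← QuotientGroup.mk_mul]
    congr 1
    apply Subtype.ext
    show torusHom c * torusHom d = torusHom d * torusHom c
    rw [← map_mul, ← map_mul, mul_comm]

end Cfsg.Agent.Chev
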