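import Cfsg.Agent.Chev.SL2Hom
import Cfsg.Agent.Chev.Torus

/-!
The rank-one subgroups `⟨X_r, X_{-r}⟩` as images of `SL₂`.
-/

set_option autoImplicit false

namespace Cfsg.Agent.Chev

open Cfsg.Lie Matrix
open scoped MatrixGroups

universe u

variable {D : ChevalleyDatum} {F : Type u} [Field F]

/-- Change of the sign of the off-diagonal entries by a scalar of square `1`. -/
def signAut (e : F) (he : e * e = 1) :
    SpecialLinearGroup (Fin 2) F →* SpecialLinearGroup (Fin 2) F where
  toFun g := ⟨!![g.1 0 0, e * g.1 0 1; e * g.1 1 0, g.1 1 1], by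
    have := SL2Data.det_eq g
    rw [det_fin_two]
    simp only [of_apply, cons_val', cons_val_zero, cons_val_one, empty_val', cons_val_fin_one]
    linear_combination this - g.1 0 1 * g.1 1 0 * he⟩
  map_one' := by
    apply Subtype.ext
    simp [Matrix.one_fin_two]
  map_mul' g h := by
    apply Subtype.ext
    show (!![(g.1 * h.1) 0 0, e * (g.1 * h.1) 0 1; e * (g.1 * h.1) 1 0, (g.1 * h.1) 1 1] :
        Matrix (Fin 2) (Fin 2) F) =
      !![g.1 0 0, e * g.1 0 1; e * g.1 1 0, g.1 1 1] * !![h.1 0 0, e * h.1 0 1; e * h.1 1 0, h.1 1 1]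
    ext i j
    fin_cases i <;> fin_cases j <;> simp [Matrix.mul_apply, Fin.sum_univ_two]
    · linear_combination (-(g.1 0 1 * h.1 1 0)) * he
    · ring
    · ring
    · linear_combination (-(g.1 1 0 * h.1 0 1)) * he

theorem signAut_upper (e : F) (he : e * e = 1) {g : SpecialLinearGroup (Fin 2) F} {t : F}
    (hg : (g : Matrix (Fin 2) (Fin 2) F) = !![1, t; 0, 1]) :
    (signAut e he g : Matrix (Fin 2) (Fin 2) F) = !![1, e * t; 0, 1] := by
  show !![g.1 0 0, e * g.1 0 1; e * g.1 1 0, g.1 1 1] = _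
  rw [hg]
  simp

theorem signAut_lower (e : F) (he : e * e = 1) {g : SpecialLinearGroup (Fin 2) F} {t : F}
    (hg : (g : Matrix (Fin 2) (Fin 2) F) = !![1, 0; t, 1]) :
    (signAut e he g : Matrix (Fin 2) (Fin 2) F) = !![1, 0; e * t, 1] := by
  show !![g.1 0 0, e * g.1 0 1; e * g.1 1 0, g.1 1 1] = _
  rw [hg]
  simp

variable (hF : Facts.{u} D)
include hF

/-- The root elements of `±r` come from a homomorphism of `SL₂`. -/
def HasSL2 (r : ℕ) : Prop :=
  ∃ φ : SpecialLinearGroup (Fin 2) F →* GL D.Idx F,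
    (∀ (g : SpecialLinearGroup (Fin 2) F) (t : F),
      (g : Matrix (Fin 2) (Fin 2) F) = !![1, t; 0, 1] → φ g = xG hF r t) ∧
    (∀ (g : SpecialLinearGroup (Fin 2) F) (t : F),
      (g : Matrix (Fin 2) (Fin 2) F) = !![1, 0; t, 1] → φ g = xG hF (D.neg r) t)

theorem hasSL2_simple {i : ℕ} (hi : i < D.rank) : HasSL2 hF (D.simple i) (F := F) := by
  have hp := hF.simple_lt i hi
  let S : SL2Data F (GL D.Idx F) :=
    { X := xG hF (D.simple i)
      Y := xG hF (D.neg (D.simple i))
      H := (torusHom : (Fin D.rank → Fˣ) →* GL D.Idx F).comp (coH (D.simple i))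
      X_add := xG_mul hF _
      Y_add := xG_mul hF _
      H_X := fun a t => by
        rw [MonoidHom.comp_apply, torusHom_conj hF _ hp]
        congr 3
        rw [coH_simple hF hi, chiU_mulSingle hi, hF.cartan_self i hi]
        norm_num
      H_def := fun a => by
        rw [MonoidHom.comp_apply, ← hG_eq_torus hF hp, hG, nG, nG]
        simp
      W_X := fun t => by
        have h := nS_conj_x hF hi hp t
        rw [hF.refl_simple i hi, (etaN_spec hF hi).2.1] at h
        simpa [nS, nG] using h }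
  exact ⟨S.hom, fun g t e => S.hom_upper g t e, fun g t e => S.hom_lower g t e⟩

theorem hasSL2_refl {i : ℕ} (hi : i < D.rank) {r : ℕ} (hr : r < D.nroots)
    (h : HasSL2 hF r (F := F)) : HasSL2 hF (D.reflectRoot i r) (F := F) := by
  obtain ⟨φ, hu, hl⟩ := h
  refine ⟨((MulAut.conj (nS hF i : GL D.Idx F)).toMonoidHom.comp φ).comp
    (signAut ((etaN hF i r : ℤ) : F) (etaN_cast_sq hF hi hr)), fun g t e => ?_, fun g t e => ?_⟩
  · show nS hF i * φ _ * (nS hF i)⁻¹ = _
    rw [hu _ _ (signAut_upper _ _ e), nS_conj_x hF hi hr, mul_inv_cancel_right, ← mul_assoc,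
      etaN_cast_sq hF hi hr, one_mul]
  · show nS hF i * φ _ * (nS hF i)⁻¹ = _
    rw [hl _ _ (signAut_lower _ _ e), nS_conj_x hF hi (neg_lt hF hr), mul_inv_cancel_right,
      ← mul_assoc, (etaN_spec hF hi).2.2.2.1 r hr, etaN_cast_sq hF hi hr, one_mul, hF.refl_neg i hi r hr]

theorem hasSL2 {r : ℕ} (hr : r < D.nroots) : HasSL2 hF r (F := F) :=
  hF.root_induction (fun r => HasSL2 hF r) (fun _ hi => hasSL2_simple hF hi)
    (fun _ hi _ hr h => hasSL2_refl hF hi hr h) r hr

theorem exists_sl2Hom {r : ℕ} (hr : r < D.nroots) :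
    ∃ φ : SpecialLinearGroup (Fin 2) F →* GL D.Idx F,
      φ.range = D.rootSubgroup F r ⊔ D.rootSubgroup F (D.neg r) ∧
      ∀ (g : SpecialLinearGroup (Fin 2) F) (t : F),
        ((g : Matrix (Fin 2) (Fin 2) F) = !![1, t; 0, 1] →
          ((φ g : GL D.Idx F) : Matrix D.Idx D.Idx F) = D.x F r t) ∧
        ((g : Matrix (Fin 2) (Fin 2) F) = !![1, 0; t, 1] →
          ((φ g : GL D.Idx F) : Matrix D.Idx D.Idx F) = D.x F (D.neg r) t) := by
  obtain ⟨φ, hu, hl⟩ := hasSL2 hF hr (F := F)
  refine ⟨φ, le_antisymm ?_ (sup_le ((Subgroup.closure_le _).2 ?_) ((Subgroup.closure_le _).2 ?_)),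
    fun g t => ⟨fun e => congrArg Units.val (hu g t e), fun e => congrArg Units.val (hl g t e)⟩⟩
  · set M := (D.rootSubgroup F r ⊔ D.rootSubgroup F (D.neg r)).comap φ with hM
    have hX : ∀ b : F, SL2Data.upper b ∈ M := fun b => by
      rw [hM, Subgroup.mem_comap]
      rw [hu _ b rfl]
      exact Subgroup.mem_sup_left (Subgroup.subset_closure ⟨b, rfl⟩)
    have hW : (SL2Data.weyl : SpecialLinearGroup (Fin 2) F) ∈ M := by
      let low : SpecialLinearGroup (Fin 2) F := ⟨!![1, 0; -1, 1], by simp [det_fin_two]⟩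
      have hlow : low ∈ M := by
        rw [hM, Subgroup.mem_comap]
        rw [hl low (-1) rfl]
        exact Subgroup.mem_sup_right (Subgroup.subset_closure ⟨-1, rfl⟩)
      have e : (SL2Data.weyl : SpecialLinearGroup (Fin 2) F) =
          SL2Data.upper 1 * low * SL2Data.upper 1 := by
        apply Subtype.ext
        show (SL2Data.weyl (F := F)).1 = (SL2Data.upper (1 : F)).1 * low.1 * (SL2Data.upper (1 : F)).1
        ext i j
        fin_cases i <;> fin_cases j <;>
          simp [low, SL2Data.upper, SL2Data.weyl, Matrix.mul_apply, Fin.sum_univ_two]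
      rw [e]
      exact Subgroup.mul_mem _ (Subgroup.mul_mem _ (hX 1) hlow) (hX 1)
    have hall : ∀ g, g ∈ M := fun g => by
      have hg : g ∈ Submonoid.closure (Set.range (SL2Data.upper (F := F)) ∪ {SL2Data.weyl}) := by
        rw [SL2Data.closure_generators]; exact Submonoid.mem_top _
      refine (Submonoid.closure_le (S := M.toSubmonoid)).2 ?_ hg
      rintro x (⟨b, rfl⟩ | rfl)
      exacts [hX b, hW]
    rintro x ⟨g, rfl⟩
    exact hall g
  · rintro x ⟨t, e⟩
    exact ⟨SL2Data.upper t, (hu _ t rfl).trans (Units.ext (by exact e.symm))⟩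
  · rintro x ⟨t, e⟩
    exact ⟨⟨!![1, 0; t, 1], by simp [det_fin_two]⟩, (hl _ t rfl).trans (Units.ext (by exact e.symm))⟩

end Cfsg.Agent.Chev
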