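import Cfsg.Agent.Chev.Lang
import Cfsg.Agent.Chev.RankOne

/-!
The subgroup of a fundamental root and its negative: Lang's theorem in it, and its elements fixed
by a field endomorphism.
-/

set_option autoImplicit false

namespace Cfsg.Agent.Chev

open Cfsg.Lie
open scoped MatrixGroups

universe u

variable {D : ChevalleyDatum} {F : Type u} [Field F] (hF : Facts.{u} D)
include hF

/-- The rank-one relations of a fundamental root. -/
noncomputable def sl2Simple (i : Fin D.rank) : SL2Data F (GL D.Idx F) where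
  X := xG hF (D.simple i)
  Y := xG hF (D.neg (D.simple i))
  H := (torusHom : (Fin D.rank → Fˣ) →* GL D.Idx F).comp (coH (D.simple i))
  X_add := xG_mul hF _
  Y_add := xG_mul hF _
  H_X := fun a t => by
    rw [MonoidHom.comp_apply, torusHom_conj hF _ (hF.simple_lt i i.2)]
    congr 3
    rw [coH_simple hF i.2, chiU_mulSingle i.2, hF.cartan_self i i.2]
    norm_num
  H_def := fun a => by
    rw [MonoidHom.comp_apply, ← hG_eq_torus hF (hF.simple_lt i i.2), hG, nG, nG]
    simp
  W_X := fun t => by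
    have h := nS_conj_x hF i.2 (hF.simple_lt i i.2) t
    rw [hF.refl_simple i i.2, (etaN_spec hF i.2).2.1] at h
    simpa [nS, nG] using h

/-- The group of a fundamental root and its negative. -/
def rootPairGroup (i : Fin D.rank) : Subgroup (GL D.Idx F) :=
  Subgroup.closure {g | ∃ (r : ℕ) (t : F),
    (r = D.simple i ∨ r = D.neg (D.simple i)) ∧ g = xG hF r t}

theorem xG_mem_rootPair (i : Fin D.rank) {r : ℕ}
    (hr : r = D.simple i ∨ r = D.neg (D.simple i)) (t : F) : xG hF r t ∈ rootPairGroup hF i :=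
  Subgroup.subset_closure ⟨r, t, hr, rfl⟩

theorem rootPair_le_group (i : Fin D.rank) : rootPairGroup hF i (F := F) ≤ D.group F :=
  (Subgroup.closure_le _).2 fun _ ⟨r, t, _, e⟩ => e ▸ xG_mem_group hF r t

theorem torus_simple_mem_rootPair (i : Fin D.rank) (t : Fˣ) :
    torusHom (Pi.mulSingle i t) ∈ rootPairGroup hF i (F := F) := by
  rw [← coH_simple hF i.2, ← hG_eq_torus hF (hF.simple_lt i i.2), hG, nG, nG]
  exact Subgroup.mul_mem _
    (Subgroup.mul_mem _ (Subgroup.mul_mem _ (xG_mem_rootPair hF i (Or.inl rfl) _)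
      (xG_mem_rootPair hF i (Or.inr rfl) _)) (xG_mem_rootPair hF i (Or.inl rfl) _))
    (Subgroup.mul_mem _ (Subgroup.mul_mem _ (xG_mem_rootPair hF i (Or.inl rfl) _)
      (xG_mem_rootPair hF i (Or.inr rfl) _)) (xG_mem_rootPair hF i (Or.inl rfl) _))

theorem torus_conj_rootPair (i : Fin D.rank) (c : Fin D.rank → Fˣ) {g : GL D.Idx F}
    (hg : g ∈ rootPairGroup hF i) : torusHom c * g * (torusHom c)⁻¹ ∈ rootPairGroup hF i := by
  refine ((Subgroup.closure_le _).2 ?_ : rootPairGroup hF i (F := F) ≤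
    (rootPairGroup hF i).comap (MulAut.conj (torusHom c)).toMonoidHom) hg
  rintro _ ⟨r, t, hr, rfl⟩
  show torusHom c * xG hF r t * (torusHom c)⁻¹ ∈ rootPairGroup hF i
  have hlt : r < D.nroots := by
    rcases hr with rfl | rfl
    exacts [hF.simple_lt i i.2, neg_lt hF (hF.simple_lt i i.2)]
  rw [torusHom_conj hF c hlt, mul_inv_cancel_right]
  exact xG_mem_rootPair hF i hr _

/-- The pair of families as one-parameter subgroups. -/
noncomputable def pairFam (i : Fin D.rank) : AlgGroup.Fam F D.Idx Bool where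
  X b t := xG hF (if b then D.simple i else D.neg (D.simple i)) t
  P b := xPoly D F ⟨if b then D.simple i else D.neg (D.simple i), by
    cases b <;> simp [neg_lt hF (hF.simple_lt i i.2), hF.simple_lt i i.2]⟩
  val b t := by rw [xG_val, ← x_eq_map_xPoly]
  zero b := (xG_eq_one_iff hF (by
    cases b <;> simp [neg_lt hF (hF.simple_lt i i.2), hF.simple_lt i i.2])).2 rfl
  inv b t := xG_inv hF _ t

theorem exists_lang_rootPair [IsAlgClosed F] (i : Fin D.rank) {q : ℕ} (hq : 2 ≤ q) (σ : F →+* F)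
    (hσ : ∀ t, σ t = t ^ q) {x : GL D.Idx F} (hx : x ∈ rootPairGroup hF i) :
    ∃ g ∈ rootPairGroup hF i, gmap D σ g = g * x := by
  have he : (pairFam hF i (F := F)).group = rootPairGroup hF i := by
    rw [AlgGroup.Fam.group, rootPairGroup]
    congr 1
    ext g
    constructor
    · rintro ⟨b, t, rfl⟩
      exact ⟨_, t, by cases b <;> simp, rfl⟩
    · rintro ⟨r, t, rfl | rfl, rfl⟩
      exacts [⟨true, t, rfl⟩, ⟨false, t, rfl⟩]
  rw [← he] at hx ⊢
  exact (pairFam hF i).lang hq σ hσ (fun b t => gmap_xG hF hF σ _ t) hx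

theorem rootPair_le_range (i : Fin D.rank) :
    rootPairGroup hF i (F := F) ≤ (sl2Simple hF i).hom.range := by
  refine (Subgroup.closure_le _).2 ?_
  rintro _ ⟨r, t, rfl | rfl, rfl⟩
  · exact ⟨SL2Data.upper t, (sl2Simple hF i).hom_upper _ t rfl⟩
  · exact ⟨⟨!![1, 0; t, 1], by simp [Matrix.det_fin_two]⟩,
      (sl2Simple hF i).hom_lower _ t rfl⟩

theorem gmap_sl2Simple (i : Fin D.rank) (σ : F →+* F) (m : SL(2, F)) :
    gmap D σ ((sl2Simple hF i).hom m) =
      (sl2Simple hF i).hom (Matrix.SpecialLinearGroup.map σ m) := by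
  have hm : m ∈ Submonoid.closure (Set.range (SL2Data.upper (F := F)) ∪ {SL2Data.weyl}) := by
    rw [SL2Data.closure_generators]; exact Submonoid.mem_top _
  induction hm using Submonoid.closure_induction with
  | mem x hx =>
    rcases hx with ⟨b, rfl⟩ | rfl
    · rw [(sl2Simple hF i).hom_upper _ b rfl, (sl2Simple hF i).hom_upper _ (σ b) (by
        ext a c
        show σ ((SL2Data.upper b).1 a c) = _
        fin_cases a <;> fin_cases c <;> simp [SL2Data.upper])]
      exact gmap_xG hF hF σ _ b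
    · have e : Matrix.SpecialLinearGroup.map σ (SL2Data.weyl (F := F)) = SL2Data.weyl := by
        apply Subtype.ext
        ext a c
        show σ ((SL2Data.weyl (F := F)).1 a c) = _
        fin_cases a <;> fin_cases c <;> simp [SL2Data.weyl]
      rw [e]
      show gmap D σ ((sl2Simple hF i).toFun SL2Data.weyl) = (sl2Simple hF i).toFun SL2Data.weyl
      rw [SL2Data.toFun_weyl]
      simp only [SL2Data.n, sl2Simple, map_mul, gmap_xG hF hF, map_neg, map_inv₀, map_one]
  | one => simp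
  | mul x y _ _ hx hy => simp only [map_mul, hx, hy]

theorem sl2Simple_injective (i : Fin D.rank) (j : Fin D.rank)
    (hj : D.cartan i (D.simple j) = -1) :
    Function.Injective (sl2Simple hF i (F := F)).hom := by
  classical
  rw [injective_iff_map_eq_one]
  intro m hm
  set S := sl2Simple hF i (F := F) with hS
  have hp := hF.simple_lt i i.2
  change S.bruhat (m.1 0 0) (m.1 0 1) (m.1 1 0) (m.1 1 1) = 1 at hm
  have hd := SL2Data.det_eq m
  by_cases hc : m.1 1 0 = 0
  · have ha : m.1 0 0 ≠ 0 := by rintro e; rw [e, hc] at hd; simp at hd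
    rw [SL2Data.bruhat, if_pos hc, SL2Data.h_of_ne S ha] at hm
    change xG hF (D.simple i) _ * torusHom (coH (D.simple i) (Units.mk0 _ ha)) = 1 at hm
    have h2 := (Subgroup.mem_bot.1 (posUnipotent_inf_diagonal hF (F := F) ▸
      (Subgroup.mem_inf.2 ⟨mem_posUnipotent_of hF hp (hF.simple_pos i i.2) _, by
        rw [eq_inv_of_mul_eq_one_left hm]
        exact Subgroup.inv_mem _ (torusHom_mem hF _)⟩) :
          xG hF (D.simple i) (m.1 0 0 * m.1 0 1) ∈ (⊥ : Subgroup (GL D.Idx F))))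
    rw [h2, one_mul, torusHom_eq_one_iff] at hm
    have h3 := hm ⟨D.simple j, hF.simple_lt j j.2⟩
    rw [coH_simple hF i.2, chiU_mulSingle i.2, hj, zpow_neg_one, inv_eq_one] at h3
    have ha1 : m.1 0 0 = 1 := congrArg Units.val h3
    have hb : m.1 0 1 = 0 := by
      have := (xG_eq_one_iff hF hp).1 h2
      rwa [ha1, one_mul] at this
    rw [ha1, hc, mul_zero, sub_zero, one_mul] at hd
    apply Subtype.ext
    ext a b
    fin_cases a <;> fin_cases b <;> simp [ha1, hb, hc, hd]
  · exfalso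
    rw [SL2Data.bruhat, if_neg hc] at hm
    set t : F := -(m.1 1 0)⁻¹ with ht
    have ht0 : t ≠ 0 := neg_ne_zero.2 (inv_ne_zero hc)
    set e : F := -(m.1 0 0 / m.1 1 0) + -(m.1 1 1 / m.1 1 0) with he
    have hn : S.n t = xG hF (D.simple i) e := by
      have h1 : S.n t = (S.X (m.1 0 0 / m.1 1 0))⁻¹ * (S.X (m.1 1 1 / m.1 1 0))⁻¹ := by
        rw [← mul_inv_rev, eq_comm, inv_eq_iff_mul_eq_one]
        calc S.X (m.1 1 1 / m.1 1 0) * S.X (m.1 0 0 / m.1 1 0) * S.n t
            = S.X (m.1 1 1 / m.1 1 0) * (S.X (m.1 0 0 / m.1 1 0) * S.n t *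
                S.X (m.1 1 1 / m.1 1 0)) * (S.X (m.1 1 1 / m.1 1 0))⁻¹ := by group
          _ = 1 := by rw [hm]; group
      rw [h1]
      show (xG hF (D.simple i) _)⁻¹ * (xG hF (D.simple i) _)⁻¹ = _
      rw [xG_inv, xG_inv, xG_mul]
    have hn2 : S.n t = nG hF (D.simple i) t := rfl
    have hnp := nG_eq_torus_mul hF i.2 (Units.mk0 t ht0)
    rw [Units.val_mk0, ← hn2, hn] at hnp
    have h1 : xG hF (D.simple i) e * xG hF (D.simple i) (1 : F) =
        xG hF (D.simple i) (1 : F) * xG hF (D.simple i) e := by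
      rw [xG_mul, xG_mul, add_comm]
    obtain ⟨b, hb, hconj⟩ := isMon_mul hF (isMon_torus hF (coH (D.simple i) (Units.mk0 t ht0)))
      (isMon_nS hF i (F := F)) ⟨D.simple i, hp⟩
    have h2 := hconj 1
    rw [← hnp] at h2
    simp only [mul_one] at h2
    rw [h1] at h2
    have h3 := mul_right_cancel h2
    rw [one_mul, wPerm_val] at h3
    simp only [hF.refl_simple i i.2] at h3
    have h4 := (eq_of_x_eq hF hp one_ne_zero (congrArg Units.val h3)).1
    have := (neg_lt_half_iff hF hp).2 (hF.simple_pos i i.2)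
    have := hF.simple_pos i i.2
    omega

theorem sl2Simple_rational (i : Fin D.rank) (M : Subgroup (GL D.Idx F)) (P : F → Prop)
    (hP : ∀ t, P t → xG hF (D.simple i) t ∈ M ∧ xG hF (D.neg (D.simple i)) t ∈ M)
    (hneg : ∀ t, P t → P (-t)) (hinv : ∀ t, P t → P t⁻¹) (hone : P 1)
    (hmul : ∀ s t, P s → P t → P (s * t)) (m : SL(2, F)) (hm : ∀ a b, P (m.1 a b)) :
    (sl2Simple hF i).hom m ∈ M := by
  classical
  set S := sl2Simple hF i (F := F) with hS
  have hn : ∀ t, P t → S.n t ∈ M := fun t ht =>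
    Subgroup.mul_mem _ (Subgroup.mul_mem _ (hP t ht).1 (hP _ (hneg _ (hinv _ ht))).2) (hP t ht).1
  have key : ∀ g : SL(2, F), g.1 1 0 ≠ 0 → P (g.1 0 0) → P (g.1 1 0) → P (g.1 1 1) →
      S.hom g ∈ M := by
    intro g hc ha hc' hd
    show S.bruhat (g.1 0 0) (g.1 0 1) (g.1 1 0) (g.1 1 1) ∈ M
    rw [SL2Data.bruhat, if_neg hc]
    refine Subgroup.mul_mem _ (Subgroup.mul_mem _ ?_ (hn _ (hneg _ (hinv _ hc')))) ?_
    · rw [div_eq_mul_inv]; exact (hP _ (hmul _ _ ha (hinv _ hc'))).1
    · rw [div_eq_mul_inv]; exact (hP _ (hmul _ _ hd (hinv _ hc'))).1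
  by_cases hc : m.1 1 0 = 0
  · have hd := SL2Data.det_eq m
    have hd0 : m.1 1 1 ≠ 0 := by rintro e; rw [e, hc] at hd; simp at hd
    have e10 : (m * SL2Data.weyl).1 1 0 = -m.1 1 1 := by
      rw [Matrix.SpecialLinearGroup.coe_mul]
      simp [SL2Data.weyl, Matrix.mul_apply, Fin.sum_univ_two]
    have e00 : (m * SL2Data.weyl).1 0 0 = -m.1 0 1 := by
      rw [Matrix.SpecialLinearGroup.coe_mul]
      simp [SL2Data.weyl, Matrix.mul_apply, Fin.sum_univ_two]
    have e11 : (m * SL2Data.weyl).1 1 1 = m.1 1 0 := by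
      rw [Matrix.SpecialLinearGroup.coe_mul]
      simp [SL2Data.weyl, Matrix.mul_apply, Fin.sum_univ_two]
    have h1 := key (m * SL2Data.weyl) (by rw [e10]; exact neg_ne_zero.2 hd0)
      (by rw [e00]; exact hneg _ (hm _ _)) (by rw [e10]; exact hneg _ (hm _ _))
      (by rw [e11]; exact hm _ _)
    rw [map_mul] at h1
    refine (Subgroup.mul_mem_cancel_right M ?_).1 h1
    show S.toFun SL2Data.weyl ∈ M
    rw [SL2Data.toFun_weyl]
    exact hn 1 hone
  · exact key m hc (hm _ _) (hm _ _) (hm _ _)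

end Cfsg.Agent.Chev
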