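import Cfsg.Agent.Chev.EigenTorus
import Cfsg.Agent.Chev.TorusCard

/-!
The Sylow subgroups from eigenvectors of Weyl elements.
-/

set_option autoImplicit false
set_option maxHeartbeats 1000000

namespace Cfsg.Agent.Chev

open Cfsg.Lie
open scoped MatrixGroups

universe u

variable {D : ChevalleyDatum} (hF : Facts.{u} D) {F : Type u} [Field F]

omit hF in
theorem torusHom_eq_of_mem_ker_index {cI : ℕ} {A : Fin D.rank → Fin D.rank → ℤ}
    (hA : ∀ i l : Fin D.rank, ∑ j : Fin D.rank, A i j * D.cartan l (D.simple j) =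
      if i = l then (cI : ℤ) else 0) (c : Fin D.rank → Fˣ) (i : Fin D.rank) :
    ∏ j : Fin D.rank, chiU c (D.simple j) ^ A i j = c i ^ cI := by
  have h1 : ∀ j : Fin D.rank, chiU c (D.simple j) ^ A i j =
      ∏ l : Fin D.rank, c l ^ (A i j * D.cartan l (D.simple j)) := fun j => by
    rw [chiU, ← Finset.prod_zpow]
    exact Finset.prod_congr rfl fun l _ => by rw [← zpow_mul, mul_comm]
  simp only [h1]
  rw [Finset.prod_comm]
  simp only [zpow_sum_aux, hA]
  rw [Finset.prod_eq_single i (fun x _ hx => by rw [if_neg (Ne.symm hx), zpow_zero])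
    (fun h => absurd (Finset.mem_univ _) h), if_pos rfl, zpow_natCast]

include hF

theorem exists_fixed_pow_mem_group [Fintype F] {k : Type u} [Field k] (ι : F →+* k) (σ : k →+* k)
    (hσ : ∀ z : k, σ z = z ↔ ∃ a : F, ι a = z) {cI : ℕ} {A : Fin D.rank → Fin D.rank → ℤ}
    (hA : ∀ i l : Fin D.rank, ∑ j : Fin D.rank, A i j * D.cartan l (D.simple j) =
      if i = l then (cI : ℤ) else 0) {y : GL D.Idx k} (hy : y ∈ D.group k)
    (hfix : gmap D σ y = y) : ∃ x ∈ D.group F, gmap D ι x = y ^ cI := by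
  classical
  set S := (D.group F).map (gmap D ι) with hS
  have hX : ∀ (r : ℕ) (t : k), σ t = t → xG hF r t ∈ S := fun r t ht => by
    obtain ⟨a, rfl⟩ := (hσ t).1 ht
    by_cases hr : r < D.nroots
    · exact ⟨xG hF r a, xG_mem_group hF r a, gmap_xG hF hF ι r a⟩
    · rw [xG_of_not_lt hF hr]; exact Subgroup.one_mem _
  obtain ⟨t, t', d, w, ht, ht', hd, rfl⟩ := exists_fixed_normalForm hF σ hy hfix
  have hU : ∀ f : ℕ → k, (∀ r, half D ≤ r → r < D.nroots → σ (f r) = f r) →
      prodFrom hF (half D) f ∈ S := by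
    intro f hf
    suffices ∀ n m, D.nroots - m = n → half D ≤ m → prodFrom hF m f ∈ S from this _ _ rfl le_rfl
    intro n
    induction n with
    | zero => intro m hm _; rw [prodFrom_top hF (by omega)]; exact Subgroup.one_mem _
    | succ n ih =>
      intro m hm hm'
      rw [prodFrom_succ hF (by omega)]
      exact Subgroup.mul_mem _ (hX _ _ (hf m hm' (by omega))) (ih (m + 1) (by omega) (by omega))
  have hN : (nWord hF w : GL D.Idx k) ∈ S :=
    ⟨nWord hF w, monomial_le_group hF (nWord_mem hF w), gmap_nWord hF hF ι w⟩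
  rw [gmap_torusHom] at hd
  have hchi : ∀ s : Fin D.nroots, σ (chiU d (s : ℕ) : k) = chiU d (s : ℕ) := by
    intro s
    have h := congrArg Units.val ((torusHom_eq_iff hF _ _).1 hd s)
    rw [chiU, chiU] at h
    simp only [← map_zpow, ← map_prod] at h
    exact h
  set T : GL D.Idx k := torusHom d with hT
  have hTnorm : ∀ x ∈ S, T * x * T⁻¹ ∈ S := by
    intro x hx
    obtain ⟨x0, hx0, rfl⟩ := hx
    refine ((Subgroup.closure_le _).2 ?_ :
      D.group F ≤ S.comap ((MulAut.conj T).toMonoidHom.comp (gmap D ι))) hx0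
    rintro z ⟨r, a, hz⟩
    obtain rfl : z = xG hF r a :=
      Units.ext (hz.trans (by rw [xG_val, ChevalleyDatum.x, dif_pos r.2]))
    show T * gmap D ι (xG hF r a) * T⁻¹ ∈ S
    rw [gmap_xG hF hF, hT, torusHom_conj hF d r.2, mul_inv_cancel_right]
    exact hX _ _ (by rw [map_mul, hchi r, (hσ _).2 ⟨a, rfl⟩])
  set u := prodFrom hF (half D) t
  set u' := prodFrom hF (half D) t'
  -- the element is `T` times an element over the base field
  have hsplit : ∃ h ∈ S, u * T * nWord hF w * u' = h * T :=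
    ⟨u * (T * (nWord hF w * u') * T⁻¹), Subgroup.mul_mem _ (hU t ht)
      (hTnorm _ (Subgroup.mul_mem _ hN (hU t' ht'))), by group⟩
  obtain ⟨h, hh, e⟩ := hsplit
  rw [e]
  have hpow : ∀ n : ℕ, ∃ h' ∈ S, (h * T) ^ n = h' * T ^ n := by
    intro n
    induction n with
    | zero => exact ⟨1, Subgroup.one_mem _, by simp⟩
    | succ n ih =>
      obtain ⟨h', hh', e'⟩ := ih
      refine ⟨h * (T * h' * T⁻¹), Subgroup.mul_mem _ hh (hTnorm _ hh'), ?_⟩
      rw [pow_succ', e', pow_succ']
      group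
  have hTc : T ^ cI ∈ S := by
    have hrat : ∀ i, ∃ a : Fˣ, Units.map ι.toMonoidHom a = d i ^ cI := by
      intro i
      have hfix : σ ((d i ^ cI : kˣ) : k) = (d i ^ cI : kˣ) := by
        rw [← torusHom_eq_of_mem_ker_index hA d i]
        have : Units.map σ.toMonoidHom (∏ j : Fin D.rank, chiU d (D.simple j) ^ A i j) =
            ∏ j : Fin D.rank, chiU d (D.simple j) ^ A i j := by
          rw [map_prod]
          refine Finset.prod_congr rfl fun j _ => ?_
          rw [map_zpow]
          congr 1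
          exact Units.ext (hchi ⟨D.simple j, hF.simple_lt j j.2⟩)
        exact congrArg Units.val this
      obtain ⟨a, ha⟩ := (hσ _).1 hfix
      have ha0 : a ≠ 0 := fun h0 => Units.ne_zero (d i ^ cI) (by rw [← ha, h0, map_zero])
      exact ⟨Units.mk0 a ha0, Units.ext ha⟩
    choose a ha using hrat
    refine ⟨torusHom a, borel_le_group hF (Subgroup.mem_sup_right (torusHom_mem hF a)), ?_⟩
    rw [gmap_torusHom, hT, ← map_pow]
    congr 1
    funext i
    exact ha i
  obtain ⟨h', hh', e'⟩ := hpow cI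
  obtain ⟨x, hx, hxe⟩ := Subgroup.mul_mem _ hh' hTc
  exact ⟨x, hx, hxe.trans e'.symm⟩

theorem sylow_homocyclic [Fintype F] {q : ℕ} (hq : Fintype.card F = q) (ds : List ℕ)
    {cI : ℕ} {A : Fin D.rank → Fin D.rank → ℤ}
    (hA : ∀ i l : Fin D.rank, ∑ j : Fin D.rank, A i j * D.cartan l (D.simple j) =
      if i = l then (cI : ℤ) else 0)
    {g0 N : ℕ} (hcard : g0 * Nat.card ↥(D.group F) = q ^ N * (ds.map fun e => q ^ e - 1).prod)
    (r : ℕ) [hr : Fact r.Prime] (hrq : ¬ r ∣ q) (hrg0 : ¬ r ∣ g0) (hrc : ¬ r ∣ cI)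
    (hpos : ∀ e ∈ ds, 0 < e) (hrW : ¬ r ∣ ds.prod)
    (certs : List Eigen.Cert) (hchk : ∀ C ∈ certs, C.chk D Eigen.cycTable ds = true)
    (hcov : ∀ e ∈ ds, ∀ d : Fin (e + 1), (d : ℕ) ∣ e → ∃ C ∈ certs, C.d = (d : ℕ))
    (hrG : r ∣ Nat.card ↥(D.group F)) (P : Sylow r ↥(D.group F)) :
    Nonempty (↥(P : Subgroup ↥(D.group F)) ≃*
      (Fin (ds.filter (fun e => orderOf (q : ZMod r) ∣ e)).length →
        Multiplicative (ZMod (r ^ padicValNat r
          ((Polynomial.cyclotomic (orderOf (q : ZMod r)) ℤ).eval (q : ℤ)).natAbs)))) := by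
  classical
  have hq2 : 2 ≤ q := hq ▸ Fintype.one_lt_card
  have hrds : ∀ e ∈ ds, 0 < e ∧ ¬ r ∣ e := fun e he =>
    ⟨hpos e he, fun h => hrW (h.trans (List.dvd_prod he))⟩
  obtain ⟨e0, he0, hde0⟩ : ∃ e ∈ ds, r ∣ q ^ e - 1 := by
    have h : r ∣ q ^ N * (ds.map fun e => q ^ e - 1).prod := hcard ▸ hrG.mul_left g0
    rcases (Nat.Prime.dvd_mul hr.out).1 h with h | h
    · exact absurd (hr.out.dvd_of_dvd_pow h) hrq
    · obtain ⟨x, hx, hrx⟩ := hr.out.prime.dvd_prod_iff.1 h
      obtain ⟨e, he, rfl⟩ := List.mem_map.1 hx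
      exact ⟨e, he, hrx⟩
  set d := orderOf (q : ZMod r) with hd
  have hde : d ∣ e0 := orderOf_dvd_of_pow_eq_one (by
    rw [← ZMod.natCast_eq_zero_iff, Nat.cast_sub (Nat.one_le_pow _ _ (by omega)),
      sub_eq_zero] at hde0
    push_cast at hde0
    exact hde0)
  have hd0 : 0 < d := Nat.pos_of_dvd_of_pos hde (hpos e0 he0)
  obtain ⟨C, hC, hCd⟩ := hcov e0 he0 ⟨d, Nat.lt_succ_of_le (Nat.le_of_dvd (hpos e0 he0) hde)⟩ hde
  simp only at hCd
  have hchkC := hchk C hC
  simp only [Eigen.Cert.chk, Bool.and_eq_true, decide_eq_true_eq, List.all_eq_true,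
    List.mem_finRange, forall_const] at hchkC
  obtain ⟨⟨⟨hlen, hd30⟩, hcdvd⟩, hvec⟩ := hchkC
  set v := padicValNat r ((Polynomial.cyclotomic d ℤ).eval (q : ℤ)).natAbs with hv
  set m := r ^ v with hm
  haveI : NeZero m := ⟨pow_ne_zero _ hr.out.ne_zero⟩
  have hphi : (m : ℤ) ∣ evList (Eigen.cycTable.getD C.d []) (q : ℤ) := by
    rw [← Eigen.cyclotomic_eval_eq (q : ℤ) Eigen.cycTable_spec (by omega) _ (by omega) hd30,
      hCd, Int.natCast_dvd]
    exact pow_padicValNat_dvd
  -- the closed field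
  let k := AlgebraicClosure F
  let ι : F →+* k := algebraMap F k
  let σ : k →+* k := (FiniteField.frobeniusAlgHom F k).toRingHom
  have hσ : ∀ t : k, σ t = t ^ q := fun t => by
    show FiniteField.frobeniusAlgHom F k t = _
    simp [hq]
  have hσι : ∀ a : F, σ (ι a) = ι a := fun a => (FiniteField.frobeniusAlgHom F k).commutes a
  have hrange : ∀ z : k, σ z = z ↔ ∃ a : F, ι a = z := by
    intro z
    refine ⟨fun hz => ?_, fun ⟨a, ha⟩ => ha ▸ hσι a⟩
    rw [hσ] at hz
    open Polynomial in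
    have hroots : z ∈ ((Finset.univ.image ι).val : Multiset k) := by
      have hdeg : ((X : k[X]) ^ q - X).natDegree = q :=
        FiniteField.X_pow_card_sub_X_natDegree_eq k hq2
      have hne : ((X : k[X]) ^ q - X) ≠ 0 := FiniteField.X_pow_card_sub_X_ne_zero k hq2
      have heq : (Finset.univ.image ι).val = ((X : k[X]) ^ q - X).roots := by
        refine Multiset.eq_of_le_of_card_le
          ((Multiset.le_iff_subset (Finset.nodup _)).2 fun x hx => ?_) ?_
        · obtain ⟨a, -, rfl⟩ := Finset.mem_image.1 hx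
          rw [mem_roots hne, IsRoot.def, eval_sub, eval_pow, eval_X, ← map_pow, ← hq,
            FiniteField.pow_card, sub_self]
        · refine le_trans (card_roots' _) ?_
          rw [hdeg, Finset.card_val, Finset.card_image_of_injective _ ι.injective,
            Finset.card_univ, hq]
      rw [heq, mem_roots hne, IsRoot.def, eval_sub, eval_pow, eval_X, hz, sub_self]
    obtain ⟨a, -, ha⟩ := Finset.mem_image.1 hroots
    exact ⟨a, ha⟩
  haveI hmk : NeZero (m : k) := ⟨by
    obtain ⟨p, hp⟩ := CharP.exists F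
    obtain ⟨e, hpr, he⟩ := FiniteField.card F p
    haveI : CharP k p := charP_of_injective_algebraMap ι.injective p
    rw [hm, Nat.cast_pow]
    refine pow_ne_zero _ fun h0 => ?_
    have := (Nat.prime_dvd_prime_iff_eq hpr hr.out).1 ((CharP.cast_eq_zero_iff k p r).1 h0)
    exact hrq (by rw [← hq, he, this]; exact dvd_pow_self _ e.ne_zero)⟩
  obtain ⟨ζ0, hζ0⟩ := HasEnoughRootsOfUnity.exists_primitiveRoot k m
  set ζ : kˣ := (hζ0.isUnit (NeZero.ne m)).unit with hζ
  have hζprim : IsPrimitiveRoot ζ m := IsPrimitiveRoot.coe_units_iff.1 hζ0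
  have hζdvd : ∀ x y : ℤ, ζ ^ x = ζ ^ y ↔ (m : ℤ) ∣ x - y := fun x y => by
    rw [← hζprim.zpow_eq_one_iff_dvd, zpow_sub, mul_inv_eq_one]
  -- the eigenvectors
  let V : Fin C.a → Fin D.rank → ℤ := fun i l => evList (C.poly D i l) q
  let W : (Fin C.a → ℤ) → Fin D.rank → ℤ := fun n l => ∑ i : Fin C.a, n i * V i l
  have hcongr : ∀ n n' : Fin C.a → ℤ, (∀ i, (m : ℤ) ∣ n i - n' i) →
      (fun l => ζ ^ W n l) = fun l => ζ ^ W n' l := fun n n' h => by
    funext l
    rw [hζdvd, ← Finset.sum_sub_distrib]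
    exact Finset.dvd_sum fun i _ => by rw [← sub_mul]; exact dvd_mul_of_dvd_left (h i) _
  let ψ0 : (Fin C.a → Multiplicative (ZMod m)) →* (Fin D.rank → kˣ) :=
    { toFun := fun n l => ζ ^ W (fun i => ((n i).toAdd.val : ℤ)) l
      map_one' := by funext l; simp [W]
      map_mul' := fun n n' => by
        refine Eq.trans (hcongr _ (fun i => ((n i).toAdd.val : ℤ) + ((n' i).toAdd.val : ℤ))
          fun i => ?_) ?_
        · rw [← ZMod.intCast_zmod_eq_zero_iff_dvd]
          simp
        · funext l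
          simp [W, add_mul, Finset.sum_add_distrib, zpow_add] }
  -- twisting
  set w := Eigen.toWord D.rank C.w with hw
  have htwist : ∀ n, wordC D w (fun l => Units.map σ.toMonoidHom (ψ0 n l)) = ψ0 n := by
    intro n
    set z : Fin C.a → ℤ := fun i => ((n i).toAdd.val : ℤ)
    have hu : ∀ x : kˣ, Units.map σ.toMonoidHom x = x ^ q := fun x =>
      Units.ext (by simpa using hσ (x : k))
    rw [show (fun l => Units.map σ.toMonoidHom (ψ0 n l)) = fun l => ζ ^ ((q : ℤ) * W z l) by
        funext l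
        rw [hu]
        show (ζ ^ W z l) ^ q = _
        rw [← zpow_natCast, ← zpow_mul, mul_comm],
      Eigen.wordC_zpow]
    funext l
    show _ = ζ ^ W z l
    rw [hζdvd]
    have hsplit : (fun a => (q : ℤ) * W z a) =
        fun a => ∑ p : Fin C.a × Fin C.f, ((q : ℤ) * z p.1 * (q : ℤ) ^ (p.2 : ℕ)) *
          C.vec D p.1 p.2 a := by
      funext a
      simp only [W, V, Eigen.Cert.poly, evList_ofFn, evFin, Finset.mul_sum, Fintype.sum_prod_type]
      exact Finset.sum_congr rfl fun i _ => Finset.sum_congr rfl fun j _ => by ring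
    rw [hsplit, Eigen.wordV_sum]
    have hmoved : ∑ p : Fin C.a × Fin C.f, ((q : ℤ) * z p.1 * (q : ℤ) ^ (p.2 : ℕ)) *
        Eigen.wordV D w (C.vec D p.1 p.2) l =
        ∑ i : Fin C.a, z i * evList (0 :: C.moved D i l) q := by
      simp only [evList_cons, Eigen.Cert.moved, evList_ofFn, evFin, Finset.mul_sum,
        Fintype.sum_prod_type, zero_add, ← hw]
      exact Finset.sum_congr rfl fun i _ => Finset.sum_congr rfl fun j _ => by ring
    beta_reduce
    rw [hmoved, show W z l = ∑ i : Fin C.a, z i * V i l from rfl, ← Finset.sum_sub_distrib]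
    refine Finset.dvd_sum fun i _ => ?_
    rw [← mul_sub, ← Eigen.ev_subL]
    exact dvd_mul_of_dvd_right (hphi.trans (Eigen.dvd_of_divB _ ((hvec i).1 l))) _
  -- faithfulness
  have hcI : ¬ r ∣ C.c := Eigen.not_dvd_of_dvd_pow hr.out hrW hcdvd
  have hinj : ∀ n, (torusHom (ψ0 n) : GL D.Idx k) = 1 → n = 1 := by
    intro n hn
    set z : Fin C.a → ℤ := fun i => ((n i).toAdd.val : ℤ)
    rw [torusHom_eq_one_iff] at hn
    have hroot : ∀ i : Fin D.rank,
        (m : ℤ) ∣ ∑ a : Fin C.a, z a * evList (C.rootPoly D a i) q := by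
      intro i
      have h1 := hn ⟨D.simple i, hF.simple_lt i i.2⟩
      have h2 : chiU (ψ0 n) (D.simple i) =
          ζ ^ ∑ a : Fin C.a, z a * evList (C.rootPoly D a i) q := by
        show ∏ l : Fin D.rank, (ζ ^ W z l) ^ D.cartan l (D.simple i) = _
        simp only [← zpow_mul, zpow_sum_aux]
        congr 1
        simp only [Eigen.Cert.rootPoly, Eigen.ev_sumL, Eigen.ev_smulL, W, V, Finset.mul_sum,
          Finset.sum_mul]
        rw [Finset.sum_comm]
        exact Finset.sum_congr rfl fun a _ => Finset.sum_congr rfl fun l _ => by ring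
      rw [h2] at h1
      exact (hζprim.zpow_eq_one_iff_dvd _).1 h1
    funext k0
    have hsum : (m : ℤ) ∣ ∑ a : Fin C.a, z a * ((if k0 = a then (C.c : ℤ) else 0)) := by
      have h1 : (m : ℤ) ∣ ∑ a : Fin C.a, z a *
          evList (Eigen.sumL fun i : Fin D.rank =>
            Eigen.mulL ((C.B.getD k0 []).getD i []) (C.rootPoly D a i)) q := by
        simp only [Eigen.ev_sumL, Eigen.ev_mulL, Finset.mul_sum]
        rw [Finset.sum_comm]
        refine Finset.dvd_sum fun i _ => ?_
        have := dvd_mul_of_dvd_right (hroot i) (evList ((C.B.getD k0 []).getD i []) (q : ℤ))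
        rw [Finset.mul_sum] at this
        convert this using 1
        exact Finset.sum_congr rfl fun a _ => by ring
      refine (dvd_iff_dvd_of_dvd_sub ?_).1 h1
      rw [← Finset.sum_sub_distrib]
      refine Finset.dvd_sum fun a _ => ?_
      rw [← mul_sub]
      refine dvd_mul_of_dvd_right ?_ _
      have h3 := Eigen.dvd_of_divB (q : ℤ) ((hvec k0).2 a)
      rw [Eigen.ev_subL] at h3
      have h4 : ∀ x : ℤ, evList [x] (q : ℤ) = x := fun x => by simp [evList]
      rw [h4] at h3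
      exact hphi.trans h3
    rw [Finset.sum_eq_single k0 (fun b _ hb => by rw [if_neg (Ne.symm hb), mul_zero])
      (fun h => absurd (Finset.mem_univ _) h), if_pos rfl] at hsum
    rw [← Int.natAbs_dvd_natAbs, Int.natAbs_mul, Int.natAbs_natCast, Int.natAbs_natCast,
      Int.natAbs_natCast] at hsum
    have hmc : Nat.Coprime m C.c :=
      Nat.Coprime.pow_left _ ((Nat.Prime.coprime_iff_not_dvd hr.out).2 hcI)
    have h5 := Nat.eq_zero_of_dvd_of_lt (hmc.dvd_of_dvd_mul_right hsum) (ZMod.val_lt _)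
    rw [ZMod.val_eq_zero] at h5
    exact Multiplicative.toAdd.injective h5
  -- into the group over the base field
  obtain ⟨g, hg, hgn⟩ := exists_lang hF hq2 σ hσ
    (monomial_le_group hF (nWord_mem hF w) : (nWord hF w : GL D.Idx k) ∈ D.group k)
  let ψ : (Fin C.a → Multiplicative (ZMod m)) →* GL D.Idx k :=
    (MulAut.conj g).toMonoidHom.comp (torusHom.comp ψ0)
  have hψinj : Function.Injective ψ := by
    rw [injective_iff_map_eq_one]
    intro n hn
    exact hinj n ((conj_eq_one_iff).1 hn)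
  have hψfix : ∀ n, gmap D σ (ψ n) = ψ n := by
    intro n
    show gmap D σ (g * torusHom (ψ0 n) * g⁻¹) = g * torusHom (ψ0 n) * g⁻¹
    rw [map_mul, map_mul, map_inv, hgn, gmap_torusHom]
    conv_rhs => rw [← htwist n]
    rw [show torusHom (wordC D w fun l => Units.map σ.toMonoidHom (ψ0 n l)) =
        nWord hF w * torusHom (fun l => Units.map σ.toMonoidHom (ψ0 n l)) *
          (nWord hF w : GL D.Idx k)⁻¹ by rw [← torusHom_wordC hF w, mul_inv_cancel_right]]
    group
  have hψmem : ∀ n, ∃ x ∈ D.group F, gmap D ι x = ψ n := by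
    intro n
    obtain ⟨u, hu⟩ := (ZMod.unitOfCoprime cI
      (Nat.Coprime.pow_right v ((Nat.Prime.coprime_iff_not_dvd hr.out).2 hrc).symm) :
        (ZMod m)ˣ).isUnit
    let n' : Fin C.a → Multiplicative (ZMod m) := fun i =>
      Multiplicative.ofAdd (((u⁻¹ : (ZMod m)ˣ) : ZMod m) * (n i).toAdd)
    have hn' : n' ^ cI = n := by
      funext i
      apply Multiplicative.toAdd.injective
      rw [Pi.pow_apply, toAdd_pow, nsmul_eq_mul]
      show (cI : ZMod m) * (((u⁻¹ : (ZMod m)ˣ) : ZMod m) * (n i).toAdd) = (n i).toAdd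
      rw [← mul_assoc, show (cI : ZMod m) = (u : ZMod m) by rw [hu]; rfl, Units.mul_inv, one_mul]
    rw [← hn', map_pow]
    exact exists_fixed_pow_mem_group hF ι σ hrange hA
      (Subgroup.mul_mem _ (Subgroup.mul_mem _ hg
        (borel_le_group hF (Subgroup.mem_sup_right (torusHom_mem hF _)))) (Subgroup.inv_mem _ hg))
      (hψfix n')
  let gmapG : ↥(D.group F) →* GL D.Idx k := (gmap D ι).comp (D.group F).subtype
  have hgmapG : Function.Injective gmapG :=
    (gmap_injective ι).comp Subtype.coe_injective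
  let Q : Subgroup ↥(D.group F) := ψ.range.comap gmapG
  have hrg : ψ.range ≤ gmapG.range := by
    rintro _ ⟨n, rfl⟩
    obtain ⟨x, hx, e⟩ := hψmem n
    exact ⟨⟨x, hx⟩, e⟩
  let eQ : ↥Q ≃* ↥ψ.range :=
    (Q.equivMapOfInjective gmapG hgmapG).trans
      (MulEquiv.subgroupCongr (Subgroup.map_comap_eq_self hrg))
  let eψ : ↥Q ≃* (Fin C.a → Multiplicative (ZMod m)) :=
    eQ.trans (MonoidHom.ofInjective hψinj).symm
  have hlen' : (ds.filter fun e => d ∣ e).length = C.a := by
    simpa [hCd] using hlen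
  have hQ : Nat.card ↥Q = r ^ (Nat.card ↥(D.group F)).factorization r := by
    rw [Nat.card_congr eψ.toEquiv, Nat.card_fun, Nat.card_fin,
      Nat.card_congr Multiplicative.toAdd, Nat.card_zmod, hm, ← pow_mul,
      Nat.factorization_def _ hr.out]
    congr 1
    have hpad := congrArg (padicValNat r) hcard
    have hg0 : g0 ≠ 0 := fun h => hrg0 (h ▸ dvd_zero r)
    have hG0 : Nat.card ↥(D.group F) ≠ 0 := Nat.card_pos.ne'
    have hP0 : (ds.map fun e => q ^ e - 1).prod ≠ 0 := by
      refine List.prod_ne_zero fun h0 => ?_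
      obtain ⟨x, hx, hx0⟩ := List.mem_map.1 h0
      have := Nat.one_lt_pow (hpos x hx).ne' (show 1 < q by omega)
      omega
    rw [padicValNat.mul hg0 hG0, padicValNat.eq_zero_of_not_dvd hrg0, zero_add,
      padicValNat.mul (pow_ne_zero _ (by omega)) hP0,
      padicValNat.eq_zero_of_not_dvd (fun h => hrq (hr.out.dvd_of_dvd_pow h)), zero_add,
      Eigen.padic_prod hq2 hd.symm hd0 ds hrds, hlen' ] at hpad
    rw [hpad, mul_comm]
  let S := Sylow.ofCard Q hQ
  obtain ⟨e1⟩ : Nonempty (↥(P : Subgroup ↥(D.group F)) ≃* ↥Q) := ⟨P.equiv S⟩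
  rw [hlen']
  exact ⟨e1.trans eψ⟩

end Cfsg.Agent.Chev
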