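import Cfsg.Agent.Chev.Bruhat
import Cfsg.Agent.Chev.Orbits
import Cfsg.Agent.BN.Basic

/-!
Standard parabolic subgroups, their unipotent radicals and normalisers.
-/

set_option autoImplicit false

namespace Cfsg.Agent.Chev

open Cfsg.Lie
open scoped MatrixGroups

universe u

variable {D : ChevalleyDatum} {F : Type u} [Field F] (hF : Facts.{u} D)

open Classical in
/-- The indices in a set. -/
noncomputable def idxSet (D : ChevalleyDatum) (J : Set ℕ) : Finset (Fin D.rank) :=
  Finset.univ.filter fun i => (i : ℕ) ∈ J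

theorem mem_idxSet {J : Set ℕ} {i : Fin D.rank} : i ∈ idxSet D J ↔ (i : ℕ) ∈ J := by
  simp [idxSet]

theorem inRootSub_iff {J : Set ℕ} (r : Fin D.nroots) :
    D.InRootSub J r ↔ ∀ j : Fin D.rank, j ∉ idxSet D J → coef D r j = 0 := by
  simp only [ChevalleyDatum.InRootSub, mem_idxSet]
  exact ⟨fun h j hj => h.2 j j.2 hj, fun h => ⟨r.2, fun i hi hiJ => h ⟨i, hi⟩ hiJ⟩⟩

include hF

theorem coef_nonpos {r : Fin D.nroots} (hr : (r : ℕ) < half D) (j : Fin D.rank) :
    coef D r j ≤ 0 := by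
  have := coef_nonneg hF (negF hF r).2 ((pos_negF_iff hF r).2 hr) (j := j)
  rw [show ((negF hF r : Fin D.nroots) : ℕ) = D.neg r from rfl, hF.coef_neg r r.2 j j.2] at this
  omega

theorem coef_negF (r : Fin D.nroots) (j : Fin D.rank) :
    coef D (negF hF r : ℕ) j = -coef D r j := hF.coef_neg r r.2 j j.2

/-- A Weyl element making exactly the positive roots of `Φ_J` negative. -/
theorem exists_longest_J (J : Finset (Fin D.rank)) : ∃ π ∈ wJ hF J,
    ∀ r : Fin D.nroots, half D ≤ (r : ℕ) →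
      ((π r : ℕ) < half D ↔ ∀ j, j ∉ J → coef D r j = 0) := by
  classical
  obtain ⟨π, hπ, hmax⟩ := Finset.exists_max_image
    (wJ hF J : Set (Equiv.Perm (Fin D.nroots))).toFinite.toFinset invCard
    ⟨1, by simp⟩
  rw [Set.Finite.mem_toFinset, SetLike.mem_coe] at hπ
  have hneg : ∀ i ∈ J, (π (sRoot hF i) : ℕ) < half D := by
    intro i hi
    by_contra hpos
    have hm := hmax (π * wPerm hF i) (by
      rw [Set.Finite.mem_toFinset, SetLike.mem_coe]
      exact Subgroup.mul_mem _ hπ (Subgroup.subset_closure ⟨i, hi, rfl⟩))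
    rw [invCard_eq, invCard_eq] at hm
    have hsub : (invSet π).map (wPerm hF i).toEmbedding ⊂ invSet (π * wPerm hF i) := by
      rw [Finset.ssubset_iff_of_subset]
      · refine ⟨sRoot hF i, ?_, ?_⟩
        · simp only [invSet, Finset.mem_filter, Finset.mem_univ, true_and]
          rw [Equiv.Perm.mul_apply]
          refine ⟨hF.simple_pos i i.2, ?_⟩
          obtain ⟨w, -, rfl⟩ := exists_pWord_J hF hπ
          rw [wPerm_sRoot, pWord_negF]
          exact (neg_lt_half_iff hF (pWord hF w (sRoot hF i)).2).2 (not_lt.1 hpos)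
        · simp only [Finset.mem_map, invSet, Finset.mem_filter, Finset.mem_univ, true_and, not_exists,
            not_and, Equiv.toEmbedding_apply]
          intro r hr e
          have : r = negF hF (sRoot hF i) := by
            have := congrArg (wPerm hF i) e
            rwa [← Equiv.Perm.mul_apply, wPerm_sq, Equiv.Perm.one_apply, wPerm_sRoot] at this
          have h1 := hr.1
          rw [this, pos_negF_iff] at h1
          exact absurd h1 (not_lt.2 (hF.simple_pos i i.2))
      · intro x hx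
        simp only [Finset.mem_map, invSet, Finset.mem_filter, Finset.mem_univ, true_and,
          Equiv.toEmbedding_apply] at hx ⊢
        obtain ⟨r, ⟨h1, h2⟩, rfl⟩ := hx
        have hne : r ≠ sRoot hF i := fun e => hpos (e ▸ h2)
        refine ⟨hF.refl_pos i i.2 r r.2 h1 fun e => hne (Fin.ext e), ?_⟩
        rwa [Equiv.Perm.mul_apply, ← Equiv.Perm.mul_apply (wPerm hF i), wPerm_sq,
          Equiv.Perm.one_apply]
    have := Finset.card_lt_card hsub
    rw [Finset.card_map] at this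
    omega
  refine ⟨π, hπ, fun r hr => ⟨fun h j hj => coef_eq_zero_of_inverted hF hπ hr h hj, fun h => ?_⟩⟩
  by_contra hpos
  obtain ⟨j, hj, hjpos⟩ := (pos_iff_exists_coef hF (π r).2).1 (not_lt.1 hpos)
  obtain ⟨w, -, rfl⟩ := exists_pWord_J hF hπ
  rw [show j = ((⟨j, hj⟩ : Fin D.rank) : ℕ) from rfl, coef_pWord hF w r ⟨j, hj⟩] at hjpos
  refine absurd hjpos (not_lt.2 (Finset.sum_nonpos fun l _ => ?_))
  by_cases hl : l ∈ J
  · exact mul_nonpos_of_nonneg_of_nonpos (coef_nonneg hF r.2 hr) (coef_nonpos hF (hneg l hl) _)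
  · rw [h l hl, zero_mul]

/-- A positive root of `Φ_J` is a conjugate under `W_J` of a fundamental root. -/
theorem exists_conj_simple {J : Finset (Fin D.rank)} : ∀ {w : List (Fin D.rank)},
    (∀ i ∈ w, i ∈ J) → ∀ {r : Fin D.nroots}, half D ≤ (r : ℕ) → (pWord hF w r : ℕ) < half D →
      ∃ v : List (Fin D.rank), (∀ i ∈ v, i ∈ J) ∧ ∃ i ∈ J, pWord hF v (sRoot hF i) = r := by
  intro w
  induction w with
  | nil =>
    intro _ r h1 h2
    exact absurd h2 (not_lt.2 h1)
  | cons a w ih =>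
    intro hw r h1 h2
    obtain ⟨ha, hw⟩ := List.forall_mem_cons.1 hw
    by_cases hpos : half D ≤ (pWord hF w r : ℕ)
    · refine ⟨w.reverse, fun i hi => hw i (List.mem_reverse.1 hi), a, ha, ?_⟩
      have : pWord hF w r = sRoot hF a := by
        by_contra hne
        have := hF.refl_pos a a.2 _ (pWord hF w r).2 hpos fun e => hne (Fin.ext e)
        rw [pWord_cons, Equiv.Perm.mul_apply, wPerm_val] at h2
        omega
      rw [pWord_reverse, ← this]
      exact inv_app _ r
    · exact ih hw h1 (not_le.1 hpos)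

theorem xG_mem_of_conj {M : Subgroup (GL D.Idx F)} {w : List (Fin D.rank)}
    (hn : ∀ i ∈ w, (nS hF (i : ℕ) : GL D.Idx F) ∈ M) {r : Fin D.nroots}
    (hr : ∀ t : F, xG hF r t ∈ M) (t : F) : xG hF (pWord hF w r) t ∈ M := by
  obtain ⟨c, hc, hconj⟩ := isMon_nWord hF w (F := F) r
  have hN : (nWord hF w : GL D.Idx F) ∈ M := Subgroup.list_prod_mem _ fun g hg => by
    obtain ⟨i, hi, rfl⟩ := List.mem_map.1 hg
    exact hn i hi
  have := Subgroup.mul_mem _ (Subgroup.mul_mem _ hN (hr (c⁻¹ * t))) (Subgroup.inv_mem _ hN)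
  rwa [hconj, mul_inv_cancel_right, ← mul_assoc, mul_inv_cancel₀ hc, one_mul] at this

variable (J : Set ℕ)

omit hF in
theorem borel_le_parabolic : D.borelSubgroup F ≤ D.parabolicSubgroup F J := le_sup_left

theorem nS_mem_parabolic {i : Fin D.rank} (hi : i ∈ idxSet D J) :
    (nS hF (i : ℕ) : GL D.Idx F) ∈ D.parabolicSubgroup F J :=
  Subgroup.mem_sup_right (Subgroup.subset_closure ⟨i, mem_idxSet.1 hi, i.2, nG_val hF _ 1⟩)

theorem xG_mem_parabolic (r : Fin D.nroots)
    (hr : half D ≤ (r : ℕ) ∨ D.InRootSub J r) (t : F) :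
    xG hF r t ∈ D.parabolicSubgroup F J := by
  have hposmem : ∀ s : Fin D.nroots, half D ≤ (s : ℕ) → ∀ v : F,
      xG hF s v ∈ D.parabolicSubgroup F J := fun s hs v =>
    borel_le_parabolic J (Subgroup.mem_sup_left (mem_posUnipotent_of hF s.2 hs v))
  by_cases hp : half D ≤ (r : ℕ)
  · exact hposmem r hp t
  have hsub := (inRootSub_iff r).1 (hr.resolve_left hp)
  obtain ⟨π, hπ, hiff⟩ := exists_longest_J hF (idxSet D J)
  have h1 : (π (negF hF r) : ℕ) < half D :=
    (hiff _ ((pos_negF_iff hF r).2 (not_le.1 hp))).2 fun j hj => by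
      rw [coef_negF, hsub j hj, neg_zero]
  obtain ⟨w, hw, rfl⟩ := exists_pWord_J hF hπ
  rw [pWord_negF] at h1
  have h2 : half D ≤ (pWord hF w r : ℕ) := (neg_lt_half_iff hF (pWord hF w r).2).1 h1
  have := xG_mem_of_conj hF (M := D.parabolicSubgroup F J) (w := w.reverse)
    (fun i hi => nS_mem_parabolic hF J (hw i (List.mem_reverse.1 hi))) (hposmem _ h2) t
  rwa [pWord_reverse, inv_app] at this

/-- `P_J` is generated by `H` and root subgroups. -/
theorem parabolic_eq : D.parabolicSubgroup F J = D.diagonalSubgroup F ⊔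
    Subgroup.closure {g : GL D.Idx F | ∃ (r : ℕ) (t : F),
      (D.IsPosRoot r ∨ D.InRootSub J r) ∧ (g : Matrix D.Idx D.Idx F) = D.x F r t} := by
  refine le_antisymm (sup_le (sup_le ((Subgroup.closure_le _).2 ?_) le_sup_left)
    ((Subgroup.closure_le _).2 ?_)) (sup_le (le_trans le_sup_right (borel_le_parabolic J))
      ((Subgroup.closure_le _).2 ?_))
  · rintro g ⟨r, t, hr, e⟩
    exact Subgroup.mem_sup_right (Subgroup.subset_closure ⟨r, t, Or.inl hr, e⟩)
  · rintro g ⟨j, hjJ, hj, e⟩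
    rw [show g = nG hF (D.simple j) 1 from Units.ext (e.trans (nG_val hF _ 1).symm)]
    have hp := hF.simple_lt j hj
    have hin : D.InRootSub J (D.simple j) := ⟨hp, fun i hi hiJ => by
      show coef D (D.simple j) i = 0
      rw [hF.coef_simple j hj i hi, if_neg]
      rintro rfl; exact hiJ hjJ⟩
    have hin' : D.InRootSub J (D.neg (D.simple j)) := ⟨neg_lt hF hp, fun i hi hiJ => by
      show coef D (D.neg (D.simple j)) i = 0
      rw [hF.coef_neg _ hp i hi, show coef D (D.simple j) i = 0 from hin.2 i hi hiJ, neg_zero]⟩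
    refine Subgroup.mem_sup_right (Subgroup.mul_mem _ (Subgroup.mul_mem _ ?_ ?_) ?_) <;>
      refine Subgroup.subset_closure ⟨_, _, Or.inr ?_, rfl⟩
    exacts [hin, hin', hin]
  · rintro g ⟨r, t, hr, e⟩
    have hlt : r < D.nroots := hr.elim And.left And.left
    rw [show g = xG hF r t from Units.ext e]
    exact xG_mem_parabolic hF J ⟨r, hlt⟩ (hr.imp_left ((hF.posRoot_iff r hlt).1 ·)) t

theorem unipotentRadical_eq {π : Equiv.Perm (Fin D.nroots)}
    (hiff : ∀ r : Fin D.nroots, half D ≤ (r : ℕ) →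
      ((π r : ℕ) < half D ↔ ∀ j, j ∉ idxSet D J → coef D r j = 0)) :
    D.unipotentRadical F J = uPlus hF π := by
  refine congrArg Subgroup.closure (Set.ext fun g => ⟨?_, ?_⟩)
  · rintro ⟨r, t, hr, hn, e⟩
    refine ⟨⟨r, hr.1⟩, t, (hF.posRoot_iff r hr.1).1 hr, ?_, Units.ext e⟩
    by_contra hlt
    exact hn ((inRootSub_iff ⟨r, hr.1⟩).2
      ((hiff _ ((hF.posRoot_iff r hr.1).1 hr)).1 (not_le.1 hlt)))
  · rintro ⟨r, t, h1, h2, rfl⟩
    exact ⟨r, t, (hF.posRoot_iff r r.2).2 h1,
      fun h => absurd ((hiff r h1).2 ((inRootSub_iff r).1 h)) (not_lt.2 h2), rfl⟩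

theorem mem_uPlus_iff {n : GL D.Idx F} {π : Equiv.Perm (Fin D.nroots)} (hn : IsMon hF n π)
    {g : GL D.Idx F} :
    g ∈ uPlus hF π ↔ g ∈ D.posUnipotent F ∧ n * g * n⁻¹ ∈ D.posUnipotent F := by
  refine ⟨fun h => ⟨closure_uGens_le hF _ h, conj_uPlus hF hn h⟩, fun ⟨h1, h2⟩ => ?_⟩
  obtain ⟨a, ha, b, hb, rfl⟩ := posUnipotent_split hF π h1
  have hb1 : n * b * n⁻¹ ∈ D.posUnipotent F := by
    rw [show n * b * n⁻¹ = (n * a * n⁻¹)⁻¹ * (n * (a * b) * n⁻¹) by group]
    exact Subgroup.mul_mem _ (Subgroup.inv_mem _ (conj_uPlus hF hn ha)) h2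
  have := borel_inf_upper hF (Subgroup.mem_sup_left hb1)
    (negUnipotent_le_upperGroup hF (conj_uMinus hF hn hb))
  rw [conj_eq_one_iff.1 this, mul_one]
  exact ha

/-- The longest element of `W_J` sends the fundamental roots of `J` to negatives of fundamental
roots. -/
theorem longest_J_simple {K : Finset (Fin D.rank)} {π : Equiv.Perm (Fin D.nroots)}
    (hπ : π ∈ wJ hF K) (hiff : ∀ r : Fin D.nroots, half D ≤ (r : ℕ) →
      ((π r : ℕ) < half D ↔ ∀ j, j ∉ K → coef D r j = 0)) {i : Fin D.rank} (hi : i ∈ K) :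
    ∃ l : Fin D.rank, π (sRoot hF i) = negF hF (sRoot hF l) := by
  have hsimp : ∀ l ∈ K, ∀ j, j ∉ K → coef D (sRoot hF l : ℕ) j = 0 := fun l hl j hj => by
    show coef D (D.simple l) j = 0
    rw [hF.coef_simple l l.2 j j.2, if_neg]
    intro e; exact hj ((Fin.ext e : j = l) ▸ hl)
  have hinvneg : ∀ l ∈ K, (π⁻¹ (sRoot hF l) : ℕ) < half D := by
    intro l hl
    by_contra hpos
    have h := (hiff (π⁻¹ (sRoot hF l)) (not_lt.1 hpos)).2 fun j hj => by
      rw [coef_of_not_mem hF (Subgroup.inv_mem _ hπ) _ hj]; exact hsimp l hl j hj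
    rw [app_inv] at h
    exact absurd h (not_lt.2 (hF.simple_pos l l.2))
  set s := negF hF (π (sRoot hF i)) with hs
  have hspos : half D ≤ (s : ℕ) :=
    (pos_negF_iff hF _).2 ((hiff _ (hF.simple_pos i i.2)).2 (hsimp i hi))
  have hsK : ∀ j, j ∉ K → coef D s j = 0 := fun j hj => by
    rw [hs, coef_negF, coef_of_not_mem hF hπ _ hj, hsimp i hi j hj, neg_zero]
  obtain ⟨w, -, hw⟩ := exists_pWord_J hF (Subgroup.inv_mem _ hπ)
  have himg : π⁻¹ s = negF hF (sRoot hF i) := by
    rw [hs, ← hw, pWord_negF, hw, inv_app]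
  -- each coordinate of the image
  have hsum : ∑ l : Fin D.rank, coef D s l * (∑ j : Fin D.rank, coef D (π⁻¹ (sRoot hF l) : ℕ) j) =
      -1 := by
    simp only [Finset.mul_sum]
    rw [Finset.sum_comm]
    have : ∀ j : Fin D.rank, ∑ l : Fin D.rank, coef D s l * coef D (π⁻¹ (sRoot hF l) : ℕ) j =
        if j = i then -1 else 0 := by
      intro j
      rw [← hw, ← coef_pWord hF w s j, hw, himg, coef_negF]
      show -coef D (D.simple i) j = _
      rw [hF.coef_simple i i.2 j j.2]
      by_cases e : j = i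
      · subst e; simp
      · rw [if_neg fun e' => e (Fin.ext e'), if_neg e, neg_zero]
    rw [Finset.sum_congr rfl fun j _ => this j]
    simp
  have hh : ∀ l ∈ K, (∑ j : Fin D.rank, coef D (π⁻¹ (sRoot hF l) : ℕ) j) ≤ -1 := by
    intro l hl
    obtain ⟨j, hj, hne⟩ := hF.coef_unit (F := AuxF.{u}) (π⁻¹ (sRoot hF l)).2
    have hle : ∀ m : Fin D.rank, coef D (π⁻¹ (sRoot hF l) : ℕ) m ≤ 0 :=
      coef_nonpos hF (hinvneg l hl)
    have hne' : coef D (π⁻¹ (sRoot hF l) : ℕ) j ≠ 0 := fun e => hne (by rw [e, Int.cast_zero])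
    have h1 := hle ⟨j, hj⟩
    have h2 := Finset.single_le_sum (f := fun m : Fin D.rank => -coef D (π⁻¹ (sRoot hF l) : ℕ) m)
      (fun m _ => by have := hle m; omega) (Finset.mem_univ (⟨j, hj⟩ : Fin D.rank))
    rw [Finset.sum_neg_distrib] at h2
    simp only at h1 h2
    omega
  have hterm : ∀ l : Fin D.rank,
      coef D s l * (∑ j : Fin D.rank, coef D (π⁻¹ (sRoot hF l) : ℕ) j) ≤ -coef D s l := by
    intro l
    by_cases hl : l ∈ K
    · have := mul_le_mul_of_nonneg_left (hh l hl) (coef_nonneg hF s.2 hspos (j := l))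
      linarith
    · rw [hsK l hl]; simp
  have hone : (∑ l : Fin D.rank, coef D s l) ≤ 1 := by
    have := Finset.sum_le_sum fun l (_ : l ∈ Finset.univ) => hterm l
    rw [hsum, Finset.sum_neg_distrib] at this
    linarith
  obtain ⟨l, hl, hlpos⟩ := (pos_iff_exists_coef hF s.2).1 hspos
  refine ⟨⟨l, hl⟩, ?_⟩
  have hnn : ∀ m ∈ Finset.univ, (0 : ℤ) ≤ coef D s ((m : Fin D.rank) : ℕ) := fun m _ =>
    coef_nonneg hF s.2 hspos
  have hother : ∀ m : Fin D.rank, (m : ℕ) ≠ l → coef D s m = 0 := by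
    intro m hm
    have h2 : coef D s l + coef D s m ≤ ∑ x : Fin D.rank, coef D s x := by
      rw [show coef D s l = coef D s ((⟨l, hl⟩ : Fin D.rank) : ℕ) from rfl,
        ← Finset.sum_pair (f := fun x : Fin D.rank => coef D s x)
          (show (⟨l, hl⟩ : Fin D.rank) ≠ m from fun e => hm (congrArg Fin.val e).symm)]
      exact Finset.sum_le_sum_of_subset_of_nonneg (Finset.subset_univ _) fun x hx _ => hnn x hx
    have := hnn m (Finset.mem_univ _)
    omega
  have hl1 : coef D s l = 1 := by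
    have := Finset.single_le_sum hnn (Finset.mem_univ (⟨l, hl⟩ : Fin D.rank))
    simp only at this
    omega
  have hsl : s = sRoot hF ⟨l, hl⟩ := by
    by_contra hne
    have hp := hF.refl_pos l hl s s.2 hspos fun e => hne (Fin.ext e)
    obtain ⟨m, hm, hmpos⟩ := (pos_iff_exists_coef hF (hF.refl_lt l hl s s.2)).1 hp
    rw [hF.coef_refl l hl s s.2 m hm] at hmpos
    by_cases e : m = l
    · subst e
      rw [if_pos rfl, Finset.sum_eq_single (⟨m, hl⟩ : Fin D.rank)] at hmpos
      · simp only [hl1, hF.cartan_self m hl] at hmpos; omega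
      · intro x _ hx
        rw [hother x fun e' => hx (Fin.ext e'), zero_mul]
      · intro h; exact absurd (Finset.mem_univ _) h
    · rw [if_neg e, sub_zero, show m = ((⟨m, hm⟩ : Fin D.rank) : ℕ) from rfl,
        hother ⟨m, hm⟩ e] at hmpos
      omega
  rw [← hsl, hs, negF_negF]

theorem parabolic_le_normalizer :
    D.parabolicSubgroup F J ≤ Subgroup.normalizer (D.unipotentRadical F J : Set (GL D.Idx F)) := by
  obtain ⟨π, hπ, hiff⟩ := exists_longest_J hF (idxSet D J)
  set N := Subgroup.normalizer (D.unipotentRadical F J : Set (GL D.Idx F)) with hN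
  have hUJ := unipotentRadical_eq hF J hiff (F := F)
  -- monomial elements of `J` and torus elements permute the generators
  have hmon : ∀ (g : GL D.Idx F) (σ : Equiv.Perm (Fin D.nroots)), IsMon hF g σ → σ ∈ wJ hF (idxSet D J) →
      ∀ x ∈ uGens hF (fun r => half D ≤ (π r : ℕ)) (F := F),
        g * x * g⁻¹ ∈ Subgroup.closure (uGens hF fun r => half D ≤ (π r : ℕ)) := by
    rintro g σ hg hσ x ⟨r, t, h1, h2, rfl⟩
    obtain ⟨v, hv⟩ := isMon_conj_mem hF hg r t
    rw [hv]
    refine Subgroup.subset_closure ⟨σ r, v, ?_, ?_, rfl⟩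
    · by_contra hneg
      exact absurd ((hiff r h1).2 fun j hj =>
        coef_eq_zero_of_inverted hF hσ h1 (not_le.1 hneg) hj) (not_lt.2 h2)
    · by_contra hneg
      have hσr : half D ≤ (σ r : ℕ) := by
        by_contra hneg'
        exact absurd ((hiff r h1).2 fun j hj =>
          coef_eq_zero_of_inverted hF hσ h1 (not_le.1 hneg') hj) (not_lt.2 h2)
      refine absurd ((hiff r h1).2 fun j hj => ?_) (not_lt.2 h2)
      rw [← coef_of_not_mem hF hσ r hj]
      exact (hiff (σ r) hσr).1 (not_le.1 hneg) j hj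
  have hn : ∀ i ∈ idxSet D J, (nS hF (i : ℕ) : GL D.Idx F) ∈ N := by
    intro i hi
    rw [hN, hUJ]
    have hw : wPerm hF i ∈ wJ hF (idxSet D J) := Subgroup.subset_closure ⟨i, hi, rfl⟩
    refine mem_normalizer_closure (hmon _ _ (isMon_nS hF i) hw) ?_
    obtain ⟨c, hc⟩ := nS_inv hF i (F := F)
    have hinv := isMon_mul hF (isMon_nS hF i (F := F)) (isMon_torus hF c)
    rw [← hc, mul_one] at hinv
    intro x hx
    have := hmon _ _ hinv hw x hx
    rwa [inv_inv] at this
  have hH : ∀ c, (torusHom c : GL D.Idx F) ∈ N := by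
    intro c
    rw [hN, hUJ]
    refine mem_normalizer_closure (hmon _ _ (isMon_torus hF c) (Subgroup.one_mem _)) ?_
    intro x hx
    have := hmon _ _ (isMon_torus hF c⁻¹) (Subgroup.one_mem _) x hx
    rwa [map_inv, inv_inv] at this
  have hx : ∀ i ∈ idxSet D J, ∀ t : F, xG hF (sRoot hF i) t ∈ N := by
    intro i hi
    obtain ⟨w, hw, e⟩ := exists_pWord_J hF hπ
    have hmonπ := isMon_nWord hF w (F := F)
    rw [e] at hmonπ
    obtain ⟨l, hl⟩ := longest_J_simple hF hπ hiff hi
    have hfwd : ∀ (t : F) (g : GL D.Idx F), g ∈ uPlus hF π →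
        xG hF (sRoot hF i) t * g * (xG hF (sRoot hF i) t)⁻¹ ∈ uPlus hF π := by
      intro t g hg
      rw [mem_uPlus_iff hF hmonπ]
      have hxU := mem_posUnipotent_of hF (sRoot hF i).2 (hF.simple_pos i i.2) t
      refine ⟨Subgroup.mul_mem _ (Subgroup.mul_mem _ hxU (closure_uGens_le hF _ hg))
        (Subgroup.inv_mem _ hxU), ?_⟩
      obtain ⟨v, hv⟩ := isMon_conj_mem hF hmonπ (sRoot hF i) t
      rw [hl] at hv
      have hh : nWord hF w * g * (nWord hF w)⁻¹ ∈
          Subgroup.closure (otherRoots hF l (F := F)) := by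
        refine conj_uGens_le hF hmonπ (fun r hr hr' t => ?_) hg
        refine Subgroup.subset_closure ⟨π r, t, (π r).2, hr', fun e' => ?_, rfl⟩
        have e2 : π r = negF hF (π (sRoot hF i)) := by
          rw [hl, negF_negF]; exact Fin.ext e'
        rw [← e, ← pWord_negF] at e2
        have e3 := (pWord hF w).injective e2
        rw [e3, pos_negF_iff] at hr
        exact absurd hr (not_lt.2 (hF.simple_pos i i.2))
      have := (Subgroup.mem_normalizer_iff.1 (simple_mem_normalizer hF l.2 v).2 _).1 hh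
      refine otherRoots_le hF l ?_
      rw [show nWord hF w * (xG hF (sRoot hF i) t * g * (xG hF (sRoot hF i) t)⁻¹) * (nWord hF w)⁻¹ =
        (nWord hF w * xG hF (sRoot hF i) t * (nWord hF w)⁻¹) * (nWord hF w * g * (nWord hF w)⁻¹) *
          (nWord hF w * xG hF (sRoot hF i) t * (nWord hF w)⁻¹)⁻¹ by group, hv]
      exact this
    intro t
    rw [hN, hUJ, Subgroup.mem_normalizer_iff]
    refine fun g => ⟨hfwd t g, fun h => ?_⟩
    have := hfwd (-t) _ h
    rw [← xG_inv, inv_inv] at this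
    simpa [mul_assoc] using this
  refine sup_le (sup_le ((Subgroup.closure_le _).2 ?_) ?_) ((Subgroup.closure_le _).2 ?_)
  · rintro g ⟨r, t, hr, e⟩
    have hpos := (hF.posRoot_iff r hr.1).1 hr
    rw [show g = xG hF r t from Units.ext e]
    by_cases hsub : D.InRootSub J r
    · have hneg := (hiff ⟨r, hr.1⟩ hpos).2 ((inRootSub_iff ⟨r, hr.1⟩).1 hsub)
      obtain ⟨w, hw, e'⟩ := exists_pWord_J hF hπ
      rw [← e'] at hneg
      obtain ⟨v, hv, i, hi, hvi⟩ := exists_conj_simple hF hw hpos hneg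
      have := xG_mem_of_conj hF (M := N) (fun a ha => hn a (hv a ha)) (hx i hi) t
      rwa [hvi] at this
    · exact Subgroup.le_normalizer (Subgroup.subset_closure ⟨r, t, hr, hsub, rfl⟩)
  · intro g hg
    obtain ⟨c, rfl⟩ := (mem_diagonal_iff hF).1 hg
    exact hH c
  · rintro g ⟨j, hjJ, hj, e⟩
    rw [show g = nS hF j from Units.ext (e.trans (nG_val hF _ 1).symm)]
    exact hn ⟨j, hj⟩ (mem_idxSet.2 hjJ)

theorem radical_sup_levi :
    D.unipotentRadical F J ⊔ D.leviSubgroup F J = D.parabolicSubgroup F J := by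
  refine le_antisymm (sup_le ((Subgroup.closure_le _).2 ?_) (sup_le
    (le_trans le_sup_right (borel_le_parabolic J)) ((Subgroup.closure_le _).2 ?_))) ?_
  · rintro g ⟨r, t, hr, -, e⟩
    exact borel_le_parabolic J (Subgroup.mem_sup_left (Subgroup.subset_closure ⟨r, t, hr, e⟩))
  · rintro g ⟨r, t, hr, e⟩
    rw [show g = xG hF r t from Units.ext e]
    exact xG_mem_parabolic hF J ⟨r, hr.1⟩ (Or.inr hr) t
  · rw [parabolic_eq hF]
    refine sup_le (le_sup_of_le_right le_sup_left) ((Subgroup.closure_le _).2 ?_)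
    rintro g ⟨r, t, hr, e⟩
    by_cases hsub : D.InRootSub J r
    · exact Subgroup.mem_sup_right
        (Subgroup.mem_sup_right (Subgroup.subset_closure ⟨r, t, hsub, e⟩))
    · exact Subgroup.mem_sup_left
        (Subgroup.subset_closure ⟨r, t, hr.resolve_right hsub, hsub, e⟩)

theorem normalizer_radical :
    Subgroup.normalizer (D.unipotentRadical F J : Set (GL D.Idx F)) ⊓ D.group F =
      D.parabolicSubgroup F J := by
  set N := Subgroup.normalizer (D.unipotentRadical F J : Set (GL D.Idx F)) with hN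
  have hPG : D.parabolicSubgroup F J ≤ D.group F := by
    refine sup_le (borel_le_group hF) ((Subgroup.closure_le _).2 ?_)
    rintro g ⟨j, -, -, e⟩
    rw [show g = nG hF (D.simple j) 1 from Units.ext (e.trans (nG_val hF _ 1).symm)]
    exact nG_mem_group hF _ _
  refine le_antisymm ?_ (le_inf (parabolic_le_normalizer hF J) hPG)
  intro g hg
  obtain ⟨hgN, hgG⟩ := Subgroup.mem_inf.1 hg
  set M := N.subgroupOf (D.group F) with hM
  have hBM : (bnPair hF (F := F)).B ≤ M := fun x hx => Subgroup.mem_subgroupOf.2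
    (parabolic_le_normalizer hF J (borel_le_parabolic J (Subgroup.mem_subgroupOf.1 hx)))
  have hMP : M ≤ (D.parabolicSubgroup F J).subgroupOf (D.group F) := by
    rw [BN.eq_parabolic hBM, BNPair.parabolic]
    refine sup_le (fun x hx => Subgroup.mem_subgroupOf.2
      (borel_le_parabolic J (Subgroup.mem_subgroupOf.1 hx))) ((Subgroup.closure_le _).2 ?_)
    rintro x ⟨⟨i, rfl⟩, hxM⟩
    have hni : (nS hF (i : ℕ) : GL D.Idx F) ∈ N := Subgroup.mem_subgroupOf.1 hxM
    refine Subgroup.mem_subgroupOf.2 ?_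
    by_cases hiJ : (i : ℕ) ∈ J
    · exact nS_mem_parabolic hF J (mem_idxSet.2 hiJ)
    exfalso
    have hp := hF.simple_lt i i.2
    have hx : xG hF (D.simple i) (1 : F) ∈ D.unipotentRadical F J :=
      Subgroup.subset_closure ⟨D.simple i, 1, (hF.posRoot_iff _ hp).2 (hF.simple_pos i i.2),
        fun h => by
          have h0 : coef D (D.simple i) i = 0 := h.2 i i.2 hiJ
          rw [hF.coef_simple i i.2 i i.2, if_pos rfl] at h0
          exact one_ne_zero h0, rfl⟩
    have h2 := (Subgroup.mem_normalizer_iff.1 hni _).1 hx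
    rw [nS_conj_x hF i.2 hp, mul_inv_cancel_right, hF.refl_simple i i.2, mul_one] at h2
    have hUJ : D.unipotentRadical F J ≤ D.borelSubgroup F := by
      refine le_trans ((Subgroup.closure_le _).2 ?_) (le_sup_left : D.posUnipotent F ≤ _)
      rintro y ⟨r, t, hr, -, e⟩
      exact Subgroup.subset_closure ⟨r, t, hr, e⟩
    have h3 := borel_inf_upper hF (hUJ h2) (negUnipotent_le_upperGroup hF
      (mem_negUnipotent_of hF (neg_lt hF hp) ((neg_lt_half_iff hF hp).2 (hF.simple_pos i i.2)) _))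
    exact left_ne_zero_of_mul_eq_one (etaN_cast_sq hF i.2 hp)
      ((xG_eq_one_iff hF (neg_lt hF hp)).1 h3)
  exact Subgroup.mem_subgroupOf.1 (hMP (x := ⟨g, hgG⟩) hgN)

omit J in
/-- Two elements of `H` conjugate in the group are conjugate in `N`. -/
theorem diagonal_conj {h₁ h₂ g : GL D.Idx F} (h1 : h₁ ∈ D.diagonalSubgroup F)
    (h2 : h₂ ∈ D.diagonalSubgroup F) (hg : g ∈ D.group F) (hc : g * h₁ * g⁻¹ = h₂) :
    ∃ n ∈ D.monomialSubgroup F, n * h₁ * n⁻¹ = h₂ := by
  obtain ⟨b, hb, w, x, hx, rfl⟩ := exists_normalForm hF hg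
  set n := (nWord hF w : GL D.Idx F) with hn
  have hnN : n ∈ D.monomialSubgroup F := nWord_mem hF w
  refine ⟨n, hnN, ?_⟩
  have hπ : monPerm hF n = pWord hF w := monPerm_eq hF (isMon_nWord hF w)
  obtain ⟨c, rfl⟩ := (mem_diagonal_iff hF).1 h1
  obtain ⟨c', hc'⟩ := nWord_torus hF w c (F := F)
  obtain ⟨d, rfl⟩ := (mem_diagonal_iff hF).1 h2
  have hx' : (torusHom c)⁻¹ * x * torusHom c ∈ uMinus hF (pWord hF w) (F := F) := by
    have := conj_uGens_le hF (isMon_torus hF c⁻¹ (F := F))
      (M := uMinus hF (pWord hF w))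
      (fun r h1 h2 t => Subgroup.subset_closure ⟨r, t, h1, h2, rfl⟩) hx
    simpa using this
  have hH : ∀ e : Fin D.rank → Fˣ, (torusHom e : GL D.Idx F) ∈ D.borelSubgroup F := fun e =>
    Subgroup.mem_sup_right (torusHom_mem hF e)
  have heq : (b * torusHom c') * n * ((torusHom c)⁻¹ * x * torusHom c) =
      (torusHom d * b) * n * x := by
    have h : b * n * x * torusHom c = torusHom d * (b * n * x) := by
      rw [← hc]; group
    calc (b * torusHom c') * n * ((torusHom c)⁻¹ * x * torusHom c)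
        = b * (torusHom c' * n) * ((torusHom c)⁻¹ * x * torusHom c) := by group
      _ = b * n * x * torusHom c := by rw [hn, ← hc']; group
      _ = _ := by rw [h]; group
  obtain ⟨e1, -⟩ := (normalForm_unique hF (Subgroup.mul_mem _ hb (hH c'))
    (Subgroup.mul_mem _ (hH d) hb) hnN hnN (hπ.symm ▸ hx') (hπ.symm ▸ hx) heq).2 rfl
  rw [show n * torusHom c * n⁻¹ = torusHom c' by rw [hc', mul_inv_cancel_right]]
  obtain ⟨v, hv, a, rfl⟩ := (mem_borel_iff hF).1 hb
  have hconj : torusHom d * v * (torusHom d)⁻¹ ∈ D.posUnipotent F :=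
    (Subgroup.mem_normalizer_iff.1 (torusHom_mem_normalizer hF d) v).1 hv
  have e2 : v⁻¹ * (torusHom d * v * (torusHom d)⁻¹) = torusHom c' * (torusHom d)⁻¹ := by
    have e3 : (torusHom a : GL D.Idx F) * torusHom c' = torusHom c' * torusHom a := by
      rw [← map_mul, ← map_mul, mul_comm]
    rw [mul_assoc v, e3, ← mul_assoc v, ← mul_assoc (torusHom d)] at e1
    rw [← mul_right_cancel e1]
    group
  have e5 : v⁻¹ * (torusHom d * v * (torusHom d)⁻¹) ∈
      D.posUnipotent F ⊓ D.diagonalSubgroup F :=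
    ⟨Subgroup.mul_mem _ (Subgroup.inv_mem _ hv) hconj, e2 ▸ Subgroup.mul_mem _
      (torusHom_mem hF c') (Subgroup.inv_mem _ (torusHom_mem hF d))⟩
  rw [posUnipotent_inf_diagonal hF, Subgroup.mem_bot, e2] at e5
  exact mul_inv_eq_one.1 e5

end Cfsg.Agent.Chev
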