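import Cfsg.Agent.Chev.TopRoot
import Cfsg.Agent.Chev.Parabolic

/-!
The centraliser of the root element `x_r(1)` of the last root in characteristic two.
-/

set_option autoImplicit false

namespace Cfsg.Agent.Chev

open Cfsg.Lie
open scoped MatrixGroups

universe u

variable {D : ChevalleyDatum}

/-- The pairing of the coroot of `r` with the root `s`. -/
def pairing (D : ChevalleyDatum) (r s : ℕ) : ℤ :=
  ∑ j : Fin D.rank, coef D r j * D.cartan j s

variable (hF : Facts.{u} D)
include hF

theorem pairing_refl (i : Fin D.rank) (r s : Fin D.nroots) :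
    pairing D (D.reflectRoot i r) (D.reflectRoot i s) = pairing D r s := by
  have hP : ∑ k : Fin D.rank, coef D r k * D.cartan k (D.simple i) = pairing D r (D.simple i) := rfl
  have e : ∀ j : Fin D.rank, coef D (D.reflectRoot i r) j * D.cartan j (D.reflectRoot i s) =
      coef D r j * D.cartan j s - D.cartan i s * (coef D r j * D.cartan j (D.simple i)) -
      if j = i then pairing D r (D.simple i) *
        (D.cartan i s - D.cartan i s * D.cartan i (D.simple i)) else 0 := by
    intro j
    rw [hF.coef_refl i i.2 r r.2 j j.2, hF.cartan_refl i i.2 s s.2 j j.2, hP]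
    by_cases h : j = i
    · subst h; rw [if_pos rfl, if_pos rfl]; ring
    · rw [if_neg h, if_neg (fun e => h (Fin.ext e))]; ring
  simp only [pairing] at e ⊢
  simp only [e, Finset.sum_sub_distrib, Finset.sum_ite_eq', Finset.mem_univ, if_true, ← Finset.mul_sum]
  rw [hF.cartan_self i i.2]
  ring

theorem pairing_pWord (w : List (Fin D.rank)) (r s : Fin D.nroots) :
    pairing D (pWord hF w r : ℕ) (pWord hF w s : ℕ) = pairing D r s := by
  induction w with
  | nil => rfl
  | cons i w ih =>
    simp only [pWord_cons, Equiv.Perm.mul_apply, wPerm_val]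
    rw [pairing_refl hF, ih]

theorem pairing_simple (i : Fin D.rank) (s : ℕ) : pairing D (D.simple i) s = D.cartan i s := by
  rw [pairing, Finset.sum_eq_single i]
  · rw [hF.coef_simple i i.2 i i.2, if_pos rfl, one_mul]
  · intro j _ hj
    rw [hF.coef_simple i i.2 j j.2, if_neg (fun e => hj (Fin.ext e)), zero_mul]
  · intro h; exact absurd (Finset.mem_univ _) h

/-- The stabiliser of a dominant root is generated by the fundamental reflections fixing it. -/
theorem stab_dominant {r : Fin D.nroots} (hdom : ∀ j : Fin D.rank, 0 ≤ D.cartan j r) :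
    ∀ (n : ℕ) (w : List (Fin D.rank)), w.length = n → pWord hF w r = r →
      ∃ v : List (Fin D.rank), (∀ i ∈ v, D.cartan i r = 0) ∧ pWord hF w = pWord hF v := by
  intro n
  induction n using Nat.strong_induction_on with
  | _ n ih =>
    intro w hn hw
    by_cases h1 : pWord hF w = 1
    · exact ⟨[], by simp, h1⟩
    obtain ⟨i, hi⟩ : ∃ i, (pWord hF w (sRoot hF i) : ℕ) < half D := by
      by_contra h
      exact h1 (eq_one_of_pos hF (pWord_mem hF w) fun i => not_lt.1 fun hi => h ⟨i, hi⟩)
    have hA : D.cartan i r = 0 := by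
      refine le_antisymm ?_ (hdom i)
      have e := pairing_pWord hF w (sRoot hF i) r
      rw [hw, show ((sRoot hF i : Fin D.nroots) : ℕ) = D.simple i from rfl,
        pairing_simple hF] at e
      rw [← e]
      exact Finset.sum_nonpos fun j _ =>
        mul_nonpos_of_nonpos_of_nonneg (coef_nonpos hF hi j) (hdom j)
    have hfix : wPerm hF i r = r := by
      apply Fin.ext
      have h2 := hF.cartan_self i i.2
      have h3 := hF.cartan_neg (D.simple i) (hF.simple_lt i i.2) i i.2
      have hne : (r : ℕ) ≠ D.simple i := fun e => by rw [← e, hA] at h2; omega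
      have hne' : (r : ℕ) ≠ D.neg (D.simple i) := fun e => by rw [← e, hA, h2] at h3; omega
      rw [wPerm_val, ChevalleyDatum.reflectRoot]
      simp [hne, hne', hA]
    obtain ⟨u, j, v, hwuv, hp⟩ := exchange_perm hF w i hi
    have hfix' : pWord hF (u ++ v) r = r := by
      rw [← hp, Equiv.Perm.mul_apply, hfix, hw]
    obtain ⟨v', hv', hvp⟩ := ih _ (by rw [← hn, hwuv]; simp) (u ++ v) rfl hfix'
    refine ⟨v' ++ [i], ?_, ?_⟩
    · intro x hx
      rcases List.mem_append.1 hx with hx | hx
      · exact hv' x hx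
      · rw [List.mem_singleton.1 hx]; exact hA
    · rw [pWord_append, show pWord hF [i] = wPerm hF i by simp [pWord], ← hvp, ← hp, mul_assoc,
        wPerm_sq, mul_one]

variable {F : Type u} [Field F]

/-- The centraliser of the element `x_r(1)` of the last root `r`, in characteristic two. -/
theorem centralizer_top [CharP F 2] (l : List ℕ) (k : Fin D.rank)
    (hl : ∀ s ∈ l, s < D.nroots ∧ commutesChk D (D.nroots - 1) s = true)
    (hk : D.cartan k (D.nroots - 1) = 1)
    (hJ : ∀ j : Fin D.rank, j ≠ k →
      D.cartan j (D.nroots - 1) = 0 ∧ D.neg (D.simple j) ∈ l)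
    {t : GL D.Idx F} (ht : (t : Matrix D.Idx D.Idx F) = D.x F (D.nroots - 1) 1) :
    D.group F ⊓ Subgroup.centralizer {t} = D.posUnipotent F ⊔
      Subgroup.closure {g : GL D.Idx F | ∃ s ∈ l, ∃ c : F,
        (g : Matrix D.Idx D.Idx F) = D.x F s c} := by
  classical
  obtain rfl : t = xG hF (D.nroots - 1) 1 := Units.ext ht
  set S : Set (GL D.Idx F) := {g | ∃ s ∈ l, ∃ c : F, (g : Matrix D.Idx D.Idx F) = D.x F s c}
  set M := D.posUnipotent F ⊔ Subgroup.closure S with hM
  set t := xG hF (D.nroots - 1) (1 : F) with ht'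
  have hUG : D.posUnipotent F ≤ D.group F := le_sup_left.trans (borel_le_group hF)
  have hMle : M ≤ D.group F ⊓ Subgroup.centralizer {t} := by
    refine sup_le (le_inf hUG fun v hv =>
      Subgroup.mem_centralizer_singleton_iff.2 (top_commute_posUnipotent hF hv 1).eq)
      ((Subgroup.closure_le _).2 ?_)
    rintro g ⟨s, hs, c, hg⟩
    obtain rfl : g = xG hF s c := Units.ext hg
    exact ⟨xG_mem_group hF s c, Subgroup.mem_centralizer_singleton_iff.2
      (commute_of_chk hF (top_lt hF) (hl s hs).1 (hl s hs).2 1 c).eq⟩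
  have hn : ∀ j : Fin D.rank, D.cartan j (D.nroots - 1) = 0 → ∀ c : F,
      xG hF (D.simple j) c ∈ M ∧ xG hF (D.neg (D.simple j)) c ∈ M := by
    intro j hj c
    refine ⟨Subgroup.mem_sup_left (mem_posUnipotent_of hF (hF.simple_lt j j.2)
      (hF.simple_pos j j.2) c), Subgroup.mem_sup_right (Subgroup.subset_closure
        ⟨_, (hJ j ?_).2, c, rfl⟩)⟩
    rintro rfl
    rw [hk] at hj
    exact one_ne_zero hj
  have hnG : ∀ j : Fin D.rank, D.cartan j (D.nroots - 1) = 0 → ∀ c : F,
      nG hF (D.simple j) c ∈ M := fun j hj c =>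
    Subgroup.mul_mem _ (Subgroup.mul_mem _ (hn j hj _).1 (hn j hj _).2) (hn j hj _).1
  have hdom : ∀ j : Fin D.rank, 0 ≤ D.cartan j (topRoot hF : Fin D.nroots) := fun j => by
    show 0 ≤ D.cartan j (D.nroots - 1)
    by_cases h : j = k
    · rw [h, hk]; exact zero_le_one
    · rw [(hJ j h).1]
  refine le_antisymm ?_ hMle
  rintro g ⟨hgG, hgC⟩
  replace hgC := Subgroup.mem_centralizer_singleton_iff.1 hgC
  obtain ⟨b, hb, w, x, hx, rfl⟩ := exists_normalForm hF hgG
  obtain ⟨v, hv, c, rfl⟩ := (mem_borel_iff hF).1 hb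
  have hxU : x ∈ D.posUnipotent F := by
    refine (Subgroup.closure_le _).2 ?_ hx
    rintro _ ⟨r, s, h1, -, rfl⟩
    exact mem_posUnipotent_of hF r.2 h1 s
  -- The Weyl part fixes the root.
  obtain ⟨a, ha, hconj⟩ := isMon_mul hF (isMon_torus hF c) (isMon_nWord hF w) (topRoot hF)
  rw [one_mul] at hconj
  have e : xG hF (pWord hF w (topRoot hF) : ℕ) a * (torusHom c * nWord hF w) =
      t * (torusHom c * nWord hF w) := by
    have := hconj 1
    rw [mul_one] at this
    rw [← this]
    apply mul_left_cancel (a := v)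
    apply mul_right_cancel (b := x)
    calc v * (torusHom c * nWord hF w * t) * x
        = v * torusHom c * nWord hF w * (t * x) := by group
      _ = v * torusHom c * nWord hF w * x * t := by
          rw [← (show Commute x t from top_commute_posUnipotent hF hxU 1).eq]; group
      _ = t * v * torusHom c * nWord hF w * x := by rw [hgC]; group
      _ = v * (t * (torusHom c * nWord hF w)) * x := by
          rw [← (show Commute v t from top_commute_posUnipotent hF hv 1).eq]; group
  have hfix : pWord hF w (topRoot hF) = topRoot hF :=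
    Fin.ext (eq_of_x_eq hF (pWord hF w (topRoot hF)).2 ha
      (congrArg Units.val (mul_right_cancel e))).1
  obtain ⟨w', hw', hpw⟩ := stab_dominant hF hdom _ w rfl hfix
  have hw'M : (nWord hF w' : GL D.Idx F) ∈ M := by
    refine Subgroup.list_prod_mem _ fun y hy => ?_
    obtain ⟨i, hi, rfl⟩ := List.mem_map.1 hy
    exact hnG i (hw' i hi) 1
  obtain ⟨d, hd⟩ := (mem_diagonal_iff hF).1 (mem_diagonal_of_isMon_one hF
    (Subgroup.mul_mem _ (Subgroup.inv_mem _ (nWord_mem hF w')) (nWord_mem hF w) :
      (nWord hF w' : GL D.Idx F)⁻¹ * nWord hF w ∈ D.monomialSubgroup F) (by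
      have h1 : IsMon hF ((nWord hF w' : GL D.Idx F)⁻¹) (pWord hF w')⁻¹ := by
        have h := isMon_monPerm hF (Subgroup.inv_mem _ (nWord_mem hF w' (F := F)))
        have h2 := isMon_mul hF (isMon_nWord hF w') h
        rw [mul_inv_cancel] at h2
        have := isMon_unique hF h2 (isMon_one hF)
        rwa [eq_inv_of_mul_eq_one_right this] at h
      have h2 := isMon_mul hF h1 (isMon_nWord hF w)
      rwa [← hpw, inv_mul_cancel] at h2))
  obtain ⟨d', hd'⟩ := nWord_torus hF w' d (F := F)
  have hg : v * torusHom c * nWord hF w * x = v * torusHom (c * d') * (nWord hF w' * x) := by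
    rw [map_mul, show (nWord hF w : GL D.Idx F) = torusHom d' * nWord hF w' by
      rw [← hd', hd, mul_inv_cancel_left]]
    group
  have hR : nWord hF w' * x ∈ M := Subgroup.mul_mem _ hw'M (Subgroup.mem_sup_left hxU)
  have hT : Commute (torusHom (c * d') : GL D.Idx F) t := by
    have h1 : torusHom (c * d') = v⁻¹ * (v * torusHom c * nWord hF w * x) * (nWord hF w' * x)⁻¹ := by
      rw [hg]; group
    rw [h1]
    refine ((Commute.inv_left ?_).mul_left hgC).mul_left (Commute.inv_left ?_)
    · exact top_commute_posUnipotent hF hv 1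
    · exact Subgroup.mem_centralizer_singleton_iff.1 (hMle hR).2
  have hk1 : (c * d') k = 1 := by
    have h1 := torusHom_conj hF (c * d') (top_lt hF) (1 : F)
    rw [← ht', hT.eq, mul_left_inj, mul_one] at h1
    have h2 : (chiU (c * d') (D.nroots - 1) : F) = 1 :=
      ((eq_of_x_eq hF (top_lt hF) one_ne_zero (congrArg Units.val h1)).2).symm
    rw [Units.val_eq_one, chiU, Finset.prod_eq_single k
      (fun j _ hj => by rw [(hJ j hj).1, zpow_zero]) (fun h => absurd (Finset.mem_univ _) h),
      hk, zpow_one] at h2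
    exact h2
  rw [hg]
  refine Subgroup.mul_mem _ (Subgroup.mul_mem _ (Subgroup.mem_sup_left hv) ?_) hR
  have hsum : c * d' = ∏ j : Fin D.rank, Pi.mulSingle j ((c * d') j) :=
    (Finset.univ_prod_mulSingle _).symm
  rw [hsum, map_prod_torus]
  refine Subgroup.list_prod_mem _ fun y hy => ?_
  obtain ⟨j, -, rfl⟩ := List.mem_map.1 hy
  by_cases hjk : j = k
  · rw [hjk, hk1, Pi.mulSingle_one, map_one]; exact Subgroup.one_mem _
  · rw [← coH_simple hF j.2, ← hG_simple hF j.2]
    exact Subgroup.mul_mem _ (hnG j (hJ j hjk).1 _) (hnG j (hJ j hjk).1 _)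
where
  map_prod_torus (f : Fin D.rank → (Fin D.rank → Fˣ)) :
      (torusHom (∏ j, f j) : GL D.Idx F) =
        ((List.finRange D.rank).map fun j => torusHom (f j)).prod := by
    rw [Fin.prod_univ_def, map_list_prod, List.map_map]
    rfl

end Cfsg.Agent.Chev
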