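import Cfsg.Agent.Chev.Parabolic

/-!
Subgroups containing enough root subgroups contain the whole group.
-/

set_option autoImplicit false

namespace Cfsg.Agent.Chev

open Cfsg.Lie
open scoped MatrixGroups

universe u

section

/-- The nodes reached from `l` along steps `w_k w_j (α_k) = α_j`. -/
def closeNodes (D : ChevalleyDatum) : ℕ → List ℕ → List ℕ
  | 0, l => l
  | n + 1, l => closeNodes D n (l ++ (List.range D.rank).filter fun j =>
      !decide (j ∈ l) && l.any fun k =>
        decide (D.reflectRoot k (D.reflectRoot j (D.simple k)) = D.simple j))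

/-- All nodes are reached. -/
def allNodes (D : ChevalleyDatum) (l : List ℕ) : Bool :=
  (List.range D.rank).all fun j => decide (j ∈ closeNodes D D.rank l)

variable {D : ChevalleyDatum} {F : Type u} [Field F] (hF : Facts.{u} D)
include hF

theorem nS_mem_of_le {M : Subgroup (GL D.Idx F)} (hN : D.monomialSubgroup F ≤ M) (i : Fin D.rank) :
    (nS hF (i : ℕ) : GL D.Idx F) ∈ M := hN (nS_mem hF i)

theorem xG_refl_mem {M : Subgroup (GL D.Idx F)} (hN : D.monomialSubgroup F ≤ M) {i : ℕ}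
    (hi : i < D.rank) {r : ℕ} (hr : r < D.nroots) (h : ∀ t : F, xG hF r t ∈ M) (t : F) :
    xG hF (D.reflectRoot i r) t ∈ M := by
  have := xG_mem_of_conj hF (w := [⟨i, hi⟩]) (fun j _ => nS_mem_of_le hF hN j) (r := ⟨r, hr⟩) h t
  simpa [pWord] using this

theorem group_le_of_simple {M : Subgroup (GL D.Idx F)} (hN : D.monomialSubgroup F ≤ M)
    (h : ∀ j < D.rank, ∀ t : F, xG hF (D.simple j) t ∈ M) : D.group F ≤ M := by
  refine (Subgroup.closure_le _).2 ?_
  rintro g ⟨r, t, hg⟩
  rw [show g = xG hF r t from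
    Units.ext (hg.trans (by rw [xG_val, ChevalleyDatum.x, dif_pos r.2]))]
  exact hF.root_induction (fun r => ∀ t : F, xG hF r t ∈ M) h
    (fun i hi r hr ih t => xG_refl_mem hF hN hi hr ih t) r r.2 t

theorem closeNodes_mem {M : Subgroup (GL D.Idx F)} (hN : D.monomialSubgroup F ≤ M) :
    ∀ (n : ℕ) (l : List ℕ), (∀ k ∈ l, k < D.rank ∧ ∀ t : F, xG hF (D.simple k) t ∈ M) →
      ∀ j ∈ closeNodes D n l, j < D.rank ∧ ∀ t : F, xG hF (D.simple j) t ∈ M := by
  intro n
  induction n with
  | zero => exact fun l h => h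
  | succ n ih =>
    intro l h
    refine ih _ fun j hj => ?_
    rcases List.mem_append.1 hj with hj | hj
    · exact h j hj
    rw [List.mem_filter, List.mem_range, Bool.and_eq_true, List.any_eq_true] at hj
    obtain ⟨hjr, -, k, hk, e⟩ := hj
    rw [decide_eq_true_eq] at e
    refine ⟨hjr, fun t => ?_⟩
    rw [← e]
    exact xG_refl_mem hF hN (h k hk).1 (hF.refl_lt j hjr _ (hF.simple_lt k (h k hk).1))
      (fun t => xG_refl_mem hF hN hjr (hF.simple_lt k (h k hk).1) (h k hk).2 t) t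

theorem group_le_of_nodes {M : Subgroup (GL D.Idx F)} (hN : D.monomialSubgroup F ≤ M)
    {l : List ℕ} (hl : allNodes D l = true)
    (h : ∀ k ∈ l, k < D.rank ∧ ∀ t : F, xG hF (D.simple k) t ∈ M) : D.group F ≤ M := by
  refine group_le_of_simple hF hN fun j hj => (closeNodes_mem hF hN D.rank l h j ?_).2
  simp only [allNodes, List.all_eq_true, decide_eq_true_eq] at hl
  exact hl j (List.mem_range.2 hj)

/-- A commutator with one term puts that root subgroup into the subgroup. -/
theorem xG_comm_mem {M : Subgroup (GL D.Idx F)} {r s k : ℕ} {m : ℤ} (hr : r < D.nroots)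
    (hs : s < D.nroots) (hsr : s ≠ r) (hsn : s ≠ D.neg r)
    (hc : D.commTerms r s = [(k, m, 1, 1)]) (hm : (m : F) ≠ 0)
    (h1 : ∀ t : F, xG hF r t ∈ M) (h2 : ∀ t : F, xG hF s t ∈ M) (v : F) : xG hF k v ∈ M := by
  have e := xG_comm hF hr hs hsr hsn (-(v / m)) (1 : F)
  have hw : wordG hF (D.commWord F r s (-(v / m)) (1 : F)) = xG hF k v := by
    rw [ChevalleyDatum.commWord, hc]
    simp [wordG, mul_div_cancel₀ v hm]
  rw [hw] at e
  rw [show xG hF k v = (xG hF r (-(v / m)) * xG hF s 1)⁻¹ * (xG hF s 1 * xG hF r (-(v / m))) by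
    rw [e]; group]
  exact Subgroup.mul_mem _ (Subgroup.inv_mem _ (Subgroup.mul_mem _ (h1 _) (h2 _)))
    (Subgroup.mul_mem _ (h2 _) (h1 _))

theorem group_eq_closure_simple : D.group F = Subgroup.closure
    {g | ∃ (i : Fin D.rank) (t : F),
      g = xG hF (D.simple i) t ∨ g = xG hF (D.neg (D.simple i)) t} := by
  set S := {g : GL D.Idx F | ∃ (i : Fin D.rank) (t : F),
      g = xG hF (D.simple i) t ∨ g = xG hF (D.neg (D.simple i)) t}
  refine le_antisymm ((Subgroup.closure_le _).2 ?_) ((Subgroup.closure_le _).2 ?_)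
  · rintro g ⟨r, t, hg⟩
    rw [show g = xG hF r t from
      Units.ext (hg.trans (by rw [xG_val, ChevalleyDatum.x, dif_pos r.2]))]
    have hn : ∀ i : Fin D.rank, (nS hF (i : ℕ) : GL D.Idx F) ∈ Subgroup.closure S := fun i =>
      Subgroup.mul_mem _ (Subgroup.mul_mem _ (Subgroup.subset_closure ⟨i, _, Or.inl rfl⟩)
        (Subgroup.subset_closure ⟨i, _, Or.inr rfl⟩)) (Subgroup.subset_closure ⟨i, _, Or.inl rfl⟩)
    refine hF.root_induction (fun r => ∀ t : F, xG hF r t ∈ Subgroup.closure S)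
      (fun j hj t => Subgroup.subset_closure ⟨⟨j, hj⟩, t, Or.inl rfl⟩) (fun i hi r hr ih t => ?_)
      r r.2 t
    have := xG_mem_of_conj hF (w := [⟨i, hi⟩]) (fun j _ => hn j) (r := ⟨r, hr⟩) ih t
    simpa [pWord] using this
  · rintro g ⟨i, t, rfl | rfl⟩ <;> exact xG_mem_group hF _ _

end

end Cfsg.Agent.Chev
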