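import Cfsg.Agent.Chev.Functorial

/-!
Centraliser and normaliser of a group between the root elements with fixed parameters and the
fixed points of an endomorphism of the field.
-/

set_option autoImplicit false

namespace Cfsg.Agent.Chev

open Cfsg.Lie
open scoped MatrixGroups

universe u

variable {D : ChevalleyDatum} {F : Type u} [Field F] (hF : Facts.{u} D)
include hF

/-- Only the identity commutes with all root elements `x_r(1)`. -/
theorem eq_one_of_commute_all {g : GL D.Idx F} (hg : g ∈ D.group F)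
    (h : ∀ r, r < D.nroots → Commute g (xG hF r 1)) : g = 1 := by
  obtain ⟨b, hb, w, x, hx, rfl⟩ := exists_normalForm hF hg
  have hm : monPerm hF (nWord hF w : GL D.Idx F) = pWord hF w := monPerm_eq hF (isMon_nWord hF w)
  have hπ : pWord hF w = 1 := by
    refine eq_one_of_pos hF (pWord_mem hF w) fun i => not_lt.1 fun hi => ?_
    have hxi : xG hF (sRoot hF i : ℕ) (1 : F) ∈ uMinus hF (pWord hF w) :=
      Subgroup.subset_closure ⟨sRoot hF i, 1, hF.simple_pos i i.2, hi, rfl⟩
    have e : xG hF (sRoot hF i : ℕ) 1 * b * nWord hF w * x =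
        b * nWord hF w * (x * xG hF (sRoot hF i : ℕ) 1) := by
      rw [← mul_assoc (b * nWord hF w) x, (h _ (sRoot hF i).2).eq]; group
    have hu := ((normalForm_unique hF
      (Subgroup.mul_mem _ (Subgroup.mem_sup_left (mem_posUnipotent_of hF (sRoot hF i).2
        (hF.simple_pos i i.2) 1)) hb) hb (nWord_mem hF w) (nWord_mem hF w) (by rw [hm]; exact hx)
      (by rw [hm]; exact Subgroup.mul_mem _ hx hxi) e).2 rfl).2
    exact one_ne_zero ((xG_eq_one_iff hF (sRoot hF i).2).1
      (mul_eq_left.1 hu.symm))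
  have hgB : b * nWord hF w * x ∈ D.borelSubgroup F :=
    Subgroup.mul_mem _ (Subgroup.mul_mem _ hb
      (Subgroup.mem_sup_right (nWord_mem_diagonal hF w hπ))) (uMinus_le_borel hF _ hx)
  obtain ⟨v, hv, c, hvc⟩ := (mem_borel_iff hF).1 hgB
  rw [hvc] at h hgB ⊢
  obtain ⟨w₀, hw₀⟩ := exists_longest hF
  have hn : Commute (v * torusHom c) (nWord hF w₀) := by
    have hnS : ∀ i : Fin D.rank, Commute (v * torusHom c) (nS hF (i : ℕ)) := fun i => by
      have h1 := h _ (hF.simple_lt i i.2)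
      have h2 : Commute (v * torusHom c) (xG hF (D.neg (D.simple i)) (-(1 : F)⁻¹)) := by
        rw [inv_one, ← xG_inv]
        exact (h _ (neg_lt hF (hF.simple_lt i i.2))).inv_right
      exact (h1.mul_right h2).mul_right h1
    exact Commute.list_prod_right _ _ fun y hy => by
      obtain ⟨i, -, rfl⟩ := List.mem_map.1 hy
      exact hnS i
  have hV : v * torusHom c ∈ D.negUnipotent F ⊔ D.diagonalSubgroup F := by
    have e : v * torusHom c =
        (nWord hF w₀ * v * (nWord hF w₀)⁻¹) * (nWord hF w₀ * torusHom c * (nWord hF w₀)⁻¹) := by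
      rw [show (nWord hF w₀ * v * (nWord hF w₀)⁻¹) * (nWord hF w₀ * torusHom c * (nWord hF w₀)⁻¹) =
        nWord hF w₀ * (v * torusHom c) * (nWord hF w₀)⁻¹ by group, ← hn.eq, mul_inv_cancel_right]
    rw [e]
    refine Subgroup.mul_mem _ (Subgroup.mem_sup_left ?_) (Subgroup.mem_sup_right ?_)
    · have hle : D.posUnipotent F ≤
          (D.negUnipotent F).comap (MulAut.conj (nWord hF w₀ : GL D.Idx F)).toMonoidHom := by
        rw [posUnipotent_eq hF, Subgroup.closure_le]
        rintro _ ⟨r, s, h1, h2, rfl⟩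
        obtain ⟨z, hz⟩ := isMon_conj_mem hF (isMon_nWord hF w₀) ⟨r, h2⟩ s
        show nWord hF w₀ * xG hF r s * (nWord hF w₀)⁻¹ ∈ D.negUnipotent F
        rw [show nWord hF w₀ * xG hF r s * (nWord hF w₀)⁻¹ = _ from hz]
        exact mem_negUnipotent_of hF (pWord hF w₀ ⟨r, h2⟩).2 ((hw₀ ⟨r, h2⟩).2 h1) z
      exact hle hv
    · obtain ⟨c', hc'⟩ := nWord_torus hF w₀ c (F := F)
      rw [hc', mul_inv_cancel_right]
      exact torusHom_mem hF c'
  have hH : v * torusHom c ∈ D.diagonalSubgroup F :=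
    (borel_inf_negBorel hF (F := F)).le ⟨hgB, hV⟩
  obtain ⟨d, hd⟩ := (mem_diagonal_iff hF).1 hH
  rw [← hd] at h ⊢
  rw [torusHom_eq_one_iff]
  intro s
  have h1 := torusHom_conj hF d s.2 (1 : F)
  rw [(h s s.2).eq, mul_left_inj, mul_one] at h1
  exact Units.ext ((eq_of_x_eq hF s.2 one_ne_zero (congrArg Units.val h1)).2).symm

section

variable (σ : F →+* F)

/-- The root elements with parameters fixed by `σ`. -/
def fixedRoots : Subgroup (GL D.Idx F) :=
  Subgroup.closure {g | ∃ (s : ℕ) (t : F), σ t = t ∧ g = xG hF s t}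

theorem xG_mem_fixedRoots (s : ℕ) {t : F} (ht : σ t = t) : xG hF s t ∈ fixedRoots hF σ :=
  Subgroup.subset_closure ⟨s, t, ht, rfl⟩

theorem exists_mul_torus {g : GL D.Idx F} (hg : g ∈ D.group F) (hfix : gmap D σ g = g) :
    ∃ l ∈ fixedRoots hF σ, ∃ c : Fin D.rank → Fˣ,
      (∀ y ∈ fixedRoots hF σ, torusHom c * y * (torusHom c)⁻¹ ∈ fixedRoots hF σ) ∧
      g = l * torusHom c := by
  obtain ⟨t, t', c, w, ht, ht', hc, rfl⟩ := exists_fixed_normalForm hF σ hg hfix
  have hP : ∀ s : ℕ → F, (∀ r, half D ≤ r → r < D.nroots → σ (s r) = s r) →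
      prodFrom hF (half D) s ∈ fixedRoots hF σ := by
    intro s hs
    refine wordG_mem hF fun p hp => ?_
    obtain ⟨r, hr, rfl⟩ := List.mem_map.1 hp
    rw [List.mem_range'_1] at hr
    exact xG_mem_fixedRoots hF σ r (hs r hr.1 (by omega))
  have hτ : ∀ y ∈ fixedRoots hF σ, torusHom c * y * (torusHom c)⁻¹ ∈ fixedRoots hF σ := by
    have hchi : ∀ s : Fin D.nroots, σ (chiU c s : F) = chiU c s := fun s => by
      have := congrArg (fun g : GL D.Idx F => (g : Matrix D.Idx D.Idx F) (Sum.inr s) (Sum.inr s)) hc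
      simpa [gmap_apply, torusHom, diagG] using this
    intro y hy
    refine ((Subgroup.closure_le _).2 ?_ : fixedRoots hF σ ≤ (fixedRoots hF σ).comap
      (MulAut.conj (torusHom c : GL D.Idx F)).toMonoidHom) hy
    rintro _ ⟨s, z, hz, rfl⟩
    show torusHom c * xG hF s z * (torusHom c)⁻¹ ∈ fixedRoots hF σ
    by_cases hs : s < D.nroots
    · rw [torusHom_conj hF c hs, mul_inv_cancel_right]
      exact xG_mem_fixedRoots hF σ s (by rw [map_mul, hz, hchi ⟨s, hs⟩])
    · rw [show xG hF s z = 1 from Units.ext (x_of_ge hs z), mul_one, mul_inv_cancel]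
      exact Subgroup.one_mem _
  have hn : (nWord hF w : GL D.Idx F) ∈ fixedRoots hF σ := by
    refine Subgroup.list_prod_mem _ fun y hy => ?_
    obtain ⟨i, -, rfl⟩ := List.mem_map.1 hy
    exact Subgroup.mul_mem _ (Subgroup.mul_mem _ (xG_mem_fixedRoots hF σ _ (map_one σ))
      (xG_mem_fixedRoots hF σ _ (by rw [map_neg, map_inv₀, map_one])))
      (xG_mem_fixedRoots hF σ _ (map_one σ))
  refine ⟨prodFrom hF (half D) t *
    (torusHom c * (nWord hF w * prodFrom hF (half D) t') * (torusHom c)⁻¹),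
    Subgroup.mul_mem _ (hP t ht) (hτ _ (Subgroup.mul_mem _ hn (hP t' ht'))), c, hτ, ?_⟩
  group

theorem centralizer_normalizer_fixed (K : Subgroup (GL D.Idx F)) (hKG : K ≤ D.group F)
    (hLK : fixedRoots hF σ ≤ K) (hK : ∀ g ∈ K, gmap D σ g = g) :
    D.group F ⊓ Subgroup.centralizer (K : Set (GL D.Idx F)) = ⊥ ∧
    ∀ g : GL D.Idx F, g ∈ D.group F →
      (g ∈ Subgroup.normalizer (K : Set (GL D.Idx F)) ↔ gmap D σ g = g) := by
  have hx : ∀ r, xG hF r (1 : F) ∈ K := fun r => hLK (xG_mem_fixedRoots hF σ r (map_one σ))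
  refine ⟨?_, fun g hg => ⟨fun hgn => ?_, fun hfix => ?_⟩⟩
  · rw [Subgroup.eq_bot_iff_forall]
    rintro g ⟨hg, hc⟩
    exact eq_one_of_commute_all hF hg fun r _ =>
      (Subgroup.mem_centralizer_iff.1 hc _ (hx r)).symm
  · have h1 : g⁻¹ * gmap D σ g = 1 := by
      refine eq_one_of_commute_all hF (Subgroup.mul_mem _ (Subgroup.inv_mem _ hg)
        (gmap_mem_group hF hF σ hg)) fun r _ => ?_
      have := hK _ ((Subgroup.mem_normalizer_iff.1 hgn _).1 (hx r))
      rw [map_mul, map_mul, map_inv, gmap_xG hF hF, map_one] at this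
      show g⁻¹ * gmap D σ g * xG hF r 1 = xG hF r 1 * (g⁻¹ * gmap D σ g)
      calc g⁻¹ * gmap D σ g * xG hF r 1
          = g⁻¹ * (gmap D σ g * xG hF r 1 * (gmap D σ g)⁻¹) * gmap D σ g := by group
        _ = _ := by rw [this]; group
    exact (inv_mul_eq_one.1 h1).symm
  · have key : ∀ h : GL D.Idx F, h ∈ D.group F → gmap D σ h = h → ∀ y ∈ K, h * y * h⁻¹ ∈ K := by
      intro h hh hhfix y hy
      obtain ⟨l, hl, c, hc, rfl⟩ := exists_mul_torus hF σ hh hhfix
      obtain ⟨l', hl', c', -, rfl⟩ := exists_mul_torus hF σ (hKG hy) (hK y hy)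
      have ht' : (torusHom c' : GL D.Idx F) ∈ K := by
        simpa using Subgroup.mul_mem _ (Subgroup.inv_mem _ (hLK hl')) hy
      have hcc : (torusHom c : GL D.Idx F) * torusHom c' = torusHom c' * torusHom c := by
        rw [← map_mul, ← map_mul, mul_comm]
      rw [show l * torusHom c * (l' * torusHom c') * (l * torusHom c)⁻¹ =
        l * (torusHom c * l' * (torusHom c)⁻¹) * (torusHom c * torusHom c' * (torusHom c)⁻¹) * l⁻¹
        by group, hcc, mul_inv_cancel_right]
      exact Subgroup.mul_mem _ (Subgroup.mul_mem _ (Subgroup.mul_mem _ (hLK hl) (hLK (hc _ hl')))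
        ht') (Subgroup.inv_mem _ (hLK hl))
    refine Subgroup.mem_normalizer_iff.2 fun y => ⟨key g hg hfix y, fun hy => ?_⟩
    have := key g⁻¹ (Subgroup.inv_mem _ hg) (by rw [map_inv, hfix]) _ hy
    simpa [mul_assoc] using this

end

end Cfsg.Agent.Chev
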