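import Cfsg.Agent.Chev.Bruhat
import Cfsg.Agent.Chev.Generation
import Cfsg.Agent.Chev.SubfieldNormalizer

/-!
Groups with elements satisfying Steinberg's relations (R1) and (R2): the map to the Chevalley
group is a central extension with kernel inside the lifted torus.
-/

set_option autoImplicit false
set_option maxHeartbeats 1000000

namespace Cfsg.Agent.Chev

open Cfsg.Lie
open scoped MatrixGroups

universe u v

/-- Facts on the commutator formula for negative roots and for expressing fundamental roots as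
commutators, valid for the seven tabulated data. -/
structure Extra (D : ChevalleyDatum) : Prop where
  neg_order : ∀ r s, r < half D → s < half D → s ≠ r → ∀ c ∈ D.commTerms r s, c.1 < r ∧ c.1 < s
  neg_simple : ∀ i < D.rank, ∀ s, s < half D → s ≠ D.neg (D.simple i) →
    ∀ c ∈ D.commTerms (D.simple i) s, c.1 < half D ∧ c.1 ≠ D.neg (D.simple i)
  special : ∀ i < D.rank, ∃ p q : ℕ, p < D.nroots ∧ q < D.nroots ∧ q ≠ p ∧ q ≠ D.neg p ∧
    p ≠ D.simple i ∧ p ≠ D.neg (D.simple i) ∧ q ≠ D.simple i ∧ q ≠ D.neg (D.simple i) ∧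
    (∀ c ∈ D.commTerms p q, half D ≤ c.1) ∧
    (∀ c ∈ D.commTerms (D.reflectRoot i p) (D.reflectRoot i q),
      (half D ≤ c.1 ∧ c.1 ≠ D.simple i) ∨ c.1 = D.neg (D.simple i)) ∧
    ∃ c₀, ((D.commTerms p q).filter fun c => Nat.beq c.1 (D.simple i)) = [c₀] ∧
      c₀.2.1.natAbs = 1 ∧ (c₀.2.2.1 = 1 ∨ c₀.2.2.2 = 1)

/-- A group with elements `X r t` subject to (R1) and (R2), mapping to the Chevalley group. -/
structure Lift {D : ChevalleyDatum} (hF : Facts.{u} D) (F : Type u) [Field F] (H : Type v)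
    [Group H] where
  X : ℕ → F → H
  θ : H →* GL D.Idx F
  θ_X : ∀ r t, θ (X r t) = xG hF r t
  add : ∀ r, r < D.nroots → ∀ t₁ t₂, X r t₁ * X r t₂ = X r (t₁ + t₂)
  comm : ∀ r s, r < D.nroots → s < D.nroots → s ≠ r → s ≠ D.neg r → ∀ t u : F,
    (X s u)⁻¹ * (X r t)⁻¹ * X s u * X r t =
      ((D.commWord F r s t u).map fun p => X p.1 p.2).prod
  gen : Subgroup.closure {g | ∃ (r : ℕ) (t : F), r < D.nroots ∧ g = X r t} = ⊤

theorem xG_inj {D : ChevalleyDatum} {F : Type u} [Field F] (hF : Facts.{u} D) {r : ℕ}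
    (hr : r < D.nroots) {a b : F} (e : xG hF r a = xG hF r b) : a = b := by
  rw [← mul_inv_eq_one, xG_inv, xG_mul, xG_eq_one_iff hF hr, add_neg_eq_zero] at e
  exact e

namespace Lift

variable {D : ChevalleyDatum} {hF : Facts.{u} D} {F : Type u} [Field F] {H : Type v} [Group H]
  (L : Lift hF F H)

theorem X_zero {r : ℕ} (hr : r < D.nroots) : L.X r 0 = 1 :=
  mul_eq_left.1 (by rw [L.add r hr, add_zero] : L.X r 0 * L.X r 0 = L.X r 0)

theorem X_inv {r : ℕ} (hr : r < D.nroots) (t : F) : (L.X r t)⁻¹ = L.X r (-t) :=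
  inv_eq_of_mul_eq_one_right (by rw [L.add r hr, add_neg_cancel, L.X_zero hr])

/-- The element `n_r(t)`. -/
def n (r : ℕ) (t : F) : H := L.X r t * L.X (D.neg r) (-t⁻¹) * L.X r t

/-- The element `h_r(t)`. -/
def h (r : ℕ) (t : F) : H := L.n r t * L.n r (-1)

theorem θ_n (r : ℕ) (t : F) : L.θ (L.n r t) = nG hF r t := by
  simp only [n, nG, map_mul, L.θ_X]

theorem θ_h (r : ℕ) (t : F) : L.θ (L.h r t) = hG hF r t := by
  simp only [h, hG, map_mul, L.θ_n]

theorem n_inv {r : ℕ} (hr : r < D.nroots) (t : F) : (L.n r t)⁻¹ = L.n r (-t) := by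
  simp only [n, mul_inv_rev, L.X_inv hr, L.X_inv (neg_lt hF hr), inv_neg, neg_neg, mul_assoc]

/-- The subgroup generated by the elements of the roots in `S`. -/
def sub (S : ℕ → Prop) : Subgroup H :=
  Subgroup.closure {g | ∃ (r : ℕ) (t : F), r < D.nroots ∧ S r ∧ g = L.X r t}

theorem X_mem_sub {S : ℕ → Prop} {r : ℕ} (hr : r < D.nroots) (hS : S r) (t : F) :
    L.X r t ∈ L.sub S := Subgroup.subset_closure ⟨r, t, hr, hS, rfl⟩

theorem sub_mono {S T : ℕ → Prop} (h : ∀ r, r < D.nroots → S r → T r) : L.sub S ≤ L.sub T :=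
  Subgroup.closure_mono fun _ ⟨r, t, hr, hS, e⟩ => ⟨r, t, hr, h r hr hS, e⟩

theorem word_mem {M : Subgroup H} (w : List (ℕ × F)) (h : ∀ p ∈ w, L.X p.1 p.2 ∈ M) :
    (w.map fun p => L.X p.1 p.2).prod ∈ M :=
  Subgroup.list_prod_mem _ fun x hx => by
    obtain ⟨p, hp, rfl⟩ := List.mem_map.1 hx
    exact h p hp

theorem X_conj_mem {S : ℕ → Prop} {k : ℕ} (hk : k < D.nroots)
    (hS : ∀ s, s < D.nroots → S s → s ≠ k ∧ s ≠ D.neg k ∧ ∀ c ∈ D.commTerms k s, S c.1)
    (t : F) {g : H} (hg : g ∈ L.sub S) : L.X k (-t) * g * L.X k t ∈ L.sub S := by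
  have hle : L.sub S ≤ (L.sub S).comap (MulAut.conj (L.X k (-t))).toMonoidHom := by
    refine (Subgroup.closure_le _).2 ?_
    rintro _ ⟨s, a, hs, hSs, rfl⟩
    obtain ⟨h1, h2, h3⟩ := hS s hs hSs
    show L.X k (-t) * L.X s a * (L.X k (-t))⁻¹ ∈ L.sub S
    rw [L.X_inv hk, neg_neg, ← L.X_inv hk,
      show (L.X k t)⁻¹ * L.X s a * L.X k t =
        L.X s a * ((L.X s a)⁻¹ * (L.X k t)⁻¹ * L.X s a * L.X k t) by group,
      L.comm k s hk hs h1 h2]
    refine Subgroup.mul_mem _ (L.X_mem_sub hs hSs a) (L.word_mem _ fun p hp => ?_)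
    obtain ⟨c, hc, rfl⟩ := List.mem_map.1 hp
    exact L.X_mem_sub (hF.comm_lt k s hk hs c hc) (h3 c hc) _
  have := hle hg
  rwa [Subgroup.mem_comap, MulEquiv.coe_toMonoidHom, MulAut.conj_apply, L.X_inv hk, neg_neg]
    at this

/-- Splitting off one root from a set normalised by it. -/
theorem split {S T : ℕ → Prop} {k : ℕ} (hk : k < D.nroots)
    (hS : ∀ s, s < D.nroots → S s → s ≠ k ∧ s ≠ D.neg k ∧ ∀ c ∈ D.commTerms k s, S c.1)
    (hT : ∀ s, s < D.nroots → T s → S s ∨ s = k) {g : H} (hg : g ∈ L.sub T) :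
    ∃ t, ∃ g' ∈ L.sub S, g = L.X k t * g' := by
  induction hg using Subgroup.closure_induction_left with
  | one => exact ⟨0, 1, Subgroup.one_mem _, by rw [L.X_zero hk, mul_one]⟩
  | mul_left x hx y _ ih =>
    obtain ⟨s, a, hs, hTs, rfl⟩ := hx
    obtain ⟨t, g', hg', rfl⟩ := ih
    rcases hT s hs hTs with h | rfl
    · refine ⟨t, L.X k (-t) * L.X s a * L.X k t * g',
        Subgroup.mul_mem _ (L.X_conj_mem hk hS t (L.X_mem_sub hs h a)) hg', ?_⟩
      rw [← L.X_inv hk]; group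
    · exact ⟨a + t, g', hg', by rw [← mul_assoc, L.add _ hk]⟩
  | inv_mul_cancel x hx y _ ih =>
    obtain ⟨s, a, hs, hTs, rfl⟩ := hx
    obtain ⟨t, g', hg', rfl⟩ := ih
    rcases hT s hs hTs with h | rfl
    · refine ⟨t, L.X k (-t) * (L.X s a)⁻¹ * L.X k t * g',
        Subgroup.mul_mem _ (L.X_conj_mem hk hS t (Subgroup.inv_mem _ (L.X_mem_sub hs h a))) hg', ?_⟩
      rw [← L.X_inv hk]; group
    · exact ⟨-a + t, g', hg', by rw [← mul_assoc, L.X_inv hk, L.add _ hk]⟩

/-- `θ` is injective on the subgroup of the roots in `S`. -/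
def InjOn (S : ℕ → Prop) : Prop := ∀ g ∈ L.sub S, L.θ g = 1 → g = 1

theorem InjOn.eq {S : ℕ → Prop} (h : L.InjOn S) {a b : H} (ha : a ∈ L.sub S) (hb : b ∈ L.sub S)
    (e : L.θ a = L.θ b) : a = b :=
  inv_mul_eq_one.1 (h _ (Subgroup.mul_mem _ (Subgroup.inv_mem _ ha) hb)
    (by rw [map_mul, map_inv, e, inv_mul_cancel]))

theorem injOn_mono {S T : ℕ → Prop} (hT : L.InjOn T) (h : ∀ r, r < D.nroots → S r → T r) :
    L.InjOn S := fun g hg => hT g (L.sub_mono h hg)

theorem map_sub_le (S : ℕ → Prop) {M : Subgroup (GL D.Idx F)}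
    (h : ∀ r, r < D.nroots → S r → ∀ t, xG hF r t ∈ M) {g : H} (hg : g ∈ L.sub S) :
    L.θ g ∈ M := by
  have hle : L.sub S ≤ M.comap L.θ := (Subgroup.closure_le _).2 fun _ ⟨r, t, hr, hS, e⟩ => by
    subst e
    show L.θ (L.X r t) ∈ M
    rw [L.θ_X]
    exact h r hr hS t
  exact hle hg

theorem injOn_from : ∀ (d k : ℕ), D.nroots - k = d → half D ≤ k →
    L.InjOn (fun r => k ≤ r) := by
  intro d
  induction d with
  | zero =>
    intro k hd _ g hg _
    have hbot : L.sub (fun r => k ≤ r) ≤ ⊥ :=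
      (Subgroup.closure_le _).2 fun _ ⟨r, t, hr, hS, _⟩ => absurd hS (by omega)
    exact Subgroup.mem_bot.1 (hbot hg)
  | succ d ih =>
    intro k hd hk g hg e
    have hkn : k < D.nroots := by omega
    obtain ⟨t, g', hg', rfl⟩ := L.split (S := fun r => k + 1 ≤ r) hkn
      (fun s hs hks => ⟨by omega, by have := (neg_lt_half_iff hF hkn).2 hk; omega,
        fun c hc => by
          have := hF.comm_pos k s hkn hs hk (by omega) c hc
          omega⟩)
      (fun s _ hks => by omega) hg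
    have hθ : L.θ g' = xG hF k (-t) := by
      rw [map_mul, L.θ_X] at e
      rw [← xG_inv, eq_comm, inv_eq_of_mul_eq_one_right e]
    have hno := closure_le_noCoroot hF hk hkn (L.map_sub_le _
      (M := Subgroup.closure (rootsFrom hF (k + 1)))
      (fun r hr hS t => Subgroup.subset_closure ⟨r, t, hS, hr, rfl⟩) hg')
    obtain ⟨j, hj, hne⟩ := hF.coef_unit (F := F) hkn
    have h0 := (hno.2 ⟨j, hj⟩ ⟨D.neg k, neg_lt hF hkn⟩ le_rfl).1
    rw [hθ, xG_val, x_neg_col hF hkn, mul_eq_zero, neg_eq_zero] at h0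
    obtain rfl := h0.resolve_left hne
    rw [L.X_zero hkn, one_mul] at e ⊢
    exact ih (k + 1) (by omega) (by omega) g' hg' e

theorem injOn_pos : L.InjOn (fun r => half D ≤ r) := L.injOn_from _ _ rfl le_rfl

/-- The matrices that, on the columns of the roots of index at most `m`, are triangular and have
no coroot component. -/
def upperSmall (m : ℕ) : Subgroup (GL D.Idx F) where
  carrier := {g | ∀ s : Fin D.nroots, (s : ℕ) ≤ m →
    (∀ v : Fin D.nroots, s < v →
      (g : Matrix D.Idx D.Idx F) (Sum.inr v) (Sum.inr s) = 0 ∧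
      ((g⁻¹ : GL D.Idx F) : Matrix D.Idx D.Idx F) (Sum.inr v) (Sum.inr s) = 0) ∧
    ∀ j : Fin D.rank, (g : Matrix D.Idx D.Idx F) (Sum.inl j) (Sum.inr s) = 0 ∧
      ((g⁻¹ : GL D.Idx F) : Matrix D.Idx D.Idx F) (Sum.inl j) (Sum.inr s) = 0}
  one_mem' s _ := ⟨fun v hv => by simp [hv.ne'], fun j => by simp⟩
  mul_mem' := by
    intro g h hg hh
    have key : ∀ A B : Matrix D.Idx D.Idx F,
        (∀ s : Fin D.nroots, (s : ℕ) ≤ m → (∀ v : Fin D.nroots, s < v →
          A (Sum.inr v) (Sum.inr s) = 0) ∧ ∀ j : Fin D.rank, A (Sum.inl j) (Sum.inr s) = 0) →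
        (∀ s : Fin D.nroots, (s : ℕ) ≤ m → (∀ v : Fin D.nroots, s < v →
          B (Sum.inr v) (Sum.inr s) = 0) ∧ ∀ j : Fin D.rank, B (Sum.inl j) (Sum.inr s) = 0) →
        ∀ s : Fin D.nroots, (s : ℕ) ≤ m → (∀ v : Fin D.nroots, s < v →
          (A * B) (Sum.inr v) (Sum.inr s) = 0) ∧
          ∀ j : Fin D.rank, (A * B) (Sum.inl j) (Sum.inr s) = 0 := by
      intro A B hA hB s hs
      refine ⟨fun v hv => ?_, fun j => ?_⟩ <;>
        rw [Matrix.mul_apply, Fintype.sum_sum_type,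
          Finset.sum_eq_zero (fun l _ => by rw [(hB s hs).2 l, mul_zero]), zero_add] <;>
        refine Finset.sum_eq_zero fun w _ => ?_
      · by_cases hw : s < w
        · rw [(hB s hs).1 w hw, mul_zero]
        · rw [(hA w (le_trans (not_lt.1 hw) hs)).1 v (lt_of_le_of_lt (not_lt.1 hw) hv), zero_mul]
      · by_cases hw : s < w
        · rw [(hB s hs).1 w hw, mul_zero]
        · rw [(hA w (le_trans (not_lt.1 hw) hs)).2 j, zero_mul]
    intro s hs
    have h1 := key _ _ (fun s hs => ⟨fun v hv => ((hg s hs).1 v hv).1, fun j => ((hg s hs).2 j).1⟩)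
      (fun s hs => ⟨fun v hv => ((hh s hs).1 v hv).1, fun j => ((hh s hs).2 j).1⟩) s hs
    have h2 := key _ _ (fun s hs => ⟨fun v hv => ((hh s hs).1 v hv).2, fun j => ((hh s hs).2 j).2⟩)
      (fun s hs => ⟨fun v hv => ((hg s hs).1 v hv).2, fun j => ((hg s hs).2 j).2⟩) s hs
    exact ⟨fun v hv => ⟨by rw [Units.val_mul]; exact h1.1 v hv,
        by rw [mul_inv_rev, Units.val_mul]; exact h2.1 v hv⟩,
      fun j => ⟨by rw [Units.val_mul]; exact h1.2 j,
        by rw [mul_inv_rev, Units.val_mul]; exact h2.2 j⟩⟩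
  inv_mem' := by
    intro g hg s hs
    exact ⟨fun v hv => ⟨((hg s hs).1 v hv).2, by rw [inv_inv]; exact ((hg s hs).1 v hv).1⟩,
      fun j => ⟨((hg s hs).2 j).2, by rw [inv_inv]; exact ((hg s hs).2 j).1⟩⟩

theorem injOn_below (hE : Extra D) : ∀ k, k ≤ half D → L.InjOn (fun r => r < k) := by
  intro k
  induction k with
  | zero =>
    intro _ g hg _
    have hbot : L.sub (fun r => r < 0) ≤ ⊥ :=
      (Subgroup.closure_le _).2 fun _ ⟨r, t, hr, hS, _⟩ => absurd hS (by omega)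
    exact Subgroup.mem_bot.1 (hbot hg)
  | succ k ih =>
    intro hk g hg e
    have hev := hF.nroots_even
    have hkn : k < D.nroots := by omega
    have hnk := hF.neg_eq k hkn
    obtain ⟨t, g', hg', rfl⟩ := L.split (S := fun r => r < k) hkn
      (fun s hs hks => ⟨by omega, by omega,
        fun c hc => (hE.neg_order k s (by omega) (by omega) (by omega) c hc).1⟩)
      (fun s _ hks => by omega) hg
    have hθ : L.θ g' = xG hF k (-t) := by
      rw [map_mul, L.θ_X] at e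
      rw [← xG_inv, eq_comm, inv_eq_of_mul_eq_one_right e]
    have hmem : L.θ g' ∈ upperSmall (D := D) (F := F) (D.neg k) := by
      refine L.map_sub_le _ (fun r hr hS a => ?_) hg'
      intro s hs
      have hne : ¬ (r < D.nroots ∧ (s : ℕ) = D.neg r) := by
        rintro ⟨-, e⟩
        have := hF.neg_eq r hr
        omega
      refine ⟨fun v hv => ?_, fun j => ?_⟩
      · have hp : pos D (Sum.inr s) ≤ pos D (Sum.inr v) :=
          ((pos_lt_pos_iff (u := s) (s := v)).2 hv).le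
        constructor
        · rw [xG_val, hF.x_upper F r hr (by omega) a _ _ hp, if_neg (by simp [hv.ne'])]
        · rw [xG_inv, xG_val, hF.x_upper F r hr (by omega) _ _ _ hp, if_neg (by simp [hv.ne'])]
      · constructor
        · rw [xG_val]; exact x_col_inl_zero hF s.2 a j hne
        · rw [xG_inv, xG_val]; exact x_col_inl_zero hF s.2 _ j hne
    obtain ⟨j, hj, hne⟩ := hF.coef_unit (F := F) hkn
    have h0 := ((hmem ⟨D.neg k, neg_lt hF hkn⟩ le_rfl).2 ⟨j, hj⟩).1
    rw [hθ, xG_val, x_neg_col hF hkn, mul_eq_zero, neg_eq_zero] at h0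
    obtain rfl := h0.resolve_left hne
    rw [L.X_zero hkn, one_mul] at e ⊢
    exact ih (by omega) g' hg' e

theorem injOn_neg (hE : Extra D) : L.InjOn (fun r => r < half D) := L.injOn_below hE _ le_rfl

/-- `g` permutes the lifted root subgroups as `π`. -/
def Mon (g : H) (π : Equiv.Perm (Fin D.nroots)) : Prop :=
  ∀ (r : Fin D.nroots) (u : F), ∃ v, g * L.X r u * g⁻¹ = L.X (π r) v

theorem mon_one : L.Mon 1 1 := fun r u => ⟨u, by simp⟩

theorem Mon.mul {g g' : H} {π π' : Equiv.Perm (Fin D.nroots)} (h : L.Mon g π) (h' : L.Mon g' π') :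
    L.Mon (g * g') (π * π') := by
  intro r u
  obtain ⟨v, hv⟩ := h' r u
  obtain ⟨w, hw⟩ := h (π' r) v
  exact ⟨w, by rw [Equiv.Perm.mul_apply, ← hw, ← hv]; group⟩

theorem mon_of_mem {T : ℕ → Prop} (hT : L.InjOn T) {g : H} {r r' : Fin D.nroots} {u : F}
    {π : Equiv.Perm (Fin D.nroots)} (hg : IsMon hF (L.θ g) π) (hr : π r = r') (hTr : T r')
    (hmem : g * L.X r u * g⁻¹ ∈ L.sub T) : ∃ v, g * L.X r u * g⁻¹ = L.X r' v := by
  obtain ⟨v, hv⟩ := isMon_conj_mem hF hg r u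
  refine ⟨v, InjOn.eq L hT hmem (L.X_mem_sub r'.2 hTr v) ?_⟩
  rw [map_mul, map_mul, map_inv, L.θ_X, hv, hr, L.θ_X]

end Lift

end Cfsg.Agent.Chev
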