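import Cfsg.Agent.Chev.GroupCard
import Cfsg.Agent.Chev.RegularTorus
import Cfsg.Agent.Chev.Lift

/-!
The order of the centraliser of an element of the torus, from the Bruhat normal form: the fixed
parts of the unipotent factors times the torus, summed over the Weyl elements fixing the element.
-/

set_option autoImplicit false

namespace Cfsg.Agent.Chev

open Cfsg.Lie
open scoped MatrixGroups

universe u

namespace CentTorus

variable {D : ChevalleyDatum} {F : Type u} [Field F] (hF : Facts.{u} D)
  (z : Fin D.rank → Fˣ)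
include hF

/-- A monomial element normalises the torus. -/
theorem exists_conj_torus {n : GL D.Idx F} (hn : n ∈ D.monomialSubgroup F)
    (c : Fin D.rank → Fˣ) : ∃ e, n * torusHom c = (torusHom e : GL D.Idx F) * n := by
  obtain ⟨w, d, rfl⟩ := (mem_monomial_iff hF).1 hn
  obtain ⟨e, he⟩ := nWord_torus hF w c (F := F)
  refine ⟨e, ?_⟩
  rw [mul_assoc, ← map_mul, mul_comm d c, map_mul, ← mul_assoc, he, mul_assoc]

/-- The conjugate of a torus element by a monomial element has the permuted characters. -/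
theorem chiU_conj {n : GL D.Idx F} {π : Equiv.Perm (Fin D.nroots)} (hπ : IsMon hF n π)
    {c e : Fin D.rank → Fˣ} (h : n * torusHom c = (torusHom e : GL D.Idx F) * n)
    (r : Fin D.nroots) : chiU e (π r : ℕ) = chiU c (r : ℕ) := by
  obtain ⟨k, hk0, hk⟩ := hπ r
  have e1 : n * torusHom c * xG hF r 1 = torusHom e * n * xG hF r 1 := by rw [h]
  rw [mul_assoc, torusHom_conj hF c r.2, ← mul_assoc, hk, mul_assoc, h, mul_assoc (torusHom e),
    hk, ← mul_assoc (torusHom e : GL D.Idx F), torusHom_conj hF e (π r).2, mul_assoc,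
    mul_left_inj] at e1
  have e2 := xG_inj hF (π r).2 e1
  rw [mul_one, mul_one, mul_comm k] at e2
  exact Units.ext (mul_right_cancel₀ hk0 e2).symm

theorem eq_of_chiU_eq {c e : Fin D.rank → Fˣ}
    (h : ∀ r : Fin D.nroots, chiU c (r : ℕ) = chiU e (r : ℕ)) :
    (torusHom c : GL D.Idx F) = torusHom e := by
  have : (torusHom (c * e⁻¹) : GL D.Idx F) = 1 := (torusHom_eq_one_iff _).2 fun r => by
    have hm : chiU (c * e⁻¹) (r : ℕ) = chiU c (r : ℕ) * (chiU e (r : ℕ))⁻¹ := by
      simp [chiU, mul_zpow, Finset.prod_mul_distrib]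
    rw [hm, h r, mul_inv_cancel]
  rwa [map_mul, map_inv, mul_inv_eq_one] at this

theorem monomial_comm {n : GL D.Idx F} (hn : n ∈ D.monomialSubgroup F)
    {π : Equiv.Perm (Fin D.nroots)} (hπ : IsMon hF n π)
    (hz : ∀ r : Fin D.nroots, chiU z (π r : ℕ) = chiU z (r : ℕ)) :
    n * torusHom z = torusHom z * n := by
  obtain ⟨e, he⟩ := exists_conj_torus hF hn z
  rw [he]
  congr 1
  refine eq_of_chiU_eq hF fun r => ?_
  have h := chiU_conj hF hπ he (π.symm r)
  have h' := hz (π.symm r)
  rw [Equiv.apply_symm_apply] at h h'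
  rw [h, ← h']

/-- The fixed parameters of a product of root subgroups. -/
theorem card_fixed [Fintype F] (P : Fin D.nroots → Prop) {S : Subgroup (GL D.Idx F)}
    (hS : Subgroup.closure (uGens hF P) ≤ S)
    (hsurj : ∀ g ∈ S, ∃ t : ℕ → F, (∀ r : Fin D.nroots, half D ≤ (r : ℕ) → ¬ P r → t r = 0) ∧
      g = prodFrom hF (half D) t) :
    Nat.card ↥(S ⊓ Subgroup.centralizer {(torusHom z : GL D.Idx F)}) =
      Fintype.card F ^
        Nat.card {r : Fin D.nroots // half D ≤ (r : ℕ) ∧ (P r ∧ chiU z (r : ℕ) = 1)} := by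
  classical
  set P' : Fin D.nroots → Prop := fun r => P r ∧ chiU z (r : ℕ) = 1 with hP'
  have hle : Subgroup.closure (uGens hF P' (F := F)) ≤
      S ⊓ Subgroup.centralizer {(torusHom z : GL D.Idx F)} := by
    refine (Subgroup.closure_le _).2 ?_
    rintro g ⟨r, t, h1, h2, rfl⟩
    refine ⟨hS (Subgroup.subset_closure ⟨r, t, h1, h2.1, rfl⟩),
      Subgroup.mem_centralizer_singleton_iff.2 ?_⟩
    rw [torusHom_conj hF z r.2, h2.2, Units.val_one, one_mul]
  let f : ({r : Fin D.nroots // half D ≤ (r : ℕ) ∧ P' r} → F) →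
      ↥(S ⊓ Subgroup.centralizer {(torusHom z : GL D.Idx F)}) :=
    fun t => ⟨uEmbed hF P' t, hle (uEmbed hF P' t).2⟩
  have hf : Function.Bijective f := by
    refine ⟨fun t t' e => uEmbed_injective hF P'
      (Subtype.ext (congrArg (fun x : ↥(S ⊓ Subgroup.centralizer {(torusHom z : GL D.Idx F)}) => x.1) e :)), fun g => ?_⟩
    obtain ⟨t, ht, hg⟩ := hsurj g g.2.1
    have hc := Subgroup.mem_centralizer_singleton_iff.1 g.2.2
    rw [hg, torusHom_prodFrom hF z t _ _ rfl] at hc
    have hc' := mul_right_cancel hc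
    refine ⟨fun r => t r.1, Subtype.ext ?_⟩
    show (uEmbed hF P' (fun r => t r.1)).1 = g.1
    rw [hg]
    refine prodFrom_congr hF fun r h1 h2 => ?_
    by_cases h : ∃ hk : r < D.nroots, half D ≤ r ∧ P' ⟨r, hk⟩
    · rw [dif_pos h]
    · rw [dif_neg h]
      by_cases hP : P ⟨r, h2⟩
      · have e := prodFrom_inj hF _ _ rfl le_rfl hc' r h1 h2
        have hne : (chiU z r : F) - 1 ≠ 0 := sub_ne_zero.2 fun e' =>
          h ⟨h2, h1, hP, Units.ext e'⟩
        have e2 : ((chiU z r : F) - 1) * t r = 0 := by rw [sub_mul, one_mul, sub_eq_zero]; exact e.symm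
        exact ((mul_eq_zero.1 e2).resolve_left hne).symm
      · exact (ht ⟨r, h2⟩ h1 hP).symm
  rw [← Nat.card_congr (Equiv.ofBijective f hf), Nat.card_fun,
    Nat.card_eq_fintype_card (α := F)]

theorem uMinus_surj [Fintype F] (π : Equiv.Perm (Fin D.nroots)) {n : GL D.Idx F}
    (hn : IsMon hF n π) : ∀ g ∈ uMinus hF π (F := F), ∃ t : ℕ → F,
      (∀ r : Fin D.nroots, half D ≤ (r : ℕ) → ¬ (π r : ℕ) < half D → t r = 0) ∧
        g = prodFrom hF (half D) t := by
  classical
  intro g hg
  haveI : Finite ↥(D.posUnipotent F) := Finite.of_equiv _ (posUnipotentEquiv hF)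
  haveI : Finite ↥(uMinus hF π (F := F)) :=
    Finite.of_injective _ (Subgroup.inclusion_injective (closure_uGens_le hF _))
  have hb := (Nat.bijective_iff_injective_and_card
    (uEmbed hF (fun r => (π r : ℕ) < half D) (F := F))).2 ⟨uEmbed_injective hF _, by
      rw [Nat.card_fun, Nat.card_eq_fintype_card (α := F)]
      exact (card_uMinus hF hn).symm⟩
  obtain ⟨t, ht⟩ := hb.2 ⟨g, hg⟩
  refine ⟨_, fun r h1 h2 => ?_, (congrArg Subtype.val ht).symm⟩
  rw [dif_neg fun h => h2 h.2.2]

/-- The Weyl elements fixing the torus element. -/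
noncomputable def stabSet : Finset (Equiv.Perm (Fin D.nroots)) :=
  open Classical in
  ((weyl hF : Set (Equiv.Perm (Fin D.nroots))).toFinite.toFinset).filter
    fun π => ∀ r : Fin D.nroots, chiU z (π r : ℕ) = chiU z (r : ℕ)

/-- The number of positive roots trivial on the element which a permutation makes negative. -/
noncomputable def invCardZ (π : Equiv.Perm (Fin D.nroots)) : ℕ :=
  Nat.card {r : Fin D.nroots //
    half D ≤ (r : ℕ) ∧ ((π r : ℕ) < half D ∧ chiU z (r : ℕ) = 1)}

theorem mem_stabSet {π : Equiv.Perm (Fin D.nroots)} :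
    π ∈ stabSet hF z ↔ π ∈ weyl hF ∧ ∀ r : Fin D.nroots, chiU z (π r : ℕ) = chiU z (r : ℕ) := by
  classical
  simp [stabSet]

/-- The order of the centraliser of a torus element. -/
theorem card_centralizer [Fintype F]
    (hinj : Function.Injective (torusHom : (Fin D.rank → Fˣ) →* GL D.Idx F)) :
    Nat.card ↥(D.group F ⊓ Subgroup.centralizer {(torusHom z : GL D.Idx F)}) =
      Fintype.card F ^
          Nat.card {r : Fin D.nroots // half D ≤ (r : ℕ) ∧ (True ∧ chiU z (r : ℕ) = 1)} *
        (Fintype.card F - 1) ^ D.rank *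
        ∑ π ∈ stabSet hF z, Fintype.card F ^ invCardZ z π := by
  classical
  set T : GL D.Idx F := torusHom z with hT
  have hUsurj : ∀ g ∈ D.posUnipotent F, ∃ t : ℕ → F,
      (∀ r : Fin D.nroots, half D ≤ (r : ℕ) → ¬ True → t r = 0) ∧
        g = prodFrom hF (half D) t := fun g hg => by
    obtain ⟨t, ht⟩ := (mem_posUnipotent_iff hF).1 hg
    exact ⟨t, fun _ _ h => absurd trivial h, ht⟩
  set US := D.posUnipotent F ⊓ Subgroup.centralizer {T} with hUS
  set MS := fun π : Equiv.Perm (Fin D.nroots) =>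
    uMinus hF π (F := F) ⊓ Subgroup.centralizer {T} with hMS
  have hword : ∀ π : ↥(stabSet hF z), ∃ w, pWord hF w = π := fun π =>
    exists_pWord hF ((mem_stabSet hF z).1 π.2).1
  choose word hword using hword
  have hnc : ∀ π : ↥(stabSet hF z), (nWord hF (word π) : GL D.Idx F) ∈
      Subgroup.centralizer {T} := fun π =>
    Subgroup.mem_centralizer_singleton_iff.2 (monomial_comm hF z (nWord_mem hF _)
      (π := (π : Equiv.Perm (Fin D.nroots))) (hword π ▸ isMon_nWord hF _)
      ((mem_stabSet hF z).1 π.2).2)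
  have htc : ∀ c : Fin D.rank → Fˣ, (torusHom c : GL D.Idx F) ∈ Subgroup.centralizer {T} :=
    fun c => Subgroup.mem_centralizer_singleton_iff.2 ((Commute.all c z).map torusHom).eq
  let f : (Σ π : ↥(stabSet hF z),
      (↥US × (Fin D.rank → Fˣ)) × ↥(MS (π : Equiv.Perm (Fin D.nroots)))) →
      ↥(D.group F ⊓ Subgroup.centralizer {T}) := fun p =>
    ⟨(p.2.1.1 : GL D.Idx F) * torusHom p.2.1.2 * nWord hF (word p.1) * (p.2.2 : GL D.Idx F),
      Subgroup.mul_mem _ (Subgroup.mul_mem _ (borel_le_group hF (Subgroup.mul_mem _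
        (Subgroup.mem_sup_left p.2.1.1.2.1) (Subgroup.mem_sup_right (torusHom_mem hF _))))
        (monomial_le_group hF (nWord_mem hF _)))
        (borel_le_group hF (uMinus_le_borel hF _ p.2.2.2.1)),
      Subgroup.mul_mem _ (Subgroup.mul_mem _ (Subgroup.mul_mem _ p.2.1.1.2.2 (htc _)) (hnc _))
        p.2.2.2.2⟩
  have hp : ∀ σ : ↥(stabSet hF z), monPerm hF (nWord hF (word σ) : GL D.Idx F) = σ := fun σ => by
    rw [monPerm_eq hF (isMon_nWord hF _), hword]
  have hUT : ∀ {u u' : GL D.Idx F} {c c' : Fin D.rank → Fˣ}, u ∈ D.posUnipotent F →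
      u' ∈ D.posUnipotent F → u * torusHom c = u' * torusHom c' →
      u = u' ∧ (torusHom c : GL D.Idx F) = torusHom c' := by
    intro u u' c c' hu hu' e
    have h1 : u'⁻¹ * u = torusHom c' * (torusHom c : GL D.Idx F)⁻¹ := by
      rw [eq_mul_inv_iff_mul_eq, mul_assoc, e, inv_mul_cancel_left]
    have h2 : u'⁻¹ * u ∈ D.posUnipotent F ⊓ D.diagonalSubgroup F :=
      ⟨Subgroup.mul_mem _ (Subgroup.inv_mem _ hu') hu,
        h1 ▸ Subgroup.mul_mem _ (torusHom_mem hF _) (Subgroup.inv_mem _ (torusHom_mem hF _))⟩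
    rw [posUnipotent_inf_diagonal hF, Subgroup.mem_bot, inv_mul_eq_one] at h2
    subst h2
    exact ⟨rfl, mul_left_cancel e⟩
  have hf : Function.Bijective f := by
    constructor
    · rintro ⟨π, ⟨u, c⟩, x⟩ ⟨π', ⟨u', c'⟩, x'⟩ e
      have e' := congrArg Subtype.val e
      simp only [f] at e'
      have h := normalForm_unique hF
        (Subgroup.mul_mem _ (Subgroup.mem_sup_left u.2.1) (Subgroup.mem_sup_right (torusHom_mem hF c)))
        (Subgroup.mul_mem _ (Subgroup.mem_sup_left u'.2.1) (Subgroup.mem_sup_right (torusHom_mem hF c')))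
        (nWord_mem hF (word π)) (nWord_mem hF (word π'))
        (by rw [hp]; exact x.2.1) (by rw [hp]; exact x'.2.1) e'
      have hπ : π = π' := by
        obtain ⟨d, hd⟩ := (mem_diagonal_iff hF).1 h.1
        apply Subtype.ext
        rw [← hp π, ← hp π']
        have hn : (nWord hF (word π') : GL D.Idx F) = nWord hF (word π) * torusHom d := by
          rw [hd, mul_inv_cancel_left]
        rw [monPerm_eq hF (isMon_nWord hF _), hn,
          monPerm_eq hF (isMon_mul hF (isMon_nWord hF _) (isMon_torus hF d)), mul_one]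
      subst hπ
      obtain ⟨h1, h2⟩ := h.2 rfl
      obtain ⟨h3, h4⟩ := hUT u.2.1 u'.2.1 h1
      rw [Subtype.ext h3, hinj h4, Subtype.ext h2]
    · intro g
      obtain ⟨b, hb, w, x, hx, e⟩ := exists_normalForm hF g.2.1
      obtain ⟨u, hu, c, rfl⟩ := (mem_borel_iff hF).1 hb
      set n : GL D.Idx F := nWord hF w with hn
      have hgT := Subgroup.mem_centralizer_singleton_iff.1 g.2.2
      obtain ⟨d, hd⟩ := exists_conj_torus hF (nWord_mem hF w) z⁻¹
      rw [map_inv, ← hT, ← hn] at hd
      have hnm : monPerm hF n = pWord hF w := monPerm_eq hF (isMon_nWord hF w)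
      have hzu : T * u * T⁻¹ ∈ D.posUnipotent F :=
        (Subgroup.mem_normalizer_iff.1
          (diagonal_le_normalizer hF (torusHom_mem hF z)) u).1 hu
      have hzx : T * x * T⁻¹ ∈ uMinus hF (pWord hF w) := by
        have h : uMinus hF (pWord hF w) (F := F) ≤
            (uMinus hF (pWord hF w)).comap (MulAut.conj T).toMonoidHom := by
          refine (Subgroup.closure_le _).2 ?_
          rintro _ ⟨r, t, h1, h2, rfl⟩
          show T * xG hF r t * T⁻¹ ∈ uMinus hF _
          rw [hT, torusHom_conj hF z r.2, mul_inv_cancel_right]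
          exact Subgroup.subset_closure ⟨r, _, h1, h2, rfl⟩
        exact h hx
      have e' : u * torusHom c * n * x = T * u * T⁻¹ * torusHom (c * (z * d)) * n * (T * x * T⁻¹) := by
        rw [← e, show (g : GL D.Idx F) = T * g * T⁻¹ by rw [← hgT, mul_inv_cancel_right], e,
          map_mul, map_mul, ← hT]
        have hcz : (torusHom c : GL D.Idx F) * T = T * torusHom c :=
          ((Commute.all c z).map torusHom).eq
        calc T * (u * torusHom c * n * x) * T⁻¹
            = T * u * T⁻¹ * (T * torusHom c) * (n * T⁻¹) * (T * x * T⁻¹) := by group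
          _ = _ := by rw [← hcz, hd]; group
      obtain ⟨hb', hxx⟩ := (normalForm_unique hF hb
        (Subgroup.mul_mem _ (Subgroup.mem_sup_left hzu) (Subgroup.mem_sup_right (torusHom_mem hF _)))
        (nWord_mem hF w) (nWord_mem hF w) (hnm ▸ hx) (hnm ▸ hzx) e').2 rfl
      obtain ⟨hu', hc'⟩ := hUT hu hzu hb'
      have hnT : n * T = T * n := by
        have h1 : (T : GL D.Idx F) * torusHom d = 1 := by
          rw [map_mul, map_mul, ← hT] at hc'
          exact mul_eq_left.1 hc'.symm
        have h2 : n * T⁻¹ = T⁻¹ * n := by rw [hd, eq_inv_of_mul_eq_one_right h1]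
        calc n * T = T * (T⁻¹ * n) * T := by group
          _ = T * (n * T⁻¹) * T := by rw [h2]
          _ = T * n := by group
      have hstab : pWord hF w ∈ stabSet hF z := by
        refine (mem_stabSet hF z).2 ⟨pWord_mem hF w, fun r => ?_⟩
        exact chiU_conj hF (isMon_nWord hF w) hnT r
      set π : ↥(stabSet hF z) := ⟨pWord hF w, hstab⟩ with hπ
      have hdd : (nWord hF (word π) : GL D.Idx F)⁻¹ * n ∈ D.diagonalSubgroup F := by
        refine mem_diagonal_of_isMon_one hF
          (Subgroup.mul_mem _ (Subgroup.inv_mem _ (nWord_mem hF _)) (nWord_mem hF _)) ?_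
        have h := isMon_monPerm hF
          (Subgroup.mul_mem _ (Subgroup.inv_mem _ (nWord_mem hF (word π) (F := F))) (nWord_mem hF w))
        have : monPerm hF ((nWord hF (word π) : GL D.Idx F)⁻¹ * n) = 1 := by
          have := map_mul (monHom hF (F := F))
            (⟨_, nWord_mem hF (word π)⟩ : ↥(D.monomialSubgroup F))⁻¹ ⟨_, nWord_mem hF w⟩
          rw [map_inv] at this
          change monPerm hF _ = (monPerm hF _)⁻¹ * monPerm hF _ at this
          rw [show monPerm hF ((nWord hF (word π) : GL D.Idx F)⁻¹ * n) = _ from this,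
            hp, monPerm_eq hF (isMon_nWord hF _)]
          exact inv_mul_cancel _
        rwa [this] at h
      obtain ⟨a, ha⟩ := (mem_diagonal_iff hF).1 hdd
      obtain ⟨a', ha'⟩ := nWord_torus hF (word π) a (F := F)
      have hus : u ∈ US := ⟨hu, Subgroup.mem_centralizer_singleton_iff.2
        (by conv_lhs => rw [hu']
            group)⟩
      have hxs : x ∈ MS (π : Equiv.Perm (Fin D.nroots)) :=
        ⟨hx, Subgroup.mem_centralizer_singleton_iff.2 (by conv_lhs => rw [hxx]
                                                          group)⟩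
      refine ⟨⟨π, (⟨u, hus⟩, c * a'), ⟨x, hxs⟩⟩, Subtype.ext ?_⟩
      show u * torusHom (c * a') * nWord hF (word π) * x = (g : GL D.Idx F)
      rw [e, map_mul, ← mul_assoc u, mul_assoc (u * torusHom c), ← ha', ha, mul_inv_cancel_left]
  rw [← Nat.card_congr (Equiv.ofBijective f hf), Nat.card_sigma]
  have hterm : ∀ π : ↥(stabSet hF z),
      Nat.card ((↥US × (Fin D.rank → Fˣ)) × ↥(MS (π : Equiv.Perm (Fin D.nroots)))) =
        Fintype.card F ^
            Nat.card {r : Fin D.nroots // half D ≤ (r : ℕ) ∧ (True ∧ chiU z (r : ℕ) = 1)} *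
          (Fintype.card F - 1) ^ D.rank *
          Fintype.card F ^ invCardZ z (π : Equiv.Perm (Fin D.nroots)) := by
    intro π
    have hn := isMon_nWord hF (word π) (F := F)
    rw [hword π] at hn
    rw [Nat.card_prod, Nat.card_prod, Nat.card_fun, Nat.card_fin,
      Nat.card_units, Nat.card_eq_fintype_card (α := F), hUS, hMS, hT,
      card_fixed hF z (fun _ => True) (closure_uGens_le hF _) hUsurj]
    congr 1
    exact card_fixed hF z (fun r => ((π : Equiv.Perm (Fin D.nroots)) r : ℕ) < half D)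
      (S := uMinus hF (π : Equiv.Perm (Fin D.nroots))) le_rfl
      (uMinus_surj hF (π : Equiv.Perm (Fin D.nroots)) hn)
  rw [Finset.sum_congr rfl fun π _ => hterm π, ← Finset.mul_sum]
  congr 1
  exact Finset.sum_coe_sort (stabSet hF z) (fun π => Fintype.card F ^ invCardZ z π)

end CentTorus

end Cfsg.Agent.Chev
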