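import Cfsg.Agent.Chev.Check.G2
import Cfsg.Agent.Chev.Check.B2
import Cfsg.Agent.Chev.Check.D4
import Cfsg.Agent.Chev.Check.F4
import Cfsg.Agent.Chev.Check.E6
import Cfsg.Agent.Chev.Check.E7
import Cfsg.Agent.Chev.Check.E8

/-!
The seven tabulated Chevalley data satisfy `Facts`.
-/

set_option autoImplicit false

namespace Cfsg.Agent.Chev

open Cfsg.Lie

universe u

theorem facts_chevG2 : Facts.{u} chevG2 := facts g2_checks

theorem facts_chevB2 : Facts.{u} chevB2 := facts b2_checks

theorem facts_chevD4 : Facts.{u} chevD4 := facts d4_checks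

theorem facts_chevF4 : Facts.{u} chevF4 := facts f4_checks

theorem facts_chevE6 : Facts.{u} chevE6 := facts e6_checks

theorem facts_chevE7 : Facts.{u} chevE7 := facts e7_checks

theorem facts_chevE8 : Facts.{u} chevE8 := facts e8_checks

/-- The seven tabulated data, in the form used by the statements. -/
theorem facts_of_mem {D : ChevalleyDatum}
    (hD : D ∈ [chevG2, chevB2, chevD4, chevF4, chevE6, chevE7, chevE8]) : Facts.{u} D := by
  simp only [List.mem_cons, List.not_mem_nil, or_false] at hD
  rcases hD with rfl | rfl | rfl | rfl | rfl | rfl | rfl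
  exacts [facts_chevG2, facts_chevB2, facts_chevD4, facts_chevF4, facts_chevE6, facts_chevE7,
    facts_chevE8]

end Cfsg.Agent.Chev
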