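import Cfsg.Agent.Chev.Simplicity
import Cfsg.Agent.Chev.WeylAll
import Cfsg.Agent.S0319

/-! Irreducibility, perfectness and simplicity of the seven tabulated groups. -/

set_option autoImplicit false
set_option maxRecDepth 100000

namespace Cfsg.Agent.Chev

open Cfsg.Lie
open scoped MatrixGroups

universe u

variable (F : Type u) [Field F]

theorem isSimpleGroup_group {D : ChevalleyDatum} (hF : Facts.{u} D)
    (hirr : (bnPair hF (F := F)).Irreducible) (hperf : commutator ↥(D.group F) = ⊤) :
    IsSimpleGroup ↥(D.group F) ∧ ¬ IsMulCommutative ↥(D.group F) := by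
  have hne : (⟨xG hF (D.simple 0) (1 : F), xG_mem_group hF _ _⟩ : ↥(D.group F)) ≠ 1 := fun e =>
    one_ne_zero ((xG_eq_one_iff hF (hF.simple_lt 0 hF.rank_pos)).1 (congrArg Subtype.val e))
  have : Nontrivial ↥(D.group F) := nontrivial_of_ne _ _ hne
  have hsolv : Group.IsSolvable (bnPair hF (F := F)).B := by
    have := borel_isSolvable hF (F := F)
    exact Group.isSolvable_of_surjective
      (f := (Subgroup.subgroupOfEquivOfLe (borel_le_group hF (F := F))).symm.toMonoidHom)
      (MulEquiv.surjective _)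
  refine ⟨S0319.result (bnPair hF) hirr hsolv hperf (normalCore_borel hF), fun h => hne ?_⟩
  have hbot : commutator ↥(D.group F) = ⊥ := by
    rw [commutator_def, Subgroup.commutator_eq_bot_iff_le_centralizer]
    intro x _
    exact Subgroup.mem_centralizer_iff.2 fun y _ => mul_comm' y x
  have h2 : (⟨xG hF (D.simple 0) (1 : F), xG_mem_group hF _ _⟩ : ↥(D.group F)) ∈
      (⊥ : Subgroup ↥(D.group F)) := by
    rw [← hbot, hperf]; exact Subgroup.mem_top _
  exact Subgroup.mem_bot.1 h2

/-- Deductions showing that `chevG2` is perfect. -/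
def g2Perfect : List PStep :=
  [.torus 7 1, .torus 10 1, .refl 0 10]

theorem g2_perfect_chk : chkPerfect chevG2 true [] g2Perfect = true := by decide +kernel

theorem g2_irreducible : (bnPair facts_chevG2 (F := F)).Irreducible :=
  bnPair_irreducible facts_chevG2 (M := fun i j => (g2Cox.getD i []).getD j 0) (o := 0)
    (l := [1]) (fun i j => orderOf_cox g2_checks facts_chevG2 g2_cox i j)
    (by decide +kernel) (by decide +kernel) (by decide +kernel)

theorem g2_commutator (h : ∃ a : F, a ≠ 0 ∧ a ≠ 1) : commutator ↥(chevG2.group F) = ⊤ :=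
  group_commutator_eq_top facts_chevG2 (fun _ => h) g2_perfect_chk

theorem g2_simple (h : ∃ a : F, a ≠ 0 ∧ a ≠ 1) :
    IsSimpleGroup ↥(chevG2.group F) ∧ ¬ IsMulCommutative ↥(chevG2.group F) :=
  isSimpleGroup_group F facts_chevG2 (g2_irreducible F) (g2_commutator F h)

/-- Deductions showing that `chevB2` is perfect. -/
def b2Perfect : List PStep :=
  [.torus 5 1, .refl 0 5, .comm 1 4 0, .refl 0 0, .refl 1 3]

theorem b2_perfect_chk : chkPerfect chevB2 true [] b2Perfect = true := by decide +kernel

theorem b2_irreducible : (bnPair facts_chevB2 (F := F)).Irreducible :=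
  bnPair_irreducible facts_chevB2 (M := fun i j => (b2Cox.getD i []).getD j 0) (o := 0)
    (l := [1]) (fun i j => orderOf_cox b2_checks facts_chevB2 b2_cox i j)
    (by decide +kernel) (by decide +kernel) (by decide +kernel)

theorem b2_commutator (h : ∃ a : F, a ≠ 0 ∧ a ≠ 1) : commutator ↥(chevB2.group F) = ⊤ :=
  group_commutator_eq_top facts_chevB2 (fun _ => h) b2_perfect_chk

theorem b2_simple (h : ∃ a : F, a ≠ 0 ∧ a ≠ 1) :
    IsSimpleGroup ↥(chevB2.group F) ∧ ¬ IsMulCommutative ↥(chevB2.group F) :=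
  isSimpleGroup_group F facts_chevB2 (b2_irreducible F) (b2_commutator F h)

/-- Deductions showing that `chevD4` is perfect. -/
def d4Perfect : List PStep :=
  [.comm 0 14 1, .refl 3 1, .refl 2 2, .refl 1 4, .refl 0 5, .refl 1 18, .refl 0 19, .refl 3 19, .refl 0 20, .refl 2 20, .refl 0 22, .refl 3 17, .refl 1 16, .refl 1 15]

theorem d4_perfect_chk : chkPerfect chevD4 false [] d4Perfect = true := by decide +kernel

theorem d4_irreducible : (bnPair facts_chevD4 (F := F)).Irreducible :=
  bnPair_irreducible facts_chevD4 (M := fun i j => (d4Cox.getD i []).getD j 0) (o := 1)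
    (l := [0, 2, 3]) (fun i j => orderOf_cox d4_checks facts_chevD4 d4_cox i j)
    (by decide +kernel) (by decide +kernel) (by decide +kernel)

theorem d4_commutator : commutator ↥(chevD4.group F) = ⊤ :=
  group_commutator_eq_top facts_chevD4 (fun e => Bool.noConfusion e) d4_perfect_chk

theorem d4_simple :
    IsSimpleGroup ↥(chevD4.group F) ∧ ¬ IsMulCommutative ↥(chevD4.group F) :=
  isSimpleGroup_group F facts_chevD4 (d4_irreducible F) (d4_commutator F)

/-- Deductions showing that `chevF4` is perfect. -/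
def f4Perfect : List PStep :=
  [.comm 0 24 1, .refl 2 1, .refl 1 2, .refl 2 4, .refl 3 5, .refl 0 6, .refl 1 17, .refl 2 22, .refl 3 22, .refl 2 21, .refl 3 23, .comm 0 29 3, .refl 0 3, .refl 1 7, .refl 2 8, .refl 3 9, .refl 1 10, .refl 2 12, .refl 1 13, .refl 0 14, .refl 1 33, .refl 0 34]

theorem f4_perfect_chk : chkPerfect chevF4 false [] f4Perfect = true := by decide +kernel

theorem f4_irreducible : (bnPair facts_chevF4 (F := F)).Irreducible :=
  bnPair_irreducible facts_chevF4 (M := fun i j => (f4Cox.getD i []).getD j 0) (o := 0)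
    (l := [1, 2, 3]) (fun i j => orderOf_cox f4_checks facts_chevF4 f4_cox i j)
    (by decide +kernel) (by decide +kernel) (by decide +kernel)

theorem f4_commutator : commutator ↥(chevF4.group F) = ⊤ :=
  group_commutator_eq_top facts_chevF4 (fun e => Bool.noConfusion e) f4_perfect_chk

theorem f4_simple :
    IsSimpleGroup ↥(chevF4.group F) ∧ ¬ IsMulCommutative ↥(chevF4.group F) :=
  isSimpleGroup_group F facts_chevF4 (f4_irreducible F) (f4_commutator F)

/-- Deductions showing that `chevE6` is perfect. -/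
def e6Perfect : List PStep :=
  [.comm 0 46 1, .refl 3 1, .refl 4 2, .refl 5 3, .refl 2 4, .refl 3 7, .refl 5 9, .refl 1 8, .refl 0 11, .refl 5 26, .refl 4 27, .refl 3 28, .refl 2 29, .refl 0 42, .refl 3 42, .refl 2 43, .refl 4 43, .refl 5 44, .refl 2 45, .refl 1 41, .refl 3 41, .refl 4 38, .refl 5 38, .refl 5 49, .refl 4 48, .refl 3 47, .refl 2 57]

theorem e6_perfect_chk : chkPerfect chevE6 false [] e6Perfect = true := by decide +kernel

theorem e6_irreducible : (bnPair facts_chevE6 (F := F)).Irreducible :=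
  bnPair_irreducible facts_chevE6 (M := fun i j => (e6Cox.getD i []).getD j 0) (o := 0)
    (l := [2, 3, 1, 4, 5]) (fun i j => orderOf_cox e6_checks facts_chevE6 e6_cox i j)
    (by decide +kernel) (by decide +kernel) (by decide +kernel)

theorem e6_commutator : commutator ↥(chevE6.group F) = ⊤ :=
  group_commutator_eq_top facts_chevE6 (fun e => Bool.noConfusion e) e6_perfect_chk

theorem e6_simple :
    IsSimpleGroup ↥(chevE6.group F) ∧ ¬ IsMulCommutative ↥(chevE6.group F) :=
  isSimpleGroup_group F facts_chevE6 (e6_irreducible F) (e6_commutator F)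

/-- Deductions showing that `chevE7` is perfect. -/
def e7Perfect : List PStep :=
  [.comm 0 93 1, .refl 2 1, .refl 3 2, .refl 4 3, .refl 5 4, .refl 6 5, .refl 1 6, .refl 3 10, .refl 6 13, .refl 5 12, .refl 2 11, .refl 0 17, .refl 5 33, .refl 6 34, .refl 4 35, .refl 5 37, .refl 3 38, .refl 4 41, .refl 2 42, .refl 3 46, .refl 1 47, .refl 3 78, .refl 1 79, .refl 4 79, .refl 5 80, .refl 6 81, .refl 2 82, .refl 3 86, .refl 6 89, .refl 5 88, .refl 0 87, .refl 3 103, .refl 5 100, .refl 1 101, .refl 0 97, .refl 5 76, .refl 4 75, .refl 3 74, .refl 2 73, .refl 0 52, .refl 2 31, .refl 3 31, .refl 4 30, .refl 5 29, .refl 6 28, .refl 1 27, .refl 0 23, .refl 2 39, .refl 6 43, .refl 1 44, .refl 5 54, .refl 3 55, .refl 4 59, .refl 5 66, .refl 4 67, .refl 6 67, .refl 4 68, .refl 5 65, .refl 0 32]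

theorem e7_perfect_chk : chkPerfect chevE7 false [] e7Perfect = true := by decide +kernel

theorem e7_irreducible : (bnPair facts_chevE7 (F := F)).Irreducible :=
  bnPair_irreducible facts_chevE7 (M := fun i j => (e7Cox.getD i []).getD j 0) (o := 0)
    (l := [2, 3, 1, 4, 5, 6]) (fun i j => orderOf_cox e7_checks facts_chevE7 e7_cox i j)
    (by decide +kernel) (by decide +kernel) (by decide +kernel)

theorem e7_commutator : commutator ↥(chevE7.group F) = ⊤ :=
  group_commutator_eq_top facts_chevE7 (fun e => Bool.noConfusion e) e7_perfect_chk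

theorem e7_simple :
    IsSimpleGroup ↥(chevE7.group F) ∧ ¬ IsMulCommutative ↥(chevE7.group F) :=
  isSimpleGroup_group F facts_chevE7 (e7_irreducible F) (e7_commutator F)

/-- Deductions showing that `chevE8` is perfect. -/
def e8Perfect : List PStep :=
  [.comm 0 120 1, .refl 6 1, .refl 5 2, .refl 4 3, .refl 3 4, .refl 2 5, .refl 1 6, .refl 3 8, .refl 4 9, .refl 5 10, .refl 6 11, .refl 7 12, .refl 0 13, .refl 2 20, .refl 7 25, .refl 6 24, .refl 5 23, .refl 3 22, .refl 1 26, .refl 5 36, .refl 6 37, .refl 7 38, .refl 4 39, .refl 5 42, .refl 7 44, .refl 3 43, .refl 5 49, .refl 6 47, .refl 2 46, .refl 0 56, .refl 6 78, .refl 7 79, .refl 5 80, .refl 6 82, .refl 4 83, .refl 5 86, .refl 3 87, .refl 4 91, .refl 2 92, .refl 3 97, .refl 1 98, .refl 3 141, .refl 1 142, .refl 4 142, .refl 5 143, .refl 6 144, .refl 7 145, .refl 2 146, .refl 3 151, .refl 7 155, .refl 6 154, .refl 5 153, .refl 0 152, .refl 3 174, .refl 5 170, .refl 6 171, .refl 1 172, .refl 0 167, .refl 6 139, .refl 5 138, .refl 4 137, .refl 3 136,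 .refl 2 135, .refl 0 104, .refl 2 76, .refl 3 76, .refl 4 75, .refl 5 74, .refl 6 73, .refl 7 72, .refl 1 71, .refl 0 66, .refl 7 88, .refl 2 89, .refl 6 94, .refl 1 95, .refl 5 107, .refl 3 108, .refl 4 113, .refl 5 126, .refl 4 127, .refl 6 127, .refl 7 128, .refl 4 129, .refl 5 125, .refl 6 122, .refl 7 122, .refl 0 77]

theorem e8_perfect_chk : chkPerfect chevE8 false [] e8Perfect = true := by decide +kernel

theorem e8_irreducible : (bnPair facts_chevE8 (F := F)).Irreducible :=
  bnPair_irreducible facts_chevE8 (M := fun i j => (e8Cox.getD i []).getD j 0) (o := 0)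
    (l := [2, 3, 1, 4, 5, 6, 7]) (fun i j => orderOf_cox e8_checks facts_chevE8 e8_cox i j)
    (by decide +kernel) (by decide +kernel) (by decide +kernel)

theorem e8_commutator : commutator ↥(chevE8.group F) = ⊤ :=
  group_commutator_eq_top facts_chevE8 (fun e => Bool.noConfusion e) e8_perfect_chk

theorem e8_simple :
    IsSimpleGroup ↥(chevE8.group F) ∧ ¬ IsMulCommutative ↥(chevE8.group F) :=
  isSimpleGroup_group F facts_chevE8 (e8_irreducible F) (e8_commutator F)

end Cfsg.Agent.Chev
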