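import Cfsg.Agent.Chev.MinCoset

/-!
The longest element of a standard parabolic subgroup of the Weyl group, relative minimal representatives, and the
alternating sum of the relative indices.
-/

set_option autoImplicit false

namespace Cfsg.Agent.Chev

open Cfsg.Lie

universe u

variable {D : ChevalleyDatum} (hF : Facts.{u} D)

/-- `π` is the longest element of `W_J`. -/
def IsLongJ (J : Finset (Fin D.rank)) (π : Equiv.Perm (Fin D.nroots)) : Prop :=
  π ∈ wJ hF J ∧ ∀ r : Fin D.nroots, half D ≤ (r : ℕ) →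
    ((π r : ℕ) < half D ↔ ∀ j, j ∉ J → coef D r j = 0)

theorem mem_invSet' {π : Equiv.Perm (Fin D.nroots)} {r : Fin D.nroots} :
    r ∈ invSet π ↔ half D ≤ (r : ℕ) ∧ (π r : ℕ) < half D := by
  simp [invSet]

include hF

theorem exists_isLongJ (J : Finset (Fin D.rank)) : ∃ π, IsLongJ hF J π := by
  obtain ⟨π, hπ, h⟩ := exists_longest_J hF J
  exact ⟨π, hπ, h⟩

theorem IsLongJ.inv {J : Finset (Fin D.rank)} {π : Equiv.Perm (Fin D.nroots)} (h : IsLongJ hF J π) :
    IsLongJ hF J π⁻¹ := by
  refine ⟨Subgroup.inv_mem _ h.1, fun r hr => ⟨fun hn j hj =>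
    coef_eq_zero_of_inverted hF (Subgroup.inv_mem _ h.1) hr hn hj, fun hs => ?_⟩⟩
  by_contra hpos
  have := (h.2 (π⁻¹ r) (not_lt.1 hpos)).2 fun j hj => by
    rw [coef_of_not_mem hF (Subgroup.inv_mem _ h.1) r hj]; exact hs j hj
  rw [app_inv] at this
  omega

theorem IsLongJ.invCard_mul_add {J : Finset (Fin D.rank)} {w π : Equiv.Perm (Fin D.nroots)}
    (h : IsLongJ hF J w) (hπ : π ∈ wJ hF J) : invCard (w * π) + invCard π = invCard w := by
  classical
  rw [invCard_eq, invCard_eq, invCard_eq, ← Finset.card_union_of_disjoint]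
  · congr 1
    ext r
    simp only [Finset.mem_union, mem_invSet', Equiv.Perm.mul_apply]
    constructor
    · rintro (⟨hr, hn⟩ | ⟨hr, hn⟩)
      · refine ⟨hr, (h.2 r hr).2 ?_⟩
        by_cases hp : half D ≤ (π r : ℕ)
        · intro j hj
          rw [← coef_of_not_mem hF hπ r hj]
          exact (h.2 _ hp).1 hn j hj
        · exact fun j hj => coef_eq_zero_of_inverted hF hπ hr (not_le.1 hp) hj
      · exact ⟨hr, (h.2 r hr).2 fun j hj => coef_eq_zero_of_inverted hF hπ hr hn hj⟩
    · rintro ⟨hr, hn⟩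
      by_cases hp : half D ≤ (π r : ℕ)
      · refine Or.inl ⟨hr, (h.2 _ hp).2 fun j hj => ?_⟩
        rw [coef_of_not_mem hF hπ r hj]
        exact (h.2 r hr).1 hn j hj
      · exact Or.inr ⟨hr, not_le.1 hp⟩
  · rw [Finset.disjoint_left]
    intro r h1 h2
    simp only [mem_invSet', Equiv.Perm.mul_apply] at h1 h2
    have hneg : half D ≤ (negF hF (π r) : ℕ) := (pos_negF_iff hF (π r)).2 h2.2
    have := (h.2 _ hneg).2 fun j hj => by
      rw [coef_negF, coef_of_not_mem hF hπ r hj, coef_eq_zero_of_inverted hF hπ h2.1 h2.2 hj, neg_zero]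
    rw [weyl_negF hF (wJ_le hF J h.1)] at this
    have h3 := (neg_lt_half_iff hF (w (π r)).2).1 this
    omega

theorem IsLongJ.invCard_le {J : Finset (Fin D.rank)} {w π : Equiv.Perm (Fin D.nroots)}
    (h : IsLongJ hF J w) (hπ : π ∈ wJ hF J) : invCard π ≤ invCard w :=
  Nat.le.intro ((add_comm _ _).trans (h.invCard_mul_add hF hπ))

open Classical in
/-- The elements of `W_J`. -/
noncomputable def jSet (J : Finset (Fin D.rank)) : Finset (Equiv.Perm (Fin D.nroots)) :=
  (wJ hF J : Set (Equiv.Perm (Fin D.nroots))).toFinite.toFinset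

theorem mem_jSet {J : Finset (Fin D.rank)} {π : Equiv.Perm (Fin D.nroots)} :
    π ∈ jSet hF J ↔ π ∈ wJ hF J := by
  simp [jSet]

open Classical in
/-- The minimal representatives of `W_J / W_K`. -/
noncomputable def minSetJ (J K : Finset (Fin D.rank)) : Finset (Equiv.Perm (Fin D.nroots)) :=
  (minSet hF K).filter fun u => u ∈ wJ hF J

theorem mem_minSetJ {J K : Finset (Fin D.rank)} {u : Equiv.Perm (Fin D.nroots)} :
    u ∈ minSetJ hF J K ↔ IsMin hF K u ∧ u ∈ wJ hF J := by
  classical
  simp [minSetJ, mem_minSet hF]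

theorem jSet_factor {R : Type*} [CommSemiring R] {J K : Finset (Fin D.rank)} (hKJ : K ⊆ J) (t : R) :
    ∑ π ∈ jSet hF J, t ^ invCard π =
      (∑ u ∈ minSetJ hF J K, t ^ invCard u) * ∑ v ∈ jSet hF K, t ^ invCard v := by
  classical
  rw [Finset.sum_mul_sum, ← Finset.sum_product']
  refine (Finset.sum_bij (fun p _ => p.1 * p.2) ?_ ?_ ?_ ?_).symm
  · rintro ⟨u, v⟩ h
    simp only [Finset.mem_product, mem_jSet hF, mem_minSetJ hF] at h ⊢
    exact Subgroup.mul_mem _ h.1.2 (wJ_mono hF hKJ h.2)
  · rintro ⟨u, v⟩ h ⟨u', v'⟩ h' e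
    simp only [Finset.mem_product, mem_jSet hF, mem_minSetJ hF] at h h'
    have : u = u' := isMin_unique hF h.1.1 h'.1.1 (by
      rw [show u⁻¹ * u' = v * v'⁻¹ by rw [eq_mul_inv_iff_mul_eq, mul_assoc, ← e, inv_mul_cancel_left]]
      exact Subgroup.mul_mem _ h.2 (Subgroup.inv_mem _ h'.2))
    subst this
    simpa using e
  · intro π hπ
    rw [mem_jSet hF] at hπ
    obtain ⟨u, hu, huπ⟩ := exists_min hF (J := K) _ rfl (wJ_le hF J hπ)
    refine ⟨(u, u⁻¹ * π), ?_, mul_inv_cancel_left u π⟩
    simp only [Finset.mem_product, mem_jSet hF, mem_minSetJ hF]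
    refine ⟨⟨hu, ?_⟩, huπ⟩
    have := Subgroup.mul_mem _ hπ (Subgroup.inv_mem _ (wJ_mono hF hKJ huπ))
    rwa [show π * (u⁻¹ * π)⁻¹ = u by group] at this
  · rintro ⟨u, v⟩ h
    simp only [Finset.mem_product, mem_jSet hF, mem_minSetJ hF] at h
    rw [invCard_min_split hF h.1.1 h.2, pow_add]

theorem jSet_reflect {R : Type*} [Field R] {t : R} (ht : t ≠ 0) {J : Finset (Fin D.rank)}
    {w : Equiv.Perm (Fin D.nroots)} (hw : IsLongJ hF J w) :
    ∑ π ∈ jSet hF J, t ^ invCard π = t ^ invCard w * ∑ π ∈ jSet hF J, t⁻¹ ^ invCard π := by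
  rw [Finset.mul_sum]
  refine Finset.sum_bij' (fun π _ => w * π) (fun π _ => w⁻¹ * π) ?_ ?_ (fun π _ => inv_mul_cancel_left _ _)
    (fun π _ => mul_inv_cancel_left _ _) fun π hπ => ?_
  · exact fun π hπ => (mem_jSet hF).2 (Subgroup.mul_mem _ hw.1 ((mem_jSet hF).1 hπ))
  · exact fun π hπ => (mem_jSet hF).2 (Subgroup.mul_mem _ (Subgroup.inv_mem _ hw.1) ((mem_jSet hF).1 hπ))
  · rw [← hw.invCard_mul_add hF ((mem_jSet hF).1 hπ), pow_add, inv_pow]
    field_simp

theorem IsLongJ.unique {J : Finset (Fin D.rank)} {w w' : Equiv.Perm (Fin D.nroots)}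
    (h : IsLongJ hF J w) (h' : IsLongJ hF J w') : w = w' := by
  have h0 : w'⁻¹ * w = 1 := by
    have hm := h'.inv hF
    refine eq_one_of_pos hF (wJ_le hF J (Subgroup.mul_mem _ hm.1 h.1)) fun i => not_lt.1 fun hlt => ?_
    have hp := hF.simple_pos i i.2
    rw [Equiv.Perm.mul_apply] at hlt
    by_cases hw : (w (sRoot hF i) : ℕ) < half D
    · have hpos := (pos_negF_iff hF _).2 hw
      have := (hm.2 _ hpos).2 fun j hj => by
        rw [coef_negF, coef_of_not_mem hF h.1 _ hj, (h.2 _ hp).1 hw j hj, neg_zero]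
      rw [weyl_negF hF (wJ_le hF J hm.1)] at this
      have h3 := (neg_lt_half_iff hF (w'⁻¹ (w (sRoot hF i))).2).1 this
      omega
    · refine hw ((h.2 _ hp).2 fun j hj => ?_)
      rw [← coef_of_not_mem hF h.1 _ hj]
      exact (hm.2 _ (not_lt.1 hw)).1 hlt j hj
  exact (inv_mul_eq_one.1 h0).symm

theorem alternating_J {R : Type*} [CommRing R] {J : Finset (Fin D.rank)}
    (f : Equiv.Perm (Fin D.nroots) → R) {w : Equiv.Perm (Fin D.nroots)} (hw : IsLongJ hF J w) :
    ∑ K ∈ J.powerset, (-1 : R) ^ K.card * ∑ u ∈ minSetJ hF J K, f u = f w := by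
  classical
  let A : Equiv.Perm (Fin D.nroots) → Finset (Fin D.rank) := fun u =>
    J.filter fun j => half D ≤ (u (sRoot hF j) : ℕ)
  have e1 : ∀ K ∈ J.powerset, minSetJ hF J K = (jSet hF J).filter fun u => K ⊆ A u := by
    intro K hK
    ext u
    simp only [mem_minSetJ hF, Finset.mem_filter, mem_jSet hF, IsMin, A, Finset.subset_iff]
    exact ⟨fun h => ⟨h.2, fun j hj => ⟨Finset.mem_powerset.1 hK hj, h.1.2 j hj⟩⟩,
      fun h => ⟨⟨wJ_le hF J h.1, fun j hj => (h.2 hj).2⟩, h.1⟩⟩
  calc ∑ K ∈ J.powerset, (-1 : R) ^ K.card * ∑ u ∈ minSetJ hF J K, f u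
      = ∑ K ∈ J.powerset, ∑ u ∈ jSet hF J, if K ⊆ A u then (-1 : R) ^ K.card * f u else 0 := by
        refine Finset.sum_congr rfl fun K hK => ?_
        rw [e1 K hK, Finset.mul_sum, Finset.sum_filter]
    _ = ∑ u ∈ jSet hF J, if A u = ∅ then f u else 0 := by
        rw [Finset.sum_comm]
        refine Finset.sum_congr rfl fun u _ => ?_
        rw [← Finset.sum_filter, ← Finset.sum_mul]
        have : (J.powerset.filter fun K => K ⊆ A u) = (A u).powerset := by
          ext K
          simp only [Finset.mem_filter, Finset.mem_powerset]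
          exact ⟨And.right, fun h => ⟨h.trans (Finset.filter_subset _ _), h⟩⟩
        rw [this]
        have h := congrArg (fun z : ℤ => (z : R)) (Finset.sum_powerset_neg_one_pow_card (x := A u))
        push_cast at h
        rw [h]
        split <;> simp
    _ = f w := by
        rw [← Finset.sum_filter]
        have : (jSet hF J).filter (fun u => A u = ∅) = {w} := by
          ext u
          simp only [Finset.mem_filter, mem_jSet hF, Finset.mem_singleton, A, Finset.filter_eq_empty_iff, not_le]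
          have hs : ∀ i ∈ J, ∀ j, j ∉ J → coef D (sRoot hF i : ℕ) j = 0 := fun i hi j hj => by
            show coef D (D.simple i) j = 0
            rw [hF.coef_simple i i.2 j j.2, if_neg]
            intro e
            exact hj ((Fin.ext e : j = i) ▸ hi)
          constructor
          · rintro ⟨hu, hneg⟩
            have hwu : w * u ∈ wJ hF J := Subgroup.mul_mem _ hw.1 hu
            have h0 : w * u = 1 := by
              refine eq_one_of_pos hF (wJ_le hF J hwu) fun i => not_lt.1 fun hlt => ?_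
              by_cases hi : i ∈ J
              · have hp : half D ≤ (negF hF (u (sRoot hF i)) : ℕ) := (pos_negF_iff hF _).2 (hneg hi)
                have := (hw.2 _ hp).2 fun j hj => by
                  rw [coef_negF, coef_of_not_mem hF hu _ hj, hs i hi j hj, neg_zero]
                rw [weyl_negF hF (wJ_le hF J hw.1)] at this
                have h3 := (neg_lt_half_iff hF (w (u (sRoot hF i))).2).1 this
                rw [Equiv.Perm.mul_apply] at hlt
                omega
              · have := coef_eq_zero_of_inverted hF hwu (hF.simple_pos i i.2) hlt hi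
                change coef D (D.simple i) i = 0 at this
                rw [hF.coef_simple i i.2 i i.2, if_pos rfl] at this
                exact one_ne_zero this
            rw [show u = w⁻¹ from eq_inv_of_mul_eq_one_right h0]
            exact (hw.inv hF).unique hF hw
          · rintro rfl
            exact ⟨hw.1, fun {i} hi => (hw.2 _ (hF.simple_pos i i.2)).2 (hs i hi)⟩
        rw [this, Finset.sum_singleton]

end Cfsg.Agent.Chev
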