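import Cfsg.Agent.Chev.SteinbergCells
import Cfsg.Agent.Chev.LongestJ

/-!
The number of elements of p-power order in a standard parabolic subgroup: the alternating sum of the permutation
characters of P_J on the cosets of its standard parabolic subgroups is supported on the unipotent radical.
-/

set_option autoImplicit false
set_option linter.unusedSectionVars false
set_option maxHeartbeats 1000000
set_option synthInstance.maxHeartbeats 400000

namespace Cfsg.Agent.Chev

open Cfsg.Lie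
open scoped MatrixGroups

universe u

theorem sum_fixed {G : Type*} [Group G] [Fintype G] (H : Subgroup G) (P : G → Prop)
    [DecidablePred P] (hP : ∀ g x, P x → P (g * x * g⁻¹)) :
    ∑ x ∈ Finset.univ.filter P, Nat.card (MulAction.fixedBy (G ⧸ H) x) =
      H.index * Nat.card {x : H // P x} := by
  classical
  rw [Subgroup.index_eq_card, ← Nat.card_prod, ← Finset.sum_coe_sort, ← Nat.card_sigma]
  refine Nat.card_congr
    { toFun := fun z => (z.2.1, ⟨⟨z.2.1.out⁻¹ * z.1.1 * z.2.1.out, ?_⟩, ?_⟩)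
      invFun := fun y => ⟨⟨y.1.out * y.2.1.1 * y.1.out⁻¹, Finset.mem_filter.2 ⟨Finset.mem_univ _, hP _ _ y.2.2⟩⟩,
        ⟨y.1, ?_⟩⟩
      left_inv := fun z => ?_
      right_inv := fun y => ?_ }
  · have h : z.1.1 • z.2.1 = z.2.1 := z.2.2
    rw [← QuotientGroup.out_eq' z.2.1] at h
    have h2 := QuotientGroup.eq.1 h
    simp only [smul_eq_mul] at h2
    have := H.inv_mem h2
    simpa [mul_assoc] using this
  · have := hP z.2.1.out⁻¹ _ (Finset.mem_filter.1 z.1.2).2
    simpa using this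
  · show (y.1.out * y.2.1.1 * y.1.out⁻¹) • y.1 = y.1
    conv_rhs => rw [← QuotientGroup.out_eq' y.1]
    conv_lhs => arg 2; rw [← QuotientGroup.out_eq' y.1]
    refine QuotientGroup.eq.2 ?_
    simp only [smul_eq_mul]
    simpa [mul_assoc] using H.inv_mem y.2.1.2
  · refine Sigma.subtype_ext (Subtype.ext ?_) rfl
    simp [mul_assoc]
  · refine Prod.ext rfl (Subtype.ext (Subtype.ext ?_))
    simp [mul_assoc]

variable {D : ChevalleyDatum} {F : Type u} [Field F]

/-- The standard parabolic subgroup of a set of fundamental roots. -/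
abbrev PJ (J : Finset (Fin D.rank)) : Subgroup (GL D.Idx F) :=
  D.parabolicSubgroup F (↑(J.map Fin.valEmbedding) : Set ℕ)

/-- Having p-power order. -/
def IsPE (p : ℕ) {G : Type*} [Group G] (x : G) : Prop := ∃ k : ℕ, x ^ p ^ k = 1

theorem IsPE.conj {p : ℕ} {G : Type*} [Group G] {x : G} (h : IsPE p x) (g : G) : IsPE p (g * x * g⁻¹) := by
  obtain ⟨k, hk⟩ := h
  exact ⟨k, by rw [conj_pow, hk]; group⟩

variable (hF : Facts.{u} D)
include hF

theorem PJ_mono {J K : Finset (Fin D.rank)} (h : K ⊆ J) : (PJ K : Subgroup (GL D.Idx F)) ≤ PJ J := by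
  refine sup_le (borel_le_parabolic _) ((Subgroup.closure_le _).2 ?_)
  rintro g ⟨j, hjK, hj, e⟩
  refine Subgroup.mem_sup_right (Subgroup.subset_closure ⟨j, ?_, hj, e⟩)
  exact Finset.map_subset_map.2 h hjK

theorem repN_mem_PJ {J : Finset (Fin D.rank)} {π : Equiv.Perm (Fin D.nroots)} (hπ : π ∈ wJ hF J) :
    (repN hF π : GL D.Idx F) ∈ PJ J :=
  repN_parabolic hF (by rwa [idxSet_map])

theorem poin_eq (J : Finset (Fin D.rank)) (q : ℕ) : poin hF J q = ∑ π ∈ jSet hF J, q ^ invCard π := rfl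

variable [Fintype F]

theorem card_PJ (J : Finset (Fin D.rank)) :
    Nat.card ↥(PJ J : Subgroup (GL D.Idx F)) =
      Fintype.card F ^ half D * Nat.card ↥(D.diagonalSubgroup F) * poin hF J (Fintype.card F) := by
  rw [card_parabolic hF, idxSet_map]

theorem index_PJ {J K : Finset (Fin D.rank)} (h : K ⊆ J) :
    ((PJ K : Subgroup (GL D.Idx F)).subgroupOf (PJ J)).index =
      ∑ u ∈ minSetJ hF J K, Fintype.card F ^ invCard u := by
  have he := Subgroup.card_mul_index ((PJ K : Subgroup (GL D.Idx F)).subgroupOf (PJ J))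
  rw [Nat.card_congr (Subgroup.subgroupOfEquivOfLe (PJ_mono hF h)).toEquiv, card_PJ hF K, card_PJ hF J,
    poin_eq hF J, jSet_factor hF h, ← poin_eq hF K] at he
  have hpos : 0 < Fintype.card F ^ half D * Nat.card ↥(D.diagonalSubgroup F) * poin hF K (Fintype.card F) := by
    rw [← card_PJ hF K]; exact Nat.card_pos
  apply Nat.eq_of_mul_eq_mul_left hpos
  rw [he]
  ring

theorem fixed_PJ {J K : Finset (Fin D.rank)} (h : K ⊆ J) {b : ↥(PJ J : Subgroup (GL D.Idx F))}
    (hb : (b : GL D.Idx F) ∈ D.borelSubgroup F) :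
    Nat.card (MulAction.fixedBy (↥(PJ J : Subgroup (GL D.Idx F)) ⧸ (PJ K).subgroupOf (PJ J)) b) =
      ∑ π ∈ minSetJ hF J K, cellCount hF π (b : GL D.Idx F) := by
  classical
  set S := minSetJ hF J K with hS
  set P := (PJ K : Subgroup (GL D.Idx F)).subgroupOf (PJ J) with hP
  have hBP : ∀ (L : Finset (Fin D.rank)) {x : GL D.Idx F}, x ∈ D.borelSubgroup F → x ∈ PJ L :=
    fun L x hx => borel_le_parabolic _ hx
  have hyG : ∀ (π : ↥S) (y : ↥(uMinus hF (π : Equiv.Perm (Fin D.nroots))⁻¹ (F := F))),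
      (y : GL D.Idx F) * repN hF (π : Equiv.Perm (Fin D.nroots)) ∈ PJ J := fun π y =>
    Subgroup.mul_mem _ (hBP J (uMinus_le_borel hF _ y.2))
      (repN_mem_PJ hF ((mem_minSetJ hF).1 π.2).2)
  let f : (Σ π : ↥S, ↥(uMinus hF (π : Equiv.Perm (Fin D.nroots))⁻¹ (F := F))) →
      ↥(PJ J : Subgroup (GL D.Idx F)) ⧸ P := fun z => QuotientGroup.mk ⟨_, hyG z.1 z.2⟩
  have hPG : (PJ J : Subgroup (GL D.Idx F)) ≤ D.group F := by
    refine sup_le (borel_le_group hF) ((Subgroup.closure_le _).2 fun y ⟨j, _, hj, ey⟩ => ?_)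
    rw [show y = nG hF (D.simple j) 1 from Units.ext (ey.trans (nG_val hF _ 1).symm)]
    exact nG_mem_group hF _ _
  have hsurj : Function.Surjective f := by
    intro c
    obtain ⟨g, rfl⟩ := QuotientGroup.mk_surjective c
    obtain ⟨b₁, hb₁, w, x, hx, e⟩ := exists_normalForm hF (hPG g.2)
    have hwJ : pWord hF w ∈ wJ hF J := by
      have hnw : (nWord hF w : GL D.Idx F) ∈ PJ J := by
        rw [show (nWord hF w : GL D.Idx F) = b₁⁻¹ * (g : GL D.Idx F) * x⁻¹ by rw [e]; group]
        exact Subgroup.mul_mem _ (Subgroup.mul_mem _ (Subgroup.inv_mem _ (hBP J hb₁)) g.2)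
          (Subgroup.inv_mem _ (hBP J (uMinus_le_borel hF _ hx)))
      have := pWord_mem_of_nWord_mem hF _ hnw
      rwa [idxSet_map] at this
    obtain ⟨π, hπ, hv⟩ := exists_min hF (J := K) _ rfl (pWord_mem hF w)
    have hπJ : π ∈ wJ hF J := by
      have := Subgroup.mul_mem _ hwJ (Subgroup.inv_mem _ (wJ_mono hF h hv))
      rwa [show pWord hF w * (π⁻¹ * pWord hF w)⁻¹ = π by group] at this
    set v := π⁻¹ * pWord hF w
    obtain ⟨y', hy', b', hb', e'⟩ := cell_step hF hπ.1 hb₁
      (Subgroup.one_mem (uMinus hF π⁻¹))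
    rw [one_mul] at e'
    refine ⟨⟨⟨π, (mem_minSetJ hF).2 ⟨hπ, hπJ⟩⟩, ⟨y', hy'⟩⟩, ?_⟩
    rw [QuotientGroup.eq]
    show (y' * repN hF π)⁻¹ * (g : GL D.Idx F) ∈ PJ K
    have h2 := isMon_mul hF (isMon_inv hF (Subgroup.mul_mem _ (repN_mem hF π) (repN_mem hF v))
      (isMon_mul hF (isMon_repN hF hπ.1) (isMon_repN hF (wJ_le hF _ hv) (F := F))))
      (isMon_nWord hF w (F := F))
    rw [mul_inv_cancel_left, inv_mul_cancel] at h2
    have hd := mem_diagonal_of_isMon_one hF (Subgroup.mul_mem _ (Subgroup.inv_mem _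
      (Subgroup.mul_mem _ (repN_mem hF π) (repN_mem hF v))) (nWord_mem hF w)) h2
    set d := (repN hF π * repN hF v : GL D.Idx F)⁻¹ * nWord hF w with hdd
    have hnw : (nWord hF w : GL D.Idx F) = repN hF π * repN hF v * d := by
      rw [hdd, mul_inv_cancel_left]
    have eg : (y' * repN hF π)⁻¹ * (g : GL D.Idx F) = b' * repN hF v * d * x := by
      rw [e, hnw, show b₁ * (repN hF π * repN hF v * d) * x =
        b₁ * repN hF π * (repN hF v * d * x) by group, e']
      group
    rw [eg]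
    exact Subgroup.mul_mem _ (Subgroup.mul_mem _ (Subgroup.mul_mem _ (hBP K hb')
      (repN_mem_PJ hF hv)) (hBP K (Subgroup.mem_sup_right hd))) (hBP K (uMinus_le_borel hF _ hx))
  have hbij : Function.Bijective f := by
    refine (Nat.bijective_iff_surjective_and_card f).2 ⟨hsurj, ?_⟩
    rw [Nat.card_sigma, hP, ← Subgroup.index_eq_card, index_PJ hF h,
      ← Finset.sum_coe_sort S (fun u => Fintype.card F ^ invCard u)]
    refine Finset.sum_congr rfl fun π _ => ?_
    have hπW := ((mem_minSetJ hF).1 π.2).1.1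
    rw [card_uMinus hF (isMon_repN hF (Subgroup.inv_mem _ hπW)), invCard_inv hF hπW]
  have hfix : ∀ z, f z ∈ MulAction.fixedBy (↥(PJ J : Subgroup (GL D.Idx F)) ⧸ P) b ↔
      FixPt hF (z.1 : Equiv.Perm (Fin D.nroots)) (b : GL D.Idx F) (z.2 : GL D.Idx F) := by
    rintro ⟨π, y⟩
    obtain ⟨y', hy', b', hb', e'⟩ := cell_step hF ((mem_minSetJ hF).1 π.2).1.1 hb y.2
    have hmove : b • f ⟨π, y⟩ = f ⟨π, ⟨y', hy'⟩⟩ := by
      refine QuotientGroup.eq.2 ?_
      show ((b : GL D.Idx F) * ((y : GL D.Idx F) * repN hF (π : Equiv.Perm (Fin D.nroots))))⁻¹ *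
        (y' * repN hF (π : Equiv.Perm (Fin D.nroots))) ∈ PJ K
      rw [e', mul_inv_rev, inv_mul_cancel_right]
      exact hBP K (Subgroup.inv_mem _ hb')
    constructor
    · intro hh
      rw [MulAction.mem_fixedBy, hmove] at hh
      obtain rfl : (⟨y', hy'⟩ : ↥(uMinus hF (π : Equiv.Perm (Fin D.nroots))⁻¹)) = y := by
        simpa using hbij.1 hh
      exact ⟨b', hb', e'⟩
    · rintro ⟨b'', hb'', e''⟩
      refine QuotientGroup.eq.2 ?_
      show ((b : GL D.Idx F) * ((y : GL D.Idx F) * repN hF (π : Equiv.Perm (Fin D.nroots))))⁻¹ *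
        ((y : GL D.Idx F) * repN hF (π : Equiv.Perm (Fin D.nroots))) ∈ PJ K
      rw [e'', mul_inv_rev, inv_mul_cancel_right]
      exact hBP K (Subgroup.inv_mem _ hb'')
  rw [← Nat.card_congr ((Equiv.ofBijective f hbij).subtypeEquiv
      (p := fun z => FixPt hF (z.1 : Equiv.Perm (Fin D.nroots)) (b : GL D.Idx F) (z.2 : GL D.Idx F))
      (q := fun c => c ∈ MulAction.fixedBy (↥(PJ J : Subgroup (GL D.Idx F)) ⧸ P) b) fun z => (hfix z).symm),
    Nat.card_congr (β := Σ π : ↥S, {y : ↥(uMinus hF (π : Equiv.Perm (Fin D.nroots))⁻¹ (F := F)) //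
      FixPt hF (π : Equiv.Perm (Fin D.nroots)) (b : GL D.Idx F) (y : GL D.Idx F)})
      { toFun := fun z => ⟨z.1.1, z.1.2, z.2⟩
        invFun := fun c => ⟨⟨c.1, c.2.1⟩, c.2.2⟩
        left_inv := fun _ => rfl
        right_inv := fun _ => rfl },
    Nat.card_sigma, ← Finset.sum_coe_sort S (fun π => cellCount hF π (b : GL D.Idx F))]
  rfl

theorem radical_eq_uPlus {J : Finset (Fin D.rank)} {w : Equiv.Perm (Fin D.nroots)} (hw : IsLongJ hF J w) :
    D.unipotentRadical F (↑(J.map Fin.valEmbedding) : Set ℕ) = uPlus hF w :=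
  unipotentRadical_eq hF _ (by rw [idxSet_map]; exact hw.2)

open Classical in
theorem cellCount_long {J : Finset (Fin D.rank)} {w : Equiv.Perm (Fin D.nroots)} (hw : IsLongJ hF J w)
    {u : GL D.Idx F} (hu : u ∈ D.posUnipotent F) :
    cellCount hF w u =
      if u ∈ D.unipotentRadical F (↑(J.map Fin.valEmbedding) : Set ℕ) then Fintype.card F ^ invCard w else 0 := by
  set R := D.unipotentRadical F (↑(J.map Fin.valEmbedding) : Set ℕ) with hR
  set n := (repN hF w : GL D.Idx F) with hn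
  have hwW := wJ_le hF J hw.1
  have hnI := isMon_inv hF (repN_mem hF w) (isMon_repN hF hwW (F := F))
  have hRU : R = uPlus hF w⁻¹ := radical_eq_uPlus hF (hw.inv hF)
  have hnorm : ∀ y ∈ D.posUnipotent F, ∀ z, z ∈ R ↔ y * z * y⁻¹ ∈ R := fun y hy z =>
    Subgroup.mem_normalizer_iff.1
      (parabolic_le_normalizer hF _ (borel_le_parabolic _ (Subgroup.mem_sup_left hy))) z
  have key : ∀ y ∈ uMinus hF w⁻¹ (F := F), FixPt hF w u y ↔ u ∈ R := by
    intro y hy
    have hyU := uMinus_le_posU hF _ hy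
    have hu' : y⁻¹ * u * y ∈ D.posUnipotent F :=
      Subgroup.mul_mem _ (Subgroup.mul_mem _ (Subgroup.inv_mem _ hyU) hu) hyU
    have hconj : u ∈ R ↔ y⁻¹ * u * y ∈ R := by
      have := hnorm y⁻¹ (Subgroup.inv_mem _ hyU) u
      rwa [inv_inv] at this
    rw [hconj]
    constructor
    · rintro ⟨b', hb', e⟩
      have hb'' : n⁻¹ * (y⁻¹ * u * y) * n ∈ D.borelSubgroup F := by
        rw [show n⁻¹ * (y⁻¹ * u * y) * n = n⁻¹ * y⁻¹ * (u * (y * n)) by group, e,
          show n⁻¹ * y⁻¹ * (y * n * b') = b' by group]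
        exact hb'
      obtain ⟨a, ha, m, hm, eam⟩ := posUnipotent_split hF w⁻¹ hu'
      rw [eam] at hb'' ⊢
      have ha' := conj_uPlus hF hnI ha
      have hm' := conj_uMinus hF hnI hm
      rw [inv_inv] at ha' hm'
      have hb3 : n⁻¹ * m * n ∈ D.borelSubgroup F := by
        rw [show n⁻¹ * m * n = (n⁻¹ * a * n)⁻¹ * (n⁻¹ * (a * m) * n) by group]
        exact Subgroup.mul_mem _ (Subgroup.inv_mem _ (Subgroup.mem_sup_left ha')) hb''
      have h1 := borel_inf_upper hF hb3 (negUnipotent_le_upperGroup hF hm')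
      have hm1 : m = 1 := by
        have := congrArg (fun z => n * z * n⁻¹) h1
        simpa [mul_assoc] using this
      rw [hm1, mul_one, hRU]
      exact ha
    · intro hz
      rw [hRU] at hz
      have h1 := conj_uPlus hF hnI hz
      rw [inv_inv] at h1
      exact ⟨_, Subgroup.mem_sup_left h1, show u * (y * n) = y * n * (n⁻¹ * (y⁻¹ * u * y) * n) by group⟩
  rw [cellCount]
  split_ifs with hmem
  · rw [Nat.card_congr (Equiv.subtypeUnivEquiv fun y : ↥(uMinus hF w⁻¹ (F := F)) => (key _ y.2).2 hmem), card_uMinus hF hnI, invCard_inv hF hwW]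
  · have : IsEmpty {y : ↥(uMinus hF w⁻¹ (F := F)) // FixPt hF w u y} :=
      ⟨fun ⟨⟨y, hy⟩, hfix⟩ => hmem ((key y hy).1 hfix)⟩
    exact Nat.card_of_isEmpty

theorem card_radical {J : Finset (Fin D.rank)} {w : Equiv.Perm (Fin D.nroots)} (hw : IsLongJ hF J w) :
    Fintype.card F ^ invCard w * Nat.card ↥(D.unipotentRadical F (↑(J.map Fin.valEmbedding) : Set ℕ)) =
      Fintype.card F ^ half D := by
  have hn := isMon_repN hF (wJ_le hF J hw.1) (F := F)
  rw [radical_eq_uPlus hF hw, ← card_posUnipotent hF (F := F), ← card_uMinus hF hn, mul_comm, ← Nat.card_prod]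
  refine Nat.card_congr (Equiv.ofBijective
    (fun z : ↥(uPlus hF w (F := F)) × ↥(uMinus hF w (F := F)) => (⟨(z.1 : GL D.Idx F) * z.2,
      Subgroup.mul_mem _ (closure_uGens_le hF _ z.1.2) (uMinus_le_posU hF _ z.2.2)⟩ : ↥(D.posUnipotent F)))
    ⟨?_, ?_⟩)
  · rintro ⟨⟨a, ha⟩, b, hb⟩ ⟨⟨a', ha'⟩, b', hb'⟩ e
    have e' : a * b = a' * b' := congrArg Subtype.val e
    have h1 : b' * b⁻¹ = a'⁻¹ * a := by
      rw [mul_inv_eq_iff_eq_mul, mul_assoc, e', inv_mul_cancel_left]
    have hc1 := conj_uMinus hF hn (Subgroup.mul_mem _ hb' (Subgroup.inv_mem _ hb))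
    have hc2 := conj_uPlus hF hn (Subgroup.mul_mem _ (Subgroup.inv_mem _ ha') ha)
    rw [← h1] at hc2
    have h2 := conj_eq_one_iff.1 (borel_inf_upper hF (Subgroup.mem_sup_left hc2)
      (negUnipotent_le_upperGroup hF hc1))
    rw [mul_inv_eq_one] at h2
    subst h2
    simp only [mul_left_inj] at e'
    subst e'
    rfl
  · intro g
    obtain ⟨a, ha, b, hb, e⟩ := posUnipotent_split hF w g.2
    exact ⟨(⟨a, ha⟩, ⟨b, hb⟩), Subtype.ext e.symm⟩

variable (p : ℕ) [Fact p.Prime] [CharP F p]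

theorem isPGroup_posUnipotent : IsPGroup p ↥(D.posUnipotent F) := by
  obtain ⟨n, -, hn⟩ := FiniteField.card F p
  exact IsPGroup.of_card (n := n * half D) (by rw [card_posUnipotent hF, hn, pow_mul])

theorem isPE_posUnipotent {x : GL D.Idx F} (hx : x ∈ D.posUnipotent F) : IsPE p x := by
  obtain ⟨k, hk⟩ := isPGroup_posUnipotent hF p ⟨x, hx⟩
  exact ⟨k, congrArg Subtype.val hk⟩

theorem not_dvd_index_posU (J : Finset (Fin D.rank)) :
    ¬ p ∣ ((D.posUnipotent F).subgroupOf (PJ J)).index := by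
  classical
  have hp : p.Prime := Fact.out
  obtain ⟨n, -, hq⟩ := FiniteField.card F p
  have hUle : D.posUnipotent F ≤ (PJ J : Subgroup (GL D.Idx F)) :=
    le_trans le_sup_left (borel_le_parabolic _)
  have he := Subgroup.card_mul_index ((D.posUnipotent F).subgroupOf (PJ J))
  rw [Nat.card_congr (Subgroup.subgroupOfEquivOfLe hUle).toEquiv, card_posUnipotent hF, card_PJ hF J,
    mul_assoc] at he
  rw [Nat.eq_of_mul_eq_mul_left (pow_pos Fintype.card_pos _) he]
  refine hp.not_dvd_mul ?_ ?_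
  · have hr : D.diagonalSubgroup F = (torusHom (D := D) (F := F)).range := diagonal_eq_range hF
    rw [hr]
    intro h
    have h2 := h.trans (Subgroup.card_range_dvd (torusHom (D := D) (F := F)))
    rw [Nat.card_fun, Nat.card_fin, Nat.card_units, Nat.card_eq_fintype_card] at h2
    have h3 := hp.dvd_of_dvd_pow h2
    have h4 : p ∣ Fintype.card F := hq ▸ dvd_pow_self p (PNat.ne_zero n)
    have h5 := Nat.dvd_sub h4 h3
    rw [Nat.sub_sub_self Fintype.card_pos] at h5
    exact hp.not_dvd_one h5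
  · rw [poin_eq hF, ← Finset.sum_erase_add _ _ ((mem_jSet hF).2 (Subgroup.one_mem (wJ hF J)))]
    have h1 : invCard (1 : Equiv.Perm (Fin D.nroots)) = 0 := by
      rw [invCard_eq, Finset.card_eq_zero, Finset.eq_empty_iff_forall_notMem]
      intro r hr
      rw [mem_invSet', Equiv.Perm.one_apply] at hr
      omega
    rw [h1, pow_zero, ← Nat.dvd_add_iff_right ?_]
    · exact hp.not_dvd_one
    refine Finset.dvd_sum fun π hπ => ?_
    obtain ⟨hne, hπJ⟩ := Finset.mem_erase.1 hπ
    have hpos : invCard π ≠ 0 := fun h0 => hne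
      (eq_one_of_pos hF (wJ_le hF J ((mem_jSet hF).1 hπJ)) fun i => not_lt.1 fun hlt => by
        have := invCard_pos_of_inverted (hF.simple_pos i i.2) hlt
        omega)
    exact dvd_pow (hq ▸ dvd_pow_self p (PNat.ne_zero n)) hpos

/-- The number of p-elements of a parabolic subgroup. -/
noncomputable def cJ (J : Finset (Fin D.rank)) : ℕ :=
  Nat.card {x : ↥(PJ J : Subgroup (GL D.Idx F)) // IsPE p (x : GL D.Idx F)}

open Classical in
theorem cJ_eq (J : Finset (Fin D.rank)) : ∀ {w : Equiv.Perm (Fin D.nroots)}, IsLongJ hF J w →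
    cJ (F := F) p J = Fintype.card F ^ (half D + invCard w) := by
  induction J using Finset.strongInduction with
  | _ J ih =>
    intro w hw
    have : Fintype ↥(PJ J : Subgroup (GL D.Idx F)) := Fintype.ofFinite _
    set q := Fintype.card F with hqdef
    set R := D.unipotentRadical F (↑(J.map Fin.valEmbedding) : Set ℕ) with hR
    set U := (D.posUnipotent F).subgroupOf (PJ J : Subgroup (GL D.Idx F)) with hU
    have hUle : D.posUnipotent F ≤ (PJ J : Subgroup (GL D.Idx F)) :=
      le_trans le_sup_left (borel_le_parabolic _)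
    have hUp : IsPGroup p U := (isPGroup_posUnipotent hF p).of_equiv (Subgroup.subgroupOfEquivOfLe hUle).symm
    let S := hUp.toSylow (not_dvd_index_posU hF p J)
    let E := Finset.univ.filter fun x : ↥(PJ J : Subgroup (GL D.Idx F)) => IsPE p (x : GL D.Idx F)
    have hRP : R ≤ PJ J := by
      rw [hR, radical_eq_uPlus hF hw]
      exact (closure_uGens_le hF _).trans hUle
    -- the alternating sum at one element
    have hval : ∀ x ∈ E, ∑ K ∈ J.powerset, (-1 : ℚ) ^ K.card *
        (Nat.card (MulAction.fixedBy (↥(PJ J : Subgroup (GL D.Idx F)) ⧸ (PJ K).subgroupOf (PJ J)) x) : ℚ) =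
        if (x : GL D.Idx F) ∈ R then (q : ℚ) ^ invCard w else 0 := by
      intro x hx
      obtain ⟨k, hk⟩ := (Finset.mem_filter.1 hx).2
      have hxp : IsPGroup p (Subgroup.zpowers x) := by
        rintro ⟨y, hy⟩
        obtain ⟨i, rfl⟩ := Subgroup.mem_zpowers_iff.1 hy
        refine ⟨k, Subtype.ext ?_⟩
        show (x ^ i) ^ p ^ k = 1
        rw [← zpow_natCast, ← zpow_mul, mul_comm, zpow_mul, zpow_natCast,
          show x ^ p ^ k = 1 from Subtype.ext (by rw [Subgroup.coe_pow, hk]; rfl), one_zpow]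
      obtain ⟨T, hT⟩ := hxp.exists_le_sylow
      obtain ⟨g, hg⟩ := MulAction.exists_smul_eq (↥(PJ J : Subgroup (GL D.Idx F))) T S
      set u := g * x * g⁻¹ with hu
      have huS : u ∈ (S : Subgroup ↥(PJ J : Subgroup (GL D.Idx F))) := by
        rw [← hg]
        exact ⟨x, hT (Subgroup.mem_zpowers x), by simp [hu, MulAut.conj_apply]⟩
      have huU : (u : GL D.Idx F) ∈ D.posUnipotent F := by
        rwa [IsPGroup.toSylow_coe, Subgroup.mem_subgroupOf] at huS
      have hcong : ∀ K : Finset (Fin D.rank),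
          Nat.card (MulAction.fixedBy (↥(PJ J : Subgroup (GL D.Idx F)) ⧸ (PJ K).subgroupOf (PJ J)) x) =
          Nat.card (MulAction.fixedBy (↥(PJ J : Subgroup (GL D.Idx F)) ⧸ (PJ K).subgroupOf (PJ J)) u) := fun K => by
        refine Nat.card_congr ((MulAction.toPerm g).subtypeEquiv fun c => ?_)
        show x • c = c ↔ u • g • c = g • c
        rw [hu, ← mul_smul, inv_mul_cancel_right, mul_smul]
        exact (smul_left_cancel_iff g).symm
      have hRiff : (x : GL D.Idx F) ∈ R ↔ (u : GL D.Idx F) ∈ R := by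
        rw [hu]
        exact Subgroup.mem_normalizer_iff.1 (parabolic_le_normalizer hF _ g.2) x
      calc _ = ∑ K ∈ J.powerset, (-1 : ℚ) ^ K.card *
            ∑ π ∈ minSetJ hF J K, (cellCount hF π (u : GL D.Idx F) : ℚ) := by
              refine Finset.sum_congr rfl fun K hK => ?_
              rw [hcong K, fixed_PJ hF (Finset.mem_powerset.1 hK) (Subgroup.mem_sup_left huU), Nat.cast_sum]
        _ = (cellCount hF w (u : GL D.Idx F) : ℚ) :=
              alternating_J hF (fun π => (cellCount hF π (u : GL D.Idx F) : ℚ)) hw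
        _ = _ := by
              rw [cellCount_long hF hw huU, hRiff]
              split_ifs <;> simp [hqdef]
    -- double counting
    have hsum : ∑ K ∈ J.powerset, (-1 : ℚ) ^ K.card *
        ((∑ u ∈ minSetJ hF J K, (q : ℚ) ^ invCard u) * (cJ (F := F) p K : ℚ)) = (q : ℚ) ^ half D := by
      have h1 : ∀ K ∈ J.powerset, ((∑ u ∈ minSetJ hF J K, (q : ℚ) ^ invCard u) * (cJ (F := F) p K : ℚ)) =
          ∑ x ∈ E, (Nat.card (MulAction.fixedBy
            (↥(PJ J : Subgroup (GL D.Idx F)) ⧸ (PJ K).subgroupOf (PJ J)) x) : ℚ) := by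
        intro K hK
        have h := sum_fixed ((PJ K : Subgroup (GL D.Idx F)).subgroupOf (PJ J))
          (fun x => IsPE p (x : GL D.Idx F)) (fun g x hx => hx.conj (g : GL D.Idx F))
        rw [index_PJ hF (Finset.mem_powerset.1 hK)] at h
        have hc : Nat.card {x : ↥((PJ K : Subgroup (GL D.Idx F)).subgroupOf (PJ J)) //
            IsPE p (x.1 : GL D.Idx F)} = cJ (F := F) p K :=
          Nat.card_congr ((Subgroup.subgroupOfEquivOfLe (PJ_mono hF (Finset.mem_powerset.1 hK))).toEquiv.subtypeEquiv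
            fun x => Iff.rfl)
        rw [hc] at h
        exact_mod_cast h.symm
      rw [Finset.sum_congr rfl fun K hK => by rw [h1 K hK, Finset.mul_sum], Finset.sum_comm,
        Finset.sum_congr rfl hval, ← Finset.sum_filter, Finset.sum_const, nsmul_eq_mul]
      have hE : (E.filter fun x : ↥(PJ J : Subgroup (GL D.Idx F)) => (x : GL D.Idx F) ∈ R).card =
          Nat.card ↥R := by
        rw [show Nat.card ↥R = Nat.card {x : ↥(PJ J : Subgroup (GL D.Idx F)) // (x : GL D.Idx F) ∈ R} from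
          (Nat.card_congr (Subgroup.subgroupOfEquivOfLe hRP).toEquiv).symm, Nat.card_eq_fintype_card,
          Fintype.card_subtype, Finset.filter_filter]
        refine congrArg Finset.card (Finset.filter_congr fun x _ => ⟨And.right, fun h => ⟨?_, h⟩⟩)
        rw [hR, radical_eq_uPlus hF hw] at h
        exact isPE_posUnipotent hF p (closure_uGens_le hF _ h)
      rw [hE, mul_comm]
      exact_mod_cast card_radical hF hw
    -- the proposed values solve the same recursion
    choose wl hwl using fun K => exists_isLongJ hF K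
    have hq0 : (q : ℚ) ≠ 0 := Nat.cast_ne_zero.2 Fintype.card_ne_zero
    have hA : ∀ K ∈ J.powerset, (∑ u ∈ minSetJ hF J K, (q : ℚ) ^ invCard u) * (q : ℚ) ^ invCard (wl K) =
        (q : ℚ) ^ invCard w * ∑ u ∈ minSetJ hF J K, (q : ℚ)⁻¹ ^ invCard u := by
      intro K hK
      have hKJ := Finset.mem_powerset.1 hK
      have hpos : 0 < ∑ v ∈ jSet hF K, (q : ℚ)⁻¹ ^ invCard v :=
        Finset.sum_pos (fun v _ => pow_pos (inv_pos.2 (Nat.cast_pos.2 Fintype.card_pos)) _)
          ⟨1, (mem_jSet hF).2 (Subgroup.one_mem _)⟩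
      refine mul_right_cancel₀ hpos.ne' ?_
      rw [mul_assoc, ← jSet_reflect hF hq0 (hwl K), ← jSet_factor hF hKJ, mul_assoc, ← jSet_factor hF hKJ,
        jSet_reflect hF hq0 hw]
    have hmodel : ∑ K ∈ J.powerset, (-1 : ℚ) ^ K.card *
        ((∑ u ∈ minSetJ hF J K, (q : ℚ) ^ invCard u) * ((q : ℚ) ^ half D * (q : ℚ) ^ invCard (wl K))) =
        (q : ℚ) ^ half D := by
      calc _ = ∑ K ∈ J.powerset, (q : ℚ) ^ half D * (q : ℚ) ^ invCard w *
            ((-1 : ℚ) ^ K.card * ∑ u ∈ minSetJ hF J K, (q : ℚ)⁻¹ ^ invCard u) := by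
              refine Finset.sum_congr rfl fun K hK => ?_
              rw [mul_left_comm (∑ u ∈ minSetJ hF J K, (q : ℚ) ^ invCard u), hA K hK]
              ring
        _ = _ := by
              rw [← Finset.mul_sum, alternating_J hF (fun u => (q : ℚ)⁻¹ ^ invCard u) hw, inv_pow, mul_assoc,
                mul_inv_cancel₀ (pow_ne_zero _ hq0), mul_one]
    have hdiff := hsum.trans hmodel.symm
    rw [← Finset.sum_erase_add _ _ (Finset.mem_powerset_self J),
      ← Finset.sum_erase_add _ _ (Finset.mem_powerset_self J),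
      Finset.sum_congr rfl fun K hK => by
        obtain ⟨hne, hK'⟩ := Finset.mem_erase.1 hK
        rw [ih K ((Finset.mem_powerset.1 hK').ssubset_of_ne hne) (hwl K), Nat.cast_pow, pow_add],
      add_right_inj] at hdiff
    have hone : ∑ u ∈ minSetJ hF J J, (q : ℚ) ^ invCard u = 1 := by
      have hh := index_PJ hF (F := F) (Finset.Subset.refl J)
      rw [Subgroup.subgroupOf_self, Subgroup.index_top] at hh
      exact_mod_cast hh.symm
    rw [hone, one_mul, one_mul, mul_right_inj' (pow_ne_zero _ (by norm_num)), ← pow_add,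
      (hwl J).unique hF hw] at hdiff
    exact_mod_cast hdiff

theorem card_group_pElements :
    Nat.card {g : ↥(D.group F) // ∃ k : ℕ, orderOf g = p ^ k} = Fintype.card F ^ (2 * half D) := by
  classical
  obtain ⟨w, hw⟩ := exists_longest hF
  have hlong : IsLongJ hF Finset.univ (pWord hF w) := by
    refine ⟨by rw [wJ_univ]; exact pWord_mem hF w, fun r hr => ?_⟩
    simp [hw r, hr]
  have hgroup : (PJ Finset.univ : Subgroup (GL D.Idx F)) = D.group F := by
    refine Subgroup.eq_of_le_of_card_ge ?_ (le_of_eq ?_)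
    · refine sup_le (borel_le_group hF) ((Subgroup.closure_le _).2 fun y ⟨j, _, hj, ey⟩ => ?_)
      rw [show y = nG hF (D.simple j) 1 from Units.ext (ey.trans (nG_val hF _ 1).symm)]
      exact nG_mem_group hF _ _
    · rw [card_PJ hF, card_group hF]
  have h := cJ_eq hF p (F := F) Finset.univ hlong
  rw [invCard_longest hF hw, ← two_mul] at h
  rw [← h, cJ]
  refine Nat.card_congr ((MulEquiv.subgroupCongr hgroup).toEquiv.subtypeEquiv fun g => ?_).symm
  show IsPE p (g : GL D.Idx F) ↔ ∃ k : ℕ, orderOf (MulEquiv.subgroupCongr hgroup g) = p ^ k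
  rw [← Subgroup.orderOf_coe, MulEquiv.subgroupCongr_apply]
  constructor
  · rintro ⟨k, hk⟩
    obtain ⟨i, -, hi⟩ := (Nat.dvd_prime_pow Fact.out).1 (orderOf_dvd_of_pow_eq_one hk)
    exact ⟨i, hi⟩
  · rintro ⟨k, hk⟩
    exact ⟨k, hk ▸ pow_orderOf_eq_one _⟩

end Cfsg.Agent.Chev
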