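import Cfsg.Agent.Chev.DomCentralizer
import Cfsg.Agent.Chev.UnipotentCount
import Cfsg.Agent.Chev.SimpleAll
import Mathlib.FieldTheory.Perfect

/-!
Involutions of `G₂` in characteristic two: classes and centralisers.
-/

set_option autoImplicit false
set_option maxRecDepth 100000
set_option maxHeartbeats 1000000

namespace Cfsg.Agent.Chev

open Cfsg.Lie
open scoped MatrixGroups

universe u

namespace G2Invol

local notation "hG2" => facts_chevG2

variable {F : Type u} [Field F]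

/-- The element with the given coordinates in `U`. -/
def P (a b c d e f : F) : GL chevG2.Idx F :=
  xG hG2 6 a * xG hG2 7 b * xG hG2 8 c * xG hG2 9 d * xG hG2 10 e * xG hG2 11 f

/-- The tail of four roots. -/
def T (c d e f : F) : GL chevG2.Idx F :=
  xG hG2 8 c * xG hG2 9 d * xG hG2 10 e * xG hG2 11 f

theorem P_eq (a b c d e f : F) : P a b c d e f = xG hG2 6 a * xG hG2 7 b * T c d e f := by
  simp only [P, T, mul_assoc]

/-- The coordinates as a function. -/
def crd (a b c d e f : F) (r : ℕ) : F :=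
  if r = 6 then a else if r = 7 then b else if r = 8 then c else if r = 9 then d
    else if r = 10 then e else f

theorem half_g2 : half chevG2 = 6 := by decide +kernel

theorem P_prod (a b c d e f : F) : P a b c d e f = prodFrom hG2 6 (crd a b c d e f) := by
  have hn : chevG2.nroots = 12 := by decide +kernel
  rw [prodFrom_succ hG2 (by omega), prodFrom_succ hG2 (by omega), prodFrom_succ hG2 (by omega),
    prodFrom_succ hG2 (by omega), prodFrom_succ hG2 (by omega), prodFrom_succ hG2 (by omega),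
    prodFrom_top hG2 (by omega)]
  simp [P, crd, mul_assoc]

theorem P_injective {a b c d e f a' b' c' d' e' f' : F}
    (h : P a b c d e f = P a' b' c' d' e' f') :
    a = a' ∧ b = b' ∧ c = c' ∧ d = d' ∧ e = e' ∧ f = f' := by
  rw [P_prod, P_prod] at h
  have hn : chevG2.nroots = 12 := by decide +kernel
  have := prodFrom_inj hG2 _ _ rfl half_g2.le h
  exact ⟨by simpa [crd] using this 6 le_rfl (by omega), by simpa [crd] using this 7 (by omega) (by omega),
    by simpa [crd] using this 8 (by omega) (by omega), by simpa [crd] using this 9 (by omega) (by omega),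
    by simpa [crd] using this 10 (by omega) (by omega), by simpa [crd] using this 11 (by omega) (by omega)⟩

theorem exists_P {g : GL chevG2.Idx F} (hg : g ∈ chevG2.posUnipotent F) :
    ∃ a b c d e f, g = P a b c d e f := by
  rw [posUnipotent_eq hG2, half_g2] at hg
  obtain ⟨t, rfl⟩ := exists_prodFrom hG2 _ 6 rfl half_g2.le g hg
  refine ⟨t 6, t 7, t 8, t 9, t 10, t 11, ?_⟩
  rw [P_prod]
  refine prodFrom_congr hG2 fun r h1 h2 => ?_
  have hn : chevG2.nroots = 12 := by decide +kernel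
  have : r = 6 ∨ r = 7 ∨ r = 8 ∨ r = 9 ∨ r = 10 ∨ r = 11 := by omega
  rcases this with rfl | rfl | rfl | rfl | rfl | rfl <;> simp [crd]

theorem P_mem (a b c d e f : F) : P a b c d e f ∈ chevG2.posUnipotent F := by
  have h : ∀ r, 6 ≤ r → r < chevG2.nroots → ∀ t : F, xG hG2 r t ∈ chevG2.posUnipotent F :=
    fun r h1 h2 t => mem_posUnipotent_of hG2 h2 (half_g2 ▸ h1) t
  refine Subgroup.mul_mem _ (Subgroup.mul_mem _ (Subgroup.mul_mem _ (Subgroup.mul_mem _
    (Subgroup.mul_mem _ (h 6 le_rfl ?_ a) (h 7 (by omega) ?_ b)) (h 8 (by omega) ?_ c))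
    (h 9 (by omega) ?_ d)) (h 10 (by omega) ?_ e)) (h 11 (by omega) ?_ f) <;> decide +kernel

theorem P_mem_group (a b c d e f : F) : P a b c d e f ∈ chevG2.group F :=
  (le_sup_left.trans (borel_le_group hG2)) (P_mem a b c d e f)

theorem tables :
    chevG2.commTerms 6 7 = [(8, 1, 1, 1), (9, 1, 1, 2), (10, -1, 1, 3), (11, -2, 2, 3)] ∧
    chevG2.commTerms 7 8 = [(9, -2, 1, 1), (10, -3, 2, 1), (11, 3, 1, 2)] ∧
    chevG2.commTerms 7 9 = [(10, 3, 1, 1)] ∧ chevG2.commTerms 8 9 = [(11, 3, 1, 1)] ∧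
    chevG2.commTerms 6 10 = [(11, 1, 1, 1)] := by decide +kernel

theorem commute_pairs : ∀ p ∈ ([(6, 8), (6, 9), (6, 11), (7, 10), (7, 11), (8, 10), (8, 11), (9, 10),
    (9, 11), (10, 11)] : List (ℕ × ℕ)),
    p.1 < chevG2.nroots ∧ p.2 < chevG2.nroots ∧ commutesTwoChk chevG2 p.1 p.2 = true := by
  decide +kernel

theorem pair_facts : ∀ p ∈ ([(6, 7), (7, 8), (7, 9), (8, 9), (6, 10)] : List (ℕ × ℕ)),
    p.1 < chevG2.nroots ∧ p.2 < chevG2.nroots ∧ p.2 ≠ p.1 ∧ p.2 ≠ chevG2.neg p.1 := by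
  decide +kernel

variable [CharP F 2]

theorem two_eq : (2 : F) = 0 := by exact_mod_cast CharP.cast_eq_zero F 2

theorem neg_eq (a : F) : -a = a := by linear_combination (-a) * two_eq (F := F)

theorem xcomm {r s : ℕ} (h : (r, s) ∈ ([(6, 8), (6, 9), (6, 11), (7, 10), (7, 11), (8, 10), (8, 11),
    (9, 10), (9, 11), (10, 11)] : List (ℕ × ℕ))) (t v : F) :
    xG hG2 s v * xG hG2 r t = xG hG2 r t * xG hG2 s v := by
  obtain ⟨h1, h2, h3⟩ := commute_pairs _ h
  exact (commute_of_chk_two hG2 h1 h2 h3 t v).eq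

theorem x67 (t v : F) : xG hG2 7 v * xG hG2 6 t =
    xG hG2 6 t * xG hG2 7 v * T (t * v) (t * v ^ 2) (t * v ^ 3) 0 := by
  obtain ⟨h1, h2, h3, h4⟩ := pair_facts (6, 7) (by simp)
  rw [xG_comm hG2 h1 h2 h3 h4 t v, ChevalleyDatum.commWord, tables.1]
  simp [wordG, T, neg_eq, xG_zero, mul_assoc, two_eq]

theorem x78 (t v : F) : xG hG2 8 v * xG hG2 7 t =
    xG hG2 7 t * xG hG2 8 v * xG hG2 10 (t ^ 2 * v) * xG hG2 11 (t * v ^ 2) := by
  obtain ⟨h1, h2, h3, h4⟩ := pair_facts (7, 8) (by simp)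
  rw [xG_comm hG2 h1 h2 h3 h4 t v, ChevalleyDatum.commWord, tables.2.1]
  have e3 : (3 : F) = 1 := by linear_combination two_eq (F := F)
  simp [wordG, neg_eq, xG_zero, mul_assoc, two_eq, e3]

theorem x79 (t v : F) : xG hG2 9 v * xG hG2 7 t =
    xG hG2 7 t * xG hG2 9 v * xG hG2 10 (t * v) := by
  obtain ⟨h1, h2, h3, h4⟩ := pair_facts (7, 9) (by simp)
  rw [xG_comm hG2 h1 h2 h3 h4 t v, ChevalleyDatum.commWord, tables.2.2.1]
  have e3 : (3 : F) = 1 := by linear_combination two_eq (F := F)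
  simp [wordG, neg_eq, mul_assoc, e3]

theorem x89 (t v : F) : xG hG2 9 v * xG hG2 8 t =
    xG hG2 8 t * xG hG2 9 v * xG hG2 11 (t * v) := by
  obtain ⟨h1, h2, h3, h4⟩ := pair_facts (8, 9) (by simp)
  rw [xG_comm hG2 h1 h2 h3 h4 t v, ChevalleyDatum.commWord, tables.2.2.2.1]
  have e3 : (3 : F) = 1 := by linear_combination two_eq (F := F)
  simp [wordG, neg_eq, mul_assoc, e3]

theorem x610 (t v : F) : xG hG2 10 v * xG hG2 6 t =
    xG hG2 6 t * xG hG2 10 v * xG hG2 11 (t * v) := by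
  obtain ⟨h1, h2, h3, h4⟩ := pair_facts (6, 10) (by simp)
  rw [xG_comm hG2 h1 h2 h3 h4 t v, ChevalleyDatum.commWord, tables.2.2.2.2]
  simp [wordG, neg_eq, mul_assoc]

theorem T_mul (c d e f c' d' e' f' : F) :
    T c d e f * T c' d' e' f' = T (c + c') (d + d') (e + e') (f + f' + c' * d) := by
  simp only [T, ← mul_assoc]
  rw [mul_assoc _ (xG hG2 11 f) (xG hG2 8 c'), xcomm (r := 8) (s := 11) (by simp), ← mul_assoc,
    mul_assoc _ (xG hG2 10 e) (xG hG2 8 c'), xcomm (r := 8) (s := 10) (by simp), ← mul_assoc,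
    mul_assoc _ (xG hG2 9 d) (xG hG2 8 c'), x89]
  simp only [← mul_assoc]
  rw [xG_mul, mul_assoc _ (xG hG2 11 f) (xG hG2 9 d'), xcomm (r := 9) (s := 11) (by simp),
    ← mul_assoc, mul_assoc _ (xG hG2 10 e) (xG hG2 9 d'), xcomm (r := 9) (s := 10) (by simp),
    ← mul_assoc, mul_assoc _ (xG hG2 11 (c' * d)) (xG hG2 9 d'),
    xcomm (r := 9) (s := 11) (by simp), ← mul_assoc, mul_assoc _ (xG hG2 9 d) (xG hG2 9 d'), xG_mul,
    mul_assoc _ (xG hG2 11 f) (xG hG2 10 e'), xcomm (r := 10) (s := 11) (by simp), ← mul_assoc,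
    mul_assoc _ (xG hG2 10 e) (xG hG2 10 e'), xG_mul,
    mul_assoc _ (xG hG2 11 (c' * d)) (xG hG2 10 (e + e')), xcomm (r := 10) (s := 11) (by simp),
    ← mul_assoc, mul_assoc _ (xG hG2 11 (c' * d)) (xG hG2 11 f), xG_mul,
    mul_assoc _ (xG hG2 11 (c' * d + f)) (xG hG2 11 f'), xG_mul]
  congr 2
  ring

theorem T_x7 (c d e f v : F) : T c d e f * xG hG2 7 v =
    xG hG2 7 v * T c d (e + v * d + v ^ 2 * c) (f + v * c ^ 2) := by
  simp only [T]
  rw [mul_assoc _ (xG hG2 11 f) (xG hG2 7 v), xcomm (r := 7) (s := 11) (by simp), ← mul_assoc,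
    mul_assoc _ (xG hG2 10 e) (xG hG2 7 v), xcomm (r := 7) (s := 10) (by simp), ← mul_assoc,
    mul_assoc _ (xG hG2 9 d) (xG hG2 7 v), x79]
  simp only [← mul_assoc]
  rw [x78]
  rw [mul_assoc _ (xG hG2 11 (v * c ^ 2)) (xG hG2 9 d), xcomm (r := 9) (s := 11) (by simp),
    ← mul_assoc, mul_assoc _ (xG hG2 10 (v ^ 2 * c)) (xG hG2 9 d),
    xcomm (r := 9) (s := 10) (by simp), ← mul_assoc,
    mul_assoc _ (xG hG2 11 (v * c ^ 2)) (xG hG2 10 (v * d)), xcomm (r := 10) (s := 11) (by simp),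
    ← mul_assoc, mul_assoc _ (xG hG2 10 (v ^ 2 * c)) (xG hG2 10 (v * d)), xG_mul,
    mul_assoc _ (xG hG2 11 (v * c ^ 2)) (xG hG2 10 e), xcomm (r := 10) (s := 11) (by simp),
    ← mul_assoc, mul_assoc _ (xG hG2 10 (v ^ 2 * c + v * d)) (xG hG2 10 e), xG_mul,
    mul_assoc _ (xG hG2 11 (v * c ^ 2)) (xG hG2 11 f), xG_mul]
  congr 2
  · congr 1; ring
  · ring

theorem T_x6 (c d e f v : F) : T c d e f * xG hG2 6 v = xG hG2 6 v * T c d e (f + e * v) := by
  simp only [T]
  rw [mul_assoc _ (xG hG2 11 f) (xG hG2 6 v), xcomm (r := 6) (s := 11) (by simp), ← mul_assoc,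
    mul_assoc _ (xG hG2 10 e) (xG hG2 6 v), x610]
  simp only [← mul_assoc]
  rw [mul_assoc _ (xG hG2 9 d) (xG hG2 6 v), xcomm (r := 6) (s := 9) (by simp), ← mul_assoc,
    xcomm (r := 6) (s := 8) (by simp), mul_assoc _ (xG hG2 11 (v * e)) (xG hG2 11 f), xG_mul]
  congr 2
  ring

/-- The multiplication of `U` in coordinates. -/
theorem P_mul (a b c d e f a' b' c' d' e' f' : F) :
    P a b c d e f * P a' b' c' d' e' f' =
      P (a + a') (b + b') (a' * b + c + c') (a' * b ^ 2 + d + d')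
        (a' * b ^ 3 + e + b' * (a' * b ^ 2 + d) + b' ^ 2 * (a' * b + c) + e')
        (c * (a' * b ^ 2) + (f + e * a') + b' * (a' * b + c) ^ 2 + c' * (a' * b ^ 2 + d) + f') := by
  rw [P_eq, P_eq, P_eq]
  simp only [← mul_assoc]
  rw [mul_assoc _ (T c d e f) (xG hG2 6 a'), T_x6, ← mul_assoc,
    mul_assoc _ (xG hG2 7 b) (xG hG2 6 a'), x67]
  simp only [← mul_assoc]
  rw [xG_mul, mul_assoc _ (T (a' * b) _ _ _) (T c d e _), T_mul,
    mul_assoc _ (T _ _ _ _) (xG hG2 7 b'), T_x7, ← mul_assoc,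
    mul_assoc _ (xG hG2 7 b) (xG hG2 7 b'), xG_mul, mul_assoc _ (T _ _ _ _) (T c' d' e' f'), T_mul]
  congr 2
  ring

/-- Conjugacy in the group. -/
def Cj (g h : GL chevG2.Idx F) : Prop := ∃ e ∈ chevG2.group F, e * g * e⁻¹ = h

theorem Cj.trans {g h k : GL chevG2.Idx F} (h1 : Cj g h) (h2 : Cj h k) : Cj g k := by
  obtain ⟨e, he, rfl⟩ := h1
  obtain ⟨e', he', rfl⟩ := h2
  exact ⟨e' * e, Subgroup.mul_mem _ he' he, by group⟩

theorem cj_of_eq {e g h : GL chevG2.Idx F} (he : e ∈ chevG2.group F) (h' : e * g = h * e) :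
    Cj g h := ⟨e, he, by rw [h', mul_inv_cancel_right]⟩

theorem Cj.sq {g h : GL chevG2.Idx F} (h1 : Cj g h) (hg : g * g = 1) : h * h = 1 := by
  obtain ⟨e, -, rfl⟩ := h1
  rw [show e * g * e⁻¹ * (e * g * e⁻¹) = e * (g * g) * e⁻¹ by group, hg, mul_one, mul_inv_cancel]

theorem etaN_one (i : Fin chevG2.rank) (r : Fin chevG2.nroots) (t : F) :
    nS hG2 (i : ℕ) * xG hG2 r t =
      xG hG2 (wPerm facts_chevG2.{u} i r : ℕ) t * nS hG2 (i : ℕ) := by
  have h := nS_conj_x hG2 i.2 r.2 t (F := F)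
  have h1 : (etaN facts_chevG2.{u} i r : F) = 1 := by
    have h2 := etaN_cast_sq hG2 i.2 r.2 (F := F)
    have h3 : ((etaN facts_chevG2.{u} i r : F) + 1) ^ 2 = 0 := by
      rw [CharTwo.add_sq, pow_two, h2, one_pow, CharTwo.add_self_eq_zero]
    have := eq_neg_of_add_eq_zero_left (pow_eq_zero_iff two_ne_zero |>.1 h3)
    rwa [neg_eq] at this
  rw [h1, one_mul] at h
  exact h

theorem nS_mem_group (i : Fin chevG2.rank) : (nS hG2 (i : ℕ) : GL chevG2.Idx F) ∈ chevG2.group F :=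
  nG_mem_group hG2 _ _

theorem cj_nS (i : Fin chevG2.rank) {g h : GL chevG2.Idx F}
    (e : nS hG2 (i : ℕ) * g = h * nS hG2 (i : ℕ)) : Cj g h := cj_of_eq (nS_mem_group i) e

theorem nS_root (i : Fin chevG2.rank) {r s : ℕ} (hr : r < chevG2.nroots)
    (h : (wPerm facts_chevG2.{0} i ⟨r, hr⟩ : ℕ) = s) (t : F) :
    nS hG2 (i : ℕ) * xG hG2 r t = xG hG2 s t * nS hG2 (i : ℕ) := by
  subst h
  exact etaN_one i ⟨r, hr⟩ t

theorem swap_a : ∀ r : Fin chevG2.nroots, ∀ i : Fin chevG2.rank, (i : ℕ) = 0 →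
    (wPerm facts_chevG2.{0} i r : ℕ) = [0, 5, 3, 2, 7, 1, 10, 4, 9, 8, 6, 11].getD r 0 := by
  decide +kernel

theorem swap_b : ∀ r : Fin chevG2.nroots, ∀ i : Fin chevG2.rank, (i : ℕ) = 1 →
    (wPerm facts_chevG2.{0} i r : ℕ) = [1, 0, 2, 4, 3, 6, 5, 8, 7, 9, 11, 10].getD r 0 := by
  decide +kernel

/-- The first fundamental reflection. -/
def ia : Fin chevG2.rank := ⟨0, by decide +kernel⟩

/-- The second fundamental reflection. -/
def ib : Fin chevG2.rank := ⟨1, by decide +kernel⟩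

theorem na_root {r : ℕ} (hr : r < chevG2.nroots) (t : F) :
    nS hG2 (ia : ℕ) * xG hG2 r t =
      xG hG2 ([0, 5, 3, 2, 7, 1, 10, 4, 9, 8, 6, 11].getD r 0) t * nS hG2 (ia : ℕ) :=
  nS_root ia hr (swap_a ⟨r, hr⟩ ia rfl) t

theorem nb_root {r : ℕ} (hr : r < chevG2.nroots) (t : F) :
    nS hG2 (ib : ℕ) * xG hG2 r t =
      xG hG2 ([1, 0, 2, 4, 3, 6, 5, 8, 7, 9, 11, 10].getD r 0) t * nS hG2 (ib : ℕ) :=
  nS_root ib hr (swap_b ⟨r, hr⟩ ib rfl) t

theorem nroots_eq : chevG2.nroots = 12 := by decide +kernel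

section Finite

variable [Fintype F]

theorem exists_sqrt (x : F) : ∃ y : F, y ^ 2 = x :=
  (frobeniusEquiv F 2).surjective x

theorem scale {r : ℕ} (j : Fin chevG2.rank) (hr : r < chevG2.nroots)
    (hc : chevG2.cartan j r = 1) {c : F} (hc0 : c ≠ 0) :
    Cj (xG hG2 r c) (xG hG2 r (1 : F)) := by
  classical
  refine cj_of_eq (e := torusHom (Pi.mulSingle j (Units.mk0 c hc0)⁻¹))
    (borel_le_group hG2 (Subgroup.mem_sup_right (torusHom_mem hG2 _))) ?_
  rw [torusHom_conj hG2 _ hr]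
  congr 2
  rw [chiU, Finset.prod_eq_single j (fun k _ hk => by rw [Pi.mulSingle_eq_of_ne hk, one_zpow])
    (fun h => absurd (Finset.mem_univ _) h), Pi.mulSingle_eq_same, hc, zpow_one]
  simp [hc0]

theorem cartan_9_11 : ∀ j : Fin chevG2.rank, ((j : ℕ) = 0 → chevG2.cartan j 9 = 1) ∧
    ((j : ℕ) = 1 → chevG2.cartan j 11 = 1) := by decide +kernel

theorem cj_short {c : F} (hc : c ≠ 0) : Cj (xG hG2 9 c) (xG hG2 9 (1 : F)) :=
  scale ia (by rw [nroots_eq]; omega) ((cartan_9_11 ia).1 rfl) hc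

theorem cj_long {c : F} (hc : c ≠ 0) : Cj (xG hG2 11 c) (xG hG2 11 (1 : F)) :=
  scale ib (by rw [nroots_eq]; omega) ((cartan_9_11 ib).2 rfl) hc

theorem P_single9 (d : F) : P 0 0 0 d 0 0 = xG hG2 9 d := by simp [P, xG_zero]

theorem case_tail {d e f : F} (hd : d ≠ 0) :
    Cj (P 0 0 0 d e f) (xG hG2 9 (1 : F)) := by
  refine Cj.trans (cj_of_eq (e := P 0 (e / d) (f / d) 0 0 0) (P_mem_group _ _ _ _ _ _) ?_) (cj_short hd)
  rw [← P_single9, P_mul, P_mul]
  congr 1
  all_goals field_simp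
  all_goals ring

theorem case_long {e f : F} (h : e ≠ 0 ∨ f ≠ 0) :
    Cj (P 0 0 0 0 e f) (xG hG2 11 (1 : F)) := by
  by_cases he : e = 0
  · subst he
    have : P 0 0 0 0 0 f = xG hG2 11 f := by simp [P, xG_zero]
    rw [this]
    exact cj_long (h.resolve_left (fun h => h rfl))
  have h1 : Cj (P 0 0 0 0 e f) (P 0 0 0 0 e 0) := by
    refine cj_of_eq (e := P (f / e) 0 0 0 0 0) (P_mem_group _ _ _ _ _ _) ?_
    rw [P_mul, P_mul]
    congr 1
    all_goals field_simp
    all_goals ring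
  refine h1.trans ((cj_nS ib ?_).trans (cj_long he))
  have : P 0 0 0 0 e 0 = xG hG2 10 e := by simp [P, xG_zero]
  rw [this, nb_root (by rw [nroots_eq]; omega)]
  rfl

theorem case_a {b c d e f : F} (hb : b ≠ 0) (hsq : P 0 b c d e f * P 0 b c d e f = 1) :
    Cj (P 0 b c d e f) (xG hG2 9 (1 : F)) := by
  have hd : d = b * c := by
    rw [P_mul, show (1 : GL chevG2.Idx F) = P 0 0 0 0 0 0 by simp [P, xG_zero]] at hsq
    have h5 := (P_injective hsq).2.2.2.2.1
    apply mul_left_cancel₀ hb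
    linear_combination h5 - (b ^ 2 * c + e) * two_eq (F := F)
  subst hd
  obtain ⟨t, ht⟩ := exists_sqrt ((b * c ^ 2 + c * e / b + f) / b)
  have h1 : Cj (P 0 b c (b * c) e f) (P 0 b 0 0 0 0) := by
    refine cj_of_eq (e := P (c / b) 0 t (b * c + e / b + b * t) 0 0) (P_mem_group _ _ _ _ _ _) ?_
    rw [P_mul, P_mul]
    congr 1
    · ring
    · ring
    · field_simp; ring
    · (have h2 := two_eq (F := F); grind)
    · (have h2 := two_eq (F := F); grind)
    · have ht' : b * t ^ 2 = b * c ^ 2 + c * e / b + f := by rw [ht]; field_simp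
      field_simp at ht' ⊢
      linear_combination ht' + (b ^ 2 * c ^ 2 + c * e + b * f) * two_eq (F := F)
  refine h1.trans ?_
  have e7 : P 0 b 0 0 0 0 = xG hG2 7 b := by simp [P, xG_zero]
  rw [e7]
  refine (cj_nS ib (nb_root (by rw [nroots_eq]; omega) b)).trans ?_
  refine (cj_nS ia (na_root (by rw [nroots_eq]; decide) b)).trans ?_
  exact cj_short hb

theorem nS_P_b (c d e f : F) :
    nS hG2 (ib : ℕ) * P 0 0 c d e f = P 0 c 0 d f e * nS hG2 (ib : ℕ) := by
  simp only [P, xG_zero, one_mul, mul_one]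
  simp only [← mul_assoc]
  rw [nb_root (by rw [nroots_eq]; omega), mul_assoc _ (nS hG2 (ib : ℕ)) (xG hG2 9 d),
    nb_root (by rw [nroots_eq]; omega), ← mul_assoc, mul_assoc _ (nS hG2 (ib : ℕ)) (xG hG2 10 e),
    nb_root (by rw [nroots_eq]; omega), ← mul_assoc, mul_assoc _ (nS hG2 (ib : ℕ)) (xG hG2 11 f),
    nb_root (by rw [nroots_eq]; omega), ← mul_assoc]
  congr 1
  show xG hG2 7 c * xG hG2 9 d * xG hG2 11 e * xG hG2 10 f = _
  rw [mul_assoc _ (xG hG2 11 e) (xG hG2 10 f), xcomm (r := 10) (s := 11) (by simp), ← mul_assoc]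

theorem case_c {c d e f : F} (hc : c ≠ 0) (hsq : P 0 0 c d e f * P 0 0 c d e f = 1) :
    Cj (P 0 0 c d e f) (xG hG2 9 (1 : F)) := by
  have h1 := cj_nS ib (nS_P_b c d e f)
  exact h1.trans (case_a hc (h1.sq hsq))

theorem nS_P_a (a c f : F) :
    nS hG2 (ia : ℕ) * P a 0 c 0 0 f = P 0 0 0 c a f * nS hG2 (ia : ℕ) := by
  simp only [P, xG_zero, one_mul, mul_one]
  simp only [← mul_assoc]
  rw [na_root (by rw [nroots_eq]; omega), mul_assoc _ (nS hG2 (ia : ℕ)) (xG hG2 8 c),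
    na_root (by rw [nroots_eq]; omega), ← mul_assoc, mul_assoc _ (nS hG2 (ia : ℕ)) (xG hG2 11 f),
    na_root (by rw [nroots_eq]; omega), ← mul_assoc]
  congr 1
  show xG hG2 10 a * xG hG2 9 c * xG hG2 11 f = _
  rw [xcomm (r := 9) (s := 10) (by simp)]

theorem one_eq_P : (1 : GL chevG2.Idx F) = P 0 0 0 0 0 0 := by simp [P, xG_zero]

theorem case_b {a c d e f : F} (ha : a ≠ 0) (hsq : P a 0 c d e f * P a 0 c d e f = 1) :
    Cj (P a 0 c d e f) (xG hG2 9 (1 : F)) ∨ Cj (P a 0 c d e f) (xG hG2 11 (1 : F)) := by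
  set s := c / a with hs
  have h1 : Cj (P a 0 c d e f) (P a 0 0 (a * s ^ 2 + d) (a * s ^ 3 + e + s * d + s ^ 2 * c)
      (c * a * s ^ 2 + f)) := by
    refine cj_of_eq (e := P 0 s 0 0 0 0) (P_mem_group _ _ _ _ _ _) ?_
    rw [P_mul, P_mul]
    congr 1
    · ring
    · ring
    · rw [hs]; field_simp; linear_combination c * two_eq (F := F)
    · ring
    · rw [hs]; (have h2 := two_eq (F := F); grind)
    · rw [hs]; field_simp; ring
  have hsq1 := h1.sq hsq
  set d' := a * s ^ 2 + d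
  set e' := a * s ^ 3 + e + s * d + s ^ 2 * c
  set f' := c * a * s ^ 2 + f
  have he : e' = 0 := by
    rw [P_mul, one_eq_P] at hsq1
    have h6 := (P_injective hsq1).2.2.2.2.2
    have : a * e' = 0 := by linear_combination h6 - f' * two_eq (F := F)
    exact (mul_eq_zero.1 this).resolve_left ha
  rw [he] at h1
  have h2 : Cj (P a 0 0 d' 0 f') (P a 0 0 d' 0 0) := by
    refine cj_of_eq (e := P 0 0 0 0 (f' / a) 0) (P_mem_group _ _ _ _ _ _) ?_
    rw [P_mul, P_mul]
    congr 1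
    all_goals (have h2 := two_eq (F := F); grind)
  by_cases hd : d' = 0
  · refine Or.inr ((h1.trans h2).trans ?_)
    rw [hd]
    refine (cj_nS ia (nS_P_a a 0 0)).trans ?_
    exact case_long (Or.inl ha)
  refine Or.inl ((h1.trans h2).trans ?_)
  obtain ⟨v, hv⟩ := exists_sqrt (d' / a)
  have hv0 : v ≠ 0 := fun h => hd (by
    rw [h, zero_pow two_ne_zero] at hv
    exact ((div_eq_zero_iff.1 hv.symm).resolve_right ha))
  have hd' : d' = a * v ^ 2 := by rw [hv]; field_simp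
  have h3 : Cj (P a 0 0 d' 0 0) (P a 0 (a * v) 0 0 (a ^ 2 * v ^ 3)) := by
    refine cj_of_eq (e := P 0 v 0 0 0 0) (P_mem_group _ _ _ _ _ _) ?_
    rw [P_mul, P_mul, hd']
    congr 1
    all_goals (have h2 := two_eq (F := F); grind)
  refine h3.trans ((cj_nS ia (nS_P_a a (a * v) (a ^ 2 * v ^ 3))).trans ?_)
  exact case_tail (mul_ne_zero ha hv0)

theorem classes_U {g : GL chevG2.Idx F} (hg : g ∈ chevG2.posUnipotent F) (hsq : g * g = 1)
    (hne : g ≠ 1) : Cj g (xG hG2 9 (1 : F)) ∨ Cj g (xG hG2 11 (1 : F)) := by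
  obtain ⟨a, b, c, d, e, f, rfl⟩ := exists_P hg
  by_cases hb : b = 0
  · subst hb
    by_cases ha : a = 0
    · subst ha
      by_cases hc : c = 0
      · subst hc
        by_cases hd : d = 0
        · subst hd
          refine Or.inr (case_long ?_)
          by_contra h
          push Not at h
          exact hne (by rw [h.1, h.2, one_eq_P])
        · exact Or.inl (case_tail hd)
      · exact Or.inl (case_c hc hsq)
    · exact case_b ha hsq
  · have ha : a = 0 := by
      rw [P_mul, one_eq_P] at hsq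
      have h3 := (P_injective hsq).2.2.1
      have : a * b = 0 := by linear_combination h3 - c * two_eq (F := F)
      exact (mul_eq_zero.1 this).resolve_right hb
    subst ha
    exact Or.inl (case_a hb hsq)

theorem group_le_univ : chevG2.group F ≤ PJ (D := chevG2) (F := F) Finset.univ := by
  intro g hg
  obtain ⟨b, hb, w, x, hx, rfl⟩ := exists_normalForm hG2 hg
  have hB : chevG2.borelSubgroup F ≤ PJ (D := chevG2) (F := F) Finset.univ := borel_le_parabolic _
  have hU : x ∈ chevG2.borelSubgroup F := uMinus_le_borel hG2 _ hx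
  refine Subgroup.mul_mem _ (Subgroup.mul_mem _ (hB hb) ?_) (hB hU)
  refine Subgroup.list_prod_mem _ fun y hy => ?_
  obtain ⟨i, -, rfl⟩ := List.mem_map.1 hy
  refine Subgroup.mem_sup_right (Subgroup.subset_closure ⟨i, ?_, i.2, ?_⟩)
  · simp
  · exact nG_val hG2 _ _

theorem exists_conj_U {g : GL chevG2.Idx F} (hg : g ∈ chevG2.group F) (hsq : g * g = 1) :
    ∃ h ∈ chevG2.posUnipotent F, Cj g h := by
  classical
  set J : Finset (Fin chevG2.rank) := Finset.univ
  set PP : Subgroup (GL chevG2.Idx F) := PJ J with hPP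
  haveI : Fact (Nat.Prime 2) := ⟨Nat.prime_two⟩
  have hUle : chevG2.posUnipotent F ≤ PP := le_trans le_sup_left (borel_le_parabolic _)
  have hUp : IsPGroup 2 ((chevG2.posUnipotent F).subgroupOf PP) :=
    (isPGroup_posUnipotent hG2 2).of_equiv (Subgroup.subgroupOfEquivOfLe hUle).symm
  let S := hUp.toSylow (not_dvd_index_posU hG2 2 J)
  set x : ↥PP := ⟨g, group_le_univ hg⟩ with hx
  have hx2 : x ^ 2 = 1 := Subtype.ext (by rw [pow_two]; exact hsq)
  have hxp : IsPGroup 2 (Subgroup.zpowers x) := by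
    rintro ⟨y, hy⟩
    obtain ⟨i, rfl⟩ := Subgroup.mem_zpowers_iff.1 hy
    refine ⟨1, Subtype.ext ?_⟩
    show (x ^ i) ^ 2 ^ 1 = 1
    rw [pow_one, ← zpow_natCast, ← zpow_mul, mul_comm, zpow_mul, zpow_natCast, hx2, one_zpow]
  obtain ⟨T', hT⟩ := hxp.exists_le_sylow
  obtain ⟨k, hk⟩ := MulAction.exists_smul_eq ↥PP T' S
  have hPG : PP ≤ chevG2.group F := by
    rw [hPP]
    refine sup_le (borel_le_group hG2) ((Subgroup.closure_le _).2 ?_)
    rintro y ⟨j, -, hj, e⟩
    have : y = nS hG2 j := Units.ext (by rw [e]; exact (nG_val hG2 _ _).symm)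
    rw [this]
    exact nG_mem_group hG2 _ _
  refine ⟨(k * x * k⁻¹ : ↥PP), ?_, (k : GL chevG2.Idx F), hPG k.2, rfl⟩
  have : k * x * k⁻¹ ∈ (S : Subgroup ↥PP) := by
    rw [← hk]
    exact ⟨x, hT (Subgroup.mem_zpowers x), by simp [MulAut.conj_apply]⟩
  rwa [IsPGroup.toSylow_coe, Subgroup.mem_subgroupOf] at this

theorem classes {g : GL chevG2.Idx F} (hg : g ∈ chevG2.group F) (hsq : g * g = 1) (hne : g ≠ 1) :
    Cj g (xG hG2 9 (1 : F)) ∨ Cj g (xG hG2 11 (1 : F)) := by
  obtain ⟨h, hh, hc⟩ := exists_conj_U hg hsq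
  have hne' : h ≠ 1 := by
    obtain ⟨e, -, rfl⟩ := hc
    intro e1
    exact hne (conj_eq_one_iff.1 e1)
  exact (classes_U hh (hc.sq hsq) hne').imp hc.trans hc.trans

/-! ### The centraliser of the short root involution -/

theorem conj_nine (a b c d e f s : F) :
    P a b c d e f * xG hG2 9 s * (P a b c d e f)⁻¹ = P 0 0 0 s (s * b) (s * (a * b + c)) := by
  rw [mul_inv_eq_iff_eq_mul, ← P_single9, P_mul, P_mul]
  congr 1
  · ring
  · ring
  · ring
  · ring
  · linear_combination (-(s * b)) * two_eq (F := F)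
  · linear_combination (-(s * a * b + s * c)) * two_eq (F := F)

theorem x_eq_P : ∀ {r : ℕ}, 6 ≤ r → r < 12 → ∀ t : F, xG hG2 r t =
    P (if r = 6 then t else 0) (if r = 7 then t else 0) (if r = 8 then t else 0)
      (if r = 9 then t else 0) (if r = 10 then t else 0) (if r = 11 then t else 0) := by
  intro r h1 h2 t
  interval_cases r <;> simp [P, xG_zero]

/-- The twelve words. -/
def words : List (List (Fin chevG2.rank)) :=
  [[], [ia], [ib], [ia, ib], [ib, ia], [ia, ib, ia], [ib, ia, ib], [ia, ib, ia, ib],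
    [ib, ia, ib, ia], [ia, ib, ia, ib, ia], [ib, ia, ib, ia, ib], [ia, ib, ia, ib, ia, ib]]

theorem words_step : ∀ v ∈ words, ∀ i : Fin chevG2.rank, ∃ v' ∈ words,
    ∀ r, pWord facts_chevG2.{0} (i :: v) r = pWord facts_chevG2.{0} v' r := by decide +kernel

theorem exists_word (w : List (Fin chevG2.rank)) :
    ∃ v ∈ words, pWord facts_chevG2.{u} w = pWord facts_chevG2.{u} v := by
  induction w with
  | nil => exact ⟨[], by simp [words], rfl⟩
  | cons i w ih =>
    obtain ⟨v, hv, e⟩ := ih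
    obtain ⟨v', hv', e'⟩ := words_step v hv i
    refine ⟨v', hv', ?_⟩
    rw [pWord_cons, e, ← pWord_cons]
    exact Equiv.ext e'

theorem word_roots : ∀ v ∈ words, ∀ r : Fin chevG2.nroots,
    ((r : ℕ) = 9 → (pWord facts_chevG2.{0} v r : ℕ) ∈ [2, 3, 4, 7, 8, 9]) ∧
    ((r : ℕ) = 10 ∨ (r : ℕ) = 11 → (pWord facts_chevG2.{0} v r : ℕ) ∈ [0, 1, 5, 6, 10, 11]) := by
  decide +kernel

theorem word_fix : ∀ v ∈ words, ∀ r : Fin chevG2.nroots, (r : ℕ) = 9 →
    (pWord facts_chevG2.{0} v r : ℕ) = 9 → v = [] ∨ v = [ib] := by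
  decide +kernel

/-- The part of a conjugate supported on the selected roots. -/
theorem image_P {n : GL chevG2.Idx F} {π : Equiv.Perm (Fin chevG2.nroots)} (hn : IsMon hG2 n π)
    (x y z : F) :
    ∃ x' y' z', (x ≠ 0 → x' ≠ 0) ∧ (y = 0 → y' = 0) ∧ (z = 0 → z' = 0) ∧
      n * P 0 0 0 x y z * n⁻¹ = xG hG2 (π ⟨9, by decide +kernel⟩ : ℕ) x' *
        xG hG2 (π ⟨10, by decide +kernel⟩ : ℕ) y' * xG hG2 (π ⟨11, by decide +kernel⟩ : ℕ) z' := by
  obtain ⟨c9, h9, e9⟩ := hn ⟨9, by decide +kernel⟩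
  obtain ⟨c10, -, e10⟩ := hn ⟨10, by decide +kernel⟩
  obtain ⟨c11, -, e11⟩ := hn ⟨11, by decide +kernel⟩
  refine ⟨c9 * x, c10 * y, c11 * z, mul_ne_zero h9, fun h => by rw [h, mul_zero],
    fun h => by rw [h, mul_zero], ?_⟩
  rw [mul_inv_eq_iff_eq_mul, show P 0 0 0 x y z = xG hG2 9 x * xG hG2 10 y * xG hG2 11 z by
    simp [P, xG_zero], ← mul_assoc, ← mul_assoc, e9, mul_assoc _ n, e10, ← mul_assoc,
    mul_assoc _ n, e11, ← mul_assoc]

theorem neg_part_trivial {n : GL chevG2.Idx F} {π : Equiv.Perm (Fin chevG2.nroots)}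
    (hn : IsMon hG2 n π) (x y z : F) (hU : n * P 0 0 0 x y z * n⁻¹ ∈ chevG2.posUnipotent F) :
    ((π ⟨9, by decide +kernel⟩ : ℕ) < 6 → x = 0) ∧ ((π ⟨10, by decide +kernel⟩ : ℕ) < 6 → y = 0) ∧
      ((π ⟨11, by decide +kernel⟩ : ℕ) < 6 → z = 0) := by
  classical
  set r9 : Fin chevG2.nroots := ⟨9, by decide +kernel⟩
  set r10 : Fin chevG2.nroots := ⟨10, by decide +kernel⟩
  set r11 : Fin chevG2.nroots := ⟨11, by decide +kernel⟩
  set xn := if (π r9 : ℕ) < 6 then x else 0 with hxn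
  set yn := if (π r10 : ℕ) < 6 then y else 0 with hyn
  set zn := if (π r11 : ℕ) < 6 then z else 0 with hzn
  have hsum : ∀ a b c a' b' c' : F, P 0 0 0 a b c * P 0 0 0 a' b' c' =
      P 0 0 0 (a + a') (b + b') (c + c') := fun a b c a' b' c' => by
    rw [P_mul]; congr 1 <;> ring
  have hmem : ∀ (S : Subgroup (GL chevG2.Idx F)) (a b c : F),
      (a ≠ 0 → ∀ t, xG hG2 (π r9 : ℕ) t ∈ S) → (b ≠ 0 → ∀ t, xG hG2 (π r10 : ℕ) t ∈ S) →
      (c ≠ 0 → ∀ t, xG hG2 (π r11 : ℕ) t ∈ S) → n * P 0 0 0 a b c * n⁻¹ ∈ S := by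
    intro S a b c ha hb hc
    have h1 : ∀ (k : Fin chevG2.nroots) (v : F), (v ≠ 0 → ∀ t, xG hG2 (π k : ℕ) t ∈ S) →
        n * xG hG2 (k : ℕ) v * n⁻¹ ∈ S := by
      intro k v hv
      obtain ⟨ck, -, ek⟩ := hn k
      rw [ek, mul_inv_cancel_right]
      by_cases h : v = 0
      · rw [h, mul_zero, xG_zero]; exact S.one_mem
      · exact hv h _
    rw [show n * P 0 0 0 a b c * n⁻¹ = (n * xG hG2 (r9 : ℕ) a * n⁻¹) *
      (n * xG hG2 (r10 : ℕ) b * n⁻¹) * (n * xG hG2 (r11 : ℕ) c * n⁻¹) by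
        simp [P, xG_zero, r9, r10, r11, mul_assoc]]
    exact S.mul_mem (S.mul_mem (h1 r9 a ha) (h1 r10 b hb)) (h1 r11 c hc)
  have hN : n * P 0 0 0 xn yn zn * n⁻¹ ∈ chevG2.negUnipotent F := by
    refine hmem _ _ _ _ (fun h t => ?_) (fun h t => ?_) (fun h t => ?_) <;>
      refine mem_negUnipotent_of hG2 (π _).2 ?_ t <;> rw [half_g2]
    · exact not_not.1 fun h' => h (if_neg h')
    · exact not_not.1 fun h' => h (if_neg h')
    · exact not_not.1 fun h' => h (if_neg h')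
  have hPos : n * P 0 0 0 (x + xn) (y + yn) (z + zn) * n⁻¹ ∈ chevG2.posUnipotent F := by
    refine hmem _ _ _ _ (fun h t => ?_) (fun h t => ?_) (fun h t => ?_) <;>
      refine mem_posUnipotent_of hG2 (π _).2 ?_ t <;> rw [half_g2]
    · exact not_lt.1 fun h' => h (by rw [hxn, if_pos h', CharTwo.add_self_eq_zero])
    · exact not_lt.1 fun h' => h (by rw [hyn, if_pos h', CharTwo.add_self_eq_zero])
    · exact not_lt.1 fun h' => h (by rw [hzn, if_pos h', CharTwo.add_self_eq_zero])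
  have h1 : n * P 0 0 0 xn yn zn * n⁻¹ ∈ chevG2.posUnipotent F := by
    have := Subgroup.mul_mem _ hPos hU
    rwa [show n * P 0 0 0 (x + xn) (y + yn) (z + zn) * n⁻¹ * (n * P 0 0 0 x y z * n⁻¹) =
      n * (P 0 0 0 (x + xn) (y + yn) (z + zn) * P 0 0 0 x y z) * n⁻¹ by group, hsum,
      show x + xn + x = xn by linear_combination x * two_eq (F := F),
      show y + yn + y = yn by linear_combination y * two_eq (F := F),
      show z + zn + z = zn by linear_combination z * two_eq (F := F)] at this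
  have h2 := borel_inf_upper hG2 (Subgroup.mem_sup_left h1) (negUnipotent_le_upperGroup hG2 hN)
  rw [conj_eq_one_iff, one_eq_P] at h2
  obtain ⟨-, -, -, e9, e10, e11⟩ := P_injective h2
  exact ⟨fun h => by rwa [hxn, if_pos h] at e9, fun h => by rwa [hyn, if_pos h] at e10,
    fun h => by rwa [hzn, if_pos h] at e11⟩

theorem torus_P9 (c : Fin chevG2.rank → Fˣ) (s y z : F) :
    ∃ y' z', torusHom c * P 0 0 0 s y z * (torusHom c)⁻¹ =
      P 0 0 0 ((chiU c 9 : F) * s) y' z' := by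
  refine ⟨(chiU c 10 : F) * y, (chiU c 11 : F) * z, ?_⟩
  rw [mul_inv_eq_iff_eq_mul]
  simp only [P, xG_zero, one_mul, ← mul_assoc]
  rw [torusHom_conj hG2 c (r := 9) (by rw [nroots_eq]; omega), mul_assoc _ (torusHom c),
    torusHom_conj hG2 c (r := 10) (by rw [nroots_eq]; omega), ← mul_assoc,
    mul_assoc _ (torusHom c), torusHom_conj hG2 c (r := 11) (by rw [nroots_eq]; omega), ← mul_assoc]

/-- The conjugate of `x₉(1)` by an element of the Borel subgroup. -/
theorem conj_borel_nine {v : GL chevG2.Idx F} (hv : v ∈ chevG2.posUnipotent F)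
    (c : Fin chevG2.rank → Fˣ) :
    ∃ s y z : F, s ≠ 0 ∧ (v * torusHom c)⁻¹ * xG hG2 9 (1 : F) * (v * torusHom c) =
      P 0 0 0 s y z := by
  obtain ⟨va, vb, vc, vd, ve, vf, evi⟩ := exists_P (Subgroup.inv_mem _ hv)
  obtain ⟨y, z, eR⟩ := torus_P9 c⁻¹ 1 vb (va * vb + vc)
  refine ⟨_, y, z, mul_ne_zero (Units.ne_zero _) one_ne_zero, Eq.trans ?_ eR⟩
  have h9 := conj_nine va vb vc vd ve vf (1 : F)
  rw [← evi, inv_inv, one_mul, one_mul] at h9
  rw [← h9, map_inv, inv_inv]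
  group

theorem word_long {w : List (Fin chevG2.rank)} (k : Fin chevG2.nroots)
    (hk : (k : ℕ) = 10 ∨ (k : ℕ) = 11) :
    (pWord facts_chevG2.{u} w k : ℕ) ∈ [0, 1, 5, 6, 10, 11] := by
  obtain ⟨v, hv, e⟩ := exists_word.{u} w
  rw [e]
  exact (word_roots v hv k).2 hk

theorem word_short {w : List (Fin chevG2.rank)} (k : Fin chevG2.nroots) (hk : (k : ℕ) = 9) :
    (pWord facts_chevG2.{u} w k : ℕ) ∈ [2, 3, 4, 7, 8, 9] := by
  obtain ⟨v, hv, e⟩ := exists_word.{u} w
  rw [e]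
  exact (word_roots v hv k).1 hk

/-- A root element which is zero or sits on a long root, in coordinates. -/
theorem long_coords {k : ℕ} (hk : k ∈ [0, 1, 5, 6, 10, 11]) {t : F} (h : k < 6 → t = 0) :
    ∃ a e f : F, xG hG2 k t = P a 0 0 0 e f := by
  simp only [List.mem_cons, List.not_mem_nil, or_false] at hk
  by_cases hk6 : k < 6
  · exact ⟨0, 0, 0, by rw [h hk6, xG_zero, one_eq_P]⟩
  · rw [x_eq_P (not_lt.1 hk6) (by omega)]
    refine ⟨if k = 6 then t else 0, if k = 10 then t else 0, if k = 11 then t else 0, ?_⟩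
    rw [if_neg (show k ≠ 7 by omega), if_neg (show k ≠ 8 by omega), if_neg (show k ≠ 9 by omega)]

theorem fix_nine {v x : GL chevG2.Idx F} {c : Fin chevG2.rank → Fˣ}
    {w : List (Fin chevG2.rank)} (hv : v ∈ chevG2.posUnipotent F) (hx : x ∈ chevG2.posUnipotent F)
    (h : Commute (v * torusHom c * nWord hG2 w * x) (xG hG2 9 (1 : F))) :
    ∀ k : Fin chevG2.nroots, (k : ℕ) = 9 → (pWord facts_chevG2.{u} w k : ℕ) = 9 := by
  obtain ⟨a, b, c', d, e, f, rfl⟩ := exists_P hx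
  set n : GL chevG2.Idx F := nWord hG2 w with hn
  have hmon : IsMon hG2 n (pWord facts_chevG2.{u} w) := isMon_nWord hG2 w
  obtain ⟨s, yR, zR, hs, eR⟩ := conj_borel_nine hv c
  have key : n * P 0 0 0 1 b (a * b + c') * n⁻¹ = P 0 0 0 s yR zR := by
    have h9 := conj_nine a b c' d e f (1 : F)
    rw [one_mul, one_mul] at h9
    rw [← eR, ← h9]
    calc n * (P a b c' d e f * xG hG2 9 (1 : F) * (P a b c' d e f)⁻¹) * n⁻¹
        = (v * torusHom c)⁻¹ * (v * torusHom c * n * P a b c' d e f * xG hG2 9 (1 : F)) *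
            (P a b c' d e f)⁻¹ * n⁻¹ := by group
      _ = _ := by rw [h.eq]; group
  intro k hk
  obtain rfl : k = ⟨9, by decide +kernel⟩ := Fin.ext hk
  have hU : n * P 0 0 0 1 b (a * b + c') * n⁻¹ ∈ chevG2.posUnipotent F := by rw [key]; exact P_mem _ _ _ _ _ _
  obtain ⟨n9, n10, n11⟩ := neg_part_trivial hmon _ _ _ hU
  obtain ⟨x', y', z', hx', hy', hz', e'⟩ := image_P hmon (1 : F) b (a * b + c')
  rw [key] at e'
  set r9 : Fin chevG2.nroots := ⟨9, by decide +kernel⟩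
  have h69 : 6 ≤ (pWord facts_chevG2.{u} w r9 : ℕ) := not_lt.1 fun h => one_ne_zero (n9 h)
  obtain ⟨a1, e1, f1, ey⟩ := long_coords (word_long (w := w) ⟨10, by decide +kernel⟩ (Or.inl rfl))
    (t := y') fun h => hy' (n10 h)
  obtain ⟨a2, e2, f2, ez⟩ := long_coords (word_long (w := w) ⟨11, by decide +kernel⟩ (Or.inr rfl))
    (t := z') fun h => hz' (n11 h)
  have hlt : (pWord facts_chevG2.{u} w r9 : ℕ) < 12 :=
    nroots_eq ▸ (pWord facts_chevG2.{u} w r9).2
  rw [ey, ez, x_eq_P h69 hlt, P_mul, P_mul] at e'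
  obtain ⟨-, f7, f8, -⟩ := P_injective e'
  have hne := hx' one_ne_zero
  have h3 := word_short (w := w) r9 rfl
  simp only [List.mem_cons, List.not_mem_nil, or_false] at h3
  rcases h3 with h | h | h | h | h | h
  · omega
  · omega
  · omega
  · rw [if_pos h] at f7
    exact absurd (by simpa using f7.symm) hne
  · simp [h] at f8
    exact absurd f8.symm hne
  · exact h

theorem not_cj_long_short : ¬ Cj (xG hG2 11 (1 : F)) (xG hG2 9 (1 : F)) := by
  rintro ⟨g, hg, he⟩
  obtain ⟨b', hb', w, x, hx, rfl⟩ := exists_normalForm hG2 hg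
  obtain ⟨v, hv, c, rfl⟩ := (mem_borel_iff hG2).1 hb'
  have hxU : x ∈ chevG2.posUnipotent F := (closure_uGens_le hG2 _).trans le_rfl hx
  set n : GL chevG2.Idx F := nWord hG2 w
  have hxc : x * xG hG2 11 (1 : F) = xG hG2 11 (1 : F) * x := by
    obtain ⟨a, b, c', d, e, f, rfl⟩ := exists_P hxU
    rw [x_eq_P (by omega) (by omega), P_mul, P_mul]
    congr 1 <;> simp <;> ring
  obtain ⟨s, yR, zR, hs, eR⟩ := conj_borel_nine hv c
  obtain ⟨k, hk0, ek⟩ := isMon_nWord hG2 w (F := F) ⟨11, by decide +kernel⟩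
  have key : xG hG2 (pWord facts_chevG2.{u} w ⟨11, by decide +kernel⟩ : ℕ) k = P 0 0 0 s yR zR := by
    have h1 := ek 1
    rw [mul_one] at h1
    rw [← eR, ← he, ← mul_inv_cancel_right (xG hG2 _ k) n, ← h1]
    rw [show v * torusHom c * n * x * xG hG2 11 (1 : F) * (v * torusHom c * n * x)⁻¹ =
      v * torusHom c * n * (x * xG hG2 11 (1 : F) * x⁻¹) * (v * torusHom c * n)⁻¹ by group, hxc,
      mul_inv_cancel_right]
    group
    rfl
  set p := (pWord facts_chevG2.{u} w ⟨11, by decide +kernel⟩ : ℕ) with hp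
  have hlt : p < 12 := nroots_eq ▸ (pWord facts_chevG2.{u} w _).2
  have h6 : 6 ≤ p := by
    by_contra h
    have hN : xG hG2 p k ∈ chevG2.negUnipotent F :=
      mem_negUnipotent_of hG2 (by rw [nroots_eq]; exact hlt) (by rw [half_g2]; omega) _
    have h1 : xG hG2 p k ∈ chevG2.posUnipotent F := by rw [key]; exact P_mem _ _ _ _ _ _
    exact hk0 ((xG_eq_one_iff hG2 (by rw [nroots_eq]; exact hlt)).1
      (borel_inf_upper hG2 (Subgroup.mem_sup_left h1) (negUnipotent_le_upperGroup hG2 hN)))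
  have hl := word_long (w := w) ⟨11, by decide +kernel⟩ (Or.inr rfl)
  rw [← hp] at hl
  simp only [List.mem_cons, List.not_mem_nil, or_false] at hl
  rw [x_eq_P h6 hlt, if_neg (show p ≠ 9 by omega)] at key
  exact hs (P_injective key).2.2.2.1.symm

theorem five_commute : ∀ r ∈ [6, 9, 10, 11, 5], r < chevG2.nroots ∧
    commutesTwoChk chevG2 9 r = true := by decide +kernel

theorem centralizer_short :
    chevG2.group F ⊓ Subgroup.centralizer {xG hG2 9 (1 : F)} =
      chevG2.rootSubgroup F 9 ⊔ chevG2.rootSubgroup F 10 ⊔ chevG2.rootSubgroup F 11 ⊔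
        chevG2.rootSubgroup F 6 ⊔ chevG2.rootSubgroup F 5 := by
  classical
  set M := chevG2.rootSubgroup F 9 ⊔ chevG2.rootSubgroup F 10 ⊔ chevG2.rootSubgroup F 11 ⊔
    chevG2.rootSubgroup F 6 ⊔ chevG2.rootSubgroup F 5 with hM
  have hX : ∀ r ∈ [6, 9, 10, 11, 5], ∀ t : F, xG hG2 r t ∈ M := by
    intro r hr t
    have hsub : xG hG2 r t ∈ chevG2.rootSubgroup F r := Subgroup.subset_closure ⟨t, rfl⟩
    simp only [List.mem_cons, List.not_mem_nil, or_false] at hr
    rw [hM]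
    rcases hr with rfl | rfl | rfl | rfl | rfl
    · exact Subgroup.mem_sup_left (Subgroup.mem_sup_right hsub)
    · exact Subgroup.mem_sup_left (Subgroup.mem_sup_left (Subgroup.mem_sup_left
        (Subgroup.mem_sup_left hsub)))
    · exact Subgroup.mem_sup_left (Subgroup.mem_sup_left (Subgroup.mem_sup_left
        (Subgroup.mem_sup_right hsub)))
    · exact Subgroup.mem_sup_left (Subgroup.mem_sup_left (Subgroup.mem_sup_right hsub))
    · exact Subgroup.mem_sup_right hsub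
  have hMle : M ≤ chevG2.group F ⊓ Subgroup.centralizer {xG hG2 9 (1 : F)} := by
    have h1 : ∀ r ∈ [6, 9, 10, 11, 5], chevG2.rootSubgroup F r ≤
        chevG2.group F ⊓ Subgroup.centralizer {xG hG2 9 (1 : F)} := by
      intro r hr
      refine (Subgroup.closure_le _).2 ?_
      rintro g ⟨t, e⟩
      obtain rfl : g = xG hG2 r t := Units.ext e
      obtain ⟨h1, h2⟩ := five_commute r hr
      exact ⟨xG_mem_group hG2 _ _, Subgroup.mem_centralizer_singleton_iff.2
        (commute_of_chk_two hG2 (by rw [nroots_eq]; omega) h1 h2 1 t).eq⟩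
    exact sup_le (sup_le (sup_le (sup_le (h1 _ (by simp)) (h1 _ (by simp))) (h1 _ (by simp)))
      (h1 _ (by simp))) (h1 _ (by simp))
  have hnb : ∀ t : F, nG hG2 6 t ∈ M := fun t => by
    have hneg : chevG2.neg 6 = 5 := by decide +kernel
    rw [nG, hneg]
    exact Subgroup.mul_mem _ (Subgroup.mul_mem _ (hX 6 (by simp) _) (hX 5 (by simp) _))
      (hX 6 (by simp) _)
  have hsb : chevG2.simple 1 = 6 := by decide +kernel
  have hnbS : (nS hG2 (ib : ℕ) : GL chevG2.Idx F) ∈ M := by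
    show nG hG2 (chevG2.simple 1) 1 ∈ M
    rw [hsb]; exact hnb 1
  refine le_antisymm ?_ hMle
  rintro g ⟨hgG, hgC⟩
  replace hgC : Commute g (xG hG2 9 (1 : F)) := Subgroup.mem_centralizer_singleton_iff.1 hgC
  -- elements of the Borel subgroup
  have hborel : ∀ g ∈ chevG2.borelSubgroup F, Commute g (xG hG2 9 (1 : F)) → g ∈ M := by
    intro g hg hgc
    obtain ⟨v, hv, c, rfl⟩ := (mem_borel_iff hG2).1 hg
    obtain ⟨a, b, c', d, e, f, rfl⟩ := exists_P hv
    have h9 := torusHom_conj hG2 c (r := 9) (by rw [nroots_eq]; omega) (1 : F)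
    have h1 : P a b c' d e f * xG hG2 9 ((chiU c 9 : F) * 1) * (P a b c' d e f)⁻¹ =
        xG hG2 9 (1 : F) := by
      rw [mul_inv_eq_iff_eq_mul]
      refine mul_right_cancel (b := torusHom c) ?_
      rw [mul_assoc, ← h9, ← mul_assoc, hgc.eq, mul_assoc]
    rw [conj_nine, mul_one, ← P_single9] at h1
    obtain ⟨-, -, -, h4, h5, h6⟩ := P_injective h1
    rw [h4, one_mul] at h5 h6
    subst h5
    rw [mul_zero, zero_add] at h6
    subst h6
    have hc0 : ∀ j : Fin chevG2.rank, (j : ℕ) = 0 → c j = 1 := by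
      intro j hj
      have hcol : ∀ k : Fin chevG2.rank, chevG2.cartan k 9 = if (k : ℕ) = 0 then 1 else 0 := by
        decide +kernel
      have : chiU c 9 = c j := by
        rw [chiU, Finset.prod_eq_single j (fun k _ hk => by
          rw [hcol, if_neg (fun e => hk (Fin.ext (e.trans hj.symm))), zpow_zero])
          (fun h => absurd (Finset.mem_univ _) h), hcol, if_pos hj, zpow_one]
      rw [← this]
      exact Units.ext h4
    have hc : c = Pi.mulSingle ib (c ib) := by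
      funext j
      have hr2 : chevG2.rank = 2 := by decide +kernel
      have hj2 : (j : ℕ) = 0 ∨ (j : ℕ) = 1 := by have := j.2; omega
      rcases hj2 with hj | hj
      · rw [Pi.mulSingle_eq_of_ne (fun e => by rw [e] at hj; exact one_ne_zero hj), hc0 j hj]
      · obtain rfl : j = ib := Fin.ext hj
        rw [Pi.mulSingle_eq_same]
    refine Subgroup.mul_mem _ ?_ ?_
    · simp only [P, xG_zero, mul_one]
      exact Subgroup.mul_mem _ (Subgroup.mul_mem _ (Subgroup.mul_mem _ (hX 6 (by simp) _)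
        (hX 9 (by simp) _)) (hX 10 (by simp) _)) (hX 11 (by simp) _)
    · rw [hc, ← coH_simple hG2 ib.2, ← hG_simple hG2 ib.2, hG, show chevG2.simple ib = 6 from hsb]
      exact Subgroup.mul_mem _ (hnb _) (hnb _)
  obtain ⟨b', hb', w, x, hx, rfl⟩ := exists_normalForm hG2 hgG
  obtain ⟨v, hv, c, rfl⟩ := (mem_borel_iff hG2).1 hb'
  have hxU : x ∈ chevG2.posUnipotent F := (closure_uGens_le hG2 _).trans le_rfl hx
  have hfix := fix_nine hv hxU hgC
  obtain ⟨v', hv', hw'⟩ := exists_word.{u} w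
  have hfix' : (pWord facts_chevG2.{u} v' ⟨9, by decide +kernel⟩ : ℕ) = 9 := by
    rw [← hw']; exact hfix _ rfl
  -- the monomial part
  obtain ⟨d, hd⟩ := (mem_diagonal_iff hG2).1 (mem_diagonal_of_isMon_one hG2
    (Subgroup.mul_mem _ (Subgroup.inv_mem _ (nWord_mem hG2 v')) (nWord_mem hG2 w) :
      (nWord hG2 v' : GL chevG2.Idx F)⁻¹ * nWord hG2 w ∈ chevG2.monomialSubgroup F) (by
      have h1 : IsMon hG2 ((nWord hG2 v' : GL chevG2.Idx F)⁻¹) (pWord facts_chevG2.{u} v')⁻¹ := by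
        have h := isMon_monPerm hG2 (Subgroup.inv_mem _ (nWord_mem hG2 v' (F := F)))
        have h2 := isMon_mul hG2 (isMon_nWord hG2 v') h
        rw [mul_inv_cancel] at h2
        have := isMon_unique hG2 h2 (isMon_one hG2)
        rwa [eq_inv_of_mul_eq_one_right this] at h
      have h2 := isMon_mul hG2 h1 (isMon_nWord hG2 w)
      rwa [hw', inv_mul_cancel] at h2))
  obtain ⟨d', hd'⟩ := nWord_torus hG2 v' d (F := F)
  have hnw : (nWord hG2 w : GL chevG2.Idx F) = torusHom d' * nWord hG2 v' := by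
    rw [← hd', hd, mul_inv_cancel_left]
  have hxM : nWord hG2 v' * x ∈ M := by
    rcases word_fix v' hv' ⟨9, by decide +kernel⟩ rfl hfix' with rfl | rfl
    · have : x = 1 := by
        rw [hw', show pWord facts_chevG2.{u} ([] : List (Fin chevG2.rank)) = 1 from rfl] at hx
        refine Subgroup.mem_bot.1 ((Subgroup.closure_le _).2 ?_ hx)
        rintro y ⟨r, t, h1, h2, -⟩
        exact absurd h2 (not_lt.2 h1)
      rw [this, mul_one]
      exact M.one_mem
    · refine Subgroup.mul_mem _ ?_ ?_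
      · show ([ib].map fun i : Fin chevG2.rank => nS hG2 (i : ℕ)).prod ∈ M
        simpa using hnbS
      · rw [hw'] at hx
        refine (Subgroup.closure_le M).2 ?_ hx
        rintro y ⟨r, t, h1, h2, rfl⟩
        have hinv : ∀ r : Fin chevG2.nroots, half chevG2 ≤ (r : ℕ) →
            (pWord facts_chevG2.{0} [ib] r : ℕ) < half chevG2 → (r : ℕ) = 6 := by decide +kernel
        rw [hinv r h1 h2]
        exact hX 6 (by simp) t
  rw [hnw, ← mul_assoc, mul_assoc _ (nWord hG2 v') x, mul_assoc v, ← map_mul] at hgC ⊢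
  refine Subgroup.mul_mem _ (hborel _ (Subgroup.mul_mem _ (Subgroup.mem_sup_left hv)
    (Subgroup.mem_sup_right (torusHom_mem hG2 _))) ?_) hxM
  have hc2 : Commute (nWord hG2 v' * x) (xG hG2 9 (1 : F)) :=
    Subgroup.mem_centralizer_singleton_iff.1 (hMle hxM).2
  have := hgC.mul_left hc2.inv_left
  rwa [mul_inv_cancel_right] at this

/-- The highest root. -/
def r11 : Fin chevG2.nroots := ⟨11, by decide +kernel⟩

theorem long_tables : (∀ s ∈ [6, 7, 8, 9, 10, 11, 4], s < chevG2.nroots ∧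
    commutesTwoChk chevG2 11 s = true) := by decide +kernel

theorem centralizer_long :
    chevG2.group F ⊓ Subgroup.centralizer {xG hG2 11 (1 : F)} =
      chevG2.posUnipotent F ⊔ chevG2.rootSubgroup F 4 := by
  classical
  have hlt : 11 < chevG2.nroots := by rw [nroots_eq]; omega
  refine (centralizer_dominant hG2 _ [r11] {ib} [4] (fun v hv => ?_) (fun s hs c => ?_) ?_ ?_ ?_ ?_
    (fun w c h => ?_) (fun c h => ?_)).trans ?_
  · refine dom_commute_posUnipotent hG2 hlt (fun s hs hp => ?_) hv 1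
    rw [nroots_eq] at hs
    rw [half_g2] at hp
    exact (long_tables s (by simp; omega)).2
  · obtain rfl := List.mem_singleton.1 hs
    obtain ⟨h1, h2⟩ := long_tables 4 (by simp)
    exact commute_of_chk_two hG2 hlt h1 h2 1 c
  · decide +kernel
  · decide +kernel
  · decide +kernel
  · decide +kernel
  · intro r hr
    rw [List.mem_singleton.1 hr]
    obtain ⟨a, ha, hconj⟩ :=
      isMon_mul hG2 (isMon_torus hG2 c) (isMon_nWord hG2 w) r11
    rw [one_mul] at hconj
    have h1 := hconj 1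
    rw [mul_one, show ((r11 : Fin chevG2.nroots) : ℕ) = 11 from rfl, h.eq] at h1
    have h2 := congrArg Units.val (mul_right_cancel h1)
    rw [xG_val, xG_val] at h2
    exact Fin.ext (eq_of_x_eq hG2 hlt one_ne_zero h2).1.symm
  · intro k hk
    rw [Finset.mem_singleton.1 hk]
    have h1 := torusHom_conj hG2 c hlt (1 : F)
    rw [h.eq, mul_left_inj, mul_one] at h1
    have h2 : chiU c 11 = 1 :=
      Units.ext (eq_of_x_eq (F := F) hG2 hlt one_ne_zero
        (by rw [← xG_val hG2, ← xG_val hG2]; exact congrArg Units.val h1)).2.symm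
    have hcol : ∀ k : Fin chevG2.rank, chevG2.cartan k 11 = if (k : ℕ) = 1 then 1 else 0 := by
      decide +kernel
    rw [← h2, chiU, Finset.prod_eq_single ib (fun k _ hk => by
      rw [hcol, if_neg (fun e => hk (Fin.ext (e.trans rfl))), zpow_zero])
      (fun h => absurd (Finset.mem_univ _) h), hcol, if_pos (show (ib : ℕ) = 1 from rfl), zpow_one]
  · congr 1
    rw [ChevalleyDatum.rootSubgroup]
    congr 1
    ext g
    simp

end Finite

end G2Invol

end Cfsg.Agent.Chev
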