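import Cfsg.Agent.Chev.Steinberg
import Cfsg.Agent.Chev.TorusCard

/-!
The centre of the presented group for unimodular Cartan matrices.
-/

set_option autoImplicit false

namespace Cfsg.Agent.Chev

open Cfsg.Lie
open scoped MatrixGroups

universe u v

variable {D : ChevalleyDatum} {C : Cert} {F : Type u} [Field F]

theorem torusHom_injective (h : Checks D C) (hF : Facts.{u} D) {P P' Q Q' : List (List ℤ)}
    {d : List ℕ} (hc : chkSmith D C P P' Q Q' d = true) (hd : ∀ i < D.rank, d.getD i 0 = 1) :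
    Function.Injective (torusHom : (Fin D.rank → Fˣ) →* GL D.Idx F) := by
  simp only [chkSmith, allBelow_iff, Bool.and_eq_true, zbeq_iff] at hc
  have hm : ∀ f g : ℕ → ℕ → ℤ, ∀ i j : Fin D.rank, mulL D.rank f g i j =
      ((Matrix.of fun a b : Fin D.rank => f a b) * (Matrix.of fun a b : Fin D.rank => g a b)) i j :=
    fun f g i j => by simp [mulL, list_range_map_sum, Matrix.mul_apply]
  have hone : ∀ i j : Fin D.rank, (cond (Nat.beq i j) 1 0 : ℤ) =
      (1 : Matrix (Fin D.rank) (Fin D.rank) ℤ) i j := by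
    intro i j
    by_cases e : i = j
    · subst e; simp [nbeq_iff.2 rfl]
    · rw [nbeq_false_iff.2 fun e' => e (Fin.ext e'), Matrix.one_apply_ne e]; rfl
  have hPMQ : matL D.rank P * (Matrix.of fun i j : Fin D.rank => D.cartan j (D.simple i)) *
      matL D.rank Q = 1 := Matrix.ext fun i j => by
    rw [← hone i j]
    have e : (cond (Nat.beq i j) (d.getD i 0 : ℤ) 0) = (cond (Nat.beq i j) 1 0 : ℤ) := by
      rw [hd i i.2]; rfl
    rw [← e, ← (hc i i.2 j j.2).2, hm]
    simp only [Matrix.mul_apply, matL, Matrix.of_apply, hm]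
    refine Finset.sum_congr rfl fun k _ => ?_
    congr 1
    exact Finset.sum_congr rfl fun l _ => by
      rw [cartan_eq h k.2 (hF.simple_lt l l.2)]
  have hQ : matL D.rank Q * matL D.rank Q' = 1 := Matrix.ext fun i j => by
    rw [← hone i j, ← (hc i i.2 j j.2).1.1.2, hm]; rfl
  rw [← MonoidHom.ker_eq_bot_iff, eq_bot_iff]
  intro c hc'
  rw [mem_torusHom_ker hF] at hc'
  set M := (Matrix.of fun i j : Fin D.rank => D.cartan j (D.simple i))
  have h1 : zAct (matL D.rank P * M * matL D.rank Q) (zAct (matL D.rank Q') c) = 1 := by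
    rw [← zAct_mul, Matrix.mul_assoc (matL D.rank P * M), hQ, Matrix.mul_one, zAct_mul, hc',
      zAct_apply_one]
  rw [hPMQ, zAct_one] at h1
  have := congrArg (zAct (matL D.rank Q)) h1
  rwa [← zAct_mul, hQ, zAct_one, zAct_apply_one] at this

namespace Lift

variable {hF : Facts.{u} D} {H : Type v} [Group H] (L : Lift hF F H)

theorem h_conj_h (hE : Extra D) (hmul : ∀ (i : Fin D.rank) (a b : Fˣ),
    L.h (D.simple i) (a : F) * L.h (D.simple i) (b : F) = L.h (D.simple i) ((a * b : Fˣ) : F))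
    (i j : Fin D.rank) (a b : Fˣ) :
    Commute (L.h (D.simple i) (a : F)) (L.h (D.simple j) (b : F)) := by
  set τ := L.h (D.simple i) (a : F) with hτ
  have hτm : τ ∈ L.tor := L.h_mem_tor i (Units.ne_zero a)
  obtain ⟨c, hc⟩ := L.θ_tor hτm
  set e := chiU c (D.simple j) with he
  have hj := hF.simple_lt j j.2
  have h1 : τ * L.h (D.simple j) (b : F) * τ⁻¹ =
      L.h (D.simple j) ((e * b : Fˣ) : F) * (L.h (D.simple j) (e : F))⁻¹ := by
    simp only [Lift.h]
    rw [show τ * (L.n (D.simple j) (b : F) * L.n (D.simple j) (-1)) * τ⁻¹ =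
        (τ * L.n (D.simple j) (b : F) * τ⁻¹) * (τ * L.n (D.simple j) (-1) * τ⁻¹) by group,
      L.tor_conj_n hE hτm hc hj, L.tor_conj_n hE hτm hc hj, ← L.n_inv hj (1 : F),
      Units.val_mul, mul_neg, mul_one, he]
    group
    simp only [zpow_neg_one, L.n_inv hj]
  rw [← hmul, show L.h (D.simple j) (e : F) * L.h (D.simple j) (b : F) *
    (L.h (D.simple j) (e : F))⁻¹ = L.h (D.simple j) (b : F) by
      rw [hmul, mul_comm, ← hmul, mul_inv_cancel_right]] at h1
  exact mul_inv_eq_iff_eq_mul.1 h1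

theorem ker_eq_bot (hE : Extra D) (hmul : ∀ (i : Fin D.rank) (a b : Fˣ),
    L.h (D.simple i) (a : F) * L.h (D.simple i) (b : F) = L.h (D.simple i) ((a * b : Fˣ) : F))
    (hinj : Function.Injective (torusHom : (Fin D.rank → Fˣ) →* GL D.Idx F)) : L.θ.ker = ⊥ := by
  classical
  let ψ : ∀ _ : Fin D.rank, Fˣ →* H := fun i =>
    { toFun := fun a => L.h (D.simple i) (a : F)
      map_one' := by
        have := hmul i 1 1
        rw [mul_one] at this
        exact mul_eq_left.1 this
      map_mul' := fun a b => (hmul i a b).symm }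
  let φ := MonoidHom.noncommPiCoprod ψ fun i j _ a b => L.h_conj_h hE hmul i j a b
  have hθφ : L.θ.comp φ = torusHom := by
    refine MonoidHom.ext fun c => ?_
    refine Subgroup.pi_mem_of_mulSingle_mem (H := (L.θ.comp φ).eqLocus torusHom) c fun i => ?_
    generalize c i = a
    show L.θ (φ (Pi.mulSingle i a)) = torusHom (Pi.mulSingle i a)
    rw [show φ (Pi.mulSingle i a) = ψ i a from MonoidHom.noncommPiCoprod_mulSingle _ _ _]
    show L.θ (L.h (D.simple i) (a : F)) = _
    rw [L.θ_h, hG_simple hF i.2, coH_simple hF i.2]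
  have hle : L.tor ≤ φ.range := by
    refine (Subgroup.closure_le _).2 ?_
    rintro _ ⟨i, t, hi, ht, rfl⟩
    exact ⟨Pi.mulSingle ⟨i, hi⟩ (Units.mk0 t ht), MonoidHom.noncommPiCoprod_mulSingle _ _ _⟩
  rw [eq_bot_iff]
  intro g hg
  obtain ⟨c, rfl⟩ := hle (L.ker_le_tor hE hg)
  have h1 : torusHom c = (torusHom (1 : Fin D.rank → Fˣ) : GL D.Idx F) := by
    rw [← hθφ, map_one, MonoidHom.comp_apply]
    exact hg
  rw [hinj h1, map_one]
  exact Subgroup.one_mem _

end Lift

theorem stLift_hmul (hF : Facts.{u} D) (i : Fin D.rank) (a b : Fˣ) :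
    (stLift hF).h (D.simple i) (a : F) * (stLift hF).h (D.simple i) (b : F) =
      (stLift hF).h (D.simple i) ((a * b : Fˣ) : F) := by
  have := mk_rel (rels := D.steinbergRels F) (Or.inr ⟨D.simple i, (a : F), (b : F),
    hF.simple_lt i i.2, Units.ne_zero a, Units.ne_zero b, rfl⟩)
  rwa [map_mul, map_mul, map_inv, mul_inv_eq_one, ← stLift_h hF, ← stLift_h hF, ← stLift_h hF,
    ← Units.val_mul] at this

theorem center_eq_bot (h : Checks D C) (hF : Facts.{u} D) (hE : Extra D)
    {P P' Q Q' : List (List ℤ)} {d : List ℕ} (hc : chkSmith D C P P' Q Q' d = true)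
    (hd : ∀ i < D.rank, d.getD i 0 = 1) : Subgroup.center (D.SteinbergGroup F) = ⊥ := by
  rw [← (stLift hF (F := F)).ker_eq_center hE]
  exact (stLift hF).ker_eq_bot hE (stLift_hmul hF) (torusHom_injective h hF hc hd)

end Cfsg.Agent.Chev
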