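import Cfsg.Agent.Chev.InvolTorus
import Cfsg.Agent.Chev.G2Invol
import Cfsg.Agent.Chev.SteinbergCenter
import Cfsg.Agent.Chev.WeylAll

/-!
Involutions of `G₂` in odd characteristic form one class.
-/

set_option autoImplicit false
set_option maxRecDepth 100000
set_option maxHeartbeats 1000000

namespace Cfsg.Agent.Chev

open Cfsg.Lie
open scoped MatrixGroups

universe u

theorem chiU_refl_eq {D : ChevalleyDatum} {F : Type u} [Field F] (hF : Facts.{u} D)
    (i : Fin D.rank) (c : Fin D.rank → Fˣ) {s : ℕ} (hs : s < D.nroots) :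
    chiU c (D.reflectRoot i s) = chiU c s * (chiU c (D.simple i)) ^ (-D.cartan i s) := by
  rw [chiU, chiU, chiU, ← Finset.prod_zpow, ← Finset.prod_mul_distrib]
  refine Finset.prod_congr rfl fun j _ => ?_
  rw [hF.cartan_refl i i.2 s hs j j.2, ← zpow_mul, ← zpow_add]
  congr 1
  ring

namespace G2Odd

open InvolTorus

variable {F : Type u} [Field F] [Fintype F]

omit [Fintype F] in
theorem torus_injective : Function.Injective
    (torusHom : (Fin chevG2.rank → Fˣ) →* GL chevG2.Idx F) :=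
  torusHom_injective g2_checks facts_chevG2.{u} g2_smith (by decide)

theorem perm_cases : ∀ v ∈ G2Invol.words,
    (∀ r, pWord facts_chevG2.{0} (v ++ v) r = r) →
    (∀ r, pWord facts_chevG2.{0} v r = r) ∨
    (∀ r, pWord facts_chevG2.{0} v r = negF facts_chevG2.{0} r) ∨
    ∃ u ∈ G2Invol.words, ∃ i : Fin chevG2.rank,
      ∀ r, pWord facts_chevG2.{0} (u ++ v ++ u.reverse) r = wPerm facts_chevG2.{0} i r := by
  decide +kernel

theorem neg_one_steps : ∀ r : Fin chevG2.nroots,
    wPerm facts_chevG2.{0} G2Invol.ib (wPerm facts_chevG2.{0} G2Invol.ib r) = r := by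
  decide +kernel

theorem node_tables : ∀ i : Fin chevG2.rank, ∃ j : Fin chevG2.rank,
    (chevG2.cartan i (chevG2.simple j) = -1 ∨ chevG2.cartan i (chevG2.simple j) = -3) := by
  decide +kernel

theorem cartan_simple : chevG2.cartan G2Invol.ia (chevG2.simple G2Invol.ia) = 2 ∧
    chevG2.cartan G2Invol.ib (chevG2.simple G2Invol.ib) = 2 ∧
    (chevG2.cartan G2Invol.ia (chevG2.simple G2Invol.ib) = -1 ∨
      chevG2.cartan G2Invol.ia (chevG2.simple G2Invol.ib) = -3) ∧
    (chevG2.cartan G2Invol.ib (chevG2.simple G2Invol.ia) = -1 ∨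
      chevG2.cartan G2Invol.ib (chevG2.simple G2Invol.ia) = -3) := by
  decide +kernel

theorem fin_cases_rank (i : Fin chevG2.rank) : i = G2Invol.ia ∨ i = G2Invol.ib := by
  revert i; decide +kernel

omit [Fintype F] in
theorem chiU_two (c : Fin chevG2.rank → Fˣ) (s : ℕ) :
    chiU c s = c G2Invol.ia ^ chevG2.cartan G2Invol.ia s *
      c G2Invol.ib ^ chevG2.cartan G2Invol.ib s := by
  have hne : G2Invol.ia ≠ G2Invol.ib := by decide +kernel
  rw [chiU, ← Finset.prod_pair (f := fun j : Fin chevG2.rank => c j ^ chevG2.cartan j s) hne]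
  refine Finset.prod_congr ?_ fun _ _ => rfl
  ext i
  simp only [Finset.mem_univ, Finset.mem_insert, Finset.mem_singleton, true_iff]
  exact fin_cases_rank i

theorem odd_ne_two (hodd : Odd (Fintype.card F)) : ringChar F ≠ 2 := fun h => by
  have := FiniteField.even_card_iff_char_two.1 h
  rw [Nat.odd_iff] at hodd
  omega

theorem isSquare_mul_of_not (hodd : Odd (Fintype.card F)) {a b : F} (ha : ¬ IsSquare a)
    (hb : ¬ IsSquare b) : IsSquare (a * b) := by
  have h2 := odd_ne_two hodd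
  have ha0 : a ≠ 0 := fun h => ha (h ▸ IsSquare.zero)
  have hb0 : b ≠ 0 := fun h => hb (h ▸ IsSquare.zero)
  rw [FiniteField.isSquare_iff h2 ha0] at ha
  rw [FiniteField.isSquare_iff h2 hb0] at hb
  rw [FiniteField.isSquare_iff h2 (mul_ne_zero ha0 hb0), mul_pow,
    (FiniteField.pow_dichotomy h2 ha0).resolve_left ha,
    (FiniteField.pow_dichotomy h2 hb0).resolve_left hb]
  norm_num

omit [Fintype F] in
/-- The scalar on an inverted fundamental root. -/
theorem exists_kappa {n : GL chevG2.Idx F} {π : Equiv.Perm (Fin chevG2.nroots)}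
    (hn : IsMon facts_chevG2.{u} n π) (i : Fin chevG2.rank) (hπ : π (sRoot facts_chevG2.{u} i) = negF facts_chevG2.{u} (sRoot facts_chevG2.{u} i)) :
    ∃ κ : Fˣ, ∀ s : F, n * xG facts_chevG2.{u} (chevG2.simple i) s * n⁻¹ =
      xG facts_chevG2.{u} (chevG2.neg (chevG2.simple i)) ((κ : F) * s) := by
  obtain ⟨c, hc, h⟩ := hn (sRoot facts_chevG2.{u} i)
  refine ⟨Units.mk0 c hc, fun s => ?_⟩
  have e := h s
  rw [hπ] at e
  change n * xG facts_chevG2.{u} (chevG2.simple i) s = xG facts_chevG2.{u} (chevG2.neg (chevG2.simple i)) (c * s) * n at e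
  rw [e, mul_inv_cancel_right]
  rfl

omit [Fintype F] in
/-- The diagonal involutions form one class. -/
theorem torus_class {c : Fin chevG2.rank → Fˣ}
    (hsq : (torusHom c : GL chevG2.Idx F) * torusHom c = 1)
    (hne : (torusHom c : GL chevG2.Idx F) ≠ 1) :
    Cj (torusHom c : GL chevG2.Idx F) (torusHom (Pi.mulSingle G2Invol.ia (-1 : Fˣ))) := by
  have hcc : c * c = 1 := torus_injective (by rw [map_mul, hsq, map_one])
  have hval : ∀ j, c j = 1 ∨ c j = -1 := fun j => by
    have h := congrFun hcc j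
    rw [Pi.mul_apply, Pi.one_apply, ← sq, Units.ext_iff, Units.val_pow_eq_pow_val, Units.val_one,
      sq_eq_one_iff] at h
    rcases h with h | h
    · exact Or.inl (Units.ext h)
    · exact Or.inr (Units.ext (by simpa using h))
  have hab : G2Invol.ib ≠ G2Invol.ia := by decide +kernel
  set mk : Fˣ → Fˣ → (Fin chevG2.rank → Fˣ) := fun a b => fun j => if j = G2Invol.ia then a else b
    with hmk
  have hmk' : ∀ d, d = mk (d G2Invol.ia) (d G2Invol.ib) := fun d => funext fun j => by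
    rcases fin_cases_rank j with rfl | rfl
    · simp [hmk]
    · simp [hmk, hab]
  have move : ∀ (i : Fin chevG2.rank) (d : Fin chevG2.rank → Fˣ),
      Cj (torusHom d : GL chevG2.Idx F)
        (torusHom (d * Pi.mulSingle i (chiU d (chevG2.simple i))⁻¹)) := fun i d =>
    ⟨nS facts_chevG2.{u} (i : ℕ), nG_mem_group facts_chevG2.{u} _ _, by rw [nS_conj_torus facts_chevG2.{u} i.2, mul_inv_cancel_right]⟩
  obtain ⟨t1, t2, t3, t4⟩ := cartan_simple
  have pow_odd : ∀ (x : Fˣ), (x = 1 ∨ x = -1) → ∀ k : ℤ, k = -1 ∨ k = -3 → x ^ k = x := by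
    rintro x (rfl | rfl) k (rfl | rfl) <;> simp [zpow_neg] <;> exact Units.ext (by norm_num)
  have sa : ∀ a b : Fˣ, (a = 1 ∨ a = -1) → (b = 1 ∨ b = -1) →
      Cj (torusHom (mk a b) : GL chevG2.Idx F) (torusHom (mk (a * b) b)) := by
    intro a b ha hb
    have h := move G2Invol.ia (mk a b)
    rw [chiU_two, t1, pow_odd _ (by simp [hmk, hab, hb]) _ t4] at h
    rw [show mk (a * b) b = mk a b * Pi.mulSingle G2Invol.ia (mk a b G2Invol.ia ^ (2 : ℤ) *
      mk a b G2Invol.ib)⁻¹ from funext fun j => ?_]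
    · exact h
    rcases fin_cases_rank j with rfl | rfl
    · rcases ha with rfl | rfl <;> rcases hb with rfl | rfl <;> simp [hmk, hab]
    · simp [hmk, hab]
  have sb : ∀ a b : Fˣ, (a = 1 ∨ a = -1) → (b = 1 ∨ b = -1) →
      Cj (torusHom (mk a b) : GL chevG2.Idx F) (torusHom (mk a (a * b))) := by
    intro a b ha hb
    have h := move G2Invol.ib (mk a b)
    rw [chiU_two, t2, pow_odd _ (by simp [hmk, ha]) _ t3] at h
    rw [show mk a (a * b) = mk a b * Pi.mulSingle G2Invol.ib (mk a b G2Invol.ia *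
      mk a b G2Invol.ib ^ (2 : ℤ))⁻¹ from funext fun j => ?_]
    · exact h
    rcases fin_cases_rank j with rfl | rfl
    · simp [hmk, hab.symm]
    · rcases ha with rfl | rfl <;> rcases hb with rfl | rfl <;> simp [hmk, hab]
  have hz : (Pi.mulSingle G2Invol.ia (-1 : Fˣ) : Fin chevG2.rank → Fˣ) = mk (-1) 1 := funext fun j => by
    rcases fin_cases_rank j with rfl | rfl <;> simp [hmk, hab]
  rw [hz, hmk' c]
  have h1 : (1 : Fˣ) = 1 ∨ (1 : Fˣ) = -1 := Or.inl rfl
  have h2 : (-1 : Fˣ) = 1 ∨ (-1 : Fˣ) = -1 := Or.inr rfl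
  rcases hval G2Invol.ia with ea | ea <;> rcases hval G2Invol.ib with eb | eb <;> rw [ea, eb]
  · exact absurd (by rw [hmk' c, ea, eb, show mk 1 1 = 1 from funext fun j => by simp [hmk],
      map_one]) hne
  · have := (sa 1 (-1) h1 h2).trans (by simpa using sb (-1) (-1) h2 h2)
    simpa using this
  · exact Cj.refl _
  · simpa using sb (-1) (-1) h2 h2

/-- Involutions acting as a fundamental reflection. -/
theorem reflection_case (hodd : Odd (Fintype.card F)) (i : Fin chevG2.rank)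
    {n : GL chevG2.Idx F} (hnm : n ∈ chevG2.monomialSubgroup F)
    (hπ : IsMon facts_chevG2.{u} n (wPerm facts_chevG2.{u} i)) (hn2 : n * n = 1) :
    ∃ c, Cj n (torusHom c) := by
  obtain ⟨κ, hκ⟩ := exists_kappa hπ i (wPerm_sRoot facts_chevG2.{u} i)
  -- `n` is a torus element times `nS i`
  have hq : n * (nS facts_chevG2.{u} (i : ℕ))⁻¹ ∈ chevG2.diagonalSubgroup F := by
    refine mem_diagonal_of_isMon_one facts_chevG2.{u}
      (Subgroup.mul_mem _ hnm (Subgroup.inv_mem _ (nS_mem facts_chevG2.{u} i))) ?_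
    have h := isMon_mul facts_chevG2.{u} hπ (isMon_inv facts_chevG2.{u} (nS_mem facts_chevG2.{u} i) (isMon_nS facts_chevG2.{u} i))
    rw [wPerm_inv] at h
    convert h using 1
    exact (wPerm_sq facts_chevG2.{u} i).symm
  obtain ⟨c, hc⟩ := (mem_diagonal_iff facts_chevG2.{u}).1 hq
  rw [eq_mul_inv_iff_mul_eq] at hc
  have hklt := facts_chevG2.{u}.simple_lt i i.2
  have act : ∀ (r : ℕ), r < chevG2.nroots → ∀ t : F, n * xG facts_chevG2.{u} r t * n⁻¹ =
      xG facts_chevG2.{u} (chevG2.reflectRoot i r)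
        ((chiU c (chevG2.reflectRoot i r) : F) * ((etaN facts_chevG2.{u} i r : F) * t)) := by
    intro r hr t
    rw [← hc, mul_assoc (torusHom c), nS_conj_x facts_chevG2.{u} i.2 hr, ← mul_assoc (torusHom c),
      torusHom_conj facts_chevG2.{u} c (facts_chevG2.{u}.refl_lt i i.2 r hr)]
    group
  -- the scalar on the fundamental root
  have hk1 : (κ : F) = -((chiU c (chevG2.simple i) : F))⁻¹ := by
    have h1 := (hκ 1).symm.trans (act _ hklt 1)
    rw [facts_chevG2.{u}.refl_simple i i.2] at h1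
    have h2 := xG_inj facts_chevG2.{u} (neg_lt facts_chevG2.{u} hklt) h1
    rw [mul_one, mul_one, (etaN_spec facts_chevG2.{u} i.2).2.1, chiU_neg facts_chevG2.{u} c hklt,
      Units.val_inv_eq_inv_val] at h2
    rw [h2]
    simp
  -- the other fundamental root
  obtain ⟨j, hA⟩ := node_tables i
  set r := chevG2.simple j with hr
  have hrlt : r < chevG2.nroots := facts_chevG2.{u}.simple_lt j j.2
  set A := chevG2.cartan i r with hAdef
  have hsr := facts_chevG2.{u}.refl_lt i i.2 r hrlt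
  have h2 : (chiU c r : F) * (chiU c (chevG2.reflectRoot i r) : F) * (-1) ^ A.natAbs = 1 := by
    have h1 := act r hrlt 1
    have h1' := act _ hsr ((chiU c (chevG2.reflectRoot i r) : F) * (etaN facts_chevG2.{u} i r : F))
    rw [facts_chevG2.{u}.refl_refl i i.2 r hrlt] at h1'
    rw [mul_one] at h1
    rw [← h1, show n * (n * xG facts_chevG2.{u} r 1 * n⁻¹) * n⁻¹ = (n * n) * xG facts_chevG2.{u} r 1 * (n * n)⁻¹ by group,
      hn2, one_mul, inv_one, mul_one] at h1'
    have h3 := xG_inj facts_chevG2.{u} hrlt h1'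
    have heta := congrArg (Int.cast : ℤ → F) ((etaN_spec facts_chevG2.{u} i.2).2.2.1 r hrlt)
    push_cast at heta
    rw [← heta]
    linear_combination (-1 : F) * h3
  rw [chiU_refl_eq facts_chevG2.{u} i c hrlt, ← hAdef, Units.val_mul] at h2
  have hsq : IsSquare (κ : F) := by
    set a : F := (chiU c r : F) with ha
    set x : F := (chiU c (chevG2.simple i) : F) with hx
    have hx0 : x ≠ 0 := Units.ne_zero _
    rcases hA with e | e <;> rw [e] at h2
    · refine ⟨a, ?_⟩
      simp only [neg_neg, zpow_one, Int.natAbs_neg, Int.natAbs_one, pow_one, ← hx] at h2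
      rw [hk1]
      field_simp
      linear_combination h2
    · refine ⟨a * x, ?_⟩
      rw [neg_neg, show (3 : ℤ) = ((3 : ℕ) : ℤ) from rfl, zpow_natCast, Units.val_pow_eq_pow_val,
        ← hx, show (-((3 : ℕ) : ℤ)).natAbs = 3 from rfl] at h2
      rw [hk1]
      field_simp
      linear_combination h2
  obtain ⟨n', h1', h2', -, h4'⟩ := step_square facts_chevG2.{u} hodd i hnm hπ hn2 hκ hsq
  replace h2' : IsMon facts_chevG2.{u} n' 1 := by
    convert h2' using 1
    exact (wPerm_sq facts_chevG2.{u} i).symm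
  obtain ⟨c', hc'⟩ := (mem_diagonal_iff facts_chevG2.{u}).1 (mem_diagonal_of_isMon_one facts_chevG2.{u} h1' h2')
  exact ⟨c', hc' ▸ h4'⟩

/-- Involutions of `G₂` in odd characteristic are conjugate to the standard one. -/
theorem conj_std (hodd : Odd (Fintype.card F)) {g : GL chevG2.Idx F} (hg : g ∈ chevG2.group F)
    (hsq : g * g = 1) (hne : g ≠ 1) :
    Cj g (torusHom (Pi.mulSingle G2Invol.ia (-1 : Fˣ))) := by
  suffices h : ∃ c, Cj g (torusHom c : GL chevG2.Idx F) by
    obtain ⟨c, hc⟩ := h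
    exact hc.trans (torus_class (hc.sq hsq) (hc.ne_one hne))
  -- conjugating a monomial involution by a word
  have byWord : ∀ (u : List (Fin chevG2.rank)) {n : GL chevG2.Idx F}
      {π : Equiv.Perm (Fin chevG2.nroots)}, n ∈ chevG2.monomialSubgroup F → IsMon facts_chevG2.{u} n π →
      ∃ n' ∈ chevG2.monomialSubgroup F,
        IsMon facts_chevG2.{u} n' (pWord facts_chevG2.{u} u * π * pWord facts_chevG2.{u} u.reverse) ∧ Cj n n' := by
    intro u n π hn hπ
    have hu : (nWord facts_chevG2.{u} u : GL chevG2.Idx F) ∈ chevG2.monomialSubgroup F := nWord_mem facts_chevG2.{u} u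
    refine ⟨nWord facts_chevG2.{u} u * n * (nWord facts_chevG2.{u} u)⁻¹,
      Subgroup.mul_mem _ (Subgroup.mul_mem _ hu hn) (Subgroup.inv_mem _ hu), ?_,
      ⟨nWord facts_chevG2.{u} u, monomial_le_group facts_chevG2.{u} hu, rfl⟩⟩
    rw [pWord_reverse]
    exact isMon_mul facts_chevG2.{u} (isMon_mul facts_chevG2.{u} (isMon_nWord facts_chevG2.{u} u) hπ) (isMon_inv facts_chevG2.{u} hu (isMon_nWord facts_chevG2.{u} u))
  -- reflections
  have refl : ∀ {n : GL chevG2.Idx F} {π : Equiv.Perm (Fin chevG2.nroots)},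
      n ∈ chevG2.monomialSubgroup F → IsMon facts_chevG2.{u} n π → n * n = 1 →
      (∀ r, π r = r) ∨ (∃ u ∈ G2Invol.words, ∃ i : Fin chevG2.rank,
        ∀ r, (pWord facts_chevG2.{u} u * π * pWord facts_chevG2.{u} u.reverse) r = wPerm facts_chevG2.{u} i r) →
      ∃ c, Cj n (torusHom c : GL chevG2.Idx F) := by
    intro n π hn hπ hn2 h
    rcases h with h | ⟨u, -, i, h⟩
    · obtain ⟨c, hc⟩ := (mem_diagonal_iff facts_chevG2.{u}).1
        (mem_diagonal_of_isMon_one facts_chevG2.{u} hn (by rwa [show π = 1 from Equiv.ext h] at hπ))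
      exact ⟨c, hc ▸ Cj.refl n⟩
    · obtain ⟨n', h1, h2, h3⟩ := byWord u hn hπ
      rw [Equiv.ext h] at h2
      obtain ⟨c, hc⟩ := reflection_case hodd i h1 h2 (h3.sq hn2)
      exact ⟨c, h3.trans hc⟩
  obtain ⟨b, hb, w, x, hx, e⟩ := exists_normalForm facts_chevG2.{u} hg
  obtain ⟨n, hnm, hπ, hn2, hcj⟩ := cell facts_chevG2.{u} hodd (nWord_mem facts_chevG2.{u} w) (isMon_nWord facts_chevG2.{u} w) hb
    (uMinus_le_borel facts_chevG2.{u} _ hx) e hsq
  obtain ⟨v, hv, hwv⟩ := G2Invol.exists_word w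
  rw [hwv] at hπ
  have hvv : ∀ r, pWord facts_chevG2.{u} (v ++ v) r = r := by
    intro r
    rw [pWord_append]
    have h := isMon_mul facts_chevG2.{u} hπ hπ
    rw [hn2] at h
    rw [isMon_unique facts_chevG2.{u} h (isMon_one facts_chevG2.{u})]
    rfl
  rcases perm_cases v hv hvv with h | h | ⟨u, hu, i, h⟩
  · obtain ⟨c, hc⟩ := refl hnm hπ hn2 (Or.inl h)
    exact ⟨c, hcj.trans hc⟩
  · -- all roots are inverted
    obtain ⟨κa, hκa⟩ := exists_kappa hπ G2Invol.ia (h _)
    obtain ⟨κb, hκb⟩ := exists_kappa hπ G2Invol.ib (h _)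
    -- make the scalar at the second node a square
    obtain ⟨n₁, hn₁m, hn₁π, hn₁2, hn₁c, κ, hκ, hκs⟩ :
        ∃ n₁ ∈ chevG2.monomialSubgroup F, IsMon facts_chevG2.{u} n₁ (pWord facts_chevG2.{u} v) ∧ n₁ * n₁ = 1 ∧ Cj n n₁ ∧
          ∃ κ : Fˣ, (∀ s : F, n₁ * xG facts_chevG2.{u} (chevG2.simple G2Invol.ib) s * n₁⁻¹ =
            xG facts_chevG2.{u} (chevG2.neg (chevG2.simple G2Invol.ib)) ((κ : F) * s)) ∧ IsSquare (κ : F) := by
      by_cases hb' : IsSquare (κb : F)
      · exact ⟨n, hnm, hπ, hn2, Cj.refl n, κb, hκb, hb'⟩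
      obtain ⟨ν, hν⟩ := FiniteField.exists_nonsquare (odd_ne_two hodd)
      have hν0 : ν ≠ 0 := fun e => hν (e ▸ IsSquare.zero)
      set νu : Fˣ := Units.mk0 ν hν0 with hνu
      set t : GL chevG2.Idx F := torusHom (coH (chevG2.simple G2Invol.ia) νu) with ht
      have hflip := step_flip facts_chevG2.{u} hodd G2Invol.ia hn2 hκa νu
      rw [← ht] at hflip
      have hklt := facts_chevG2.{u}.simple_lt G2Invol.ib G2Invol.ib.2
      set χ : Fˣ := νu ^ (-chevG2.cartan G2Invol.ia (chevG2.simple G2Invol.ib)) with hχ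
      refine ⟨t * n, Subgroup.mul_mem _
          ((mem_monomial_iff facts_chevG2.{u}).2 ⟨[], _, by simp [nWord, ht]; rfl⟩) hnm,
        ?_, hflip.sq hn2, hflip, χ * κb, fun s => ?_, ?_⟩
      · have := isMon_mul facts_chevG2.{u} (isMon_torus facts_chevG2.{u} (coH (chevG2.simple G2Invol.ia) νu)) hπ
        rwa [one_mul] at this
      · rw [show t * n * xG facts_chevG2.{u} (chevG2.simple G2Invol.ib) s * (t * n)⁻¹ =
          t * (n * xG facts_chevG2.{u} (chevG2.simple G2Invol.ib) s * n⁻¹) * t⁻¹ by group, hκb, ht,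
          torusHom_conj facts_chevG2.{u} _ (neg_lt facts_chevG2.{u} hklt), mul_inv_cancel_right, chiU_neg facts_chevG2.{u} _ hklt,
          coH_simple facts_chevG2.{u} G2Invol.ia.2, chiU_mulSingle G2Invol.ia.2, hχ, zpow_neg, Units.val_mul,
          mul_assoc]
      · have hns : ¬ IsSquare ((χ : Fˣ) : F) := by
          rcases cartan_simple.2.2.1 with e | e <;> rw [hχ, e]
          · simpa [hνu] using hν
          · rw [neg_neg, show (3 : ℤ) = ((3 : ℕ) : ℤ) from rfl, zpow_natCast,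
              Units.val_pow_eq_pow_val, hνu, Units.val_mk0]
            rintro ⟨y, hy⟩
            refine hν ⟨y / ν, ?_⟩
            field_simp
            linear_combination hy
        rw [Units.val_mul]
        exact isSquare_mul_of_not hodd hns hb'
    obtain ⟨n₂, hn₂m, hn₂π, hn₂2, hn₂c⟩ := step_square facts_chevG2.{u} hodd G2Invol.ib hn₁m hn₁π hn₁2 hκ hκs
    rw [show wPerm facts_chevG2.{u} G2Invol.ib * pWord facts_chevG2.{u} v = pWord facts_chevG2.{u} (G2Invol.ib :: v) from
      (pWord_cons facts_chevG2.{u} _ v).symm] at hn₂π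
    obtain ⟨v₂, hv₂, hwv₂⟩ := G2Invol.exists_word (G2Invol.ib :: v)
    rw [hwv₂] at hn₂π
    have hvv₂ : ∀ r, pWord facts_chevG2.{u} (v₂ ++ v₂) r = r := by
      intro r
      rw [pWord_append]
      have h := isMon_mul facts_chevG2.{u} hn₂π hn₂π
      rw [hn₂2] at h
      rw [isMon_unique facts_chevG2.{u} h (isMon_one facts_chevG2.{u})]
      rfl
    rcases perm_cases v₂ hv₂ hvv₂ with h₂ | h₂ | ⟨u, hu, i, h₂⟩
    · obtain ⟨c, hc⟩ := refl hn₂m hn₂π hn₂2 (Or.inl h₂)
      exact ⟨c, hcj.trans (hn₁c.trans (hn₂c.trans hc))⟩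
    · -- the new permutation is not the longest element
      exfalso
      have e0 := congrArg (fun π => π (sRoot facts_chevG2.{u} G2Invol.ib)) hwv₂
      simp only [pWord_cons, Equiv.Perm.mul_apply] at e0
      rw [show pWord facts_chevG2.{u} v₂ (sRoot facts_chevG2.{u} G2Invol.ib) = negF facts_chevG2.{u} (sRoot facts_chevG2.{u} G2Invol.ib) from h₂ _,
        show pWord facts_chevG2.{u} v (sRoot facts_chevG2.{u} G2Invol.ib) = negF facts_chevG2.{u} (sRoot facts_chevG2.{u} G2Invol.ib) from h _,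
        wPerm_negF, wPerm_sRoot, negF_negF] at e0
      have hh := congrArg Fin.val e0
      have hp := (pos_negF_iff facts_chevG2.{u} (sRoot facts_chevG2.{u} G2Invol.ib)).not.2
        (not_lt.2 (facts_chevG2.{u}.simple_pos G2Invol.ib G2Invol.ib.2))
      rw [← hh] at hp
      exact hp (facts_chevG2.{u}.simple_pos G2Invol.ib G2Invol.ib.2)
    · obtain ⟨c, hc⟩ := refl hn₂m hn₂π hn₂2 (Or.inr ⟨u, hu, i, fun r => by
        rw [← pWord_append, ← pWord_append]; exact h₂ r⟩)
      exact ⟨c, hcj.trans (hn₁c.trans (hn₂c.trans hc))⟩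
  · obtain ⟨c, hc⟩ := refl hnm hπ hn2 (Or.inr ⟨u, hu, i, fun r => by
      rw [← pWord_append, ← pWord_append]; exact h r⟩)
    exact ⟨c, hcj.trans hc⟩

/-- All involutions of `G₂` in odd characteristic are conjugate. -/
theorem isConj_of_invol (hodd : Odd (Fintype.card F)) (s t : ↥(chevG2.group F))
    (hs : orderOf s = 2) (ht : orderOf t = 2) : IsConj s t := by
  have key : ∀ x : ↥(chevG2.group F), orderOf x = 2 →
      Cj (x : GL chevG2.Idx F) (torusHom (Pi.mulSingle G2Invol.ia (-1 : Fˣ))) := fun x hx => by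
    have h1 : x ^ 2 = 1 := hx ▸ pow_orderOf_eq_one x
    refine conj_std hodd x.2 ?_ ?_
    · exact congrArg Subtype.val (sq x ▸ h1 : x * x = 1)
    · intro e
      rw [show x = 1 from Subtype.ext e, orderOf_one] at hx
      norm_num at hx
  obtain ⟨e, he, h⟩ := (key s hs).trans (Cj.symm (key t ht))
  exact isConj_iff.2 ⟨⟨e, he⟩, Subtype.ext h⟩

end G2Odd

end Cfsg.Agent.Chev
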