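import Cfsg.Agent.Chev.G2Odd
import Cfsg.Agent.Classical.Linear2

/-!
The centraliser of an involution of `G₂` in odd characteristic.
-/

set_option autoImplicit false
set_option maxRecDepth 100000
set_option maxHeartbeats 1000000

namespace Cfsg.Agent.Chev

open Cfsg.Lie Matrix
open scoped MatrixGroups

universe u

namespace G2Odd

open InvolTorus
open G2Invol (ia ib P words)

variable {F : Type u} [Field F]

/-- A lower unitriangular element. -/
def lower (t : F) : SpecialLinearGroup (Fin 2) F := ⟨!![1, 0; t, 1], by simp [det_fin_two]⟩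

/-- A diagonal element. -/
def diag2 (t : Fˣ) : SpecialLinearGroup (Fin 2) F :=
  ⟨!![(t : F), 0; 0, (t : F)⁻¹], by simp [det_fin_two]⟩

theorem sl2_gen (M : Submonoid (SpecialLinearGroup (Fin 2) F)) (h1 : ∀ t, SL2Data.upper t ∈ M)
    (h2 : ∀ t, lower t ∈ M) : ∀ g, g ∈ M := by
  intro g
  have hg : g ∈ Submonoid.closure (Set.range (SL2Data.upper (F := F)) ∪ {SL2Data.weyl}) := by
    rw [SL2Data.closure_generators]; exact Submonoid.mem_top _
  refine (Submonoid.closure_le (S := M)).2 ?_ hg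
  rintro x (⟨b, rfl⟩ | rfl)
  · exact h1 b
  · rw [show (SL2Data.weyl : SpecialLinearGroup (Fin 2) F) =
      SL2Data.upper 1 * lower (-1) * SL2Data.upper 1 from Subtype.ext (by
        show (SL2Data.weyl (F := F)).1 =
          (SL2Data.upper (1 : F)).1 * (lower (-1)).1 * (SL2Data.upper (1 : F)).1
        ext a b
        fin_cases a <;> fin_cases b <;>
          simp [lower, SL2Data.upper, SL2Data.weyl, Matrix.mul_apply, Fin.sum_univ_two])]
    exact M.mul_mem (M.mul_mem (h1 1) (h2 _)) (h1 1)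

/-- A homomorphism of `SL₂` onto the subgroup of a pair of root subgroups. -/
structure Rank1 (φ : SpecialLinearGroup (Fin 2) F →* GL chevG2.Idx F) (r r' : ℕ) : Prop where
  inj : Function.Injective φ
  up : ∃ k : F, k ≠ 0 ∧ ∀ t, φ (SL2Data.upper t) = xG facts_chevG2.{u} r (k * t)
  lo : ∃ k : F, k ≠ 0 ∧ ∀ t, φ (lower t) = xG facts_chevG2.{u} r' (k * t)

namespace Rank1

variable {φ : SpecialLinearGroup (Fin 2) F →* GL chevG2.Idx F} {r r' : ℕ} (h : Rank1 φ r r')
include h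

theorem range_le {S : Subgroup (GL chevG2.Idx F)}
    (h1 : ∀ t, xG facts_chevG2.{u} r t ∈ S) (h2 : ∀ t, xG facts_chevG2.{u} r' t ∈ S) :
    φ.range ≤ S := by
  rintro _ ⟨g, rfl⟩
  refine sl2_gen (S.toSubmonoid.comap φ) (fun t => ?_) (fun t => ?_) g
  · obtain ⟨k, -, hk⟩ := h.up
    show φ (SL2Data.upper t) ∈ S
    rw [hk]; exact h1 _
  · obtain ⟨k, -, hk⟩ := h.lo
    show φ (lower t) ∈ S
    rw [hk]; exact h2 _

theorem x_mem (t : F) : xG facts_chevG2.{u} r t ∈ φ.range := by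
  obtain ⟨k, hk0, hk⟩ := h.up
  exact ⟨SL2Data.upper (k⁻¹ * t), by rw [hk, ← mul_assoc, mul_inv_cancel₀ hk0, one_mul]⟩

theorem x_mem' (t : F) : xG facts_chevG2.{u} r' t ∈ φ.range := by
  obtain ⟨k, hk0, hk⟩ := h.lo
  exact ⟨lower (k⁻¹ * t), by rw [hk, ← mul_assoc, mul_inv_cancel₀ hk0, one_mul]⟩

theorem torus_normalises (hr : r < chevG2.nroots) (hr' : r' < chevG2.nroots)
    (c : Fin chevG2.rank → Fˣ) :
    φ.range ≤ φ.range.comap (MulAut.conj (torusHom c : GL chevG2.Idx F)).toMonoidHom := by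
  refine h.range_le (fun t => ?_) (fun t => ?_)
  · show torusHom c * xG facts_chevG2.{u} r t * (torusHom c)⁻¹ ∈ φ.range
    rw [torusHom_conj facts_chevG2.{u} c hr, mul_inv_cancel_right]
    exact h.x_mem _
  · show torusHom c * xG facts_chevG2.{u} r' t * (torusHom c)⁻¹ ∈ φ.range
    rw [torusHom_conj facts_chevG2.{u} c hr', mul_inv_cancel_right]
    exact h.x_mem' _

/-- An element of the range times an element commuting with the range is diagonal only if it is
itself diagonal. -/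
theorem diag_of_torus (hr : r < chevG2.nroots) (hr' : r' < chevG2.nroots)
    {A : SpecialLinearGroup (Fin 2) F} {g : GL chevG2.Idx F} (hg : ∀ x ∈ φ.range, Commute g x)
    {c : Fin chevG2.rank → Fˣ} (e : φ A * g = torusHom c) :
    ∃ a : Fˣ, A = diag2 a := by
  have conj : ∀ x ∈ φ.range, φ A * x * (φ A)⁻¹ = torusHom c * x * (torusHom c)⁻¹ := by
    intro x hx
    rw [← e, show φ A * g * x * (φ A * g)⁻¹ = φ A * (g * x * g⁻¹) * (φ A)⁻¹ by group,
      (hg x hx).eq, mul_inv_cancel_right]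
  obtain ⟨k, hk0, hk⟩ := h.up
  obtain ⟨k', hk0', hk'⟩ := h.lo
  have hu : A * SL2Data.upper 1 * A⁻¹ = SL2Data.upper ((chiU c r : F) * 1) := h.inj (by
    rw [map_mul, map_mul, map_inv, conj _ ⟨_, rfl⟩, hk, hk,
      torusHom_conj facts_chevG2.{u} c hr, mul_inv_cancel_right]
    congr 1
    ring)
  have hl : A * lower 1 * A⁻¹ = lower ((chiU c r' : F) * 1) := h.inj (by
    rw [map_mul, map_mul, map_inv, conj _ ⟨_, rfl⟩, hk', hk',
      torusHom_conj facts_chevG2.{u} c hr', mul_inv_cancel_right]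
    congr 1
    ring)
  rw [mul_inv_eq_iff_eq_mul] at hu hl
  have h10 : A.1 1 0 = 0 := by
    have := congrArg (fun g : SpecialLinearGroup (Fin 2) F => g.1 1 1) hu
    change (A.1 * (SL2Data.upper (1 : F)).1) 1 1 =
      ((SL2Data.upper ((chiU c r : F) * 1)).1 * A.1) 1 1 at this
    simpa [SL2Data.upper, Matrix.mul_apply, Fin.sum_univ_two] using this
  have h01 : A.1 0 1 = 0 := by
    have := congrArg (fun g : SpecialLinearGroup (Fin 2) F => g.1 0 0) hl
    change (A.1 * (lower (1 : F)).1) 0 0 = ((lower ((chiU c r' : F) * 1)).1 * A.1) 0 0 at this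
    simpa [lower, Matrix.mul_apply, Fin.sum_univ_two] using this
  have hdet : A.1 0 0 * A.1 1 1 = 1 := by
    have := SL2Data.det_eq A
    rw [h10, h01] at this
    linear_combination this
  refine ⟨Units.mk0 (A.1 0 0) (left_ne_zero_of_mul_eq_one hdet), Subtype.ext ?_⟩
  show A.1 = !![A.1 0 0, 0; 0, (A.1 0 0)⁻¹]
  rw [inv_eq_of_mul_eq_one_right hdet]
  ext a b
  fin_cases a <;> fin_cases b <;> simp [h10, h01]

end Rank1

/-- The homomorphisms of the fundamental roots are injective. -/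
theorem simpleHom_injective (i : Fin chevG2.rank)
    {φ : SpecialLinearGroup (Fin 2) F →* GL chevG2.Idx F}
    (hu : ∀ (g : SpecialLinearGroup (Fin 2) F) (t : F),
      (g : Matrix (Fin 2) (Fin 2) F) = !![1, t; 0, 1] →
        φ g = xG facts_chevG2.{u} (chevG2.simple i) t)
    (hn : ∀ (g : SpecialLinearGroup (Fin 2) F) (t : F), t ≠ 0 →
      (g : Matrix (Fin 2) (Fin 2) F) = !![0, t; -t⁻¹, 0] →
        φ g = nG facts_chevG2.{u} (chevG2.simple i) t)
    (hT : ∀ (g : SpecialLinearGroup (Fin 2) F) (t : Fˣ),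
      (g : Matrix (Fin 2) (Fin 2) F) = !![(t : F), 0; 0, (t : F)⁻¹] →
        φ g = torusHom (coH (chevG2.simple i) t)) : Function.Injective φ := by
  have hk := facts_chevG2.{u}.simple_lt i i.2
  have hp := facts_chevG2.{u}.simple_pos i i.2
  have hU : ∀ t, φ (SL2Data.upper t) ∈ chevG2.posUnipotent F := fun t => by
    rw [hu _ t rfl]; exact mem_posUnipotent_of facts_chevG2.{u} hk hp t
  refine (injective_iff_map_eq_one _).2 fun g hg => ?_
  have hdet := SL2Data.det_eq g
  by_cases hc : g.1 1 0 = 0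
  · have ha : g.1 0 0 ≠ 0 := fun e => by rw [e, hc] at hdet; simp at hdet
    have hg' : g = SL2Data.upper (g.1 0 0 * g.1 0 1) * diag2 (Units.mk0 _ ha) := by
      apply Subtype.ext
      show g.1 = (SL2Data.upper (g.1 0 0 * g.1 0 1)).1 * (diag2 (Units.mk0 _ ha)).1
      have hd : g.1 1 1 = (g.1 0 0)⁻¹ := by
        rw [hc, mul_zero, sub_zero] at hdet
        exact (inv_eq_of_mul_eq_one_right hdet).symm
      ext a b
      fin_cases a <;> fin_cases b <;>
        simp [diag2, SL2Data.upper, Matrix.mul_apply, Fin.sum_univ_two, hc, hd] <;> field_simp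
    rw [hg', map_mul, hT (diag2 (Units.mk0 _ ha)) _ rfl] at hg
    have hz : φ (SL2Data.upper (g.1 0 0 * g.1 0 1)) = 1 := Subgroup.mem_bot.1
      ((posUnipotent_inf_diagonal facts_chevG2.{u} (F := F)).le ⟨hU _, by
        rw [eq_inv_of_mul_eq_one_left hg]
        exact Subgroup.inv_mem _ (torusHom_mem facts_chevG2.{u} _)⟩)
    rw [hz, one_mul, ← map_one torusHom] at hg
    have h1 := congrFun (torus_injective hg) i
    rw [coH_simple facts_chevG2.{u} i.2, Pi.one_apply, Pi.mulSingle_eq_same] at h1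
    rw [hu _ _ rfl, xG_eq_one_iff facts_chevG2.{u} hk] at hz
    rw [hg', hz, h1]
    apply Subtype.ext
    show (SL2Data.upper (0 : F)).1 * (diag2 (1 : Fˣ)).1 = 1
    ext a b
    fin_cases a <;> fin_cases b <;>
      simp [diag2, SL2Data.upper, Matrix.mul_apply, Fin.sum_univ_two]
  · exfalso
    let w : SpecialLinearGroup (Fin 2) F :=
      ⟨!![0, -(g.1 1 0)⁻¹; -(-(g.1 1 0)⁻¹)⁻¹, 0], by simp [det_fin_two, hc]⟩
    have hg' : g = SL2Data.upper (g.1 0 0 / g.1 1 0) * w * SL2Data.upper (g.1 1 1 / g.1 1 0) := by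
      apply Subtype.ext
      show g.1 = (SL2Data.upper (g.1 0 0 / g.1 1 0)).1 * w.1 *
        (SL2Data.upper (g.1 1 1 / g.1 1 0)).1
      ext a b
      fin_cases a <;> fin_cases b <;>
        simp [w, SL2Data.upper, Matrix.mul_apply, Fin.sum_univ_two] <;> field_simp
      linear_combination (-1 : F) * hdet
    rw [hg', map_mul, map_mul, hn w (-(g.1 1 0)⁻¹) (by simp [hc]) rfl] at hg
    set n := nG facts_chevG2.{u} (chevG2.simple i) (-(g.1 1 0)⁻¹) with hn'
    have hne : -(g.1 1 0)⁻¹ ≠ 0 := by simp [hc]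
    have hnm : n ∈ chevG2.monomialSubgroup F ∧
        IsMon facts_chevG2.{u} n (wPerm facts_chevG2.{u} i) := by
      rw [hn', show -(g.1 1 0)⁻¹ = ((Units.mk0 _ hne : Fˣ) : F) from rfl,
        nG_eq_torus_mul facts_chevG2.{u} i.2]
      refine ⟨Subgroup.mul_mem _ ((mem_monomial_iff facts_chevG2.{u}).2
        ⟨[], _, by simp [nWord]; rfl⟩) (nS_mem facts_chevG2.{u} i), ?_⟩
      have := isMon_mul facts_chevG2.{u} (isMon_torus facts_chevG2.{u} (coH (chevG2.simple i)
        (Units.mk0 _ hne))) (isMon_nS facts_chevG2.{u} i (F := F))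
      rwa [one_mul] at this
    have hB : n ∈ chevG2.borelSubgroup F := by
      rw [show n = (φ (SL2Data.upper (g.1 0 0 / g.1 1 0)))⁻¹ *
          (φ (SL2Data.upper (g.1 0 0 / g.1 1 0)) * n * φ (SL2Data.upper (g.1 1 1 / g.1 1 0))) *
          (φ (SL2Data.upper (g.1 1 1 / g.1 1 0)))⁻¹ by group, hg, mul_one]
      exact Subgroup.mul_mem _ (Subgroup.inv_mem _ (Subgroup.mem_sup_left (hU _)))
        (Subgroup.inv_mem _ (Subgroup.mem_sup_left (hU _)))
    obtain ⟨c, hc'⟩ := (mem_diagonal_iff facts_chevG2.{u}).1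
      ((borel_inf_monomial facts_chevG2.{u} (F := F)).le ⟨hB, hnm.1⟩)
    have h1 := isMon_unique facts_chevG2.{u} hnm.2 (hc' ▸ isMon_torus facts_chevG2.{u} c)
    have h2 := wPerm_sRoot facts_chevG2.{u} i
    rw [h1, Equiv.Perm.one_apply] at h2
    have h3 := congrArg Fin.val h2
    have h4 := (neg_lt_half_iff facts_chevG2.{u} hk).2 hp
    change chevG2.simple i = chevG2.neg (chevG2.simple i) at h3
    omega

/-- The parameters of the standard involution. -/
def zp : Fin chevG2.rank → Fˣ := Pi.mulSingle ia (-1)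

/-- The standard involution. -/
noncomputable def zI : GL chevG2.Idx F := torusHom zp

theorem root_tables : chevG2.simple ia = 7 ∧ chevG2.neg (chevG2.simple ia) = 4 ∧
    chevG2.simple ib = 6 ∧ chevG2.neg (chevG2.simple ib) = 5 ∧
    chevG2.reflectRoot ia 6 = 10 ∧ chevG2.reflectRoot ib 10 = 11 ∧
    chevG2.reflectRoot ia 5 = 1 ∧ chevG2.reflectRoot ib 1 = 0 ∧
    (∀ p ∈ ([(7, 11), (7, 0), (4, 11), (4, 0)] : List (ℕ × ℕ)),
      p.1 < chevG2.nroots ∧ p.2 < chevG2.nroots ∧ p.2 ≠ p.1 ∧ p.2 ≠ chevG2.neg p.1 ∧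
        chevG2.commTerms p.1 p.2 = []) ∧
    (∀ r ∈ ([0, 4, 7, 11] : List ℕ), Even (chevG2.cartan ia r)) ∧
    (∀ r ∈ ([6, 8, 9, 10] : List ℕ), Odd (chevG2.cartan ia r)) ∧
    chevG2.cartan ia (chevG2.simple ib) = -3 ∧ chevG2.cartan ib (chevG2.simple ia) = -1 ∧
    chevG2.cartan ia (chevG2.simple ia) = 2 ∧ chevG2.cartan ib (chevG2.simple ib) = 2 := by
  decide +kernel

theorem chiU_zp (r : ℕ) : chiU (zp (F := F)) r = (-1) ^ chevG2.cartan ia r :=
  chiU_mulSingle ia.2 _ r

theorem zI_x_even {r : ℕ} (hr : r < chevG2.nroots) (he : Even (chevG2.cartan ia r)) (t : F) :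
    Commute (zI : GL chevG2.Idx F) (xG facts_chevG2.{u} r t) := by
  show zI * _ = _ * zI
  rw [zI, torusHom_conj facts_chevG2.{u} _ hr, chiU_zp, Even.neg_one_zpow he, Units.val_one,
    one_mul]

theorem zI_x_odd {r : ℕ} (hr : r < chevG2.nroots) (ho : Odd (chevG2.cartan ia r)) (t : F) :
    zI * xG facts_chevG2.{u} r t * (zI : GL chevG2.Idx F)⁻¹ = xG facts_chevG2.{u} r (-t) := by
  rw [zI, torusHom_conj facts_chevG2.{u} _ hr, mul_inv_cancel_right, chiU_zp,
    Odd.neg_one_zpow ho]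
  simp

/-- The two commuting homomorphisms at the standard involution. -/
theorem exists_homs :
    ∃ φ₁ φ₂ : SpecialLinearGroup (Fin 2) F →* GL chevG2.Idx F,
      Rank1 φ₁ 7 4 ∧ Rank1 φ₂ 11 0 ∧ φ₁.range ≤ chevG2.group F ∧ φ₂.range ≤ chevG2.group F ∧
      (∀ a : Fˣ, φ₁ (diag2 a) = torusHom (Pi.mulSingle ia a)) ∧
      (∀ a : Fˣ, φ₂ (diag2 a) = torusHom (Pi.mulSingle ia a * Pi.mulSingle ib (a ^ 2))) ∧
      nS facts_chevG2.{u} (ia : ℕ) ∈ φ₁.range ∧
      ∃ m ∈ φ₂.range, m ∈ chevG2.monomialSubgroup F ∧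
        IsMon facts_chevG2.{u} m (pWord facts_chevG2.{u} [ib, ia, ib, ia, ib]) := by
  obtain ⟨t1, t2, t3, t4, t5, t6, t7, t8, -, -, -, t12, t13, t14, t15⟩ := root_tables
  obtain ⟨φ, hG, hu, hl, hn, hT, -⟩ := exists_simpleHom facts_chevG2.{u} ia (F := F)
  obtain ⟨ψ, hG', hu', hl', hn', hT', -⟩ := exists_simpleHom facts_chevG2.{u} ib (F := F)
  set a := (nS facts_chevG2.{u} (ia : ℕ) : GL chevG2.Idx F) with ha
  set b := (nS facts_chevG2.{u} (ib : ℕ) : GL chevG2.Idx F) with hb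
  set n := b * a with hn0
  set φ₂ := (MulAut.conj n).toMonoidHom.comp ψ with hφ₂
  have h6 : 6 < chevG2.nroots := t3 ▸ facts_chevG2.{u}.simple_lt ib ib.2
  have h5 : 5 < chevG2.nroots := t4 ▸ neg_lt facts_chevG2.{u} (facts_chevG2.{u}.simple_lt ib ib.2)
  have h10 : 10 < chevG2.nroots := t5 ▸ facts_chevG2.{u}.refl_lt ia ia.2 6 h6
  have h1 : 1 < chevG2.nroots := t7 ▸ facts_chevG2.{u}.refl_lt ia ia.2 5 h5
  have hup : ∃ k : F, k ≠ 0 ∧
      ∀ t, n * xG facts_chevG2.{u} 6 t * n⁻¹ = xG facts_chevG2.{u} 11 (k * t) := by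
    refine ⟨(etaN facts_chevG2.{u} ib 10 : F) * (etaN facts_chevG2.{u} ia 6 : F), mul_ne_zero
      (left_ne_zero_of_mul_eq_one (etaN_cast_sq facts_chevG2.{u} ib.2 h10))
      (left_ne_zero_of_mul_eq_one (etaN_cast_sq facts_chevG2.{u} ia.2 h6)), fun t => ?_⟩
    rw [hn0, mul_assoc b, ha, nS_conj_x facts_chevG2.{u} ia.2 h6, t5, ← mul_assoc b, hb,
      nS_conj_x facts_chevG2.{u} ib.2 h10, t6, mul_assoc _ (nS facts_chevG2.{u} (ib : ℕ)),
      mul_inv_cancel_right, mul_assoc]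
  have hlo : ∃ k : F, k ≠ 0 ∧
      ∀ t, n * xG facts_chevG2.{u} 5 t * n⁻¹ = xG facts_chevG2.{u} 0 (k * t) := by
    refine ⟨(etaN facts_chevG2.{u} ib 1 : F) * (etaN facts_chevG2.{u} ia 5 : F), mul_ne_zero
      (left_ne_zero_of_mul_eq_one (etaN_cast_sq facts_chevG2.{u} ib.2 h1))
      (left_ne_zero_of_mul_eq_one (etaN_cast_sq facts_chevG2.{u} ia.2 h5)), fun t => ?_⟩
    rw [hn0, mul_assoc b, ha, nS_conj_x facts_chevG2.{u} ia.2 h5, t7, ← mul_assoc b, hb,
      nS_conj_x facts_chevG2.{u} ib.2 h1, t8, mul_assoc _ (nS facts_chevG2.{u} (ib : ℕ)),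
      mul_inv_cancel_right, mul_assoc]
  have hnG : n ∈ chevG2.group F :=
    Subgroup.mul_mem _ (nG_mem_group facts_chevG2.{u} _ _) (nG_mem_group facts_chevG2.{u} _ _)
  have hnM : n ∈ chevG2.monomialSubgroup F :=
    Subgroup.mul_mem _ (nS_mem facts_chevG2.{u} ib) (nS_mem facts_chevG2.{u} ia)
  have hnπ : IsMon facts_chevG2.{u} n (pWord facts_chevG2.{u} [ib, ia]) := by
    have := isMon_mul facts_chevG2.{u} (isMon_nS facts_chevG2.{u} ib (F := F))
      (isMon_nS facts_chevG2.{u} ia)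
    simpa [pWord, hn0] using this
  have hab : ib ≠ ia := by decide +kernel
  refine ⟨φ, φ₂, ⟨simpleHom_injective ia hu hn hT, ⟨1, one_ne_zero, fun t => ?_⟩,
      ⟨1, one_ne_zero, fun t => ?_⟩⟩, ⟨?_, ?_, ?_⟩, ?_, ?_, fun c => ?_, fun c => ?_, ?_, ?_⟩
  · rw [hu _ t rfl, t1, one_mul]
  · rw [hl (lower t) t rfl, t2, one_mul]
  · intro x y e
    exact simpleHom_injective ib hu' hn' hT' ((MulAut.conj n).injective e)
  · obtain ⟨k, hk0, hk⟩ := hup
    refine ⟨k, hk0, fun t => ?_⟩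
    show n * ψ (SL2Data.upper t) * n⁻¹ = _
    rw [hu' _ t rfl, t3, hk]
  · obtain ⟨k, hk0, hk⟩ := hlo
    refine ⟨k, hk0, fun t => ?_⟩
    show n * ψ (lower t) * n⁻¹ = _
    rw [hl' (lower t) t rfl, t4, hk]
  · rintro _ ⟨g, rfl⟩; exact hG g
  · rintro _ ⟨g, rfl⟩
    exact Subgroup.mul_mem _ (Subgroup.mul_mem _ hnG (hG' g)) (Subgroup.inv_mem _ hnG)
  · rw [hT (diag2 c) c rfl, coH_simple facts_chevG2.{u} ia.2]
  · show n * ψ (diag2 c) * n⁻¹ = _
    rw [hT' (diag2 c) c rfl, coH_simple facts_chevG2.{u} ib.2, hn0, mul_assoc b, ha,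
      nS_conj_torus facts_chevG2.{u} ia.2, ← mul_assoc b, hb,
      nS_conj_torus facts_chevG2.{u} ib.2, mul_assoc _ (nS facts_chevG2.{u} (ib : ℕ)),
      mul_inv_cancel_right]
    congr 1
    funext j
    simp only [chiU_two, Pi.mul_apply]
    rcases fin_cases_rank j with rfl | rfl <;>
      simp [hab, hab.symm, t12, t13, t14, t15, _root_.zpow_neg, pow_two] <;> group
  · let w : SpecialLinearGroup (Fin 2) F := ⟨!![0, 1; -(1 : F)⁻¹, 0], by simp [det_fin_two]⟩
    exact ⟨w, hn w 1 one_ne_zero rfl⟩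
  · let w : SpecialLinearGroup (Fin 2) F := ⟨!![0, 1; -(1 : F)⁻¹, 0], by simp [det_fin_two]⟩
    refine ⟨φ₂ w, ⟨_, rfl⟩, ?_⟩
    show n * ψ w * n⁻¹ ∈ _ ∧ IsMon facts_chevG2.{u} (n * ψ w * n⁻¹) _
    rw [hn' w 1 one_ne_zero rfl]
    change n * nS facts_chevG2.{u} (ib : ℕ) * n⁻¹ ∈ _ ∧
      IsMon facts_chevG2.{u} (n * nS facts_chevG2.{u} (ib : ℕ) * n⁻¹) _
    refine ⟨Subgroup.mul_mem _ (Subgroup.mul_mem _ hnM (nS_mem facts_chevG2.{u} ib))
      (Subgroup.inv_mem _ hnM), ?_⟩
    have h := isMon_mul facts_chevG2.{u}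
      (isMon_mul facts_chevG2.{u} hnπ (isMon_nS facts_chevG2.{u} ib (F := F)))
      (isMon_inv facts_chevG2.{u} hnM hnπ)
    rw [← pWord_reverse] at h
    convert h using 1
    simp [pWord, mul_assoc]

theorem stab_cases : ∀ v ∈ words,
    (∀ r : Fin chevG2.nroots, Even (chevG2.cartan ia (pWord facts_chevG2.{0} v r : ℕ)) ↔
      Even (chevG2.cartan ia (r : ℕ))) →
    (∀ r, pWord facts_chevG2.{0} v r = r) ∨
    (∀ r, pWord facts_chevG2.{0} v r = wPerm facts_chevG2.{0} ia r) ∨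
    (∀ r, pWord facts_chevG2.{0} v r = pWord facts_chevG2.{0} [ib, ia, ib, ia, ib] r) ∨
    (∀ r, pWord facts_chevG2.{0} v r = pWord facts_chevG2.{0} [ia, ib, ia, ib, ia, ib] r) := by
  decide +kernel

variable [Fintype F]

theorem neg_one_ne (hodd : Odd (Fintype.card F)) : (-1 : Fˣ) ≠ 1 := fun e => by
  have h := congrArg Units.val e
  rw [Units.val_neg, Units.val_one] at h
  exact Ring.neg_one_ne_one_of_char_ne_two (odd_ne_two hodd) h

/-- A positive unipotent element centralising the standard involution. -/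
theorem unip_fixed (hodd : Odd (Fintype.card F)) {u : GL chevG2.Idx F}
    (hu : u ∈ chevG2.posUnipotent F) (hc : zI * u * (zI : GL chevG2.Idx F)⁻¹ = u) :
    ∃ s t : F, u = xG facts_chevG2.{u} 7 s * xG facts_chevG2.{u} 11 t := by
  obtain ⟨-, -, -, -, -, -, -, -, -, he, ho, -⟩ := root_tables
  obtain ⟨a, b, c, d, e, f, rfl⟩ := G2Invol.exists_P hu
  have hn : chevG2.nroots = 12 := G2Invol.nroots_eq
  have e7 : ∀ t : F, zI * xG facts_chevG2.{u} 7 t * (zI : GL chevG2.Idx F)⁻¹ =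
      xG facts_chevG2.{u} 7 t := fun t => by
    rw [(zI_x_even (by omega) (he 7 (by simp)) t).eq, mul_inv_cancel_right]
  have e11 : ∀ t : F, zI * xG facts_chevG2.{u} 11 t * (zI : GL chevG2.Idx F)⁻¹ =
      xG facts_chevG2.{u} 11 t := fun t => by
    rw [(zI_x_even (by omega) (he 11 (by simp)) t).eq, mul_inv_cancel_right]
  have hP : P (-a) b (-c) (-d) (-e) f = P a b c d e f := by
    conv_rhs => rw [← hc]
    simp only [P]
    rw [show zI * (xG facts_chevG2.{u} 6 a * xG facts_chevG2.{u} 7 b * xG facts_chevG2.{u} 8 c *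
        xG facts_chevG2.{u} 9 d * xG facts_chevG2.{u} 10 e * xG facts_chevG2.{u} 11 f) *
        (zI : GL chevG2.Idx F)⁻¹ = (zI * xG facts_chevG2.{u} 6 a * zI⁻¹) *
        (zI * xG facts_chevG2.{u} 7 b * zI⁻¹) * (zI * xG facts_chevG2.{u} 8 c * zI⁻¹) *
        (zI * xG facts_chevG2.{u} 9 d * zI⁻¹) * (zI * xG facts_chevG2.{u} 10 e * zI⁻¹) *
        (zI * xG facts_chevG2.{u} 11 f * zI⁻¹) by group,
      e7, e11, zI_x_odd (by omega) (ho 6 (by simp)), zI_x_odd (by omega) (ho 8 (by simp)),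
      zI_x_odd (by omega) (ho 9 (by simp)), zI_x_odd (by omega) (ho 10 (by simp))]
  have h2 : ∀ x : F, -x = x → x = 0 := fun x hx => by
    have : (2 : F) * x = 0 := by linear_combination (-1 : F) * hx
    exact (mul_eq_zero.1 this).resolve_left (Ring.two_ne_zero (odd_ne_two hodd))
  obtain ⟨ha, -, hc', hd, he', -⟩ := G2Invol.P_injective hP
  refine ⟨b, f, ?_⟩
  simp [P, h2 a ha, h2 c hc', h2 d hd, h2 e he', xG_zero]

theorem zI_ne_one (hodd : Odd (Fintype.card F)) : (zI : GL chevG2.Idx F) ≠ 1 := fun e => by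
  rw [zI, ← map_one torusHom] at e
  have h := congrFun (torus_injective e) ia
  rw [zp, Pi.one_apply, Pi.mulSingle_eq_same] at h
  exact neg_one_ne hodd h

theorem zI_mem : (zI : GL chevG2.Idx F) ∈ chevG2.group F :=
  borel_le_group facts_chevG2.{u} (Subgroup.mem_sup_right (torusHom_mem facts_chevG2.{u} _))

/-- The centraliser of the standard involution. -/
theorem centralizer_std (hodd : Odd (Fintype.card F)) :
    ∃ L₁ L₂ : Subgroup (GL chevG2.Idx F), ∃ C : Subgroup (GL chevG2.Idx F),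
      C = chevG2.group F ⊓ Subgroup.centralizer {zI} ∧
      Nonempty (↥L₁ ≃* SpecialLinearGroup (Fin 2) F) ∧
      Nonempty (↥L₂ ≃* SpecialLinearGroup (Fin 2) F) ∧
      (∀ x ∈ L₁, ∀ y ∈ L₂, x * y = y * x) ∧ L₁ ⊓ L₂ = Subgroup.zpowers zI ∧
      L₁ ⊔ L₂ ≤ C ∧ (L₁ ⊔ L₂).relIndex C = 2 ∧
      Nat.card C = Fintype.card F ^ 2 * (Fintype.card F ^ 2 - 1) ^ 2 := by
  classical
  obtain ⟨-, -, -, -, -, -, -, -, hcomm, he, -, -⟩ := root_tables
  have hn : chevG2.nroots = 12 := G2Invol.nroots_eq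
  obtain ⟨φ₁, φ₂, R₁, R₂, hG₁, hG₂, hT₁, hT₂, ha, m, hm, hmM, hmπ⟩ := exists_homs (F := F)
  -- the two factors commute
  have hcm : ∀ p ∈ ([(7, 11), (7, 0), (4, 11), (4, 0)] : List (ℕ × ℕ)), ∀ s t : F,
      Commute (xG facts_chevG2.{u} p.1 s) (xG facts_chevG2.{u} p.2 t) := by
    intro p hp s t
    obtain ⟨a1, a2, a3, a4, a5⟩ := hcomm p hp
    have := xG_comm facts_chevG2.{u} a1 a2 a3 a4 s t
    rw [ChevalleyDatum.commWord, a5, List.map_nil, wordG, List.map_nil, List.prod_nil,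
      mul_one] at this
    exact this.symm
  have hcom : ∀ x ∈ φ₁.range, ∀ y ∈ φ₂.range, x * y = y * x := by
    intro x hx y hy
    have h1 : φ₁.range ≤ Subgroup.centralizer (φ₂.range : Set (GL chevG2.Idx F)) := by
      have h2 : ∀ r ∈ ([7, 4] : List ℕ), ∀ s : F,
          φ₂.range ≤ Subgroup.centralizer {xG facts_chevG2.{u} r s} := by
        intro r hr s
        refine R₂.range_le (fun t => ?_) (fun t => ?_) <;>
          rw [Subgroup.mem_centralizer_singleton_iff]
        · exact (hcm (r, 11) (by simp at hr; rcases hr with rfl | rfl <;> simp) s t).eq.symm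
        · exact (hcm (r, 0) (by simp at hr; rcases hr with rfl | rfl <;> simp) s t).eq.symm
      refine R₁.range_le (fun s => ?_) (fun s => ?_) <;> rw [Subgroup.mem_centralizer_iff] <;>
        intro z hz
      · exact Subgroup.mem_centralizer_singleton_iff.1 (h2 7 (by simp) s hz)
      · exact Subgroup.mem_centralizer_singleton_iff.1 (h2 4 (by simp) s hz)
    exact ((Subgroup.mem_centralizer_iff.1 (h1 hx)) y hy).symm
  set C := chevG2.group F ⊓ Subgroup.centralizer {(zI : GL chevG2.Idx F)} with hC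
  have hcentral : ∀ r ∈ ([0, 4, 7, 11] : List ℕ), ∀ t : F,
      xG facts_chevG2.{u} r t ∈ Subgroup.centralizer {(zI : GL chevG2.Idx F)} := fun r hr t => by
    rw [Subgroup.mem_centralizer_singleton_iff]
    exact (zI_x_even (by simp at hr; omega) (he r hr) t).eq.symm
  have hle : φ₁.range ⊔ φ₂.range ≤ C := le_inf (sup_le hG₁ hG₂) (sup_le
    (R₁.range_le (hcentral 7 (by simp)) (hcentral 4 (by simp)))
    (R₂.range_le (hcentral 11 (by simp)) (hcentral 0 (by simp))))
  set M := φ₁.range ⊔ φ₂.range with hM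
  -- elements of `M`
  let Φ : SpecialLinearGroup (Fin 2) F × SpecialLinearGroup (Fin 2) F →* GL chevG2.Idx F :=
    φ₁.noncommCoprod φ₂ fun a b => hcom _ ⟨a, rfl⟩ _ ⟨b, rfl⟩
  have hΦ : ∀ a b, Φ (a, b) = φ₁ a * φ₂ b := fun a b => rfl
  have hΦr : Φ.range = M := MonoidHom.noncommCoprod_range _ _ _
  have h7 : 7 < chevG2.nroots := by omega
  have h4 : 4 < chevG2.nroots := by omega
  have h11 : 11 < chevG2.nroots := by omega
  have h0 : 0 < chevG2.nroots := by omega
  -- the torus part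
  have torusPart : ∀ {A B : SpecialLinearGroup (Fin 2) F} {c : Fin chevG2.rank → Fˣ},
      φ₁ A * φ₂ B = torusHom c → ∃ a b : Fˣ, A = diag2 a ∧ B = diag2 b ∧
        c = Pi.mulSingle ia (a * b) * Pi.mulSingle ib (b ^ 2) := by
    intro A B c e
    obtain ⟨a, rfl⟩ := R₁.diag_of_torus h7 h4 (g := φ₂ B)
      (fun x hx => (hcom x hx _ ⟨B, rfl⟩).symm) e
    obtain ⟨b, rfl⟩ := R₂.diag_of_torus h11 h0 (g := φ₁ (diag2 a))
      (fun x hx => hcom _ ⟨_, rfl⟩ x hx) (c := c) (by rw [← e]; exact (hcom _ ⟨_, rfl⟩ _ ⟨_, rfl⟩).symm)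
    refine ⟨a, b, rfl, rfl, torus_injective ?_⟩
    rw [← e, hT₁, hT₂, ← map_mul, Pi.mulSingle_mul, mul_assoc]
  have hab : ib ≠ ia := by decide +kernel
  have hker : ∀ x, Φ x = 1 ↔ x = 1 ∨ x = (diag2 (-1), diag2 (-1)) := by
    rintro ⟨A, B⟩
    constructor
    · intro e
      obtain ⟨a, b, hA, hB, hc⟩ := torusPart (A := A) (B := B) (c := 1)
        (by rw [map_one, ← hΦ, e])
      subst hA hB
      have hb := congrFun hc ib
      have ha' := congrFun hc ia
      simp [hab, hab.symm] at hb ha'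
      have hb2 : (b : F) ^ 2 = 1 := by
        have := congrArg Units.val hb.symm
        simpa using this
      have hab' : a = b := by
        rw [eq_comm, mul_eq_one_iff_eq_inv] at ha'
        rw [ha']
        exact inv_eq_of_mul_eq_one_right (by rw [← pow_two]; exact hb.symm)
      rcases sq_eq_one_iff.1 hb2 with h | h
      · left
        rw [hab', show b = 1 from Units.ext h,
          show diag2 (1 : Fˣ) = (1 : SpecialLinearGroup (Fin 2) F) from
            Subtype.ext (by simp [diag2, Matrix.one_fin_two])]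
        rfl
      · right
        rw [hab', show b = -1 from Units.ext (by simpa using h)]
    · rintro (h | h) <;> rw [h]
      · exact map_one _
      · rw [hΦ, hT₁, hT₂, ← map_mul, ← mul_assoc, ← Pi.mulSingle_mul, neg_mul_neg, one_mul,
          neg_one_sq, Pi.mulSingle_one, Pi.mulSingle_one, one_mul, map_one]
  have hd1 : φ₁ (diag2 (-1)) = zI := by rw [hT₁]; rfl
  have hd2 : φ₂ (diag2 (-1)) = zI := by
    rw [hT₂, neg_one_sq, Pi.mulSingle_one, mul_one]; rfl
  have hinter : φ₁.range ⊓ φ₂.range = Subgroup.zpowers zI := by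
    refine le_antisymm ?_ ?_
    · rintro x ⟨⟨A, hA⟩, ⟨B, hB⟩⟩
      have e : Φ (A, B⁻¹) = 1 := by rw [hΦ, map_inv, hA, hB, mul_inv_cancel]
      rcases (hker _).1 e with h | h
      · have hA1 : A = 1 := (Prod.ext_iff.1 h).1
        rw [← hA, hA1, map_one]
        exact Subgroup.one_mem _
      · have hA1 : A = diag2 (-1) := (Prod.ext_iff.1 h).1
        rw [← hA, hA1, hd1]
        exact Subgroup.mem_zpowers _
    · rw [Subgroup.zpowers_le]
      exact ⟨⟨_, hd1⟩, ⟨_, hd2⟩⟩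
  -- the torus normalises `M`
  have hnorm : ∀ c : Fin chevG2.rank → Fˣ, ∀ x ∈ M,
      (torusHom c : GL chevG2.Idx F) * x * (torusHom c)⁻¹ ∈ M := by
    intro c x hx
    have h : M ≤ M.comap (MulAut.conj (torusHom c : GL chevG2.Idx F)).toMonoidHom :=
      sup_le ((R₁.torus_normalises h7 h4 c).trans (Subgroup.comap_mono le_sup_left))
        ((R₂.torus_normalises h11 h0 c).trans (Subgroup.comap_mono le_sup_right))
    exact h hx
  -- every element is in `M * T`
  have hMT : ∀ g ∈ C, ∃ x ∈ M, ∃ c, g = x * torusHom c := by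
    intro g hg
    obtain ⟨hgG, hgz⟩ := Subgroup.mem_inf.1 hg
    rw [Subgroup.mem_centralizer_singleton_iff] at hgz
    obtain ⟨β, hβ, w, x, hx, e⟩ := exists_normalForm facts_chevG2.{u} hgG
    obtain ⟨u, hu, c, rfl⟩ := (mem_borel_iff facts_chevG2.{u}).1 hβ
    set n := (nWord facts_chevG2.{u} w : GL chevG2.Idx F) with hn'
    obtain ⟨d, hd⟩ := nWord_torus facts_chevG2.{u} w (F := F) (zp⁻¹)
    rw [map_inv] at hd
    change n * zI⁻¹ = torusHom d * n at hd
    set τ := (torusHom c : GL chevG2.Idx F) * (zI * torusHom d) with hτ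
    have hzc : zI * torusHom c = torusHom c * (zI : GL chevG2.Idx F) :=
      ((Commute.all zp c).map torusHom).eq
    have e' : u * torusHom c * n * x = zI * u * zI⁻¹ * τ * n * (zI * x * zI⁻¹) := by
      rw [← e, show g = zI * g * zI⁻¹ by rw [← hgz, mul_inv_cancel_right], e, hτ, ← mul_assoc
        (torusHom c : GL chevG2.Idx F), ← hzc, show zI * u * zI⁻¹ * (zI * torusHom c * torusHom d) * n *
          (zI * x * zI⁻¹) = zI * u * torusHom c * (torusHom d * n) * (zI * x * zI⁻¹) by group, ← hd]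
      group
    have hzu : zI * u * (zI : GL chevG2.Idx F)⁻¹ ∈ chevG2.posUnipotent F :=
      (Subgroup.mem_normalizer_iff.1
        (diagonal_le_normalizer facts_chevG2.{u} (torusHom_mem facts_chevG2.{u} zp)) u).1 hu
    have hxmon : monPerm facts_chevG2.{u} n = pWord facts_chevG2.{u} w :=
      monPerm_eq facts_chevG2.{u} (isMon_nWord facts_chevG2.{u} w)
    have hzx : zI * x * (zI : GL chevG2.Idx F)⁻¹ ∈
        uMinus facts_chevG2.{u} (pWord facts_chevG2.{u} w) := by
      have h : uMinus facts_chevG2.{u} (pWord facts_chevG2.{u} w) (F := F) ≤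
          (uMinus facts_chevG2.{u} (pWord facts_chevG2.{u} w)).comap
            (MulAut.conj (zI : GL chevG2.Idx F)).toMonoidHom := by
        refine (Subgroup.closure_le _).2 ?_
        rintro _ ⟨r, t, h1, h2, rfl⟩
        show zI * xG facts_chevG2.{u} r t * zI⁻¹ ∈ uMinus _ _
        rw [zI, torusHom_conj facts_chevG2.{u} zp r.2, mul_inv_cancel_right]
        exact Subgroup.subset_closure ⟨r, _, h1, h2, rfl⟩
      exact h hx
    have hτT : τ ∈ chevG2.diagonalSubgroup F := by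
      rw [hτ, zI, ← map_mul, ← map_mul]; exact torusHom_mem facts_chevG2.{u} _
    obtain ⟨hb, hxx⟩ := (normalForm_unique facts_chevG2.{u} hβ
      (Subgroup.mul_mem _ (Subgroup.mem_sup_left hzu) (Subgroup.mem_sup_right hτT))
      (nWord_mem facts_chevG2.{u} w) (nWord_mem facts_chevG2.{u} w) (hxmon ▸ hx) (hxmon ▸ hzx)
      e').2 rfl
    have hsplit : (zI * u * zI⁻¹)⁻¹ * u = τ * (torusHom c : GL chevG2.Idx F)⁻¹ := by
      rw [inv_mul_eq_iff_eq_mul, ← mul_assoc, ← hb, mul_inv_cancel_right]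
    have h1 : (zI * u * zI⁻¹)⁻¹ * u = (1 : GL chevG2.Idx F) := Subgroup.mem_bot.1
      ((posUnipotent_inf_diagonal facts_chevG2.{u} (F := F)).le
        ⟨Subgroup.mul_mem _ (Subgroup.inv_mem _ hzu) hu, by
          rw [hsplit]
          exact Subgroup.mul_mem _ hτT (Subgroup.inv_mem _ (torusHom_mem facts_chevG2.{u} c))⟩)
    have hdz : (zI : GL chevG2.Idx F) * torusHom d = 1 := by
      have h3 : (torusHom c : GL chevG2.Idx F) * (zI * torusHom d) * (torusHom c)⁻¹ =
          zI * torusHom d := by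
        rw [zI, ← map_inv, ← map_mul, ← map_mul, ← map_mul, mul_comm c, mul_inv_cancel_right]
      rw [h1, hτ, h3] at hsplit
      exact hsplit.symm
    -- the components
    obtain ⟨s₁, t₁, hu'⟩ := unip_fixed hodd hu (inv_mul_eq_one.1 h1)
    have hxU : x ∈ chevG2.posUnipotent F := uMinus_le_posU facts_chevG2.{u} _ hx
    obtain ⟨s₂, t₂, hx'⟩ := unip_fixed hodd hxU hxx.symm
    have hnz : n * (zI : GL chevG2.Idx F) = zI * n := by
      rw [eq_inv_of_mul_eq_one_right hdz] at hd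
      calc n * (zI : GL chevG2.Idx F) = zI * (zI⁻¹ * n) * zI := by group
        _ = zI * (n * zI⁻¹) * zI := by rw [hd]
        _ = zI * n := by group
    obtain ⟨v, hv, hwv⟩ := G2Invol.exists_word w
    have hpar : ∀ r : Fin chevG2.nroots,
        Even (chevG2.cartan ia (pWord facts_chevG2.{u} v r : ℕ)) ↔
          Even (chevG2.cartan ia (r : ℕ)) := by
      intro r
      have hnm := isMon_nWord facts_chevG2.{u} w (F := F)
      rw [hwv] at hnm
      obtain ⟨k, hk0, hk⟩ := hnm r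
      have e1 : n * (zI * xG facts_chevG2.{u} r 1 * zI⁻¹) * n⁻¹ =
          zI * (n * xG facts_chevG2.{u} r 1 * n⁻¹) * zI⁻¹ := by
        rw [show n * (zI * xG facts_chevG2.{u} r 1 * zI⁻¹) * n⁻¹ =
          (n * zI) * xG facts_chevG2.{u} r 1 * (n * zI)⁻¹ by group, hnz]
        group
      rw [zI, torusHom_conj facts_chevG2.{u} zp r.2, mul_inv_cancel_right, hk, hk,
        mul_inv_cancel_right, mul_inv_cancel_right, torusHom_conj facts_chevG2.{u} zp
          (pWord facts_chevG2.{u} v r).2, mul_inv_cancel_right] at e1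
      have e2 := xG_inj facts_chevG2.{u} (pWord facts_chevG2.{u} v r).2 e1
      rw [mul_one, mul_one, mul_comm k, mul_left_inj' hk0, chiU_zp, chiU_zp] at e2
      rcases Int.even_or_odd (chevG2.cartan ia (pWord facts_chevG2.{u} v r : ℕ)) with p | p <;>
        rcases Int.even_or_odd (chevG2.cartan ia (r : ℕ)) with p' | p'
      · exact iff_of_true p p'
      · rw [Even.neg_one_zpow p, Odd.neg_one_zpow p'] at e2
        exact absurd (Units.ext e2) (neg_one_ne hodd)
      · rw [Odd.neg_one_zpow p, Even.neg_one_zpow p'] at e2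
        exact absurd (Units.ext e2.symm) (neg_one_ne hodd)
      · exact iff_of_false (Int.not_even_iff_odd.2 p) (Int.not_even_iff_odd.2 p')
    have hnv : IsMon facts_chevG2.{u} n (pWord facts_chevG2.{u} v) :=
      hwv ▸ isMon_nWord facts_chevG2.{u} w
    have finish : ∀ k ∈ M, k ∈ chevG2.monomialSubgroup F →
        IsMon facts_chevG2.{u} k (pWord facts_chevG2.{u} v) →
        ∃ x ∈ M, ∃ c, g = x * torusHom c := by
      intro k hkM hkN hkπ
      have hd' : k⁻¹ * n ∈ chevG2.diagonalSubgroup F := by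
        refine mem_diagonal_of_isMon_one facts_chevG2.{u}
          (Subgroup.mul_mem _ (Subgroup.inv_mem _ hkN) (nWord_mem facts_chevG2.{u} w)) ?_
        have h := isMon_mul facts_chevG2.{u} (isMon_inv facts_chevG2.{u} hkN hkπ) hnv
        rwa [inv_mul_cancel] at h
      obtain ⟨e₀, he₀⟩ := (mem_diagonal_iff facts_chevG2.{u}).1 hd'
      rw [eq_inv_mul_iff_mul_eq] at he₀
      have hux : ∀ s t : F, xG facts_chevG2.{u} 7 s * xG facts_chevG2.{u} 11 t ∈ M := fun s t =>
        Subgroup.mul_mem _ (Subgroup.mem_sup_left (R₁.x_mem _))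
          (Subgroup.mem_sup_right (R₂.x_mem _))
      obtain ⟨c₂, hc₂⟩ := nWord_torus facts_chevG2.{u} w (F := F) (1 : Fin chevG2.rank → Fˣ)
      refine ⟨u * (torusHom c * (k * (torusHom e₀ * x * (torusHom e₀)⁻¹)) * (torusHom c)⁻¹),
        Subgroup.mul_mem _ (hu' ▸ hux s₁ t₁)
          (hnorm c _ (Subgroup.mul_mem _ hkM (hnorm e₀ _ (hx' ▸ hux s₂ t₂)))), c * e₀, ?_⟩
      rw [e, ← he₀, map_mul]
      group
    rcases stab_cases v hv hpar with h | h | h | h
    · refine finish 1 (Subgroup.one_mem _) (Subgroup.one_mem _) ?_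
      rw [show pWord facts_chevG2.{u} v = 1 from Equiv.ext h]
      exact isMon_one facts_chevG2.{u}
    · refine finish _ (Subgroup.mem_sup_left ha) (nS_mem facts_chevG2.{u} ia) ?_
      rw [show pWord facts_chevG2.{u} v = wPerm facts_chevG2.{u} ia from Equiv.ext h]
      exact isMon_nS facts_chevG2.{u} ia
    · refine finish m (Subgroup.mem_sup_right hm) hmM ?_
      rw [show pWord facts_chevG2.{u} v = pWord facts_chevG2.{u} [ib, ia, ib, ia, ib] from
        Equiv.ext h]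
      exact hmπ
    · refine finish _ (Subgroup.mul_mem _ (Subgroup.mem_sup_left ha) (Subgroup.mem_sup_right hm))
        (Subgroup.mul_mem _ (nS_mem facts_chevG2.{u} ia) hmM) ?_
      rw [show pWord facts_chevG2.{u} v = pWord facts_chevG2.{u} [ia, ib, ia, ib, ia, ib] from
        Equiv.ext h, pWord_cons]
      exact isMon_mul facts_chevG2.{u} (isMon_nS facts_chevG2.{u} ia) hmπ
  -- the second coset
  obtain ⟨ν, hν⟩ := FiniteField.exists_nonsquare (odd_ne_two hodd)
  have hν0 : ν ≠ 0 := fun e => hν (e ▸ IsSquare.zero)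
  set t₀ : GL chevG2.Idx F := torusHom (Pi.mulSingle ib (Units.mk0 ν hν0)) with ht₀
  have htC : ∀ c : Fin chevG2.rank → Fˣ, (torusHom c : GL chevG2.Idx F) ∈ C := fun c =>
    ⟨borel_le_group facts_chevG2.{u} (Subgroup.mem_sup_right (torusHom_mem facts_chevG2.{u} c)),
      Subgroup.mem_centralizer_singleton_iff.2 ((Commute.all c zp).map torusHom).eq⟩
  have hnot : t₀ ∉ M := by
    rw [← hΦr]
    rintro ⟨⟨A, B⟩, e⟩
    obtain ⟨a, b, -, -, hc⟩ := torusPart (by rw [← hΦ, e])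
    have hb := congrFun hc ib
    simp [hab] at hb
    refine hν ⟨(b : F), ?_⟩
    rw [← pow_two, ← Units.val_pow_eq_pow_val, ← hb, Units.val_mk0]
  have hcover : ∀ g ∈ C, g ∈ M ∨ g * t₀⁻¹ ∈ M := by
    intro g hg
    obtain ⟨x, hx, c, rfl⟩ := hMT g hg
    have sq : ∀ d : Fin chevG2.rank → Fˣ, IsSquare ((d ib : Fˣ) : F) →
        (torusHom d : GL chevG2.Idx F) ∈ M := by
      intro d hd
      obtain ⟨y, hy⟩ := hd
      have hy0 : y ≠ 0 := fun e => Units.ne_zero (d ib) (by rw [hy, e, mul_zero])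
      rw [← hΦr]
      refine ⟨(diag2 (d ia * (Units.mk0 y hy0)⁻¹), diag2 (Units.mk0 y hy0)), ?_⟩
      rw [hΦ, hT₁, hT₂, ← map_mul]
      congr 1
      funext j
      rcases fin_cases_rank j with rfl | rfl
      · simp [hab]
      · simp [hab.symm, hab]
        exact Units.ext (by rw [Units.val_pow_eq_pow_val, Units.val_mk0, hy, pow_two])
    by_cases h : IsSquare ((c ib : Fˣ) : F)
    · exact Or.inl (Subgroup.mul_mem _ hx (sq c h))
    · refine Or.inr ?_
      rw [mul_assoc, ht₀, ← map_inv, ← map_mul]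
      refine Subgroup.mul_mem _ hx (sq _ ?_)
      have hinv : ¬ IsSquare (ν⁻¹ : F) := fun h' => hν (by simpa using h'.inv)
      simpa [hab] using isSquare_mul_of_not hodd h hinv
  have hrel : M.relIndex C = 2 := by
    rw [Subgroup.relIndex, Subgroup.index_eq_two_iff_exists_notMem_and]
    refine ⟨⟨t₀, htC _⟩, fun h => hnot (Subgroup.mem_subgroupOf.1 h), fun b => ?_⟩
    have h2 : t₀ * t₀ ∈ M := by
      rw [← hΦr]
      refine ⟨(diag2 (Units.mk0 ν hν0)⁻¹, diag2 (Units.mk0 ν hν0)), ?_⟩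
      rw [hΦ, hT₁, hT₂, ← map_mul, ht₀, ← map_mul]
      congr 1
      funext j
      rcases fin_cases_rank j with rfl | rfl <;> simp [hab, hab.symm, pow_two]
    simp only [Subgroup.mem_subgroupOf, Subgroup.coe_mul]
    rcases hcover _ b.2 with h | h
    · exact Or.inr h
    · left
      rw [show (b : GL chevG2.Idx F) * t₀ = (b : GL chevG2.Idx F) * t₀⁻¹ * (t₀ * t₀) by group]
      exact Subgroup.mul_mem _ h h2
  -- counting
  have hS : Nat.card (SpecialLinearGroup (Fin 2) F) =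
      Fintype.card F * (Fintype.card F ^ 2 - 1) := Cfsg.Agent.Classical.card_sl2
  have hne : ((diag2 (-1), diag2 (-1)) :
      SpecialLinearGroup (Fin 2) F × SpecialLinearGroup (Fin 2) F) ≠ 1 := fun e => by
    have h := hd1
    have h1 : diag2 (-1 : Fˣ) = 1 := (Prod.ext_iff.1 e).1
    rw [h1, map_one] at h
    exact zI_ne_one hodd h.symm
  have hk2 : Nat.card Φ.ker = 2 := by
    rw [Nat.card_congr (Equiv.subtypeEquivRight (q := fun x => x ∈ ({1, (diag2 (-1), diag2 (-1))} :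
      Finset (SpecialLinearGroup (Fin 2) F × SpecialLinearGroup (Fin 2) F))) fun x => by
        rw [MonoidHom.mem_ker, hker]; simp), Nat.card_eq_fintype_card, Fintype.card_coe,
      Finset.card_pair (Ne.symm hne)]
  have hcard : Nat.card M * 2 = (Fintype.card F * (Fintype.card F ^ 2 - 1)) ^ 2 := by
    have h := Subgroup.index_mul_card Φ.ker
    rw [hk2, Subgroup.index_ker, hΦr, Nat.card_prod, hS] at h
    rw [h]; ring
  refine ⟨φ₁.range, φ₂.range, C, rfl, ⟨(MonoidHom.ofInjective R₁.inj).symm⟩,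
    ⟨(MonoidHom.ofInjective R₂.inj).symm⟩, hcom, hinter, hle, hrel, ?_⟩
  rw [← mul_pow, ← hcard, ← hrel, Subgroup.relIndex,
    ← Nat.card_congr (Subgroup.subgroupOfEquivOfLe hle).toEquiv, Subgroup.card_mul_index]

end G2Odd

end Cfsg.Agent.Chev
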