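import Cfsg.Agent.Chev.ExtraData.G2
import Cfsg.Agent.Chev.ExtraData.B2
import Cfsg.Agent.Chev.ExtraData.D4
import Cfsg.Agent.Chev.ExtraData.F4
import Cfsg.Agent.Chev.ExtraData.E6
import Cfsg.Agent.Chev.ExtraData.E7
import Cfsg.Agent.Chev.ExtraData.E8

/-!
`Extra` for the seven tabulated data.
-/

set_option autoImplicit false

namespace Cfsg.Agent.Chev

open Cfsg.Lie

theorem extra_of_mem {D : ChevalleyDatum}
    (hD : D ∈ [chevG2, chevB2, chevD4, chevF4, chevE6, chevE7, chevE8]) : Extra D := by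
  simp only [List.mem_cons, List.not_mem_nil, or_false] at hD
  rcases hD with rfl | rfl | rfl | rfl | rfl | rfl | rfl
  exacts [extra_chevG2, extra_chevB2, extra_chevD4, extra_chevF4, extra_chevE6, extra_chevE7,
    extra_chevE8]

end Cfsg.Agent.Chev
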