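import Cfsg.Agent.Chev.LiftMon

/-!
Bruhat decomposition in a lift, and the kernel of the map to the Chevalley group.
-/

set_option autoImplicit false
set_option maxHeartbeats 1000000

namespace Cfsg.Agent.Chev

open Cfsg.Lie
open scoped MatrixGroups

universe u v

namespace Lift

variable {D : ChevalleyDatum} {hF : Facts.{u} D} {F : Type u} [Field F] {H : Type v} [Group H]
  (L : Lift hF F H)

/-- The subgroup of the lifted `h`'s of the fundamental roots. -/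
def tor : Subgroup H :=
  Subgroup.closure {g | ∃ (i : ℕ) (t : F), i < D.rank ∧ t ≠ 0 ∧ g = L.h (D.simple i) t}

/-- The subgroup of the lifted `n`'s of the fundamental roots. -/
def mono : Subgroup H :=
  Subgroup.closure {g | ∃ (i : ℕ) (t : F), i < D.rank ∧ t ≠ 0 ∧ g = L.n (D.simple i) t}

/-- The lifted Borel subgroup. -/
def bor : Subgroup H := L.sub (fun r => half D ≤ r) ⊔ L.tor

theorem h_mem_tor (i : Fin D.rank) {t : F} (ht : t ≠ 0) : L.h (D.simple i) t ∈ L.tor :=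
  Subgroup.subset_closure ⟨i, t, i.2, ht, rfl⟩

theorem n_mem_mono (i : Fin D.rank) {t : F} (ht : t ≠ 0) : L.n (D.simple i) t ∈ L.mono :=
  Subgroup.subset_closure ⟨i, t, i.2, ht, rfl⟩

theorem tor_le_mono : L.tor ≤ L.mono :=
  (Subgroup.closure_le _).2 fun _ ⟨i, t, hi, ht, e⟩ => e ▸ Subgroup.mul_mem _
    (L.n_mem_mono ⟨i, hi⟩ ht) (L.n_mem_mono ⟨i, hi⟩ (neg_ne_zero.2 one_ne_zero))

theorem n_eq_h_mul (i : Fin D.rank) (a : F) :
    L.n (D.simple i) a = L.h (D.simple i) a * L.n (D.simple i) 1 := by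
  rw [h, mul_assoc, ← L.n_inv (hF.simple_lt i i.2) 1, inv_mul_cancel, mul_one]

theorem h_inv (i : Fin D.rank) (a : F) :
    (L.h (D.simple i) a)⁻¹ = L.n (D.simple i) 1 * L.n (D.simple i) (-a) := by
  rw [h, mul_inv_rev, L.n_inv (hF.simple_lt i i.2), L.n_inv (hF.simple_lt i i.2), neg_neg]

theorem θ_tor {τ : H} (hτ : τ ∈ L.tor) : ∃ c, L.θ τ = torusHom c := by
  suffices h : L.θ τ ∈ D.diagonalSubgroup F by
    obtain ⟨c, hc⟩ := (mem_diagonal_iff hF).1 h
    exact ⟨c, hc.symm⟩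
  have hle : L.tor ≤ (D.diagonalSubgroup F).comap L.θ := by
    refine (Subgroup.closure_le _).2 ?_
    rintro _ ⟨i, t, hi, ht, rfl⟩
    show L.θ _ ∈ D.diagonalSubgroup F
    rw [L.θ_h]
    exact hG_mem_diagonal hF (hF.simple_lt i hi) ht
  exact hle hτ

theorem mon_tor (hE : Extra D) {τ : H} (hτ : τ ∈ L.tor) : L.Mon τ 1 := by
  have hgen : ∀ i < D.rank, ∀ t : F, t ≠ 0 →
      L.Mon (L.h (D.simple i) t) 1 ∧ L.Mon (L.h (D.simple i) t)⁻¹ 1 := by
    intro i hi t ht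
    have h1 := L.mon_n hE ⟨i, hi⟩ (a := t) ht
    have h2 := L.mon_n hE ⟨i, hi⟩ (a := (-1 : F)) (neg_ne_zero.2 one_ne_zero)
    have h3 := L.mon_n hE ⟨i, hi⟩ (a := (1 : F)) one_ne_zero
    have h4 := L.mon_n hE ⟨i, hi⟩ (a := -t) (neg_ne_zero.2 ht)
    refine ⟨?_, ?_⟩
    · rw [← wPerm_sq hF ⟨i, hi⟩]; exact h1.mul L h2
    · rw [L.h_inv ⟨i, hi⟩, ← wPerm_sq hF ⟨i, hi⟩]; exact h3.mul L h4
  induction hτ using Subgroup.closure_induction_left with
  | one => exact L.mon_one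
  | mul_left x hx y _ ih =>
    obtain ⟨i, t, hi, ht, rfl⟩ := hx
    rw [← one_mul (1 : Equiv.Perm (Fin D.nroots))]
    exact (hgen i hi t ht).1.mul L ih
  | inv_mul_cancel x hx y _ ih =>
    obtain ⟨i, t, hi, ht, rfl⟩ := hx
    rw [← one_mul (1 : Equiv.Perm (Fin D.nroots))]
    exact (hgen i hi t ht).2.mul L ih

theorem conj_of_mon_one {τ : H} (hm : L.Mon τ 1) {c : Fin D.rank → Fˣ}
    (hc : L.θ τ = torusHom c) {r : ℕ} (hr : r < D.nroots) (u : F) :
    τ * L.X r u * τ⁻¹ = L.X r ((chiU c r : F) * u) := by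
  obtain ⟨v, hv⟩ := hm ⟨r, hr⟩ u
  simp only [Equiv.Perm.one_apply] at hv
  have h := congrArg L.θ hv
  rw [map_mul, map_mul, map_inv, L.θ_X, L.θ_X, hc, torusHom_conj hF c hr, mul_inv_cancel_right] at h
  rw [hv, xG_inj hF hr h]

theorem tor_conj_n (hE : Extra D) {τ : H} (hτ : τ ∈ L.tor) {c : Fin D.rank → Fˣ}
    (hc : L.θ τ = torusHom c) {r : ℕ} (hr : r < D.nroots) (b : F) :
    τ * L.n r b * τ⁻¹ = L.n r ((chiU c r : F) * b) := by
  have hm := L.mon_tor hE hτ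
  rw [n, show τ * (L.X r b * L.X (D.neg r) (-b⁻¹) * L.X r b) * τ⁻¹ =
    (τ * L.X r b * τ⁻¹) * (τ * L.X (D.neg r) (-b⁻¹) * τ⁻¹) * (τ * L.X r b * τ⁻¹) by group,
    L.conj_of_mon_one hm hc hr, L.conj_of_mon_one hm hc (neg_lt hF hr), n, chiU_neg hF c hr,
    mul_inv, mul_neg, Units.val_inv_eq_inv_val]

theorem n_one_conj_tor (hE : Extra D) (i : Fin D.rank) {τ : H} (hτ : τ ∈ L.tor) :
    L.n (D.simple i) 1 * τ * (L.n (D.simple i) 1)⁻¹ ∈ L.tor := by
  obtain ⟨c, hc⟩ := L.θ_tor hτ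
  have hk := hF.simple_lt i i.2
  have h1 := L.tor_conj_n hE hτ hc hk (-1)
  rw [show L.n (D.simple i) 1 * τ * (L.n (D.simple i) 1)⁻¹ =
    L.n (D.simple i) 1 * (τ * (L.n (D.simple i) 1)⁻¹ * τ⁻¹) * τ by group, L.n_inv hk, h1,
    mul_neg, mul_one, ← L.h_inv]
  exact Subgroup.mul_mem _ (Subgroup.inv_mem _ (L.h_mem_tor i (Units.ne_zero _))) hτ

theorem mono_le_normalizer (hE : Extra D) : L.mono ≤ Subgroup.normalizer (L.tor : Set H) := by
  refine (Subgroup.closure_le _).2 ?_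
  rintro _ ⟨i, t, hi, ht, rfl⟩
  rw [show i = ((⟨i, hi⟩ : Fin D.rank) : ℕ) from rfl, L.n_eq_h_mul]
  refine Subgroup.mul_mem _ (Subgroup.le_normalizer (L.h_mem_tor ⟨i, hi⟩ ht)) ?_
  rw [Subgroup.mem_normalizer_iff]
  intro y
  refine ⟨fun hy => L.n_one_conj_tor hE ⟨i, hi⟩ hy, fun hy => ?_⟩
  have hk := hF.simple_lt i hi
  have e : (L.n (D.simple i) 1)⁻¹ = L.h (D.simple i) (-1) * L.n (D.simple i) 1 := by
    rw [L.n_inv hk]; exact L.n_eq_h_mul ⟨i, hi⟩ (-1)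
  have h2 := L.n_one_conj_tor hE ⟨i, hi⟩ hy
  have h3 : L.h (D.simple i) (-1) * L.n (D.simple i) 1 *
      (L.n (D.simple i) 1 * y * (L.n (D.simple i) 1)⁻¹) *
      (L.h (D.simple i) (-1) * L.n (D.simple i) 1)⁻¹ ∈ L.tor := by
    have hh : L.h (D.simple i) (-1) ∈ L.tor :=
      L.h_mem_tor ⟨i, hi⟩ (t := (-1 : F)) (neg_ne_zero.2 one_ne_zero)
    have := Subgroup.mul_mem _ (Subgroup.mul_mem _ hh h2) (Subgroup.inv_mem _ hh)
    simpa [mul_assoc] using this
  rw [← e] at h3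
  simpa [mul_assoc] using h3

/-- The lift of a word in the fundamental reflections. -/
def W (w : List (Fin D.rank)) : H := (w.map fun i : Fin D.rank => L.n (D.simple i) 1).prod

theorem W_cons (i : Fin D.rank) (w : List (Fin D.rank)) :
    L.W (i :: w) = L.n (D.simple i) 1 * L.W w := by simp [W]

theorem θ_W (w : List (Fin D.rank)) : L.θ (L.W w) = nWord hF w := by
  induction w with
  | nil => simp [W, nWord]
  | cons i w ih => rw [L.W_cons, map_mul, ih, L.θ_n, nWord_cons]; rfl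

theorem W_mem (w : List (Fin D.rank)) : L.W w ∈ L.mono :=
  Subgroup.list_prod_mem _ fun g hg => by
    obtain ⟨i, -, rfl⟩ := List.mem_map.1 hg
    exact L.n_mem_mono i one_ne_zero

theorem mon_W (hE : Extra D) (w : List (Fin D.rank)) : L.Mon (L.W w) (pWord hF w) := by
  induction w with
  | nil => exact L.mon_one
  | cons i w ih => rw [L.W_cons, pWord_cons]; exact (L.mon_n hE i one_ne_zero).mul L ih

theorem mono_decomp (hE : Extra D) {n : H} (hn : n ∈ L.mono) :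
    ∃ τ ∈ L.tor, ∃ w, n = τ * L.W w := by
  induction hn using Subgroup.closure_induction_left with
  | one => exact ⟨1, Subgroup.one_mem _, [], by simp [W]⟩
  | mul_left x hx y _ ih =>
    obtain ⟨i, t, hi, ht, rfl⟩ := hx
    obtain ⟨τ, hτ, w, rfl⟩ := ih
    refine ⟨L.h (D.simple i) t * (L.n (D.simple i) 1 * τ * (L.n (D.simple i) 1)⁻¹),
      Subgroup.mul_mem _ (L.h_mem_tor ⟨i, hi⟩ ht) (L.n_one_conj_tor hE ⟨i, hi⟩ hτ), ⟨i, hi⟩ :: w, ?_⟩
    rw [L.n_eq_h_mul ⟨i, hi⟩ t, L.W_cons]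
    group
  | inv_mul_cancel x hx y _ ih =>
    obtain ⟨i, t, hi, ht, rfl⟩ := hx
    obtain ⟨τ, hτ, w, rfl⟩ := ih
    refine ⟨L.h (D.simple i) (-t) * (L.n (D.simple i) 1 * τ * (L.n (D.simple i) 1)⁻¹),
      Subgroup.mul_mem _ (L.h_mem_tor ⟨i, hi⟩ (neg_ne_zero.2 ht))
        (L.n_one_conj_tor hE ⟨i, hi⟩ hτ), ⟨i, hi⟩ :: w, ?_⟩
    rw [L.n_inv (hF.simple_lt i hi), L.n_eq_h_mul ⟨i, hi⟩ (-t), L.W_cons]
    group

theorem isMon_θ {τ : H} (hτ : τ ∈ L.tor) (w : List (Fin D.rank)) :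
    IsMon hF (L.θ (τ * L.W w)) (pWord hF w) := by
  obtain ⟨c, hc⟩ := L.θ_tor hτ
  rw [map_mul, hc, L.θ_W]
  have := isMon_mul hF (isMon_torus hF c) (isMon_nWord hF w (F := F))
  rwa [one_mul] at this

theorem mono_perm (hE : Extra D) {n : H} (hn : n ∈ L.mono) :
    ∃ w, IsMon hF (L.θ n) (pWord hF w) ∧ L.Mon n (pWord hF w) ∧
      L.Mon n⁻¹ (pWord hF w)⁻¹ := by
  obtain ⟨τ, hτ, w, rfl⟩ := L.mono_decomp hE hn
  obtain ⟨τ', hτ', w', e⟩ := L.mono_decomp hE (Subgroup.inv_mem _ hn)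
  have hm : ∀ {σ : H}, σ ∈ L.tor → ∀ v, L.Mon (σ * L.W v) (pWord hF v) := fun hσ v => by
    rw [← one_mul (pWord hF v)]
    exact (L.mon_tor hE hσ).mul L (L.mon_W hE v)
  refine ⟨w, L.isMon_θ hτ w, hm hτ w, ?_⟩
  have h1 := isMon_mul hF (L.isMon_θ hτ w) (L.isMon_θ hτ' w')
  rw [← map_mul, ← e, mul_inv_cancel, map_one] at h1
  rw [e, ← eq_inv_of_mul_eq_one_right (isMon_unique hF h1 (isMon_one hF))]
  exact hm hτ' w'

theorem n_one_conj_X (hE : Extra D) (i : Fin D.rank) {r : ℕ} (hr : r < D.nroots) (t : F) :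
    L.n (D.simple i) 1 * L.X r t =
      L.X (D.reflectRoot i r) ((etaN hF i r : F) * t) * L.n (D.simple i) 1 := by
  obtain ⟨v, hv⟩ := L.mon_n hE i one_ne_zero ⟨r, hr⟩ t
  rw [wPerm_val] at hv
  have h := congrArg L.θ hv
  rw [map_mul, map_mul, map_inv, L.θ_n, L.θ_X, L.θ_X,
    show nG hF (D.simple i) (1 : F) = nS hF (i : ℕ) from rfl, nS_conj_x hF i.2 hr,
    mul_inv_cancel_right] at h
  rw [← mul_inv_eq_iff_eq_mul, hv, xG_inj hF (hF.refl_lt i i.2 r hr) h]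

theorem n_one_conj_n (hE : Extra D) (i : Fin D.rank) {r : ℕ} (hr : r < D.nroots) (t : F) :
    L.n (D.simple i) 1 * L.n r t =
      L.n (D.reflectRoot i r) ((etaN hF i r : F) * t) * L.n (D.simple i) 1 := by
  show L.n (D.simple i) 1 * (L.X r t * L.X (D.neg r) (-t⁻¹) * L.X r t) =
    L.X (D.reflectRoot i r) _ * L.X (D.neg (D.reflectRoot i r)) _ *
      L.X (D.reflectRoot i r) _ * L.n (D.simple i) 1
  rw [← mul_assoc, ← mul_assoc, L.n_one_conj_X hE i hr, mul_assoc _ (L.n (D.simple i) 1),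
    L.n_one_conj_X hE i (neg_lt hF hr), mul_assoc,
    mul_assoc (L.X (D.reflectRoot i (D.neg r)) _),
    L.n_one_conj_X hE i hr, hF.refl_neg i i.2 r hr, (etaN_spec hF i.2).2.2.2.1 r hr]
  have e : (etaN hF i r : F) * -t⁻¹ = -((etaN hF i r : F) * t)⁻¹ := by
    rw [mul_neg, mul_inv, DivisionMonoid.inv_eq_of_mul _ _ (etaN_cast_sq (F := F) hF i.2 hr)]
  rw [e]
  simp only [mul_assoc]

theorem W_conj_n (hE : Extra D) (w : List (Fin D.rank)) (r : Fin D.nroots) :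
    ∃ e : F, (e = 1 ∨ e = -1) ∧
      ∀ t : F, L.W w * L.n r t = L.n (pWord hF w r) (e * t) * L.W w := by
  induction w with
  | nil => exact ⟨1, Or.inl rfl, fun t => by simp [W, pWord]⟩
  | cons i w ih =>
    obtain ⟨e, he, h⟩ := ih
    set η : F := ((etaN hF i (pWord hF w r) : ℤ) : F) with hη
    have hη' : η = 1 ∨ η = -1 := by
      rcases (etaN_spec hF i.2).1 _ (pWord hF w r).2 with e' | e' <;> simp [hη, e']
    refine ⟨η * e, ?_, fun t => ?_⟩
    · rcases hη' with a | a <;> rcases he with b | b <;> simp [a, b]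
    · rw [L.W_cons, mul_assoc, h, ← mul_assoc, L.n_one_conj_n hE i (pWord hF w r).2, mul_assoc,
        ← hη, mul_assoc η]
      rfl

theorem exchange (hE : Extra D) : ∀ (w : List (Fin D.rank)) (i : Fin D.rank),
    (pWord hF w (sRoot hF i) : ℕ) < half D →
    ∃ u j v, w = u ++ j :: v ∧
      ∃ τ ∈ L.tor, L.W w * L.n (D.simple i) 1 = τ * L.W (u ++ v) := by
  intro w i h
  induction w with
  | nil => exact absurd (hF.simple_pos i i.2) (by simpa [pWord, sRoot] using h)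
  | cons j w ih =>
    by_cases hpos : half D ≤ (pWord hF w (sRoot hF i) : ℕ)
    · have hj : pWord hF w (sRoot hF i) = sRoot hF j := by
        by_contra hne
        have := hF.refl_pos j j.2 _ (pWord hF w (sRoot hF i)).2 hpos fun e => hne (Fin.ext e)
        rw [pWord_cons, Equiv.Perm.mul_apply, wPerm_val] at h
        omega
      obtain ⟨e, he, hK⟩ := L.W_conj_n hE w (sRoot hF i)
      have hK1 := hK 1
      rw [hj, mul_one] at hK1
      have he0 : e ≠ 0 := by rcases he with rfl | rfl <;> simp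
      refine ⟨[], j, w, rfl, _, Subgroup.inv_mem _ (L.h_mem_tor j (t := -e) (neg_ne_zero.2 he0)), ?_⟩
      rw [L.h_inv, neg_neg, List.nil_append, L.W_cons, mul_assoc, mul_assoc]
      exact congrArg (L.n (D.simple j) 1 * ·) hK1
    · obtain ⟨u, k, v, rfl, τ, hτ, hc⟩ := ih (by omega)
      refine ⟨j :: u, k, v, rfl, _, L.n_one_conj_tor hE j hτ, ?_⟩
      rw [L.W_cons, mul_assoc, hc, List.cons_append, L.W_cons]
      group

theorem W_mem_tor (hE : Extra D) : ∀ (n : ℕ) (w : List (Fin D.rank)), w.length = n →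
    pWord hF w = 1 → L.W w ∈ L.tor := by
  intro n
  induction n using Nat.strong_induction_on with
  | _ n ih =>
    intro w hn hw
    rcases List.eq_nil_or_concat w with rfl | ⟨w', k, rfl⟩
    · exact Subgroup.one_mem _
    rw [List.concat_eq_append] at hn hw ⊢
    have hk1 : pWord hF [k] = wPerm hF k := by simp [pWord]
    have hneg : (pWord hF w' (sRoot hF k) : ℕ) < half D := by
      rw [pWord_append, hk1, mul_eq_one_iff_eq_inv, wPerm_inv] at hw
      rw [hw, wPerm_sRoot]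
      exact (neg_lt_half_iff hF (sRoot hF k).2).2 (hF.simple_pos k k.2)
    obtain ⟨u, j, v, huv, τ, hτ, hc⟩ := L.exchange hE w' k hneg
    have hW : L.W (w' ++ [k]) = τ * L.W (u ++ v) := by rw [← hc]; simp [W]
    have hp : pWord hF (u ++ v) = 1 := by
      have h1 := isMon_nWord hF (w' ++ [k]) (F := F)
      rw [← L.θ_W, hW, hw] at h1
      exact isMon_unique hF (L.isMon_θ hτ (u ++ v)) h1
    rw [hW]
    exact Subgroup.mul_mem _ hτ (ih _ (by rw [← hn, huv]; simp) (u ++ v) rfl hp)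

theorem conj_tor_sub (hE : Extra D) {τ : H} (hτ : τ ∈ L.tor) {g : H}
    (hg : g ∈ L.sub fun r => half D ≤ r) : τ * g * τ⁻¹ ∈ L.sub fun r => half D ≤ r := by
  have hle : L.sub (fun r => half D ≤ r) ≤
      (L.sub fun r => half D ≤ r).comap (MulAut.conj τ).toMonoidHom := by
    refine (Subgroup.closure_le _).2 ?_
    rintro _ ⟨r, t, hr, hS, rfl⟩
    obtain ⟨c, hc⟩ := L.θ_tor hτ
    show τ * L.X r t * τ⁻¹ ∈ L.sub fun r => half D ≤ r
    rw [L.conj_of_mon_one (L.mon_tor hE hτ) hc hr]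
    exact L.X_mem_sub hr hS _
  exact hle hg

theorem mem_bor (hE : Extra D) {b : H} (hb : b ∈ L.bor) :
    ∃ y ∈ L.sub (fun r => half D ≤ r), ∃ τ ∈ L.tor, b = y * τ := by
  have hn : L.tor ≤ Subgroup.normalizer (L.sub (fun r => half D ≤ r) : Set H) := by
    intro τ hτ
    rw [Subgroup.mem_normalizer_iff]
    intro y
    refine ⟨fun hy => L.conj_tor_sub hE hτ hy, fun hy => ?_⟩
    have := L.conj_tor_sub hE (Subgroup.inv_mem _ hτ) hy
    simpa [mul_assoc] using this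
  rw [bor, ← SetLike.mem_coe, Subgroup.coe_mul_of_right_le_normalizer_left _ _ hn,
    Set.mem_mul] at hb
  obtain ⟨y, hy, τ, hτ, e⟩ := hb
  exact ⟨y, hy, τ, hτ, e.symm⟩

theorem X_pos_mem_bor {r : ℕ} (hr : r < D.nroots) (hp : half D ≤ r) (t : F) : L.X r t ∈ L.bor :=
  Subgroup.mem_sup_left (L.X_mem_sub hr hp t)

/-- The union of the double cosets. -/
def Cell (g : H) : Prop := ∃ b ∈ L.bor, ∃ n ∈ L.mono, ∃ b' ∈ L.bor, g = b * n * b'

theorem step (hE : Extra D) (i : Fin D.rank) {b n : H} (hb : b ∈ L.bor) (hn : n ∈ L.mono) :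
    L.Cell (L.n (D.simple i) 1 * b * n) := by
  set k := D.simple i with hkdef
  have hk : k < D.nroots := hF.simple_lt i i.2
  have hkp : half D ≤ k := hF.simple_pos i i.2
  obtain ⟨y, hy, τ, hτ, rfl⟩ := L.mem_bor hE hb
  obtain ⟨t, g, hg, eg⟩ := L.split (S := fun s => half D ≤ s ∧ s ≠ k) hk
    (fun s hs hS => ⟨hS.2, by have := (neg_lt_half_iff hF hk).2 hkp; omega, fun c hc => by
      have := hF.comm_pos k s hk hs hkp hS.1 c hc
      omega⟩)
    (fun s _ hs => by by_cases e : s = k <;> simp [e, hs]) (Subgroup.inv_mem _ hy)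
  have hy' : L.n k 1 * g⁻¹ * (L.n k 1)⁻¹ ∈ L.bor := by
    refine Subgroup.mem_sup_left (L.sub_mono (fun r _ h => h.1)
      (L.n_conj_mem (S := fun s => half D ≤ s ∧ s ≠ k) hk ?_ ?_ 1 (Subgroup.inv_mem _ hg)))
    · rintro s hs ⟨hsh, hsk⟩
      refine ⟨hsk, by have := (neg_lt_half_iff hF hk).2 hkp; omega, fun c hc => ?_⟩
      have := hF.comm_pos k s hk hs hkp hsh c hc
      omega
    · rintro s hs ⟨hsh, hsk⟩
      exact ⟨by have := (neg_lt_half_iff hF hk).2 hkp; omega, hsk,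
        fun c hc => hF.comm_neg_simple i i.2 s hs hsh hsk c hc⟩
  have hτ' : n⁻¹ * τ * n ∈ L.bor := by
    refine Subgroup.mem_sup_right ?_
    have := (Subgroup.mem_normalizer_iff.1
      (L.mono_le_normalizer hE (Subgroup.inv_mem _ hn)) τ).1 hτ
    rwa [inv_inv] at this
  suffices H : L.Cell (L.n k 1 * L.X k (-t) * n) by
    obtain ⟨a, ha, m, hm, a', ha', e⟩ := H
    refine ⟨L.n k 1 * g⁻¹ * (L.n k 1)⁻¹ * a, Subgroup.mul_mem _ hy' ha, m, hm,
      a' * (n⁻¹ * τ * n), Subgroup.mul_mem _ ha' hτ', ?_⟩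
    have ey : y = g⁻¹ * L.X k (-t) := by
      rw [← inv_inv y, eg, mul_inv_rev, L.X_inv hk]
    rw [ey, show L.n k 1 * g⁻¹ * (L.n k 1)⁻¹ * a * m * (a' * (n⁻¹ * τ * n)) =
      L.n k 1 * g⁻¹ * (L.n k 1)⁻¹ * (a * m * a') * (n⁻¹ * τ * n) by group, ← e]
    group
  obtain ⟨w, hθn, -, hmn'⟩ := L.mono_perm hE hn
  set π := pWord hF w with hπ
  by_cases hq : half D ≤ (π⁻¹ (sRoot hF i) : ℕ)
  · obtain ⟨v, hv⟩ := hmn' (sRoot hF i) (-t)
    refine ⟨1, Subgroup.one_mem _, L.n k 1 * n, Subgroup.mul_mem _ (L.n_mem_mono i one_ne_zero) hn,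
      L.X _ v, L.X_pos_mem_bor (π⁻¹ (sRoot hF i)).2 hq v, ?_⟩
    rw [← hv, inv_inv]
    show L.n k 1 * L.X k (-t) * n = 1 * (L.n k 1 * n) * (n⁻¹ * L.X k (-t) * n)
    group
  · rw [show L.n k 1 * L.X k (-t) = L.X (D.neg k) t * L.n k 1 by
      rw [L.n_one_conj_X hE i hk, hkdef, hF.refl_simple i i.2, (etaN_spec hF i.2).2.1]
      simp]
    by_cases ht : t = 0
    · exact ⟨1, Subgroup.one_mem _, L.n k 1 * n,
        Subgroup.mul_mem _ (L.n_mem_mono i one_ne_zero) hn, 1, Subgroup.one_mem _,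
        by rw [ht, L.X_zero (neg_lt hF hk)]; group⟩
    have hneg : L.X (D.neg k) t = L.X k t⁻¹ * L.n k (-t⁻¹) * L.X k t⁻¹ := by
      rw [Lift.n, inv_neg, inv_inv, neg_neg, ← mul_assoc, ← mul_assoc, L.add _ hk, add_neg_cancel,
        L.X_zero hk, one_mul, mul_assoc, L.add _ hk, neg_add_cancel, L.X_zero hk, mul_one]
    obtain ⟨w', hθ', -, hm'⟩ := L.mono_perm hE
      (Subgroup.mul_mem _ (L.n_mem_mono i one_ne_zero) hn)
    have hperm : pWord hF w' = wPerm hF i * π := by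
      refine isMon_unique hF hθ' ?_
      rw [map_mul]
      exact isMon_mul hF (L.isMon_θ_n i one_ne_zero) hθn
    obtain ⟨v, hv⟩ := hm' (sRoot hF i) t⁻¹
    have hpos' : half D ≤ (((pWord hF w')⁻¹) (sRoot hF i) : ℕ) := by
      rw [hperm, mul_inv_rev, wPerm_inv, Equiv.Perm.mul_apply, wPerm_sRoot]
      have hneg' : π⁻¹ (negF hF (sRoot hF i)) = negF hF (π⁻¹ (sRoot hF i)) := by
        rw [Equiv.Perm.inv_def, Equiv.symm_apply_eq, hπ, pWord_negF]
        simp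
      rw [hneg']
      exact (pos_negF_iff hF _).2 (not_le.1 hq)
    refine ⟨L.X k t⁻¹ * (L.h k (-t⁻¹) * (L.h k (-1))⁻¹), Subgroup.mul_mem _
      (L.X_pos_mem_bor hk hkp _) (Subgroup.mem_sup_right (Subgroup.mul_mem _
        (L.h_mem_tor i (neg_ne_zero.2 (inv_ne_zero ht)))
        (Subgroup.inv_mem _ (L.h_mem_tor i (neg_ne_zero.2 one_ne_zero))))),
      n, hn, L.X _ v, L.X_pos_mem_bor ((pWord hF w')⁻¹ (sRoot hF i)).2 hpos' v, ?_⟩
    rw [← hv, inv_inv, hneg, L.n_eq_h_mul i, L.h_inv, neg_neg]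
    show _ = L.X k t⁻¹ * (L.h k (-t⁻¹) * (L.n k 1 * L.n k 1)) * n *
      ((L.n k 1 * n)⁻¹ * L.X k t⁻¹ * (L.n k 1 * n))
    simp only [← hkdef]
    group

theorem gen_bor_n (hE : Extra D) :
    Subgroup.closure ((L.bor : Set H) ∪ Set.range fun i : Fin D.rank => L.n (D.simple i) 1) = ⊤ := by
  rw [eq_top_iff, ← L.gen, Subgroup.closure_le]
  rintro _ ⟨r, t, hr, rfl⟩
  set M := Subgroup.closure ((L.bor : Set H) ∪ Set.range fun i : Fin D.rank => L.n (D.simple i) 1)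
  have key : ∀ r, r < D.nroots → ∀ t : F, L.X r t ∈ M := by
    refine hF.root_induction _ (fun i hi t => ?_) (fun i hi r hr ih t => ?_)
    · exact Subgroup.subset_closure
        (Or.inl (L.X_pos_mem_bor (hF.simple_lt i hi) (hF.simple_pos i hi) t))
    · have hn : L.n (D.simple i) 1 ∈ M := Subgroup.subset_closure (Or.inr ⟨⟨i, hi⟩, rfl⟩)
      have := Subgroup.mul_mem _ (Subgroup.mul_mem _ hn (ih (((etaN hF i r : ℤ) : F) * t)))
        (Subgroup.inv_mem _ hn)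
      rwa [show L.n (D.simple i) 1 * L.X r ((etaN hF i r : F) * t) =
        _ from L.n_one_conj_X hE ⟨i, hi⟩ hr _, mul_inv_cancel_right, ← mul_assoc,
        etaN_cast_sq hF hi hr, one_mul] at this
  exact key r hr t

theorem exists_cell (hE : Extra D) (g : H) : L.Cell g := by
  have hg : g ∈ Subgroup.closure
      ((L.bor : Set H) ∪ Set.range fun i : Fin D.rank => L.n (D.simple i) 1) := by
    rw [L.gen_bor_n hE]; trivial
  have hB : ∀ x ∈ L.bor, ∀ y, L.Cell y → L.Cell (x * y) := by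
    rintro x hx y ⟨b, hb, n, hn, b', hb', rfl⟩
    exact ⟨x * b, Subgroup.mul_mem _ hx hb, n, hn, b', hb', by group⟩
  have hN : ∀ i : Fin D.rank, ∀ y, L.Cell y → L.Cell (L.n (D.simple i) 1 * y) := by
    rintro i y ⟨b, hb, n, hn, b', hb', rfl⟩
    obtain ⟨a, ha, m, hm, a', ha', e⟩ := L.step hE i hb hn
    exact ⟨a, ha, m, hm, a' * b', Subgroup.mul_mem _ ha' hb', by
      rw [show L.n (D.simple i) 1 * (b * n * b') = L.n (D.simple i) 1 * b * n * b' by group, e]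
      group⟩
  induction hg using Subgroup.closure_induction_left with
  | one => exact ⟨1, Subgroup.one_mem _, 1, Subgroup.one_mem _, 1, Subgroup.one_mem _, by group⟩
  | mul_left x hx y _ ih =>
    rcases hx with hx | ⟨i, rfl⟩
    exacts [hB x hx y ih, hN i y ih]
  | inv_mul_cancel x hx y _ ih =>
    rcases hx with hx | ⟨i, rfl⟩
    · exact hB _ (Subgroup.inv_mem _ hx) y ih
    · rw [L.n_inv (hF.simple_lt i i.2), L.n_eq_h_mul i (-1), mul_assoc]
      exact hB _ (Subgroup.mem_sup_right (L.h_mem_tor i (neg_ne_zero.2 one_ne_zero))) _ (hN i y ih)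

theorem ker_le_tor (hE : Extra D) : L.θ.ker ≤ L.tor := by
  intro g hg
  rw [MonoidHom.mem_ker] at hg
  obtain ⟨b, hb, n, hn, b', hb', rfl⟩ := L.exists_cell hE g
  have hθb : ∀ {x : H}, x ∈ L.bor → L.θ x ∈ D.borelSubgroup F := by
    intro x hx
    obtain ⟨y, hy, τ, hτ, rfl⟩ := L.mem_bor hE hx
    obtain ⟨c, hc⟩ := L.θ_tor hτ
    rw [map_mul, hc]
    exact Subgroup.mul_mem _ (Subgroup.mem_sup_left (L.map_sub_le _
      (fun r hr hS t => mem_posUnipotent_of hF hr hS t) hy))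
      (Subgroup.mem_sup_right (torusHom_mem hF c))
  obtain ⟨τ, hτ, w, rfl⟩ := L.mono_decomp hE hn
  have hn' : L.θ (τ * L.W w) ∈ D.borelSubgroup F ⊓ D.monomialSubgroup F := by
    refine ⟨?_, ?_⟩
    · rw [map_mul, map_mul] at hg
      rw [show L.θ (τ * L.W w) = (L.θ b)⁻¹ * (L.θ b * L.θ (τ * L.W w) * L.θ b') * (L.θ b')⁻¹ by
        group, hg, mul_one]
      exact Subgroup.mul_mem _ (Subgroup.inv_mem _ (hθb hb)) (Subgroup.inv_mem _ (hθb hb'))
    · obtain ⟨c, hc⟩ := L.θ_tor hτ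
      rw [map_mul, hc, L.θ_W]
      exact Subgroup.mul_mem _ (Subgroup.mem_sup_left (torusHom_mem hF c)) (nWord_mem hF w)
  rw [borel_inf_monomial hF] at hn'
  obtain ⟨c, hc⟩ := (mem_diagonal_iff hF).1 hn'
  have hw : pWord hF w = 1 := isMon_unique hF (L.isMon_θ hτ w) (hc ▸ isMon_torus hF c)
  have hbg : b * (τ * L.W w) * b' ∈ L.bor := Subgroup.mul_mem _ (Subgroup.mul_mem _ hb
    (Subgroup.mem_sup_right (Subgroup.mul_mem _ hτ (L.W_mem_tor hE _ w rfl hw)))) hb'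
  obtain ⟨y, hy, σ, hσ, e⟩ := L.mem_bor hE hbg
  rw [e, map_mul] at hg
  obtain ⟨d, hd⟩ := L.θ_tor hσ
  have hyU : L.θ y ∈ D.posUnipotent F ⊓ D.diagonalSubgroup F :=
    ⟨L.map_sub_le _ (fun r hr hS t => mem_posUnipotent_of hF hr hS t) hy, by
      rw [eq_inv_of_mul_eq_one_left hg, hd]
      exact Subgroup.inv_mem _ (torusHom_mem hF d)⟩
  rw [posUnipotent_inf_diagonal hF, Subgroup.mem_bot] at hyU
  rw [e, L.injOn_pos y hy hyU, one_mul]
  exact hσ

theorem ker_le_center (hE : Extra D) : L.θ.ker ≤ Subgroup.center H := by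
  intro g hg
  have hτ := L.ker_le_tor hE hg
  rw [MonoidHom.mem_ker] at hg
  have hc : L.θ g = torusHom (1 : Fin D.rank → Fˣ) := by rw [hg, map_one]
  rw [Subgroup.mem_center_iff]
  intro x
  have hx : x ∈ Subgroup.closure {g | ∃ (r : ℕ) (t : F), r < D.nroots ∧ g = L.X r t} := by
    rw [L.gen]; trivial
  have hle : Subgroup.closure {g | ∃ (r : ℕ) (t : F), r < D.nroots ∧ g = L.X r t} ≤
      Subgroup.centralizer {g} := by
    refine (Subgroup.closure_le _).2 ?_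
    rintro _ ⟨r, t, hr, rfl⟩
    rw [SetLike.mem_coe, Subgroup.mem_centralizer_iff]
    rintro _ rfl
    have h := L.conj_of_mon_one (L.mon_tor hE hτ) hc hr t
    rw [show (chiU (1 : Fin D.rank → Fˣ) r : F) = 1 by simp [chiU], one_mul] at h
    exact mul_inv_eq_iff_eq_mul.1 h
  exact (Subgroup.mem_centralizer_iff.1 (hle hx) g rfl).symm

theorem range_θ : L.θ.range = D.group F := by
  rw [MonoidHom.range_eq_map, ← L.gen, MonoidHom.map_closure]
  refine le_antisymm ((Subgroup.closure_le _).2 ?_) ((Subgroup.closure_le _).2 ?_)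
  · rintro _ ⟨_, ⟨r, t, hr, rfl⟩, rfl⟩
    rw [L.θ_X]
    exact xG_mem_group hF r t
  · rintro g ⟨r, t, e⟩
    refine Subgroup.subset_closure ⟨L.X r t, ⟨r, t, r.2, rfl⟩, ?_⟩
    rw [L.θ_X]
    exact Units.ext (by rw [xG_val, ChevalleyDatum.x, dif_pos r.2, e])

theorem center_le_ker : Subgroup.center H ≤ L.θ.ker := by
  intro g hg
  rw [MonoidHom.mem_ker]
  refine eq_one_of_commute_all hF (L.range_θ ▸ ⟨g, rfl⟩) fun r _ => ?_
  rw [← L.θ_X]
  exact Commute.map (show Commute g (L.X r 1) from (Subgroup.mem_center_iff.1 hg (L.X r 1)).symm) L.θ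

theorem ker_eq_center (hE : Extra D) : L.θ.ker = Subgroup.center H :=
  le_antisymm (L.ker_le_center hE) L.center_le_ker

end Lift

end Cfsg.Agent.Chev
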