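import Cfsg.Agent.Chev.Lang
import Cfsg.Agent.Chev.LiftKernel
import Cfsg.Agent.Chev.ExtraAll

/-!
A covering of an adjoint Chevalley group with injective torus parameters, cut out of a larger
unimodular datum (for instance `E₆`, `E₇` inside `E₈`).
-/

set_option autoImplicit false

namespace Cfsg.Agent.Chev

open Cfsg.Lie
open scoped MatrixGroups

universe u

/-- Reflection of simple torus parameters. -/
noncomputable def reflC (D : ChevalleyDatum) {F : Type u} [Field F] (i : Fin D.rank)
    (c : Fin D.rank → Fˣ) : Fin D.rank → Fˣ :=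
  c * Pi.mulSingle i (chiU c (D.simple i))⁻¹

/-- The action of a word on simple torus parameters. -/
noncomputable def wordC (D : ChevalleyDatum) {F : Type u} [Field F] (w : List (Fin D.rank))
    (c : Fin D.rank → Fˣ) : Fin D.rank → Fˣ :=
  w.foldr (reflC D) c

section

variable {D : ChevalleyDatum} {F : Type u} [Field F]

theorem chiU_mul' (c d : Fin D.rank → Fˣ) (s : ℕ) : chiU (c * d) s = chiU c s * chiU d s := by
  simp [chiU, mul_zpow, Finset.prod_mul_distrib]

theorem chiU_mulSingle' (i : Fin D.rank) (t : Fˣ) (s : ℕ) :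
    chiU (Pi.mulSingle i t) s = t ^ D.cartan i s := by
  rw [chiU, Finset.prod_eq_single i (fun j _ hj => by
    rw [Pi.mulSingle_eq_of_ne hj, one_zpow]) (fun h => absurd (Finset.mem_univ _) h),
    Pi.mulSingle_eq_same]

theorem chiU_reflC (hF : Facts.{u} D) (i : Fin D.rank) (c : Fin D.rank → Fˣ) {s : ℕ}
    (hs : s < D.nroots) : chiU (reflC D i c) s = chiU c (D.reflectRoot i s) := by
  have key : chiU c (D.reflectRoot i s) =
      chiU c s * ((chiU c (D.simple i))⁻¹) ^ D.cartan i s := by
    rw [inv_zpow', chiU, chiU, chiU, ← Finset.prod_zpow, ← Finset.prod_mul_distrib]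
    refine Finset.prod_congr rfl fun j _ => ?_
    rw [hF.cartan_refl i i.2 s hs j j.2, ← zpow_mul, ← zpow_add]
    congr 1
    ring
  rw [key, reflC, chiU_mul', chiU_mulSingle']

theorem chiU_wordC (hF : Facts.{u} D) : ∀ (w : List (Fin D.rank)) (c : Fin D.rank → Fˣ)
    (s : Fin D.nroots), chiU (wordC D w c) (pWord hF w s : ℕ) = chiU c (s : ℕ) := by
  intro w
  induction w with
  | nil => intro c s; rfl
  | cons i w ih =>
    intro c s
    rw [pWord_cons, Equiv.Perm.mul_apply, wPerm_val]
    show chiU (reflC D i (wordC D w c)) _ = _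
    rw [chiU_reflC hF i _ (hF.refl_lt i i.2 _ (pWord hF w s).2),
      hF.refl_refl i i.2 _ (pWord hF w s).2, ih]

theorem torusHom_wordC (hF : Facts.{u} D) (w : List (Fin D.rank)) (c : Fin D.rank → Fˣ) :
    torusHom (wordC D w c) * nWord hF w = (nWord hF w : GL D.Idx F) * torusHom c := by
  obtain ⟨a, ha⟩ := torus_nWord hF w (wordC D w c) (F := F)
  rw [ha, mul_right_inj]
  -- compare the characters
  apply Units.ext
  have key : ∀ s : Fin D.nroots, chiU a (s : ℕ) = chiU c (s : ℕ) := by
    intro s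
    obtain ⟨b, hb, hconj⟩ := isMon_nWord hF w (F := F) s
    rw [← chiU_wordC hF w c s]
    set e := wordC D w c
    have e1 : (torusHom e * nWord hF w) * xG hF s (1 : F) =
        xG hF (pWord hF w s) ((chiU e (pWord hF w s : ℕ) : F) * b) * (torusHom e * nWord hF w) := by
      rw [mul_assoc, hconj, mul_one, ← mul_assoc, torusHom_conj hF e (pWord hF w s).2, mul_assoc]
    have e2 : (nWord hF w * torusHom a) * xG hF s (1 : F) =
        xG hF (pWord hF w s) (b * (chiU a (s : ℕ) : F)) * (nWord hF w * torusHom a) := by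
      rw [mul_assoc, torusHom_conj hF a s.2, mul_one, ← mul_assoc, hconj, mul_assoc]
    rw [← ha, e1] at e2
    have h2 := (eq_of_x_eq hF (pWord hF w s).2 (mul_ne_zero (Units.ne_zero _) hb)
      (congrArg Units.val (mul_right_cancel e2))).2
    rw [mul_comm b] at h2
    exact Units.ext (mul_right_cancel₀ hb h2).symm
  have h3 : torusHom (a * c⁻¹) = (1 : GL D.Idx F) := by
    rw [torusHom_eq_one_iff]
    intro s
    rw [chiU_mul', key s, ← chiU_mul', mul_inv_cancel]
    simp [chiU]
  rw [map_mul, map_inv, mul_inv_eq_one] at h3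
  rw [h3]

theorem xG_of_not_lt (hF : Facts.{u} D) {r : ℕ} (hr : ¬ r < D.nroots) (t : F) :
    xG hF r t = 1 := by
  apply Units.ext
  simp [ChevalleyDatum.x, dif_neg hr]

end

/-- A datum inside another, compatible with signs. -/
structure SubDatum (D D' : ChevalleyDatum) where
  root : ℕ → ℕ
  idx : Fin D.rank → Fin D'.rank
  root_lt : ∀ r : Fin D.nroots, root r < D'.nroots
  root_inj : ∀ r s : Fin D.nroots, root r = root s → r = s
  idx_inj : Function.Injective idx
  root_neg : ∀ r : Fin D.nroots, root (D.neg r) = D'.neg (root r)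
  root_simple : ∀ i : Fin D.rank, root (D.simple i) = D'.simple (idx i)
  cartan_eq : ∀ (i : Fin D.rank) (r : Fin D.nroots), D'.cartan (idx i) (root r) = D.cartan i r
  comm_eq : ∀ r s : Fin D.nroots, s ≠ r → (s : ℕ) ≠ D.neg r →
    D'.commTerms (root r) (root s) = (D.commTerms r s).map fun c => (root c.1, c.2)

namespace SubDatum

variable {D D' : ChevalleyDatum} (S : SubDatum D D') (hF : Facts.{u} D) (hF' : Facts.{u} D')
  (k : Type u) [Field k]

/-- The root element of the larger group. -/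
def x' (r : ℕ) (t : k) : GL D'.Idx k := if r < D.nroots then xG hF' (S.root r) t else 1

/-- The pair of root elements. -/
def pairX (r : ℕ) (t : k) : GL D'.Idx k × GL D.Idx k := (S.x' hF' k r t, xG hF r t)

/-- The covering group. -/
def cover : Subgroup (GL D'.Idx k × GL D.Idx k) :=
  Subgroup.closure {g | ∃ (r : ℕ) (t : k), r < D.nroots ∧ g = S.pairX hF hF' k r t}

theorem pairX_mem (r : ℕ) (t : k) : S.pairX hF hF' k r t ∈ S.cover hF hF' k := by
  by_cases hr : r < D.nroots
  · exact Subgroup.subset_closure ⟨r, t, hr, rfl⟩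
  · rw [pairX, x', if_neg hr, xG_of_not_lt hF hr]
    exact Subgroup.one_mem _

/-- The lift. -/
def lift : Lift hF k ↥(S.cover hF hF' k) where
  X r t := ⟨S.pairX hF hF' k r t, S.pairX_mem hF hF' k r t⟩
  θ := (MonoidHom.snd _ _).comp (S.cover hF hF' k).subtype
  θ_X _ _ := rfl
  add r hr t₁ t₂ := by
    apply Subtype.ext
    simp only [Subgroup.coe_mul, pairX, Prod.mk_mul_mk, x', if_pos hr, xG_mul]
  comm r s hr hs h1 h2 t v := by
    apply Subtype.ext
    simp only [Subgroup.coe_mul, InvMemClass.coe_inv, Subgroup.val_list_prod, List.map_map]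
    apply Prod.ext
    · rw [← MonoidHom.coe_fst (M := GL D'.Idx k) (N := GL D.Idx k)]
      simp only [map_mul, map_inv, map_list_prod, List.map_map]
      simp only [MonoidHom.coe_fst, pairX, x', if_pos hr, if_pos hs]
      have e := xG_comm hF' (S.root_lt ⟨r, hr⟩) (S.root_lt ⟨s, hs⟩)
        (fun e => h1 (congrArg Fin.val (S.root_inj ⟨s, hs⟩ ⟨r, hr⟩ e)))
        (fun e => h2 (congrArg Fin.val (S.root_inj ⟨s, hs⟩ ⟨D.neg r, neg_lt hF hr⟩
          (e.trans (S.root_neg ⟨r, hr⟩).symm)))) t v
      simp only [] at e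
      rw [mul_assoc (_⁻¹ * _⁻¹) _ _, e]
      group
      rw [ChevalleyDatum.commWord, ChevalleyDatum.commWord,
        S.comm_eq ⟨r, hr⟩ ⟨s, hs⟩ (fun e => h1 (congrArg Fin.val e)) h2, wordG, List.map_map,
        List.map_map, List.map_map]
      refine congrArg List.prod (List.map_congr_left fun c hc => ?_)
      simp [pairX, x', if_pos (hF.comm_lt r s hr hs c hc)]
    · rw [← MonoidHom.coe_snd (M := GL D'.Idx k) (N := GL D.Idx k)]
      simp only [map_mul, map_inv, map_list_prod, List.map_map]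
      simp only [MonoidHom.coe_snd, pairX]
      rw [mul_assoc (_⁻¹ * _⁻¹) _ _, xG_comm hF hr hs h1 h2 t v]
      group
      rfl
  gen := by
    refine Eq.trans (congrArg Subgroup.closure ?_) (Subgroup.closure_closure_coe_preimage
      (k := {g | ∃ (r : ℕ) (t : k), r < D.nroots ∧ g = S.pairX hF hF' k r t}))
    ext x
    exact ⟨fun ⟨r, t, hr, e⟩ => ⟨r, t, hr, congrArg Subtype.val e⟩,
      fun ⟨r, t, hr, e⟩ => ⟨r, t, hr, Subtype.ext e⟩⟩

variable {k}

/-- The parameters seen in the larger datum. -/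
noncomputable def emb : (Fin D.rank → kˣ) →* (Fin D'.rank → kˣ) where
  toFun c := ∏ i : Fin D.rank, (Pi.mulSingle (S.idx i) (c i) : Fin D'.rank → kˣ)
  map_one' := by simp
  map_mul' c d := by simp [Pi.mulSingle_mul, Finset.prod_mul_distrib]

theorem emb_apply (c : Fin D.rank → kˣ) (i : Fin D.rank) : S.emb c (S.idx i) = c i := by
  show (∏ j : Fin D.rank, (Pi.mulSingle (S.idx j) (c j) : Fin D'.rank → kˣ)) (S.idx i) = c i
  rw [Finset.prod_apply, Finset.prod_eq_single i (fun j _ hj =>
    Pi.mulSingle_eq_of_ne (fun e => hj (S.idx_inj e).symm) _)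
    (fun h => absurd (Finset.mem_univ _) h), Pi.mulSingle_eq_same]

theorem emb_mulSingle (i : Fin D.rank) (t : kˣ) :
    S.emb (Pi.mulSingle i t) = Pi.mulSingle (S.idx i) t := by
  show ∏ j : Fin D.rank, (Pi.mulSingle (S.idx j) ((Pi.mulSingle i t : Fin D.rank → kˣ) j) : Fin D'.rank → kˣ) = _
  rw [Finset.prod_eq_single i (fun j _ hj => by
    rw [Pi.mulSingle_eq_of_ne hj, Pi.mulSingle_one])
    (fun h => absurd (Finset.mem_univ _) h), Pi.mulSingle_eq_same]

theorem chiU_emb (c : Fin D.rank → kˣ) (r : Fin D.nroots) :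
    chiU (S.emb c) (S.root r) = chiU c (r : ℕ) := by
  have hp : ∀ (s : Finset (Fin D.rank)),
      chiU (∏ i ∈ s, Pi.mulSingle (S.idx i) (c i) : Fin D'.rank → kˣ) (S.root r) =
        ∏ i ∈ s, c i ^ D.cartan i r := by
    intro s
    induction s using Finset.induction_on with
    | empty => simp [chiU]
    | insert a s ha ih =>
      rw [Finset.prod_insert ha, Finset.prod_insert ha, chiU_mul', ih, chiU_mulSingle',
        S.cartan_eq]
  exact hp Finset.univ

theorem emb_reflC (hF : Facts.{u} D) (i : Fin D.rank) (c : Fin D.rank → kˣ) :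
    S.emb (reflC D i c) = reflC D' (S.idx i) (S.emb c) := by
  rw [reflC, map_mul, emb_mulSingle, reflC, ← S.root_simple,
    show D.simple i = ((⟨D.simple i, hF.simple_lt i i.2⟩ : Fin D.nroots) : ℕ) from rfl,
    S.chiU_emb]

/-- A torus element of the covering group, as a pair. -/
noncomputable def torPair : (Fin D.rank → kˣ) →* GL D'.Idx k × GL D.Idx k :=
  ((torusHom (D := D')).comp S.emb).prod torusHom

theorem coe_h_simple (i : Fin D.rank) (t : kˣ) :
    (((S.lift hF hF' k).h (D.simple i) (t : k) : ↥(S.cover hF hF' k)) :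
      GL D'.Idx k × GL D.Idx k) = S.torPair (Pi.mulSingle i t) := by
  have hk := hF.simple_lt i i.2
  have hn := neg_lt hF hk
  apply Prod.ext
  · show _ = torusHom (S.emb (Pi.mulSingle i t))
    rw [S.emb_mulSingle, ← coH_simple hF' (S.idx i).2, ← hG_eq_torus hF'
      (hF'.simple_lt _ (S.idx i).2), ← S.root_simple]
    simp only [Lift.h, Lift.n, lift, hG, nG, Subgroup.coe_mul, Prod.fst_mul, pairX, x', if_pos hk,
      if_pos hn]
    rw [← S.root_neg ⟨_, hk⟩]
  · show _ = torusHom (Pi.mulSingle i t)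
    rw [← coH_simple hF i.2, ← hG_eq_torus hF hk]
    rfl

theorem torPair_mem (c : Fin D.rank → kˣ) : S.torPair c ∈ S.cover hF hF' k := by
  rw [← Finset.univ_prod_mulSingle c]
  refine Subgroup.mem_comap.1 (Subgroup.prod_mem _ fun j _ => Subgroup.mem_comap.2 ?_)
  rw [← S.coe_h_simple hF hF' j]
  exact SetLike.coe_mem _

/-- Torus elements of the covering group. -/
noncomputable def tH : (Fin D.rank → kˣ) →* ↥(S.cover hF hF' k) :=
  (S.torPair).codRestrict _ (S.torPair_mem hF hF')

theorem θ_tH (c : Fin D.rank → kˣ) : (S.lift hF hF' k).θ (S.tH hF hF' c) = torusHom c := rfl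

theorem tH_injective (hinj : Function.Injective (torusHom : (Fin D'.rank → kˣ) →* GL D'.Idx k)) :
    Function.Injective (S.tH hF hF' (k := k)) := by
  intro c d e
  have h1 : torusHom (S.emb c) = (torusHom (S.emb d) : GL D'.Idx k) :=
    congrArg (fun x : ↥(S.cover hF hF' k) => (x : GL D'.Idx k × GL D.Idx k).1) e
  funext i
  rw [← S.emb_apply c i, ← S.emb_apply d i, hinj h1]

theorem tor_le_range : (S.lift hF hF' k).tor ≤ (S.tH hF hF').range := by
  refine (Subgroup.closure_le _).2 ?_
  rintro _ ⟨i, t, hi, ht, rfl⟩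
  exact ⟨Pi.mulSingle ⟨i, hi⟩ (Units.mk0 t ht),
    Subtype.ext (S.coe_h_simple hF hF' ⟨i, hi⟩ (Units.mk0 t ht)).symm⟩

theorem exists_tH (hE : Extra D) {y : ↥(S.cover hF hF' k)} {c : Fin D.rank → kˣ}
    (hy : (S.lift hF hF' k).θ y = torusHom c) :
    ∃ d, y = S.tH hF hF' d ∧ torusHom d = (torusHom c : GL D.Idx k) := by
  have hk : y * (S.tH hF hF' c)⁻¹ ∈ (S.lift hF hF' k).θ.ker := by
    rw [MonoidHom.mem_ker, map_mul, map_inv, hy, S.θ_tH, mul_inv_cancel]
  obtain ⟨d, hd⟩ := S.tor_le_range hF hF' ((S.lift hF hF' k).ker_le_tor hE hk)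
  have hyd : y = S.tH hF hF' (d * c) := by rw [map_mul, hd, inv_mul_cancel_right]
  exact ⟨d * c, hyd, by rw [← S.θ_tH hF hF', ← hyd, hy]⟩

theorem tH_W (w : List (Fin D.rank)) (c : Fin D.rank → kˣ) :
    S.tH hF hF' (wordC D w c) * (S.lift hF hF' k).W w =
      (S.lift hF hF' k).W w * S.tH hF hF' c := by
  induction w generalizing c with
  | nil => simp [wordC, Lift.W]
  | cons i w ih =>
    have hk := hF.simple_lt i i.2
    have hn := neg_lt hF hk
    have h1 : ∀ d, S.tH hF hF' (reflC D i d) * (S.lift hF hF' k).n (D.simple i) 1 =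
        (S.lift hF hF' k).n (D.simple i) 1 * S.tH hF hF' d := by
      intro d
      apply Subtype.ext
      apply Prod.ext
      · have e := torusHom_wordC hF' [S.idx i] (S.emb d) (F := k)
        simp only [nWord, List.map_cons, List.map_nil, List.prod_cons, List.prod_nil, mul_one,
          wordC, List.foldr_cons, List.foldr_nil] at e
        rw [← S.emb_reflC hF] at e
        simp only [nS, nG, ← S.root_simple, ← S.root_neg ⟨_, hk⟩] at e
        simpa only [Lift.n, lift, Subgroup.coe_mul, Prod.fst_mul, pairX, x', if_pos hk, if_pos hn,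
          tH, torPair, MonoidHom.codRestrict_apply, MonoidHom.prod_apply, MonoidHom.comp_apply] using e
      · have e := torusHom_wordC hF [i] d (F := k)
        simp only [nWord, List.map_cons, List.map_nil, List.prod_cons, List.prod_nil, mul_one,
          wordC, List.foldr_cons, List.foldr_nil] at e
        exact e
    rw [Lift.W_cons, show wordC D (i :: w) c = reflC D i (wordC D w c) from rfl, ← mul_assoc, h1,
      mul_assoc, ih, mul_assoc]

theorem gmap_fst_snd_mem (σ : k →+* k) {x : GL D'.Idx k × GL D.Idx k}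
    (hx : x ∈ S.cover hF hF' k) :
    (gmap D' σ).prodMap (gmap D σ) x ∈ S.cover hF hF' k := by
  have : S.cover hF hF' k ≤ (S.cover hF hF' k).comap ((gmap D' σ).prodMap (gmap D σ)) := by
    refine (Subgroup.closure_le _).2 ?_
    rintro _ ⟨r, t, hr, rfl⟩
    show _ ∈ S.cover hF hF' k
    refine Subgroup.subset_closure ⟨r, σ t, hr, ?_⟩
    simp [pairX, x', if_pos hr, gmap_xG hF hF, gmap_xG hF' hF']
  exact this hx

/-- A field endomorphism on the covering group. -/
noncomputable def frob (σ : k →+* k) : ↥(S.cover hF hF' k) →* ↥(S.cover hF hF' k) :=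
  (((gmap D' σ).prodMap (gmap D σ)).comp (S.cover hF hF' k).subtype).codRestrict _
    fun x => S.gmap_fst_snd_mem hF hF' σ x.2

variable (σ : k →+* k)

theorem θ_frob (y : ↥(S.cover hF hF' k)) :
    (S.lift hF hF' k).θ (S.frob hF hF' σ y) = gmap D σ ((S.lift hF hF' k).θ y) := rfl

theorem frob_X (r : ℕ) (t : k) :
    S.frob hF hF' σ ((S.lift hF hF' k).X r t) = (S.lift hF hF' k).X r (σ t) := by
  apply Subtype.ext
  by_cases hr : r < D.nroots <;>
    simp [frob, lift, pairX, x', hr, gmap_xG hF hF, gmap_xG hF' hF', xG_of_not_lt hF]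

theorem frob_tH (c : Fin D.rank → kˣ) :
    S.frob hF hF' σ (S.tH hF hF' c) =
      S.tH hF hF' fun j => Units.map σ.toMonoidHom (c j) := by
  apply Subtype.ext
  apply Prod.ext
  · show gmap D' σ (torusHom (S.emb c)) = torusHom (S.emb _)
    rw [gmap_torusHom]
    congr 1
    funext a
    show Units.map σ.toMonoidHom (S.emb c a) = _
    simp only [emb, MonoidHom.coe_mk, OneHom.coe_mk, Finset.prod_apply, map_prod]
    refine Finset.prod_congr rfl fun i _ => ?_
    by_cases h : a = S.idx i
    · subst h; simp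
    · simp [Pi.mulSingle_eq_of_ne h]
  · exact gmap_torusHom σ c

theorem frob_W (w : List (Fin D.rank)) :
    S.frob hF hF' σ ((S.lift hF hF' k).W w) = (S.lift hF hF' k).W w := by
  induction w with
  | nil => simp [Lift.W]
  | cons i w ih =>
    rw [Lift.W_cons, map_mul, ih]
    simp only [Lift.n, map_mul, S.frob_X, map_one, map_neg, map_inv₀]

/-- The elements of the adjoint group with a fixed lift. -/
noncomputable def fixedImage : Subgroup (GL D.Idx k) :=
  ((S.frob hF hF' σ).eqLocus (MonoidHom.id _)).map (S.lift hF hF' k).θ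

theorem xG_mem_fixedImage {r : ℕ} {t : k} (ht : σ t = t) :
    xG hF r t ∈ S.fixedImage hF hF' σ :=
  ⟨(S.lift hF hF' k).X r t, by
    show S.frob hF hF' σ _ = _
    rw [S.frob_X, ht]; rfl, (S.lift hF hF' k).θ_X r t⟩

theorem prodFrom_mem_fixedImage (t : ℕ → k) (m : ℕ)
    (ht : ∀ r, m ≤ r → r < D.nroots → σ (t r) = t r) :
    prodFrom hF m t ∈ S.fixedImage hF hF' σ := by
  induction hd : D.nroots - m generalizing m with
  | zero => rw [prodFrom_top hF (by omega)]; exact Subgroup.one_mem _
  | succ d ih =>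
    rw [prodFrom_succ hF (by omega)]
    exact Subgroup.mul_mem _ (S.xG_mem_fixedImage hF hF' σ (ht m le_rfl (by omega)))
      (ih (m + 1) (fun r h1 h2 => ht r (by omega) h2) (by omega))

theorem nWord_mem_fixedImage (w : List (Fin D.rank)) :
    (nWord hF w : GL D.Idx k) ∈ S.fixedImage hF hF' σ :=
  ⟨(S.lift hF hF' k).W w, S.frob_W hF hF' σ w, (S.lift hF hF' k).θ_W w⟩

/-- An element with a fixed lift has a normal form over the fixed field. -/
theorem fixed_normalForm (hE : Extra D)
    (hinj : Function.Injective (torusHom : (Fin D'.rank → kˣ) →* GL D'.Idx k))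
    {y : GL D.Idx k} (hy : y ∈ S.fixedImage hF hF' σ) :
    ∃ (t t' : ℕ → k) (c : Fin D.rank → kˣ) (w : List (Fin D.rank)),
      (∀ r, half D ≤ r → r < D.nroots → σ (t r) = t r) ∧
      (∀ r, half D ≤ r → r < D.nroots → σ (t' r) = t' r) ∧
      (∀ i, σ (c i : k) = c i) ∧
      y = prodFrom hF (half D) t * torusHom c * nWord hF w * prodFrom hF (half D) t' := by
  obtain ⟨Y, hY, rfl⟩ := hy
  have hYfix : S.frob hF hF' σ Y = Y := hY
  obtain ⟨t, t', d, w, ht, ht', -, he⟩ := exists_fixed_normalForm hF σ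
    (g := (S.lift hF hF' k).θ Y) ((S.lift hF hF' k).range_θ ▸ ⟨Y, rfl⟩)
    (by rw [← S.θ_frob, hYfix])
  obtain ⟨U, hU, hUe⟩ := S.prodFrom_mem_fixedImage hF hF' σ t (half D) ht
  obtain ⟨U', hU', hUe'⟩ := S.prodFrom_mem_fixedImage hF hF' σ t' (half D) ht'
  obtain ⟨N, hN, hNe⟩ := S.nWord_mem_fixedImage hF hF' σ w
  have hθ : (S.lift hF hF' k).θ (U⁻¹ * Y * U'⁻¹ * N⁻¹) = torusHom d := by
    rw [map_mul, map_mul, map_mul, map_inv, map_inv, map_inv, hUe, hUe', hNe, he]
    group
  obtain ⟨c, hc, hcd⟩ := S.exists_tH hF hF' hE hθ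
  have hfix : S.frob hF hF' σ (S.tH hF hF' c) = S.tH hF hF' c := by
    rw [← hc, map_mul, map_mul, map_mul, map_inv, map_inv, map_inv]
    rw [show S.frob hF hF' σ U = U from hU, show S.frob hF hF' σ U' = U' from hU',
      show S.frob hF hF' σ N = N from hN, hYfix]
  refine ⟨t, t', c, w, ht, ht', fun i => ?_, by rw [hcd, he]⟩
  rw [S.frob_tH] at hfix
  exact congrArg Units.val (congrFun (S.tH_injective hF hF' hinj hfix) i)

theorem gmap_group_le_fixedImage {F : Type u} [Field F] (ι : F →+* k)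
    (hι : ∀ a, σ (ι a) = ι a) {x : GL D.Idx F} (hx : x ∈ D.group F) :
    gmap D ι x ∈ S.fixedImage hF hF' σ := by
  refine ((Subgroup.closure_le _).2 ?_ : D.group F ≤ (S.fixedImage hF hF' σ).comap (gmap D ι)) hx
  rintro y ⟨r, t, hy⟩
  obtain rfl : y = xG hF r t :=
    Units.ext (hy.trans (by rw [xG_val, ChevalleyDatum.x, dif_pos r.2]))
  show gmap D ι (xG hF r t) ∈ S.fixedImage hF hF' σ
  rw [gmap_xG hF hF]
  exact S.xG_mem_fixedImage hF hF' σ (hι t)

end SubDatum

end Cfsg.Agent.Chev
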