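import Cfsg.Agent.Chev.Facts

/-!
Root elements, `n_p`, `h_p` and torus elements as invertible matrices.
-/

set_option autoImplicit false

namespace Cfsg.Agent.Chev

open Cfsg.Lie
open scoped MatrixGroups

universe u

variable {D : ChevalleyDatum} {F : Type u} [Field F]

theorem x_of_ge {r : ℕ} (hr : ¬ r < D.nroots) (t : F) : D.x F r t = 1 := by
  rw [ChevalleyDatum.x, dif_neg hr]

section

variable (hF : Facts.{u} D)
include hF

theorem neg_lt {r : ℕ} (hr : r < D.nroots) : D.neg r < D.nroots := by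
  rw [hF.neg_eq r hr]; omega

theorem neg_neg_root {r : ℕ} (hr : r < D.nroots) : D.neg (D.neg r) = r := by
  rw [hF.neg_eq _ (neg_lt hF hr), hF.neg_eq r hr]; omega

theorem neg_ne_self {r : ℕ} (hr : r < D.nroots) : D.neg r ≠ r := by
  rw [hF.neg_eq r hr]; have := hF.nroots_even; omega

theorem neg_lt_half_iff {r : ℕ} (hr : r < D.nroots) : D.neg r < half D ↔ half D ≤ r := by
  rw [hF.neg_eq r hr]; have := hF.nroots_even; omega

theorem half_le_neg_iff {r : ℕ} (hr : r < D.nroots) : half D ≤ D.neg r ↔ r < half D := by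
  rw [hF.neg_eq r hr]; have := hF.nroots_even; omega

theorem x_zero (r : ℕ) : D.x F r 0 = 1 := by
  by_cases hr : r < D.nroots
  swap
  · exact x_of_ge hr 0
  rw [ChevalleyDatum.x, dif_pos hr]
  have hne : r ≠ D.negIdx.getD r 0 := fun e => neg_ne_self hF hr e.symm
  ext a b
  rw [Matrix.one_apply]
  rcases b with j | s
  · rcases a with j' | u <;> simp [ChevalleyDatum.xMat]
  · by_cases h1 : s = ⟨r, hr⟩
    · subst h1; rcases a with j' | u <;> simp [ChevalleyDatum.xMat]
    · by_cases h2 : (s : ℕ) = D.negIdx.getD r 0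
      · rcases a with j' | u
        · simp only [ChevalleyDatum.xMat, Matrix.of_apply, if_neg h1, if_pos h2]; simp
        · simp only [ChevalleyDatum.xMat, Matrix.of_apply, if_neg h1, if_pos h2]; simp
      · rcases a with j' | u
        · simp only [ChevalleyDatum.xMat, Matrix.of_apply, if_neg h1, if_neg h2]; simp
        · simp only [ChevalleyDatum.xMat, Matrix.of_apply, if_neg h1, if_neg h2]
          have hz : (List.map (fun km : ℕ × ℤ => ((km.2 : ℤ) : F) * (0 : F) ^ km.1)
              (D.chainCoeff r s u)).sum = 0 := by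
            refine List.sum_eq_zero fun v hv => ?_
            obtain ⟨km, hkm, rfl⟩ := List.mem_map.1 hv
            rw [ChevalleyDatum.chainCoeff, List.mem_flatMap] at hkm
            obtain ⟨e, -, hkm⟩ := hkm
            obtain ⟨q, -, rfl⟩ := List.mem_map.1 hkm
            simp
          rw [hz]; simp

theorem x_mul (r : ℕ) (t₁ t₂ : F) : D.x F r t₁ * D.x F r t₂ = D.x F r (t₁ + t₂) := by
  by_cases hr : r < D.nroots
  · exact hF.x_add F r hr t₁ t₂
  · simp [x_of_ge hr]

theorem x_mul_neg (r : ℕ) (t : F) : D.x F r t * D.x F r (-t) = 1 := by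
  rw [x_mul hF, add_neg_cancel, x_zero hF]

theorem x_neg_mul (r : ℕ) (t : F) : D.x F r (-t) * D.x F r t = 1 := by
  rw [x_mul hF, neg_add_cancel, x_zero hF]

theorem x_neg_col {r : ℕ} (hr : r < D.nroots) (t : F) (j : Fin D.rank) :
    D.x F r t (Sum.inl j) (Sum.inr ⟨D.neg r, neg_lt hF hr⟩) = ((coef D r j : ℤ) : F) * t := by
  rw [ChevalleyDatum.x, dif_pos hr]
  simp only [ChevalleyDatum.xMat, Matrix.of_apply]
  rw [if_neg (fun e => neg_ne_self hF hr (congrArg Fin.val e)), if_pos (by rfl)]
  rfl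

theorem x_col_inl_zero {r s : ℕ} (hs : s < D.nroots) (t : F) (j : Fin D.rank)
    (hne : ¬ (r < D.nroots ∧ s = D.neg r)) :
    D.x F r t (Sum.inl j) (Sum.inr ⟨s, hs⟩) = 0 := by
  by_cases hr : r < D.nroots
  · rw [ChevalleyDatum.x, dif_pos hr]
    simp only [ChevalleyDatum.xMat, Matrix.of_apply]
    split_ifs with h1 h2
    · rfl
    · exact absurd ⟨hr, h2⟩ hne
    · rfl
  · rw [x_of_ge hr]; simp

theorem eq_zero_of_x_eq_one {r : ℕ} (hr : r < D.nroots) {t : F} (e : D.x F r t = 1) : t = 0 := by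
  obtain ⟨j, hj, hne⟩ := hF.coef_unit (F := F) hr
  have := x_neg_col hF hr t ⟨j, hj⟩
  rw [e, Matrix.one_apply_ne (by simp)] at this
  exact (mul_eq_zero.1 this.symm).resolve_left hne

theorem eq_of_x_eq {r r' : ℕ} (hr : r < D.nroots) {t t' : F} (ht : t ≠ 0)
    (e : D.x F r t = D.x F r' t') : r = r' ∧ t = t' := by
  obtain ⟨j, hj, hne⟩ := hF.coef_unit (F := F) hr
  have h1 := x_neg_col hF hr t ⟨j, hj⟩
  by_cases h : r' < D.nroots ∧ D.neg r = D.neg r'
  · obtain ⟨hr', hn⟩ := h
    have hrr : r = r' := by rw [← neg_neg_root hF hr, hn, neg_neg_root hF hr']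
    subst hrr
    refine ⟨rfl, ?_⟩
    have : D.x F r (t + -t') = 1 := by rw [← x_mul hF, e, x_mul_neg hF]
    exact eq_of_sub_eq_zero (by rw [sub_eq_add_neg]; exact eq_zero_of_x_eq_one hF hr this)
  · rw [e, x_col_inl_zero hF _ _ _ h] at h1
    exact absurd h1.symm (mul_ne_zero hne ht)

/-- The root element `x_r(t)` as an invertible matrix. -/
def xG (r : ℕ) (t : F) : GL D.Idx F := ⟨D.x F r t, D.x F r (-t), x_mul_neg hF r t, x_neg_mul hF r t⟩

@[simp] theorem xG_val (r : ℕ) (t : F) :
    ((xG hF r t : GL D.Idx F) : Matrix D.Idx D.Idx F) = D.x F r t := rfl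

theorem xG_mul (r : ℕ) (t₁ t₂ : F) : xG hF r t₁ * xG hF r t₂ = xG hF r (t₁ + t₂) :=
  Units.ext (x_mul hF r t₁ t₂)

theorem xG_zero (r : ℕ) : xG hF r (0 : F) = 1 := Units.ext (x_zero hF r)

theorem xG_inv (r : ℕ) (t : F) : (xG hF r t)⁻¹ = xG hF r (-t) := Units.ext rfl

theorem xG_eq_one_iff {r : ℕ} (hr : r < D.nroots) {t : F} : xG hF r t = 1 ↔ t = 0 :=
  ⟨fun e => eq_zero_of_x_eq_one hF hr (congrArg Units.val e), fun e => by rw [e, xG_zero]⟩

/-- `x_r` as a homomorphism from the additive group. -/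
def xHom (r : ℕ) : Multiplicative F →* GL D.Idx F where
  toFun t := xG hF r t.toAdd
  map_one' := xG_zero hF r
  map_mul' a b := (xG_mul hF r _ _).symm

/-- The element `n_r(t) = x_r(t) x_{-r}(-t⁻¹) x_r(t)`. -/
def nG (r : ℕ) (t : F) : GL D.Idx F := xG hF r t * xG hF (D.neg r) (-t⁻¹) * xG hF r t

/-- The element `h_r(t) = n_r(t) n_r(-1)`. -/
def hG (r : ℕ) (t : F) : GL D.Idx F := nG hF r t * nG hF r (-1)

@[simp] theorem nG_val (r : ℕ) (t : F) :
    ((nG hF r t : GL D.Idx F) : Matrix D.Idx D.Idx F) = D.nMat F r t := by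
  simp [nG, ChevalleyDatum.nMat, ChevalleyDatum.nWord, ChevalleyDatum.wordMat, mul_assoc]

@[simp] theorem hG_val (r : ℕ) (t : F) :
    ((hG hF r t : GL D.Idx F) : Matrix D.Idx D.Idx F) = D.hMat F r t := by
  rw [hG, Units.val_mul, nG_val, nG_val]
  simp [ChevalleyDatum.nMat, ChevalleyDatum.hMat, ChevalleyDatum.hWord, ChevalleyDatum.wordMat,
    mul_assoc]

/-- A word in root elements as an invertible matrix. -/
def wordG (w : List (ℕ × F)) : GL D.Idx F := (w.map fun p => xG hF p.1 p.2).prod

@[simp] theorem wordG_val (w : List (ℕ × F)) :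
    ((wordG hF w : GL D.Idx F) : Matrix D.Idx D.Idx F) = D.wordMat F w := by
  induction w with
  | nil => simp [wordG, ChevalleyDatum.wordMat]
  | cons p w ih =>
    simp only [wordG, List.map_cons, List.prod_cons, Units.val_mul, xG_val] at ih ⊢
    rw [ih]
    simp [ChevalleyDatum.wordMat]

theorem xG_comm {r s : ℕ} (hr : r < D.nroots) (hs : s < D.nroots) (hsr : s ≠ r)
    (hsn : s ≠ D.neg r) (t v : F) :
    xG hF s v * xG hF r t = xG hF r t * xG hF s v * wordG hF (D.commWord F r s t v) :=
  Units.ext (by simpa using hF.x_comm F r s hr hs hsr hsn t v)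

end

section Torus

/-- The diagonal matrix of a family of nonzero weights on the roots. -/
noncomputable def diagG (f : Fin D.nroots → Fˣ) : GL D.Idx F :=
  ⟨Matrix.diagonal (Sum.elim (fun _ => (1 : F)) fun s => (f s : F)),
    Matrix.diagonal (Sum.elim (fun _ => (1 : F)) fun s => ((f s)⁻¹ : Fˣ)),
    by rw [Matrix.diagonal_mul_diagonal, ← Matrix.diagonal_one]; congr 1; funext a
       rcases a with j | s <;> simp,
    by rw [Matrix.diagonal_mul_diagonal, ← Matrix.diagonal_one]; congr 1; funext a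
       rcases a with j | s <;> simp⟩

theorem diagG_mul (f g : Fin D.nroots → Fˣ) :
    diagG (D := D) f * diagG g = diagG (f * g) := by
  apply Units.ext
  simp only [diagG, Units.val_mul, Matrix.diagonal_mul_diagonal]
  congr 1; funext a
  rcases a with j | s <;> simp

/-- The character with simple parameters `c`, at the root `s`. -/
noncomputable def chiU (c : Fin D.rank → Fˣ) (s : ℕ) : Fˣ := ∏ j : Fin D.rank, c j ^ D.cartan j s

/-- Torus elements, as a homomorphism in their simple parameters. -/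
noncomputable def torusHom : (Fin D.rank → Fˣ) →* GL D.Idx F where
  toFun c := diagG fun s => chiU c s
  map_one' := Units.ext (by
    simp only [diagG, Units.val_one, ← Matrix.diagonal_one]
    congr 1; funext a
    rcases a with j | s <;> simp [chiU])
  map_mul' c d := by
    rw [diagG_mul]
    congr 1; funext s
    simp [chiU, mul_zpow, Finset.prod_mul_distrib]

theorem torusHom_val (c : Fin D.rank → Fˣ) :
    ((torusHom c : GL D.Idx F) : Matrix D.Idx D.Idx F) =
      torus D (fun j => if h : j < D.rank then (c ⟨j, h⟩ : F) else 1) := by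
  show Matrix.diagonal _ = Matrix.diagonal _
  congr 1; funext a
  rcases a with j | s
  · rfl
  · simp [chi, chiU]

theorem torusHom_conj (hF : Facts.{u} D) (c : Fin D.rank → Fˣ) {r : ℕ} (hr : r < D.nroots) (t : F) :
    torusHom c * xG hF r t = xG hF r ((chiU c r : F) * t) * torusHom c := by
  apply Units.ext
  rw [Units.val_mul, Units.val_mul, xG_val, xG_val, torusHom_val,
    hF.torus_x F _ (fun j _ => ?_) r hr t]
  · congr 3
    simp [chi, chiU]
  · simp only [dif_pos (show j < D.rank by assumption)]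
    exact Units.ne_zero _

theorem torusHom_eq_one_iff (c : Fin D.rank → Fˣ) :
    torusHom c = (1 : GL D.Idx F) ↔ ∀ s : Fin D.nroots, chiU c s = 1 := by
  constructor
  · intro e s
    have := congrArg (fun g : GL D.Idx F => (g : Matrix D.Idx D.Idx F) (Sum.inr s) (Sum.inr s)) e
    simp only [torusHom, MonoidHom.coe_mk, OneHom.coe_mk, diagG, Units.val_one,
      Matrix.diagonal_apply_eq, Sum.elim_inr, Matrix.one_apply_eq] at this
    exact Units.ext this
  · intro e
    apply Units.ext
    simp only [torusHom, MonoidHom.coe_mk, OneHom.coe_mk, diagG, Units.val_one,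
      ← Matrix.diagonal_one]
    congr 1; funext a
    rcases a with j | s <;> simp [e]

end Torus

end Cfsg.Agent.Chev
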