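import Cfsg.Agent.Chev.LiftKernel
import Cfsg.Prelude.Def_SteinbergCover

/-!
Steinberg's presented groups as lifts of the Chevalley group.
-/

set_option autoImplicit false
set_option maxHeartbeats 1000000

namespace Cfsg.Agent.Chev

open Cfsg.Lie
open scoped MatrixGroups

universe u

variable {D : ChevalleyDatum} {F : Type u} [Field F] (hF : Facts.{u} D)
include hF

/-- The images of the generators. -/
def stImage (z : Fin D.nroots × F) : GL D.Idx F := xG hF (z.1 : ℕ) z.2

theorem lift_stX (r : ℕ) (t : F) :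
    FreeGroup.lift (stImage hF) (D.stX r t) = xG hF r t := by
  unfold ChevalleyDatum.stX
  split_ifs with h
  · rw [FreeGroup.lift_apply_of]; rfl
  · rw [map_one]; exact (Units.ext (by rw [xG_val, x_of_ge h]; rfl)).symm

theorem lift_stWord (w : List (ℕ × F)) :
    FreeGroup.lift (stImage hF) (D.stWord w) = wordG hF w := by
  simp only [ChevalleyDatum.stWord, wordG, map_list_prod, List.map_map]
  exact congrArg List.prod (List.map_congr_left fun p _ => lift_stX hF p.1 p.2)

theorem lift_stH (r : ℕ) (t : F) : FreeGroup.lift (stImage hF) (D.stH r t) = hG hF r t := by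
  rw [ChevalleyDatum.stH, lift_stWord]
  simp [wordG, ChevalleyDatum.hWord, ChevalleyDatum.nWord, hG, nG, mul_assoc]

theorem lift_stRels : ∀ g ∈ D.steinbergRels F, FreeGroup.lift (stImage hF) g = 1 := by
  rintro g ((⟨r, t₁, t₂, hr, rfl⟩ | ⟨r, s, t, u, hr, hs, h1, h2, rfl⟩) |
    ⟨r, t₁, t₂, hr, ht₁, ht₂, rfl⟩)
  · simp only [map_mul, map_inv, lift_stX, xG_mul, mul_inv_cancel]
  · simp only [map_mul, map_inv, lift_stX, lift_stWord]
    rw [mul_inv_eq_one, mul_assoc _ (xG hF s u), xG_comm hF hr hs h1 h2]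
    group
  · rw [map_mul, map_mul, map_inv, lift_stH, lift_stH, lift_stH, mul_inv_eq_one]
    have a : t₁ = ((Units.mk0 t₁ ht₁ : Fˣ) : F) := rfl
    have b : t₂ = ((Units.mk0 t₂ ht₂ : Fˣ) : F) := rfl
    rw [a, b, ← Units.val_mul, hG_eq_torus hF hr, hG_eq_torus hF hr, hG_eq_torus hF hr, map_mul,
      map_mul]

theorem lift_stRelsAB : ∀ g ∈ D.steinbergRelsAB F, FreeGroup.lift (stImage hF) g = 1 :=
  fun g hg => lift_stRels hF g (Or.inl hg)

omit hF in
theorem mk_rel {rels : Set (FreeGroup (Fin D.nroots × F))} {g : FreeGroup (Fin D.nroots × F)}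
    (h : g ∈ rels) : PresentedGroup.mk rels g = 1 :=
  (QuotientGroup.eq_one_iff g).2 (Subgroup.subset_normalClosure h)

/-- A group presented by relations containing (R1) and (R2) and valid in the Chevalley group. -/
def presLift (rels : Set (FreeGroup (Fin D.nroots × F))) (hsub : D.steinbergRelsAB F ⊆ rels)
    (h : ∀ g ∈ rels, FreeGroup.lift (stImage hF) g = 1) : Lift hF F (PresentedGroup rels) where
  X r t := PresentedGroup.mk rels (D.stX r t)
  θ := PresentedGroup.toGroup h
  θ_X r t := lift_stX hF r t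
  add r hr t₁ t₂ := by
    have := mk_rel (hsub (Or.inl ⟨r, t₁, t₂, hr, rfl⟩))
    rwa [map_mul, map_mul, map_inv, mul_inv_eq_one] at this
  comm r s hr hs h1 h2 t u := by
    have := mk_rel (hsub (Or.inr ⟨r, s, t, u, hr, hs, h1, h2, rfl⟩))
    rw [map_mul, map_mul, map_mul, map_mul, map_inv, map_inv, map_inv, mul_inv_eq_one,
      ChevalleyDatum.stWord, map_list_prod, List.map_map] at this
    exact this
  gen := by
    rw [eq_top_iff, ← PresentedGroup.closure_range_of rels, Subgroup.closure_le]
    rintro _ ⟨z, rfl⟩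
    refine Subgroup.subset_closure ⟨z.1, z.2, z.1.2, ?_⟩
    rw [ChevalleyDatum.stX, dif_pos z.1.2]
    rfl

/-- The lift given by the group of (R1), (R2), (R3). -/
def stLift : Lift hF F (D.SteinbergGroup F) :=
  presLift hF _ (fun _ h => Or.inl h) (lift_stRels hF)

/-- The lift given by the group of (R1), (R2). -/
def scLift : Lift hF F (D.SteinbergCover F) :=
  presLift hF _ (fun _ h => h) (lift_stRelsAB hF)

omit hF in
theorem mk_stWord (rels : Set (FreeGroup (Fin D.nroots × F))) (w : List (ℕ × F)) :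
    PresentedGroup.mk rels (D.stWord w) =
      (w.map fun p => PresentedGroup.mk rels (D.stX p.1 p.2)).prod := by
  rw [ChevalleyDatum.stWord, map_list_prod, List.map_map]
  rfl

theorem stLift_h (r : ℕ) (t : F) :
    (stLift hF).h r t = PresentedGroup.mk (D.steinbergRels F) (D.stH r t) := by
  rw [ChevalleyDatum.stH, mk_stWord]
  simp [stLift, presLift, Lift.h, Lift.n, ChevalleyDatum.hWord, ChevalleyDatum.nWord, mul_assoc]

namespace Lift

omit hF in
variable {hF : Facts.{u} D} {H : Type*} [Group H] (L : Lift hF F H) in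
/-- The map to the Chevalley group with restricted codomain. -/
def θG : H →* ↥(D.group F) :=
  L.θ.codRestrict (D.group F) fun g => L.range_θ ▸ ⟨g, rfl⟩

end Lift

end Cfsg.Agent.Chev
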