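import Cfsg.Agent.Chev.GroupCard

/-!
The root subgroup of the root of largest index, which is centralised by the positive unipotent
subgroup and normalised by the Borel subgroup.
-/

set_option autoImplicit false

namespace Cfsg.Agent.Chev

open Cfsg.Lie
open scoped MatrixGroups

universe u

section

variable {D : ChevalleyDatum} {F : Type u} [Field F] (hF : Facts.{u} D)
include hF

theorem mem_rootSubgroup {r : ℕ} {g : GL D.Idx F} :
    g ∈ D.rootSubgroup F r ↔ ∃ t : F, g = xG hF r t := by
  constructor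
  · intro hg
    refine Subgroup.closure_induction (fun g hg => ?_) ⟨0, (xG_zero hF r).symm⟩ ?_ ?_ hg
    · obtain ⟨t, ht⟩ := hg
      exact ⟨t, Units.ext ht⟩
    · rintro _ _ _ _ ⟨a, rfl⟩ ⟨b, rfl⟩
      exact ⟨a + b, xG_mul hF r a b⟩
    · rintro _ _ ⟨a, rfl⟩
      exact ⟨-a, xG_inv hF r a⟩
  · rintro ⟨t, rfl⟩
    exact Subgroup.subset_closure ⟨t, rfl⟩

theorem map_rootSubgroup {g : GL D.Idx F} {π : Equiv.Perm (Fin D.nroots)} (h : IsMon hF g π)
    (r : Fin D.nroots) :
    (D.rootSubgroup F r).map (MulAut.conj g).toMonoidHom = D.rootSubgroup F (π r) := by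
  obtain ⟨c, hc, h⟩ := h r
  ext y
  rw [Subgroup.mem_map]
  constructor
  · rintro ⟨z, hz, rfl⟩
    obtain ⟨t, rfl⟩ := (mem_rootSubgroup hF).1 hz
    exact (mem_rootSubgroup hF).2 ⟨c * t, show g * xG hF r t * g⁻¹ = _ by
      rw [h, mul_inv_cancel_right]⟩
  · intro hy
    obtain ⟨t, rfl⟩ := (mem_rootSubgroup hF).1 hy
    exact ⟨xG hF r (c⁻¹ * t), (mem_rootSubgroup hF).2 ⟨_, rfl⟩,
      show g * xG hF r (c⁻¹ * t) * g⁻¹ = _ by rw [h, mul_inv_cancel_right, mul_inv_cancel_left₀ hc]⟩

theorem top_lt : D.nroots - 1 < D.nroots := by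
  have := hF.simple_lt 0 hF.rank_pos; omega

theorem half_le_top : half D ≤ D.nroots - 1 := by
  have := hF.simple_lt 0 hF.rank_pos; have := hF.nroots_even; omega

/-- The last root. -/
def topRoot : Fin D.nroots := ⟨D.nroots - 1, top_lt hF⟩

theorem commTerms_top {s : ℕ} (hs : s < D.nroots) (hp : half D ≤ s) :
    D.commTerms (D.nroots - 1) s = [] := by
  rcases h : D.commTerms (D.nroots - 1) s with _ | ⟨c, l⟩
  · rfl
  · have hc : c ∈ D.commTerms (D.nroots - 1) s := by rw [h]; exact List.mem_cons_self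
    have := (hF.comm_pos _ s (top_lt hF) hs (half_le_top hF) hp c hc).1
    have := hF.comm_lt _ s (top_lt hF) hs c hc
    omega

theorem xG_commute_of {r s : ℕ} (hr : r < D.nroots) (hs : s < D.nroots)
    (h : s = r ∨ s ≠ D.neg r ∧ D.commTerms r s = []) (t v : F) :
    Commute (xG hF s v) (xG hF r t) := by
  by_cases hsr : s = r
  · subst hsr
    show _ = _
    rw [xG_mul, xG_mul, add_comm]
  · obtain ⟨hn, h0⟩ := h.resolve_left hsr
    have e := xG_comm hF hr hs hsr hn t v
    rw [show D.commWord F r s t v = [] by rw [ChevalleyDatum.commWord, h0]; rfl] at e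
    exact e.trans (by simp [wordG])

theorem top_commute_posUnipotent {v : GL D.Idx F} (hv : v ∈ D.posUnipotent F) (t : F) :
    Commute v (xG hF (D.nroots - 1) t) := by
  rw [posUnipotent_eq hF] at hv
  have hle : Subgroup.closure (rootsFrom hF (half D) (F := F)) ≤
      Subgroup.centralizer {xG hF (D.nroots - 1) t} := by
    refine (Subgroup.closure_le _).2 ?_
    rintro _ ⟨r, s, h1, h2, rfl⟩
    refine Subgroup.mem_centralizer_singleton_iff.2 (xG_commute_of hF (top_lt hF) h2 ?_ t s).eq
    by_cases e : r = D.nroots - 1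
    · exact Or.inl e
    · refine Or.inr ⟨?_, commTerms_top hF h2 h1⟩
      rw [hF.neg_eq _ (top_lt hF)]
      have := half_le_top hF
      have := hF.nroots_even
      have := hF.simple_lt 0 hF.rank_pos
      omega
  exact Subgroup.mem_centralizer_singleton_iff.1 (hle hv)

theorem map_top_borel {b : GL D.Idx F} (hb : b ∈ D.borelSubgroup F) :
    (D.rootSubgroup F (D.nroots - 1)).map (MulAut.conj b).toMonoidHom =
      D.rootSubgroup F (D.nroots - 1) := by
  obtain ⟨v, hv, c, rfl⟩ := (mem_borel_iff hF).1 hb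
  have h1 := map_rootSubgroup hF (isMon_torus hF c) (topRoot hF)
  have h2 : (D.rootSubgroup F (D.nroots - 1)).map (MulAut.conj v).toMonoidHom =
      D.rootSubgroup F (D.nroots - 1) := by
    have key : ∀ y ∈ D.rootSubgroup F (D.nroots - 1), v * y * v⁻¹ = y := fun y hy => by
      obtain ⟨t, rfl⟩ := (mem_rootSubgroup hF).1 hy
      rw [(top_commute_posUnipotent hF hv t).eq, mul_inv_cancel_right]
    ext y
    rw [Subgroup.mem_map]
    constructor
    · rintro ⟨z, hz, rfl⟩
      show v * z * v⁻¹ ∈ _
      rw [key z hz]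
      exact hz
    · exact fun hy => ⟨y, hy, key y hy⟩
  rw [Equiv.Perm.one_apply] at h1
  ext y
  simp only [Subgroup.mem_map]
  constructor
  · rintro ⟨z, hz, rfl⟩
    have : (MulAut.conj v).toMonoidHom ((MulAut.conj (torusHom c : GL D.Idx F)).toMonoidHom z) ∈
        (D.rootSubgroup F (D.nroots - 1)).map (MulAut.conj v).toMonoidHom :=
      Subgroup.mem_map_of_mem _ (h1 ▸ Subgroup.mem_map_of_mem _ hz)
    rw [h2] at this
    simpa [mul_assoc] using this
  · intro hy
    rw [← h2, Subgroup.mem_map] at hy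
    obtain ⟨z, hz, rfl⟩ := hy
    change z ∈ D.rootSubgroup F (topRoot hF : Fin D.nroots) at hz
    rw [← h1, Subgroup.mem_map] at hz
    obtain ⟨z', hz', rfl⟩ := hz
    exact ⟨z', hz', by simp [mul_assoc]⟩

end

section

/-- The root elements of `a` and `b` commute, read off the tables. -/
def commutesChk (D : ChevalleyDatum) (a b : ℕ) : Bool :=
  decide (b = a) || (decide (b ≠ D.neg a) && (D.commTerms a b).isEmpty)

/-- The root subgroups of `a` and `b` generate a group of class at most two. -/
def pairChk (D : ChevalleyDatum) (a b : ℕ) : Bool :=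
  decide (b = a) || (decide (b ≠ D.neg a) && match D.commTerms a b with
    | [] => true
    | [c] => commutesChk D a c.1 && commutesChk D b c.1
    | _ => false)

theorem le_centralizer_symm {G : Type*} [Group G] {H K : Subgroup G}
    (h : H ≤ Subgroup.centralizer (K : Set G)) : K ≤ Subgroup.centralizer (H : Set G) :=
  fun k hk => Subgroup.mem_centralizer_iff.2 fun _ hx =>
    (Subgroup.mem_centralizer_iff.1 (h hx) k hk).symm

variable {D : ChevalleyDatum} {F : Type u} [Field F] (hF : Facts.{u} D)
include hF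

theorem commute_of_chk {a b : ℕ} (ha : a < D.nroots) (hb : b < D.nroots)
    (h : commutesChk D a b = true) (t v : F) : Commute (xG hF b v) (xG hF a t) := by
  refine xG_commute_of hF ha hb ?_ t v
  simpa [commutesChk] using h

theorem root_le_centralizer {a b : ℕ} (h : ∀ t v : F, Commute (xG hF b v) (xG hF a t)) :
    D.rootSubgroup F b ≤ Subgroup.centralizer (D.rootSubgroup F a : Set (GL D.Idx F)) := by
  intro y hy
  obtain ⟨v, rfl⟩ := (mem_rootSubgroup hF).1 hy
  refine Subgroup.mem_centralizer_iff.2 fun z hz => ?_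
  obtain ⟨t, rfl⟩ := (mem_rootSubgroup hF).1 hz
  exact (h t v).eq.symm

theorem isPGroup_root [CharP F 2] (r : ℕ) : IsPGroup 2 ↥(D.rootSubgroup F r) := by
  rintro ⟨g, hg⟩
  obtain ⟨t, rfl⟩ := (mem_rootSubgroup hF).1 hg
  exact ⟨1, Subtype.ext (by simp [pow_two, xG_mul, CharTwo.add_self_eq_zero, xG_zero])⟩

theorem isPGroup_pair [CharP F 2] {a b : ℕ} (ha : a < D.nroots) (hb : b < D.nroots)
    (h : pairChk D a b = true) :
    IsPGroup 2 ↥(D.rootSubgroup F a ⊔ D.rootSubgroup F b) := by
  by_cases hba : b = a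
  · subst hba; rw [sup_idem]; exact isPGroup_root hF b
  simp only [pairChk, hba, decide_false, Bool.false_or, Bool.and_eq_true, decide_eq_true_eq] at h
  obtain ⟨hn, h⟩ := h
  split at h
  · next h0 =>
    refine (isPGroup_root hF a).to_sup_of_normal_right' (isPGroup_root hF b)
      (le_trans ?_ (Subgroup.centralizer_le_normalizer _))
    exact le_centralizer_symm (root_le_centralizer hF fun t v =>
      xG_commute_of hF ha hb (Or.inr ⟨hn, h0⟩) t v)
  · next c h0 =>
    rw [Bool.and_eq_true] at h
    have hc : c.1 < D.nroots := hF.comm_lt a b ha hb c (by rw [h0]; exact List.mem_cons_self)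
    have hca : D.rootSubgroup F c.1 ≤ Subgroup.centralizer (D.rootSubgroup F a : Set (GL D.Idx F)) :=
      root_le_centralizer hF fun t v => commute_of_chk hF ha hc h.1 t v
    have hcb : D.rootSubgroup F c.1 ≤ Subgroup.centralizer (D.rootSubgroup F b : Set (GL D.Idx F)) :=
      root_le_centralizer hF fun t v => commute_of_chk hF hb hc h.2 t v
    have hM : IsPGroup 2 ↥(D.rootSubgroup F a ⊔ D.rootSubgroup F c.1) :=
      (isPGroup_root hF a).to_sup_of_normal_right' (isPGroup_root hF c.1)
        ((le_centralizer_symm hca).trans (Subgroup.centralizer_le_normalizer _))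
    have hN : D.rootSubgroup F b ≤
        Subgroup.normalizer ((D.rootSubgroup F a ⊔ D.rootSubgroup F c.1 : Subgroup (GL D.Idx F)) :
          Set (GL D.Idx F)) := by
      have key : ∀ v : F, ∀ y ∈ D.rootSubgroup F a ⊔ D.rootSubgroup F c.1,
          xG hF b v * y * (xG hF b v)⁻¹ ∈ D.rootSubgroup F a ⊔ D.rootSubgroup F c.1 := by
        intro v
        have hle : D.rootSubgroup F a ⊔ D.rootSubgroup F c.1 ≤
            (D.rootSubgroup F a ⊔ D.rootSubgroup F c.1).comap
              (MulAut.conj (xG hF b v)).toMonoidHom := by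
          refine sup_le ?_ ?_
          · intro y hy
            obtain ⟨t, rfl⟩ := (mem_rootSubgroup hF).1 hy
            rw [Subgroup.mem_comap]
            show xG hF b v * xG hF a t * (xG hF b v)⁻¹ ∈ D.rootSubgroup F a ⊔ D.rootSubgroup F c.1
            obtain ⟨w, hw⟩ : ∃ w : F, wordG hF (D.commWord F a b t v) = xG hF c.1 w :=
              ⟨(c.2.1 : F) * (-t) ^ c.2.2.1 * v ^ c.2.2.2, by rw [ChevalleyDatum.commWord, h0]; simp [wordG]⟩
            have hcw : Commute (xG hF b v) (xG hF c.1 w) :=
              (Subgroup.mem_centralizer_iff.1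
                (hcb ((mem_rootSubgroup hF (r := c.1) (g := xG hF c.1 w)).2 ⟨w, rfl⟩))
                (xG hF b v) ((mem_rootSubgroup hF (r := b) (g := xG hF b v)).2 ⟨v, rfl⟩))
            have he : xG hF b v * xG hF a t * (xG hF b v)⁻¹ = xG hF a t * xG hF c.1 w := by
              rw [xG_comm hF ha hb hba hn, hw, mul_assoc (xG hF a t), hcw.eq]
              group
            rw [he]
            exact Subgroup.mul_mem _ (Subgroup.mem_sup_left ((mem_rootSubgroup hF).2 ⟨_, rfl⟩))
              (Subgroup.mem_sup_right ((mem_rootSubgroup hF).2 ⟨_, rfl⟩))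
          · intro y hy
            rw [Subgroup.mem_comap]
            show xG hF b v * y * (xG hF b v)⁻¹ ∈ D.rootSubgroup F a ⊔ D.rootSubgroup F c.1
            rw [Subgroup.mem_centralizer_iff.1 (hcb hy) _ ((mem_rootSubgroup hF).2 ⟨v, rfl⟩),
              mul_inv_cancel_right]
            exact Subgroup.mem_sup_right hy
        exact fun y hy => hle hy
      intro z hz
      obtain ⟨v, rfl⟩ := (mem_rootSubgroup hF).1 hz
      refine Subgroup.mem_normalizer_iff.2 fun y => ⟨key v y, fun hy => ?_⟩
      have := key (-v) _ hy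
      rw [← xG_inv hF b v] at this
      simpa [mul_assoc] using this
    refine (hM.to_sup_of_normal_left' (isPGroup_root hF b) hN).to_le ?_
    exact sup_le (le_sup_left.trans le_sup_left) le_sup_right
  · simp at h

theorem weyl_closed {L : ℕ → Prop}
    (hL : ∀ i < D.rank, ∀ r < D.nroots, L r → L (D.reflectRoot i r))
    (w : List (Fin D.rank)) (r : Fin D.nroots) (hr : L r) : L (pWord hF w r : ℕ) := by
  induction w with
  | nil => exact hr
  | cons i w ih =>
    rw [pWord_cons, Equiv.Perm.mul_apply, wPerm_val]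
    exact hL i i.2 _ (pWord hF w r).2 ih

/-- Two conjugates of the last root subgroup generate a `2`-group, or a conjugate of the group
generated by the last and the first root subgroup. -/
theorem top_pairs [CharP F 2] (L : ℕ → Prop) (h0 : L (D.nroots - 1))
    (hL : ∀ i < D.rank, ∀ r < D.nroots, L r → L (D.reflectRoot i r))
    (hchk : ∀ r < D.nroots, L r → r ≠ 0 → pairChk D (D.nroots - 1) r = true)
    {g : GL D.Idx F} (hg : g ∈ D.group F) :
    IsPGroup 2 ↥(D.rootSubgroup F (D.nroots - 1) ⊔
      (D.rootSubgroup F (D.nroots - 1)).map (MulAut.conj g).toMonoidHom) ∨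
    ∃ h ∈ D.group F, (D.rootSubgroup F (D.nroots - 1) ⊔
      (D.rootSubgroup F (D.nroots - 1)).map (MulAut.conj g).toMonoidHom).map
        (MulAut.conj h).toMonoidHom =
      D.rootSubgroup F (D.nroots - 1) ⊔ D.rootSubgroup F 0 := by
  obtain ⟨b, hb, w, x, hx, rfl⟩ := exists_normalForm hF hg
  set X := D.rootSubgroup F (D.nroots - 1) with hX
  set u : Fin D.nroots := pWord hF w (topRoot hF) with hu
  have hconj : ∀ (a a' : GL D.Idx F) (H : Subgroup (GL D.Idx F)),
      H.map (MulAut.conj (a * a')).toMonoidHom =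
        (H.map (MulAut.conj a').toMonoidHom).map (MulAut.conj a).toMonoidHom := by
    intro a a' H
    rw [Subgroup.map_map]
    congr 1
    ext y
    simp [mul_assoc]
  have hxB := uMinus_le_borel hF _ hx
  have e1 : X.map (MulAut.conj (b * nWord hF w * x)).toMonoidHom =
      (D.rootSubgroup F (u : ℕ)).map (MulAut.conj b).toMonoidHom := by
    rw [hconj, map_top_borel hF hxB, hconj]
    congr 1
    exact map_rootSubgroup hF (isMon_nWord hF w) (topRoot hF)
  have e2 : X ⊔ X.map (MulAut.conj (b * nWord hF w * x)).toMonoidHom =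
      (X ⊔ D.rootSubgroup F (u : ℕ)).map (MulAut.conj b).toMonoidHom := by
    rw [Subgroup.map_sup, map_top_borel hF hb, e1]
  rw [e2]
  by_cases hu0 : (u : ℕ) = 0
  · right
    refine ⟨b⁻¹, Subgroup.inv_mem _ (borel_le_group hF hb), ?_⟩
    rw [← hconj, inv_mul_cancel, hu0]
    ext y
    simp
  · left
    exact (isPGroup_pair hF (top_lt hF) u.2
      (hchk u u.2 (weyl_closed hF hL w (topRoot hF) h0) hu0)).map _

end

end Cfsg.Agent.Chev
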