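import Cfsg.Agent.Chev.Tab

/-!
Applying root elements to formal vectors, and deciding equalities between words in root elements.
-/

set_option autoImplicit false

namespace Cfsg.Agent.Chev

open Cfsg.Lie

variable (D : ChevalleyDatum) (T : Tab)

/-- The formal image of a formal vector under `x_r(arg)`. -/
noncomputable def app (r : ℕ) (arg : List Mon) (v : List Tm) : List Tm :=
  v.flatMap fun x =>
    x :: (colOf D T r x.row).flatMap fun q => scaleMon arg q.2.1 q.1 x.a x.b (x.coef * q.2.2)

/-- The formal image of a formal vector under a word, the last letter acting first. -/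
noncomputable def appW : List (ℕ × List Mon) → List Tm → List Tm
  | [], v => v
  | p :: w, v => app D T p.1 p.2 (appW w v)

/-- The basis vector in coordinate `c`. -/
def unitTm (c : ℕ) : List Tm := [⟨c, 0, 0, 1⟩]

/-- All roots of a word are in range. -/
def wordOk (w : List (ℕ × List Mon)) : Bool := w.all fun p => Nat.blt p.1 D.nroots

/-- Decides that two words give equal matrices when `t * u = 1`, checking every column. -/
noncomputable def eqInv (w₁ w₂ : List (ℕ × List Mon)) : Bool :=
  wordOk D w₁ && wordOk D w₂ &&
    (List.range (D.rank + D.nroots)).all fun c =>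
      sameTms (cancelTms (appW D T w₁ (unitTm c))) (cancelTms (appW D T w₂ (unitTm c)))

/-- Decides that two words give equal matrices for all values of the variables. -/
noncomputable def eqFree (w₁ w₂ : List (ℕ × List Mon)) : Bool :=
  wordOk D w₁ && wordOk D w₂ &&
    (List.range (D.rank + D.nroots)).all fun c =>
      sameTms (appW D T w₁ (unitTm c)) (appW D T w₂ (unitTm c))

/-- The value of a formal vector as a vector. -/
def tmVec {F : Type*} [Field F] (t u : F) (v : List Tm) : D.Idx → F :=
  fun i => tmsVal t u (enc D i) v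

/-- The value of a formal word. -/
def evalW {F : Type*} [Field F] (t u : F) (w : List (ℕ × List Mon)) : List (ℕ × F) :=
  w.map fun p => (p.1, monsVal t u p.2)

variable {D T}

theorem colOf_eq_nil {r c : ℕ} (hr : r < D.nroots) (hc : D.rank + D.nroots ≤ c) :
    colOf D T r c = [] := by
  rw [colOf_def, nbeq_false_iff.2 (by omega), cond_false]
  cases h : Nat.blt c (D.rank + D.nroots) with
  | false => rfl
  | true => exact absurd (Nat.le_of_ble_eq_true h) (by omega)

theorem mulVec_tmVec_eq {F : Type*} [Field F] (M : Matrix D.Idx D.Idx F) (t u : F)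
    (f : Tm → List Tm)
    (h1 : ∀ (x : Tm) (i j : D.Idx), enc D j = x.row →
      tmsVal t u (enc D i) (f x) = M i j * ((x.coef : F) * (t ^ x.a * u ^ x.b)))
    (h2 : ∀ (x : Tm) (i : D.Idx), D.rank + D.nroots ≤ x.row →
      tmsVal t u (enc D i) (f x) = 0) (v : List Tm) :
    M.mulVec (tmVec D t u v) = tmVec D t u (v.flatMap f) := by
  funext i
  induction v with
  | nil => simp [Matrix.mulVec, dotProduct, tmVec, tmsVal_nil]
  | cons x l ih =>
    simp only [Matrix.mulVec, dotProduct, tmVec] at ih ⊢
    simp only [tmsVal_cons, mul_add, Finset.sum_add_distrib, List.flatMap_cons, tmsVal_append]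
    rw [ih]
    congr 1
    by_cases hx : x.row < D.rank + D.nroots
    · obtain ⟨j₀, hj₀⟩ := exists_enc D hx
      rw [Finset.sum_eq_single j₀, if_pos hj₀.symm, h1 x i j₀ hj₀]
      · intro b _ hb
        rw [if_neg (fun hb' => hb (enc_injective D (by rw [hj₀, hb']))), mul_zero]
      · intro hn; exact absurd (Finset.mem_univ _) hn
    · rw [h2 x i (by omega)]
      refine Finset.sum_eq_zero fun j _ => ?_
      rw [if_neg (fun e : x.row = enc D j => hx (e ▸ enc_lt D j)), mul_zero]

theorem tmsVal_flatMap_scaleMon {F : Type*} [Field F] (t u : F) (i a b : ℕ) (c : ℤ)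
    (arg : List Mon) (L : List (ℕ × ℕ × ℤ)) :
    tmsVal t u i (L.flatMap fun q => scaleMon arg q.2.1 q.1 a b (c * q.2.2)) =
      (c : F) * (t ^ a * u ^ b) * colVal (monsVal t u arg) i L := by
  induction L with
  | nil => simp [tmsVal_nil, colVal]
  | cons q L ih =>
    rw [List.flatMap_cons, tmsVal_append, ih, tmsVal_scaleMon, colVal]
    push_cast
    split <;> ring

theorem mulVec_app (h : chkTab D T = true) {F : Type*} [Field F] (t u : F) {r : ℕ}
    (hr : r < D.nroots) (arg : List Mon) (v : List Tm) :
    (D.x F r (monsVal t u arg)).mulVec (tmVec D t u v) = tmVec D t u (app D T r arg v) := by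
  classical
  refine mulVec_tmVec_eq _ t u _ (fun x i j hj => ?_) (fun x i hx => ?_) v
  · rw [tmsVal_cons, tmsVal_flatMap_scaleMon, x_apply h F hr, hj]
    by_cases hij : i = j
    · subst hij; rw [if_pos hj.symm, if_pos rfl]; ring
    · rw [if_neg (fun e => hij (enc_injective D (by rw [hj, e]))), if_neg hij]; ring
  · rw [tmsVal_cons, tmsVal_flatMap_scaleMon, colOf_eq_nil hr hx,
      if_neg (by have := enc_lt D i; omega)]
    simp [colVal]

theorem wordMat_cons (F : Type*) [Field F] (p : ℕ × F) (w : List (ℕ × F)) :
    D.wordMat F (p :: w) = D.x F p.1 p.2 * D.wordMat F w := by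
  simp [ChevalleyDatum.wordMat]

theorem mulVec_appW (h : chkTab D T = true) {F : Type*} [Field F] (t u : F)
    {w : List (ℕ × List Mon)} (hw : wordOk D w = true) (v : List Tm) :
    (D.wordMat F (evalW t u w)).mulVec (tmVec D t u v) = tmVec D t u (appW D T w v) := by
  induction w with
  | nil => simp [evalW, ChevalleyDatum.wordMat, appW]
  | cons p w ih =>
    simp only [wordOk, List.all_cons, Bool.and_eq_true] at hw ih
    rw [evalW, List.map_cons, wordMat_cons, appW, ← Matrix.mulVec_mulVec]
    rw [show List.map _ w = evalW t u w from rfl, ih hw.2]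
    exact mulVec_app h t u (Nat.le_of_ble_eq_true hw.1) p.2 _

theorem tmVec_unitTm {F : Type*} [Field F] (t u : F) (j : D.Idx) :
    tmVec D t u (unitTm (enc D j)) = Pi.single j (1 : F) := by
  classical
  funext i
  by_cases hij : i = j
  · subst hij; simp [tmVec, unitTm, tmsVal_cons, tmsVal_nil]
  · rw [Pi.single_eq_of_ne hij]
    simp [tmVec, unitTm, tmsVal_cons, tmsVal_nil,
      show enc D j ≠ enc D i from fun e => hij (enc_injective D e).symm]

/-- Matrices with the same action on every formal basis vector are equal. -/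
theorem matrix_ext_unit {F : Type*} [Field F] (t u : F) (M M' : Matrix D.Idx D.Idx F)
    (h : ∀ c < D.rank + D.nroots,
      M.mulVec (tmVec D t u (unitTm c)) = M'.mulVec (tmVec D t u (unitTm c))) : M = M' := by
  classical
  ext i j
  have := congrFun (h _ (enc_lt D j)) i
  simpa [tmVec_unitTm, Matrix.mulVec_single] using this

theorem wordMat_eq_of_eqFree (h : chkTab D T = true) {F : Type*} [Field F] (t u : F)
    {w₁ w₂ : List (ℕ × List Mon)} (he : eqFree D T w₁ w₂ = true) :
    D.wordMat F (evalW t u w₁) = D.wordMat F (evalW t u w₂) := by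
  simp only [eqFree, Bool.and_eq_true, List.all_eq_true, List.mem_range] at he
  refine matrix_ext_unit t u _ _ fun c hc => ?_
  rw [mulVec_appW h t u he.1.1, mulVec_appW h t u he.1.2]
  funext i
  exact tmsVal_eq_of_sameTms t u _ (he.2 c hc)

theorem wordMat_eq_of_eqInv (h : chkTab D T = true) {F : Type*} [Field F] {t u : F}
    (htu : t * u = 1) {w₁ w₂ : List (ℕ × List Mon)} (he : eqInv D T w₁ w₂ = true) :
    D.wordMat F (evalW t u w₁) = D.wordMat F (evalW t u w₂) := by
  simp only [eqInv, Bool.and_eq_true, List.all_eq_true, List.mem_range] at he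
  refine matrix_ext_unit t u _ _ fun c hc => ?_
  rw [mulVec_appW h t u he.1.1, mulVec_appW h t u he.1.2]
  funext i
  show tmsVal t u _ _ = tmsVal t u _ _
  rw [← tmsVal_cancelTms htu, ← tmsVal_cancelTms htu (enc D i) (appW D T w₂ _)]
  exact tmsVal_eq_of_sameTms t u _ (he.2 c hc)

end Cfsg.Agent.Chev
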