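import Cfsg.Agent.Chev.Weyl
import Cfsg.Prelude.Def_LieExceptional

/-!
`B ∩ N = H`, the longest element, and the (B,N)-pair of a Chevalley group.
-/

set_option autoImplicit false

namespace Cfsg.Agent.Chev

open Cfsg.Lie
open scoped MatrixGroups

universe u

variable {D : ChevalleyDatum} {F : Type u} [Field F] (hF : Facts.{u} D)
include hF

theorem pWord_eq_one_of_pos : ∀ w : List (Fin D.rank),
    (∀ i, half D ≤ (pWord hF w (sRoot hF i) : ℕ)) → pWord hF w = 1 := by
  suffices H : ∀ n, ∀ w : List (Fin D.rank), w.length = n →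
      (∀ i, half D ≤ (pWord hF w (sRoot hF i) : ℕ)) → pWord hF w = 1 from fun w => H _ w rfl
  intro n
  induction n using Nat.strong_induction_on with
  | _ n ih =>
    intro w hn hw
    rcases List.eq_nil_or_concat w with rfl | ⟨w', k, rfl⟩
    · rfl
    rw [List.concat_eq_append] at hn hw ⊢
    have hk : pWord hF [k] = wPerm hF k := by simp [pWord]
    have hneg : (pWord hF w' (sRoot hF k) : ℕ) < half D := by
      have := hw k
      rw [pWord_append, hk, Equiv.Perm.mul_apply, wPerm_sRoot, pWord_negF] at this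
      exact (pos_negF_iff hF _).1 this
    obtain ⟨u, j, v, huv, hp⟩ := exchange_perm hF w' k hneg
    have heq : pWord hF (w' ++ [k]) = pWord hF (u ++ v) := by rw [pWord_append, hk, hp]
    rw [heq] at hw ⊢
    exact ih _ (by rw [← hn, huv]; simp) (u ++ v) rfl hw

theorem eq_one_of_pos {π : Equiv.Perm (Fin D.nroots)} (hπ : π ∈ weyl hF)
    (h : ∀ i, half D ≤ (π (sRoot hF i) : ℕ)) : π = 1 := by
  obtain ⟨w, rfl⟩ := exists_pWord hF hπ
  exact pWord_eq_one_of_pos hF w h

theorem weyl_negF {π : Equiv.Perm (Fin D.nroots)} (hπ : π ∈ weyl hF) (r : Fin D.nroots) :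
    π (negF hF r) = negF hF (π r) := by
  obtain ⟨w, rfl⟩ := exists_pWord hF hπ
  exact pWord_negF hF w r

theorem monPerm_mem_weyl {g : GL D.Idx F} (hg : g ∈ D.monomialSubgroup F) :
    monPerm hF g ∈ weyl hF :=
  monHom_range hF (F := F) ▸ ⟨⟨g, hg⟩, rfl⟩

theorem borel_inf_monomial :
    D.borelSubgroup F ⊓ D.monomialSubgroup F = D.diagonalSubgroup F := by
  refine le_antisymm ?_ (le_inf le_sup_right le_sup_left)
  rintro g ⟨hb, hn⟩
  refine mem_diagonal_of_isMon_one hF hn ?_
  have hmon := isMon_monPerm hF hn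
  suffices h : monPerm hF g = 1 by rwa [h] at hmon
  refine eq_one_of_pos hF (monPerm_mem_weyl hF hn) fun i => ?_
  by_contra hneg
  obtain ⟨c, hc, hconj⟩ := hmon (sRoot hF i)
  have hv : g * xG hF (D.simple i) 1 * g⁻¹ = xG hF (monPerm hF g (sRoot hF i)) c := by
    have := hconj 1
    rw [mul_one] at this
    exact mul_inv_eq_iff_eq_mul.2 this
  have h1 : xG hF (monPerm hF g (sRoot hF i) : ℕ) c ∈ D.borelSubgroup F := by
    rw [← hv]
    exact Subgroup.mul_mem _ (Subgroup.mul_mem _ hb (Subgroup.mem_sup_left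
      (mem_posUnipotent_of hF (hF.simple_lt i i.2) (hF.simple_pos i i.2) _)))
      (Subgroup.inv_mem _ hb)
  have := borel_inf_upper hF h1
    (negUnipotent_le_upperGroup hF (mem_negUnipotent_of hF (monPerm hF g (sRoot hF i)).2
      (not_le.1 hneg) c))
  exact hc ((xG_eq_one_iff hF (monPerm hF g (sRoot hF i)).2).1 this)

theorem posUnipotent_inf_monomial : D.posUnipotent F ⊓ D.monomialSubgroup F = ⊥ := by
  rw [eq_bot_iff]
  rintro g ⟨hu, hn⟩
  have hd : g ∈ D.diagonalSubgroup F :=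
    (borel_inf_monomial hF (F := F)).le ⟨Subgroup.mem_sup_left hu, hn⟩
  exact (posUnipotent_inf_diagonal hF (F := F)).le ⟨hu, hd⟩

theorem map_posUnipotent_longest : ∃ n ∈ D.monomialSubgroup F,
    (D.posUnipotent F).map (MulAut.conj n).toMonoidHom = D.negUnipotent F := by
  obtain ⟨w, hw⟩ := exists_longest hF
  refine ⟨nWord hF w, nWord_mem hF w, le_antisymm ?_ ?_⟩
  · rw [ChevalleyDatum.posUnipotent, MonoidHom.map_closure]
    refine (Subgroup.closure_le _).2 ?_
    rintro x ⟨g, ⟨r, t, hr, e⟩, rfl⟩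
    have : g = xG hF r t := Units.ext e
    subst this
    obtain ⟨v, hv⟩ := isMon_conj_mem hF (isMon_nWord hF w (F := F)) ⟨r, hr.1⟩ t
    show nWord hF w * xG hF r t * (nWord hF w)⁻¹ ∈ D.negUnipotent F
    rw [hv]
    exact mem_negUnipotent_of hF (pWord hF w ⟨r, hr.1⟩).2
      ((hw _).2 ((hF.posRoot_iff r hr.1).1 hr)) _
  · refine (Subgroup.closure_le _).2 ?_
    rintro x ⟨r, t, hr, e⟩
    have : x = xG hF r t := Units.ext e
    subst this
    set s := (pWord hF w)⁻¹ ⟨r, hr.1⟩ with hs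
    have hps : pWord hF w s = ⟨r, hr.1⟩ := by rw [hs]; simp
    have hspos : half D ≤ (s : ℕ) := (hw s).1 (by rw [hps]; exact (hF.negRoot_iff r hr.1).1 hr)
    obtain ⟨c, hc, hconj⟩ := isMon_nWord hF w (F := F) s
    refine ⟨xG hF s (c⁻¹ * t), mem_posUnipotent_of hF s.2 hspos _, ?_⟩
    show nWord hF w * xG hF s (c⁻¹ * t) * (nWord hF w)⁻¹ = xG hF r t
    rw [hconj, mul_inv_cancel_right, hps, ← mul_assoc, mul_inv_cancel₀ hc, one_mul]

/-- The positive root subgroups other than the fundamental one. -/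
def otherRoots (i : ℕ) : Set (GL D.Idx F) :=
  {g | ∃ (s : ℕ) (t : F), s < D.nroots ∧ half D ≤ s ∧ s ≠ D.simple i ∧ g = xG hF s t}

theorem otherRoots_eq (i : ℕ) : otherRoots hF i (F := F) =
    {g : GL D.Idx F | ∃ (s : ℕ) (t : F), D.IsPosRoot s ∧ s ≠ D.simple i ∧
      (g : Matrix D.Idx D.Idx F) = D.x F s t} := by
  ext g
  constructor
  · rintro ⟨s, t, h1, h2, h3, rfl⟩
    exact ⟨s, t, (hF.posRoot_iff s h1).2 h2, h3, rfl⟩
  · rintro ⟨s, t, h1, h2, e⟩
    exact ⟨s, t, h1.1, (hF.posRoot_iff s h1.1).1 h1, h2, Units.ext e⟩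

theorem otherRoots_le (i : ℕ) :
    Subgroup.closure (otherRoots hF i (F := F)) ≤ D.posUnipotent F := by
  refine (Subgroup.closure_le _).2 ?_
  rintro g ⟨s, t, h1, h2, -, rfl⟩
  exact mem_posUnipotent_of hF h1 h2 t

theorem simple_mem_normalizer {i : ℕ} (hi : i < D.rank) (v : F) :
    xG hF (D.simple i) v ∈ Subgroup.normalizer
        (Subgroup.closure (otherRoots hF i (F := F)) : Set (GL D.Idx F)) ∧
    xG hF (D.neg (D.simple i)) v ∈ Subgroup.normalizer
        (Subgroup.closure (otherRoots hF i (F := F)) : Set (GL D.Idx F)) := by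
  have hp := hF.simple_lt i hi
  have hpp := hF.simple_pos i hi
  have key : ∀ r, r = D.simple i ∨ r = D.neg (D.simple i) → ∀ t : F,
      ∀ x ∈ otherRoots hF i (F := F),
        xG hF r (-t) * x * xG hF r t ∈ Subgroup.closure (otherRoots hF i) := by
    rintro r hr t x ⟨s, a, hs, hsp, hne, rfl⟩
    have hrn : r < D.nroots := by rcases hr with rfl | rfl; exacts [hp, neg_lt hF hp]
    have hne1 : s ≠ r ∧ s ≠ D.neg r := by
      have := (neg_lt_half_iff hF hp).2 hpp
      rcases hr with rfl | rfl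
      · exact ⟨hne, by omega⟩
      · rw [neg_neg_root hF hp]; exact ⟨by omega, hne⟩
    rw [mul_assoc, xG_comm hF hrn hs hne1.1 hne1.2, ← mul_assoc, ← mul_assoc, xG_mul,
      neg_add_cancel, xG_zero, one_mul]
    refine Subgroup.mul_mem _ (Subgroup.subset_closure ⟨s, a, hs, hsp, hne, rfl⟩)
      (wordG_mem hF fun p hpw => ?_)
    rcases hr with rfl | rfl
    · have := commWord_gt hF hrn hs hpp hsp _ _ p hpw
      exact Subgroup.subset_closure ⟨p.1, p.2, this.2.2, by omega, by omega, rfl⟩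
    · obtain ⟨c, hc, rfl⟩ := List.mem_map.1 hpw
      exact Subgroup.subset_closure ⟨c.1, _, hF.comm_lt _ s hrn hs c hc,
        (hF.comm_neg_simple i hi s hs hsp hne c hc).1,
        (hF.comm_neg_simple i hi s hs hsp hne c hc).2, rfl⟩
  constructor
  · refine mem_normalizer_closure (fun x hx => ?_) (fun x hx => ?_)
    · have := key _ (Or.inl rfl) (-v) x hx
      rwa [neg_neg, ← xG_inv] at this
    · have := key _ (Or.inl rfl) v x hx
      rwa [← xG_inv] at this
  · refine mem_normalizer_closure (fun x hx => ?_) (fun x hx => ?_)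
    · have := key _ (Or.inr rfl) (-v) x hx
      rwa [neg_neg, ← xG_inv] at this
    · have := key _ (Or.inr rfl) v x hx
      rwa [← xG_inv] at this

theorem nS_conj_other {i : ℕ} (hi : i < D.rank) {y : GL D.Idx F}
    (hy : y ∈ Subgroup.closure (otherRoots hF i)) :
    nS hF i * y * (nS hF i)⁻¹ ∈ Subgroup.closure (otherRoots hF i) := by
  have hle : Subgroup.closure (otherRoots hF i (F := F)) ≤
      (Subgroup.closure (otherRoots hF i)).comap (MulAut.conj (nS hF i)).toMonoidHom := by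
    refine (Subgroup.closure_le _).2 ?_
    rintro g ⟨s, t, hs, hsp, hne, rfl⟩
    show nS hF i * xG hF s t * (nS hF i)⁻¹ ∈ Subgroup.closure (otherRoots hF i)
    rw [nS_conj_x hF hi hs, mul_inv_cancel_right]
    refine Subgroup.subset_closure ⟨_, _, hF.refl_lt i hi s hs, hF.refl_pos i hi s hs hsp hne,
      fun e => ?_, rfl⟩
    have := hF.refl_refl i hi s hs
    rw [e, hF.refl_simple i hi] at this
    have h2 := (neg_lt_half_iff hF (hF.simple_lt i hi)).2 (hF.simple_pos i hi)
    omega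
  exact hle hy

theorem exists_split_simple {i : ℕ} (hi : i < D.rank) {g : GL D.Idx F}
    (hg : g ∈ D.posUnipotent F) :
    ∃ y ∈ Subgroup.closure (otherRoots hF i), ∃ t, g = y * xG hF (D.simple i) t := by
  have hX : (xHom hF (D.simple i) (F := F)).range ≤ Subgroup.normalizer
      (Subgroup.closure (otherRoots hF i (F := F)) : Set (GL D.Idx F)) := by
    rintro x ⟨t, rfl⟩
    exact (simple_mem_normalizer hF hi _).1
  have hle : D.posUnipotent F ≤
      Subgroup.closure (otherRoots hF i) ⊔ (xHom hF (D.simple i) (F := F)).range := by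
    refine (Subgroup.closure_le _).2 ?_
    rintro x ⟨s, t, hs, e⟩
    have : x = xG hF s t := Units.ext e
    subst this
    by_cases h : s = D.simple i
    · subst h; exact Subgroup.mem_sup_right ⟨Multiplicative.ofAdd t, rfl⟩
    · exact Subgroup.mem_sup_left
        (Subgroup.subset_closure ⟨s, t, hs.1, (hF.posRoot_iff s hs.1).1 hs, h, rfl⟩)
  have := hle hg
  rw [← SetLike.mem_coe, Subgroup.coe_mul_of_right_le_normalizer_left _ _ hX, Set.mem_mul] at this
  obtain ⟨y, hy, _, ⟨t, rfl⟩, e⟩ := this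
  exact ⟨y, hy, t.toAdd, e.symm⟩

theorem xG_mem_group (r : ℕ) (t : F) : xG hF r t ∈ D.group F := by
  by_cases hr : r < D.nroots
  · exact Subgroup.subset_closure ⟨⟨r, hr⟩, t, by rw [xG_val, ChevalleyDatum.x, dif_pos hr]⟩
  · have : xG hF r t = 1 := Units.ext (by rw [xG_val, x_of_ge hr]; rfl)
    rw [this]; exact Subgroup.one_mem _

theorem nG_mem_group (r : ℕ) (t : F) : nG hF r t ∈ D.group F :=
  Subgroup.mul_mem _ (Subgroup.mul_mem _ (xG_mem_group hF r t) (xG_mem_group hF _ _))
    (xG_mem_group hF r t)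

theorem borel_le_group : D.borelSubgroup F ≤ D.group F := by
  refine sup_le ((Subgroup.closure_le _).2 ?_) ((Subgroup.closure_le _).2 ?_)
  · rintro g ⟨r, t, -, e⟩
    rw [show g = xG hF r t from Units.ext e]
    exact xG_mem_group hF r t
  · rintro g ⟨r, t, -, -, e⟩
    rw [show g = hG hF r t from Units.ext (e.trans (hG_val hF r t).symm)]
    exact Subgroup.mul_mem _ (nG_mem_group hF r t) (nG_mem_group hF r _)

theorem monomial_le_group : D.monomialSubgroup F ≤ D.group F := by
  refine sup_le (le_trans le_sup_right (borel_le_group hF)) ((Subgroup.closure_le _).2 ?_)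
  rintro g ⟨r, -, e⟩
  rw [show g = nG hF r 1 from Units.ext (e.trans (nG_val hF r 1).symm)]
  exact nG_mem_group hF r 1

theorem group_eq_sup : D.borelSubgroup F ⊔ D.monomialSubgroup F = D.group F := by
  refine le_antisymm (sup_le (borel_le_group hF) (monomial_le_group hF))
    ((Subgroup.closure_le _).2 ?_)
  rintro g ⟨r, t, e⟩
  rw [show g = xG hF r t from
    Units.ext (by rw [xG_val, ChevalleyDatum.x, dif_pos r.2]; exact e)]
  have key : ∀ r < D.nroots, ∀ t : F,
      xG hF r t ∈ D.borelSubgroup F ⊔ D.monomialSubgroup F := by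
    refine hF.root_induction _ (fun i hi t => ?_) (fun i hi r hr ih t => ?_)
    · exact Subgroup.mem_sup_left (Subgroup.mem_sup_left
        (mem_posUnipotent_of hF (hF.simple_lt i hi) (hF.simple_pos i hi) t))
    · have hn : nS hF i ∈ D.borelSubgroup F ⊔ D.monomialSubgroup F :=
        Subgroup.mem_sup_right (nS_mem hF ⟨i, hi⟩)
      have := Subgroup.mul_mem _ (Subgroup.mul_mem _ hn (ih (((etaN hF i r : ℤ) : F) * t)))
        (Subgroup.inv_mem _ hn)
      rwa [nS_conj_x hF hi hr, mul_inv_cancel_right, ← mul_assoc, etaN_cast_sq hF hi hr,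
        one_mul] at this
  exact key r r.2 t

theorem nG_eq_torus_mul {i : ℕ} (hi : i < D.rank) (t : Fˣ) :
    nG hF (D.simple i) (t : F) = torusHom (coH (D.simple i) t) * nS hF i := by
  rw [← hG_eq_torus hF (hF.simple_lt i hi), hG, nS, mul_assoc]
  rw [← nG_inv hF (D.simple i) (1 : F), inv_mul_cancel, mul_one]

theorem nS_mul_self {i : ℕ} (hi : i < D.rank) :
    (nS hF i * nS hF i : GL D.Idx F) ∈ D.diagonalSubgroup F := by
  obtain ⟨c, hc⟩ := nS_inv hF ⟨i, hi⟩ (F := F)
  have : nS hF i * nS hF i = (torusHom c : GL D.Idx F)⁻¹ := by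
    rw [eq_inv_iff_mul_eq_one, mul_assoc, ← hc, mul_inv_cancel]
  rw [this]
  exact Subgroup.inv_mem _ (torusHom_mem hF c)

/-- The double coset axiom. -/
theorem step_mem {i : ℕ} (hi : i < D.rank) {b n : GL D.Idx F} (hb : b ∈ D.borelSubgroup F)
    (hn : n ∈ D.monomialSubgroup F) :
    ∃ a ∈ D.borelSubgroup F, ∃ a' ∈ D.borelSubgroup F,
      nS hF i * b * n = a * (nS hF i * n) * a' ∨ nS hF i * b * n = a * n * a' := by
  obtain ⟨v, hv, c, rfl⟩ := (mem_borel_iff hF).1 hb
  obtain ⟨y, hy, t, rfl⟩ := exists_split_simple hF hi hv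
  obtain ⟨w, d, rfl⟩ := (mem_monomial_iff hF).1 hn
  obtain ⟨c', hc'⟩ := torus_nWord hF w c
  set s := nS hF i (F := F) with hs
  set n' := (nWord hF w : GL D.Idx F) with hn'
  have hH : ∀ e : Fin D.rank → Fˣ, (torusHom e : GL D.Idx F) ∈ D.borelSubgroup F := fun e =>
    Subgroup.mem_sup_right (torusHom_mem hF e)
  have hU : ∀ y ∈ D.posUnipotent F, y ∈ D.borelSubgroup F := fun y => Subgroup.mem_sup_left
  have hy' : s * y * s⁻¹ ∈ D.borelSubgroup F :=
    hU _ (otherRoots_le hF i (nS_conj_other hF hi hy))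
  suffices H : ∃ a ∈ D.borelSubgroup F, ∃ a' ∈ D.borelSubgroup F,
      s * xG hF (D.simple i) t * n' = a * (s * n') * a' ∨
        s * xG hF (D.simple i) t * n' = a * n' * a' by
    obtain ⟨a, ha, a', ha', H⟩ := H
    have e : s * (y * xG hF (D.simple i) t * torusHom c) * (n' * torusHom d) =
        s * y * s⁻¹ * (s * xG hF (D.simple i) t * n') * (torusHom c' * torusHom d) := by
      rw [show s * (y * xG hF (D.simple i) t * torusHom c) * (n' * torusHom d) =
        s * y * s⁻¹ * (s * xG hF (D.simple i) t) * (torusHom c * n') * torusHom d by group, hc']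
      group
    refine ⟨s * y * s⁻¹ * a, Subgroup.mul_mem _ hy' ha,
      (torusHom d)⁻¹ * a' * (torusHom c' * torusHom d),
      Subgroup.mul_mem _ (Subgroup.mul_mem _ (Subgroup.inv_mem _ (hH _)) ha')
        (Subgroup.mul_mem _ (hH _) (hH _)), ?_⟩
    rcases H with H | H
    · left; rw [e, H]; group
    · right; rw [e, H]; group
  set p : Fin D.nroots := sRoot hF ⟨i, hi⟩ with hp
  have hpv : (p : ℕ) = D.simple i := rfl
  set q := (pWord hF w)⁻¹ p with hq
  have hqp : pWord hF w q = p := by rw [hq]; simp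
  by_cases hpos : half D ≤ (q : ℕ)
  · obtain ⟨e, he, hconj⟩ := isMon_nWord hF w (F := F) q
    refine ⟨1, Subgroup.one_mem _, xG hF q (e⁻¹ * t), hU _ (mem_posUnipotent_of hF q.2 hpos _),
      Or.inl ?_⟩
    rw [one_mul, mul_assoc s n', hconj, hqp, ← mul_assoc e, mul_inv_cancel₀ he, one_mul, hpv]
    simp only [hn', mul_assoc]
  · -- here `s n` sends a positive root to the fundamental root
    set q' := negF hF q with hq'
    have hq'pos : half D ≤ (q' : ℕ) := (pos_negF_iff hF q).2 (not_le.1 hpos)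
    have hsn : IsMon hF (s * n') (wPerm hF ⟨i, hi⟩ * pWord hF w) :=
      isMon_mul hF (isMon_nS hF ⟨i, hi⟩) (isMon_nWord hF w)
    have hperm : (wPerm hF ⟨i, hi⟩ * pWord hF w) q' = p := by
      rw [Equiv.Perm.mul_apply, hq', pWord_negF, hqp, wPerm_negF, hp, wPerm_sRoot, negF_negF]
    obtain ⟨e, he, hconj⟩ := hsn q'
    have hx : ∀ v : F, ∃ z ∈ D.borelSubgroup F, xG hF (D.simple i) v * (s * n') = s * n' * z :=
      fun v => ⟨xG hF q' (e⁻¹ * v), hU _ (mem_posUnipotent_of hF q'.2 hq'pos _), by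
        rw [hconj, hperm, ← mul_assoc e, mul_inv_cancel₀ he, one_mul, hpv]⟩
    have hsx : s * xG hF (D.simple i) t * n' =
        xG hF (D.neg (D.simple i)) (((etaN hF i (D.simple i) : ℤ) : F) * t) * (s * n') := by
      rw [hs, nS_conj_x hF hi (hF.simple_lt i hi), hF.refl_simple i hi, mul_assoc]
    set t' : F := ((etaN hF i (D.simple i) : ℤ) : F) * t with ht'
    by_cases h0 : t' = 0
    · refine ⟨1, Subgroup.one_mem _, 1, Subgroup.one_mem _, Or.inl ?_⟩
      rw [hsx, h0, xG_zero, one_mul]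
      simp
    · set u : Fˣ := Units.mk0 (-t'⁻¹) (neg_ne_zero.2 (inv_ne_zero h0)) with hu
      have hneg : xG hF (D.neg (D.simple i)) t' =
          xG hF (D.simple i) t'⁻¹ * nG hF (D.simple i) (u : F) * xG hF (D.simple i) t'⁻¹ := by
        simp only [nG, hu, Units.val_mk0, inv_neg, inv_inv, neg_neg, ← mul_assoc, xG_mul,
          add_neg_cancel, xG_zero, one_mul]
        rw [mul_assoc, xG_mul, neg_add_cancel, xG_zero, mul_one]
      obtain ⟨z, hz, hxz⟩ := hx t'⁻¹
      obtain ⟨g, hg⟩ := (mem_diagonal_iff hF).1 (nS_mul_self hF hi (F := F))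
      refine ⟨xG hF (D.simple i) t'⁻¹ * (torusHom (coH (D.simple i) u) * (s * s)),
        Subgroup.mul_mem _ (hU _ (mem_posUnipotent_of hF (hF.simple_lt i hi) (hF.simple_pos i hi) _))
          (Subgroup.mul_mem _ (hH _) (by rw [hs, ← hg]; exact hH _)), z, hz, Or.inr ?_⟩
      rw [hsx, hneg, nG_eq_torus_mul hF hi, ← hs, mul_assoc _ (xG hF (D.simple i) t'⁻¹) (s * n'), hxz]
      group

theorem nS_not_mem_borel (i : Fin D.rank) :
    (nS hF (i : ℕ) : GL D.Idx F) ∉ D.borelSubgroup F := by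
  intro h
  have hd := (borel_inf_monomial hF (F := F)).le ⟨h, nS_mem hF i⟩
  obtain ⟨c, hc⟩ := (mem_diagonal_iff hF).1 hd
  have := isMon_unique hF (hc ▸ isMon_torus hF c) (isMon_nS hF i (F := F))
  have h2 := congrArg (fun π : Equiv.Perm (Fin D.nroots) => (π (sRoot hF i) : ℕ)) this
  simp only [Equiv.Perm.one_apply, wPerm_sRoot] at h2
  exact neg_ne_self hF (hF.simple_lt i i.2) h2.symm

theorem sandwich_not_mem_borel (i : Fin D.rank) :
    nS hF (i : ℕ) * xG hF (D.simple i) (1 : F) * nS hF (i : ℕ) ∉ D.borelSubgroup F := by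
  intro h
  have hp := hF.simple_lt i i.2
  rw [nS_conj_x hF i.2 hp, hF.refl_simple i i.2, mul_one, mul_assoc] at h
  have h1 : xG hF (D.neg (D.simple i)) ((etaN hF i (D.simple i) : ℤ) : F) ∈ D.borelSubgroup F := by
    have := Subgroup.mul_mem _ h (Subgroup.inv_mem _
      (Subgroup.mem_sup_right (nS_mul_self hF i.2 (F := F))))
    rwa [mul_inv_cancel_right] at this
  have h2 := borel_inf_upper hF h1 (negUnipotent_le_upperGroup hF
    (mem_negUnipotent_of hF (neg_lt hF hp) ((neg_lt_half_iff hF hp).2 (hF.simple_pos i i.2)) _))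
  exact left_ne_zero_of_mul_eq_one (etaN_cast_sq hF i.2 hp)
    ((xG_eq_one_iff hF (neg_lt hF hp)).1 h2)

/-- The representative `n_p` as an element of the group. -/
def nGrp (i : Fin D.rank) : ↥(D.group F) := ⟨nS hF (i : ℕ), nG_mem_group hF _ _⟩

/-- The (B,N)-pair of a Chevalley group. -/
def bnPair : Cfsg.BNPair ↥(D.group F) where
  B := (D.borelSubgroup F).subgroupOf (D.group F)
  N := (D.monomialSubgroup F).subgroupOf (D.group F)
  S := Set.range (nGrp hF)
  sup_eq_top := by
    rw [← Subgroup.subgroupOf_sup (borel_le_group hF) (monomial_le_group hF), group_eq_sup hF,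
      Subgroup.subgroupOf_self]
  conj_mem := by
    intro n hn t ht
    rw [Subgroup.mem_subgroupOf] at hn ⊢
    obtain ⟨htB, htN⟩ := Subgroup.mem_inf.1 ht
    rw [Subgroup.mem_subgroupOf] at htB htN
    have htH := (borel_inf_monomial hF (F := F)).le ⟨htB, htN⟩
    have := (diagonal_subgroupOf_normal hF (F := F)).conj_mem ⟨(t : GL D.Idx F), htN⟩
      (Subgroup.mem_subgroupOf.2 htH) ⟨(n : GL D.Idx F), hn⟩
    rw [Subgroup.mem_subgroupOf] at this
    exact Subgroup.mem_sup_right this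
  subset := by
    rintro g ⟨i, rfl⟩
    exact Subgroup.mem_subgroupOf.2 (nS_mem hF i)
  sq_mem := by
    rintro g ⟨i, rfl⟩
    rw [Subgroup.mem_subgroupOf]
    exact Subgroup.mem_sup_right (nS_mul_self hF i.2)
  inj := by
    rintro g ⟨i, rfl⟩ g' ⟨j, rfl⟩ h
    rw [Subgroup.mem_subgroupOf] at h
    simp only [Subgroup.coe_mul, Subgroup.coe_inv, nGrp] at h
    have hd := (borel_inf_monomial hF (F := F)).le
      ⟨h, Subgroup.mul_mem _ (Subgroup.inv_mem _ (nS_mem hF i)) (nS_mem hF j)⟩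
    obtain ⟨c, hc⟩ := (mem_diagonal_iff hF).1 hd
    have e : nS hF (j : ℕ) = nS hF (i : ℕ) * torusHom c (F := F) := by
      rw [hc, mul_inv_cancel_left]
    have h1 := isMon_nS hF j (F := F)
    rw [e] at h1
    have h2 := isMon_unique hF h1 (isMon_mul hF (isMon_nS hF i) (isMon_torus hF c))
    rw [mul_one] at h2
    rw [wPerm_injective hF h2]
  closure_sup := by
    refine le_antisymm (sup_le ((Subgroup.closure_le _).2 ?_) inf_le_right) ?_
    · rintro g ⟨i, rfl⟩
      exact Subgroup.mem_subgroupOf.2 (nS_mem hF i)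
    · rintro ⟨g, hg⟩ hN
      rw [Subgroup.mem_subgroupOf] at hN
      obtain ⟨w, c, e⟩ := (mem_monomial_iff hF).1 hN
      have hw : ∀ w : List (Fin D.rank), ((w.map (nGrp hF (F := F))).prod : GL D.Idx F) =
          nWord hF w := by
        intro w
        induction w with
        | nil => rfl
        | cons i w ih => rw [List.map_cons, List.prod_cons, Subgroup.coe_mul, ih]; rfl
      have hc : (torusHom c : GL D.Idx F) ∈ D.group F :=
        borel_le_group hF (Subgroup.mem_sup_right (torusHom_mem hF c))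
      have hg' : (⟨g, hg⟩ : ↥(D.group F)) = (w.map (nGrp hF)).prod * ⟨torusHom c, hc⟩ :=
        Subtype.ext (by rw [Subgroup.coe_mul, hw]; exact e)
      rw [hg']
      refine Subgroup.mul_mem _ (Subgroup.mem_sup_left (Subgroup.list_prod_mem _ fun x hx => ?_))
        (Subgroup.mem_sup_right (Subgroup.mem_inf.2 ⟨Subgroup.mem_subgroupOf.2
          (Subgroup.mem_sup_right (torusHom_mem hF c)), Subgroup.mem_subgroupOf.2
          (Subgroup.mem_sup_left (torusHom_mem hF c))⟩))
      obtain ⟨i, -, rfl⟩ := List.mem_map.1 hx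
      exact Subgroup.subset_closure ⟨i, rfl⟩
  mul_mem_union := by
    rintro s ⟨i, rfl⟩ n hn b hb
    rw [Subgroup.mem_subgroupOf] at hn hb
    obtain ⟨a, ha, a', ha', h⟩ := step_mem hF i.2 hb hn
    have hh : ∀ {x : GL D.Idx F}, x ∈ D.borelSubgroup F → x ∈ D.group F :=
      fun hx => borel_le_group hF hx
    rcases h with h | h
    · exact Or.inl (DoubleCoset.mem_doubleCoset.2 ⟨⟨a, hh ha⟩, ha, ⟨a', hh ha'⟩, ha',
        Subtype.ext (by simpa [nGrp] using h)⟩)
    · exact Or.inr (DoubleCoset.mem_doubleCoset.2 ⟨⟨a, hh ha⟩, ha, ⟨a', hh ha'⟩, ha',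
        Subtype.ext (by simpa [nGrp] using h)⟩)
  conj_ne := by
    rintro s ⟨i, rfl⟩ h
    have hx : (⟨xG hF (D.simple i) (1 : F), xG_mem_group hF _ _⟩ : ↥(D.group F)) ∈
        (D.borelSubgroup F).subgroupOf (D.group F) :=
      Subgroup.mem_subgroupOf.2 (Subgroup.mem_sup_left
        (mem_posUnipotent_of hF (hF.simple_lt i i.2) (hF.simple_pos i i.2) _))
    have := h.le ⟨_, hx, rfl⟩
    exact sandwich_not_mem_borel hF i (Subgroup.mem_subgroupOf.1 this)

theorem bnPair_S_eq : (bnPair hF (F := F)).S =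
    {n : ↥(D.group F) | ∃ i < D.rank,
      ((n : GL D.Idx F) : Matrix D.Idx D.Idx F) = D.nMat F (D.simple i) 1} := by
  ext n
  constructor
  · rintro ⟨i, rfl⟩
    exact ⟨i, i.2, nG_val hF _ 1⟩
  · rintro ⟨i, hi, e⟩
    exact ⟨⟨i, hi⟩, Subtype.ext (Units.ext ((nG_val hF _ 1).trans e.symm))⟩

/-- `B ∪ B n_p B` is a subgroup. -/
theorem exists_parabolic_simple {i : ℕ} (hi : i < D.rank) :
    ∃ P : Subgroup (GL D.Idx F), (P : Set (GL D.Idx F)) =
      (D.borelSubgroup F : Set (GL D.Idx F)) ∪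
        DoubleCoset.doubleCoset (nS hF i) (D.borelSubgroup F : Set (GL D.Idx F))
          (D.borelSubgroup F) := by
  obtain ⟨c, hc⟩ := nS_inv hF ⟨i, hi⟩ (F := F)
  have hcB : (torusHom c : GL D.Idx F) ∈ D.borelSubgroup F :=
    Subgroup.mem_sup_right (torusHom_mem hF c)
  refine ⟨{ carrier := (D.borelSubgroup F : Set (GL D.Idx F)) ∪
              DoubleCoset.doubleCoset (nS hF i) (D.borelSubgroup F : Set (GL D.Idx F))
                (D.borelSubgroup F)
            one_mem' := Or.inl (Subgroup.one_mem _)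
            mul_mem' := ?_
            inv_mem' := ?_ }, rfl⟩
  · rintro x y (hx | hx) (hy | hy)
    · exact Or.inl (Subgroup.mul_mem _ hx hy)
    · obtain ⟨a, ha, b, hb, rfl⟩ := DoubleCoset.mem_doubleCoset.1 hy
      exact Or.inr (DoubleCoset.mem_doubleCoset.2
        ⟨x * a, Subgroup.mul_mem _ hx ha, b, hb, by simp only [mul_assoc]⟩)
    · obtain ⟨a, ha, b, hb, rfl⟩ := DoubleCoset.mem_doubleCoset.1 hx
      exact Or.inr (DoubleCoset.mem_doubleCoset.2
        ⟨a, ha, b * y, Subgroup.mul_mem _ hb hy, by simp only [mul_assoc]⟩)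
    · obtain ⟨a, ha, b, hb, rfl⟩ := DoubleCoset.mem_doubleCoset.1 hx
      obtain ⟨a', ha', b', hb', rfl⟩ := DoubleCoset.mem_doubleCoset.1 hy
      obtain ⟨u, hu, u', hu', h | h⟩ :=
        step_mem hF hi (Subgroup.mul_mem _ hb ha') (nS_mem hF ⟨i, hi⟩)
      · left
        rw [show a * nS hF i * b * (a' * nS hF i * b') =
          a * (nS hF i * (b * a') * nS hF i) * b' by group, h]
        exact Subgroup.mul_mem _ (Subgroup.mul_mem _ ha (Subgroup.mul_mem _ (Subgroup.mul_mem _ hu
          (Subgroup.mem_sup_right (nS_mul_self hF hi))) hu')) hb'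
      · right
        rw [show a * nS hF i * b * (a' * nS hF i * b') =
          a * (nS hF i * (b * a') * nS hF i) * b' by group, h]
        exact DoubleCoset.mem_doubleCoset.2
          ⟨a * u, Subgroup.mul_mem _ ha hu, u' * b', Subgroup.mul_mem _ hu' hb',
            by simp only [mul_assoc]⟩
  · rintro x (hx | hx)
    · exact Or.inl (Subgroup.inv_mem _ hx)
    · obtain ⟨a, ha, b, hb, rfl⟩ := DoubleCoset.mem_doubleCoset.1 hx
      refine Or.inr (DoubleCoset.mem_doubleCoset.2 ⟨b⁻¹, Subgroup.inv_mem _ hb,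
        torusHom c * a⁻¹, Subgroup.mul_mem _ hcB (Subgroup.inv_mem _ ha), ?_⟩)
      rw [mul_inv_rev, mul_inv_rev, hc]
      simp only [mul_assoc]

theorem posUnipotent_eq_sup {i : ℕ} (hi : i < D.rank) :
    Subgroup.closure (otherRoots hF i (F := F)) ⊔ D.rootSubgroup F (D.simple i) =
      D.posUnipotent F := by
  refine le_antisymm (sup_le (otherRoots_le hF i) ((Subgroup.closure_le _).2 ?_)) ?_
  · rintro g ⟨t, e⟩
    rw [show g = xG hF (D.simple i) t from Units.ext e]
    exact mem_posUnipotent_of hF (hF.simple_lt i hi) (hF.simple_pos i hi) t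
  · intro g hg
    obtain ⟨y, hy, t, rfl⟩ := exists_split_simple hF hi hg
    exact Subgroup.mul_mem _ (Subgroup.mem_sup_left hy)
      (Subgroup.mem_sup_right (Subgroup.subset_closure ⟨t, rfl⟩))

theorem rootSubgroup_le_normalizer {i : ℕ} (hi : i < D.rank) :
    D.rootSubgroup F (D.simple i) ⊔ D.rootSubgroup F (D.neg (D.simple i)) ≤
      Subgroup.normalizer
        (Subgroup.closure (otherRoots hF i (F := F)) : Set (GL D.Idx F)) := by
  refine sup_le ((Subgroup.closure_le _).2 ?_) ((Subgroup.closure_le _).2 ?_)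
  · rintro g ⟨t, e⟩
    rw [show g = xG hF (D.simple i) t from Units.ext e]
    exact (simple_mem_normalizer hF hi t).1
  · rintro g ⟨t, e⟩
    rw [show g = xG hF (D.neg (D.simple i)) t from Units.ext e]
    exact (simple_mem_normalizer hF hi t).2

end Cfsg.Agent.Chev
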