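import Cfsg.Agent.Chev.BNpair
import Cfsg.Agent.BN.Basic

/-!
The factors of `U` attached to a Weyl group element, and the Bruhat normal form.
-/

set_option autoImplicit false

namespace Cfsg.Agent.Chev

open Cfsg.Lie
open scoped MatrixGroups

universe u

variable {D : ChevalleyDatum} {F : Type u} [Field F] (hF : Facts.{u} D)
include hF

/-- Root elements of a set of positive roots. -/
def uGens (P : Fin D.nroots → Prop) : Set (GL D.Idx F) :=
  {g | ∃ (r : Fin D.nroots) (t : F), half D ≤ (r : ℕ) ∧ P r ∧ g = xG hF r t}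

/-- The part of `U` made negative by `π`. -/
def uMinus (π : Equiv.Perm (Fin D.nroots)) : Subgroup (GL D.Idx F) :=
  Subgroup.closure (uGens hF fun r => (π r : ℕ) < half D)

/-- The part of `U` kept positive by `π`. -/
def uPlus (π : Equiv.Perm (Fin D.nroots)) : Subgroup (GL D.Idx F) :=
  Subgroup.closure (uGens hF fun r => half D ≤ (π r : ℕ))

theorem closure_uGens_le (P : Fin D.nroots → Prop) :
    Subgroup.closure (uGens hF P (F := F)) ≤ D.posUnipotent F := by
  refine (Subgroup.closure_le _).2 ?_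
  rintro g ⟨r, t, h1, -, rfl⟩
  exact mem_posUnipotent_of hF r.2 h1 t

theorem uMinus_le_borel (π : Equiv.Perm (Fin D.nroots)) :
    uMinus hF π (F := F) ≤ D.borelSubgroup F :=
  le_trans (closure_uGens_le hF _) le_sup_left

theorem conj_uGens_le {n : GL D.Idx F} {π : Equiv.Perm (Fin D.nroots)} (hn : IsMon hF n π)
    {P : Fin D.nroots → Prop} {M : Subgroup (GL D.Idx F)}
    (h : ∀ r : Fin D.nroots, half D ≤ (r : ℕ) → P r → ∀ t : F, xG hF (π r) t ∈ M)
    {g : GL D.Idx F} (hg : g ∈ Subgroup.closure (uGens hF P)) : n * g * n⁻¹ ∈ M := by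
  have hle : Subgroup.closure (uGens hF P (F := F)) ≤ M.comap (MulAut.conj n).toMonoidHom := by
    refine (Subgroup.closure_le _).2 ?_
    rintro x ⟨r, t, h1, h2, rfl⟩
    obtain ⟨v, hv⟩ := isMon_conj_mem hF hn r t
    show n * xG hF r t * n⁻¹ ∈ M
    rw [hv]
    exact h r h1 h2 v
  exact hle hg

theorem conj_uMinus {n : GL D.Idx F} {π : Equiv.Perm (Fin D.nroots)} (hn : IsMon hF n π)
    {g : GL D.Idx F} (hg : g ∈ uMinus hF π) : n * g * n⁻¹ ∈ D.negUnipotent F :=
  conj_uGens_le hF hn (fun r _ h t => mem_negUnipotent_of hF (π r).2 h t) hg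

theorem conj_uPlus {n : GL D.Idx F} {π : Equiv.Perm (Fin D.nroots)} (hn : IsMon hF n π)
    {g : GL D.Idx F} (hg : g ∈ uPlus hF π) : n * g * n⁻¹ ∈ D.posUnipotent F :=
  conj_uGens_le hF hn (fun r _ h t => mem_posUnipotent_of hF (π r).2 h t) hg

theorem exists_plus_mul_minus (π : Equiv.Perm (Fin D.nroots)) : ∀ (d k : ℕ),
    D.nroots - k = d → half D ≤ k → ∀ g ∈ Subgroup.closure (rootsFrom hF k (F := F)),
      ∃ a b, a ∈ uPlus hF π ∧ a ∈ Subgroup.closure (rootsFrom hF k) ∧ b ∈ uMinus hF π ∧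
        b ∈ Subgroup.closure (rootsFrom hF k) ∧ g = a * b := by
  intro d
  induction d with
  | zero =>
    intro k hd _ g hg
    obtain ⟨t, rfl⟩ := exists_prodFrom hF _ k rfl (by assumption) g hg
    rw [prodFrom_top hF (by omega)]
    exact ⟨1, 1, Subgroup.one_mem _, Subgroup.one_mem _, Subgroup.one_mem _, Subgroup.one_mem _,
      by rw [one_mul]⟩
  | succ d ih =>
    intro k hd hk g hg
    have hkn : k < D.nroots := by omega
    obtain ⟨t, rfl⟩ := exists_prodFrom hF _ k rfl hk g hg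
    rw [prodFrom_succ hF hkn]
    obtain ⟨a, b, ha, ha', hb, hb', e⟩ := ih (k + 1) (by omega) (by omega) _ (prodFrom_mem hF _ t)
    rw [e]
    have hsub : rootsFrom hF (k + 1) (F := F) ⊆ rootsFrom hF k := by
      rintro x ⟨r, v, h1, h2, rfl⟩
      exact ⟨r, v, by omega, h2, rfl⟩
    have hmono : Subgroup.closure (rootsFrom hF (k + 1) (F := F)) ≤
        Subgroup.closure (rootsFrom hF k) := Subgroup.closure_mono hsub
    have hxk : xG hF k (t k) ∈ Subgroup.closure (rootsFrom hF k (F := F)) :=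
      Subgroup.subset_closure ⟨k, _, le_rfl, hkn, rfl⟩
    set x := xG hF k (t k) with hx
    by_cases hpk : half D ≤ (π ⟨k, hkn⟩ : ℕ)
    · exact ⟨x * a, b,
        Subgroup.mul_mem _ (Subgroup.subset_closure ⟨⟨k, hkn⟩, t k, hk, hpk, rfl⟩) ha,
        Subgroup.mul_mem _ hxk (hmono ha'), hb, hmono hb', by rw [mul_assoc]⟩
    · have hc : a⁻¹ * (x * a * x⁻¹) ∈ Subgroup.closure (rootsFrom hF (k + 1)) :=
        Subgroup.mul_mem _ (Subgroup.inv_mem _ ha')
          ((Subgroup.mem_normalizer_iff.1 (xG_mem_normalizer hF hk hkn (t k)) a).1 ha')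
      obtain ⟨a₂, b₂, ha₂, ha₂', hb₂, hb₂', e₂⟩ :=
        ih (k + 1) (by omega) (by omega) _ (Subgroup.mul_mem _ ha' hc)
      refine ⟨a₂, b₂ * x * b, ha₂, hmono ha₂',
        Subgroup.mul_mem _ (Subgroup.mul_mem _ hb₂
          (Subgroup.subset_closure ⟨⟨k, hkn⟩, t k, hk, not_le.1 hpk, rfl⟩)) hb,
        Subgroup.mul_mem _ (Subgroup.mul_mem _ (hmono hb₂') hxk) (hmono hb'), ?_⟩
      rw [show x * (a * b) = a * (a⁻¹ * (x * a * x⁻¹)) * x * b by group, e₂]
      simp only [mul_assoc]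

theorem posUnipotent_split (π : Equiv.Perm (Fin D.nroots)) {g : GL D.Idx F}
    (hg : g ∈ D.posUnipotent F) : ∃ a ∈ uPlus hF π, ∃ b ∈ uMinus hF π, g = a * b := by
  rw [posUnipotent_eq hF] at hg
  obtain ⟨a, b, ha, -, hb, -, e⟩ := exists_plus_mul_minus hF π _ _ rfl le_rfl g hg
  exact ⟨a, ha, b, hb, e⟩

/-- Injection of parameter families into the closure of a set of root elements. -/
noncomputable def uEmbed (P : Fin D.nroots → Prop) :
    ({r : Fin D.nroots // half D ≤ (r : ℕ) ∧ P r} → F) →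
      ↥(Subgroup.closure (uGens hF P (F := F))) := fun t => by
  classical
  exact ⟨prodFrom hF (half D) (fun k =>
      if h : ∃ hk : k < D.nroots, half D ≤ k ∧ P ⟨k, hk⟩ then t ⟨⟨k, h.1⟩, h.2⟩ else 0),
    wordG_mem hF fun p hp => by
      obtain ⟨r, hr, rfl⟩ := List.mem_map.1 hp
      rw [List.mem_range'_1] at hr
      by_cases h : ∃ hk : r < D.nroots, half D ≤ r ∧ P ⟨r, hk⟩
      · exact Subgroup.subset_closure ⟨⟨r, h.1⟩, _, h.2.1, h.2.2, rfl⟩
      · simp only [dif_neg h, xG_zero]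
        exact Subgroup.one_mem _⟩

theorem uEmbed_injective (P : Fin D.nroots → Prop) :
    Function.Injective (uEmbed hF P (F := F)) := by
  classical
  intro t t' e
  funext ⟨r, hr⟩
  have := prodFrom_inj hF _ _ rfl le_rfl (congrArg Subtype.val e) r hr.1 r.2
  rwa [dif_pos ⟨r.2, hr⟩, dif_pos ⟨r.2, hr⟩] at this

theorem uPlus_inf_uMinus {n : GL D.Idx F} {π : Equiv.Perm (Fin D.nroots)} (hn : IsMon hF n π)
    {g : GL D.Idx F} (h1 : g ∈ uPlus hF π) (h2 : g ∈ uMinus hF π) : g = 1 := by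
  have := borel_inf_upper hF (Subgroup.mem_sup_left (conj_uPlus hF hn h1))
    (negUnipotent_le_upperGroup hF (conj_uMinus hF hn h2))
  simpa using this

/-- The number of positive roots made negative. -/
noncomputable def invCard (π : Equiv.Perm (Fin D.nroots)) : ℕ :=
  Nat.card {r : Fin D.nroots // half D ≤ (r : ℕ) ∧ (π r : ℕ) < half D}

theorem card_uMinus [Fintype F] {n : GL D.Idx F} {π : Equiv.Perm (Fin D.nroots)}
    (hn : IsMon hF n π) : Nat.card ↥(uMinus hF π (F := F)) = Fintype.card F ^ invCard π := by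
  classical
  have hfinU : Finite ↥(D.posUnipotent F) := Finite.of_equiv _ (posUnipotentEquiv hF)
  haveI hfp : Finite ↥(uPlus hF π (F := F)) :=
    Finite.of_injective _ (Subgroup.inclusion_injective (closure_uGens_le hF _))
  haveI hfm : Finite ↥(uMinus hF π (F := F)) :=
    Finite.of_injective _ (Subgroup.inclusion_injective (closure_uGens_le hF _))
  let f : ↥(uPlus hF π (F := F)) × ↥(uMinus hF π (F := F)) → ↥(D.posUnipotent F) := fun p =>
    ⟨p.1 * p.2, Subgroup.mul_mem _ (closure_uGens_le hF _ p.1.2) (closure_uGens_le hF _ p.2.2)⟩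
  have hf : Function.Bijective f := by
    constructor
    · rintro ⟨⟨a, ha⟩, b, hb⟩ ⟨⟨a', ha'⟩, b', hb'⟩ e
      have e' : a * b = a' * b' := congrArg Subtype.val e
      have h1 : a'⁻¹ * a = b' * b⁻¹ := by
        rw [eq_mul_inv_iff_mul_eq, mul_assoc, e', inv_mul_cancel_left]
      have h2 := uPlus_inf_uMinus hF hn (Subgroup.mul_mem _ (Subgroup.inv_mem _ ha') ha)
        (h1 ▸ Subgroup.mul_mem _ hb' (Subgroup.inv_mem _ hb))
      rw [inv_mul_eq_one] at h2
      subst h2
      simp only [mul_right_inj] at e'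
      subst e'
      rfl
    · intro g
      obtain ⟨a, ha, b, hb, e⟩ := posUnipotent_split hF π g.2
      exact ⟨(⟨a, ha⟩, ⟨b, hb⟩), Subtype.ext e.symm⟩
  have hprod := Nat.card_congr (Equiv.ofBijective f hf)
  rw [Nat.card_prod, ← Nat.card_congr (posUnipotentEquiv hF (F := F))] at hprod
  rw [Nat.card_fun, Nat.card_fin, Nat.card_eq_fintype_card (α := F)] at hprod
  have hp := Nat.card_le_card_of_injective _
    (uEmbed_injective hF (fun r => half D ≤ (π r : ℕ)) (F := F))
  have hm := Nat.card_le_card_of_injective _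
    (uEmbed_injective hF (fun r => (π r : ℕ) < half D) (F := F))
  rw [Nat.card_fun, Nat.card_eq_fintype_card (α := F)] at hp hm
  have hsum : Nat.card {r : Fin D.nroots // half D ≤ (r : ℕ) ∧ half D ≤ (π r : ℕ)} + invCard π =
      half D := by
    rw [invCard, Nat.card_eq_fintype_card, Nat.card_eq_fintype_card, Fintype.card_subtype,
      Fintype.card_subtype]
    rw [← Finset.card_union_of_disjoint, ← Finset.filter_or]
    · have : (Finset.univ.filter fun r : Fin D.nroots =>
          half D ≤ (r : ℕ) ∧ half D ≤ (π r : ℕ) ∨ half D ≤ (r : ℕ) ∧ (π r : ℕ) < half D) =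
          (Finset.univ.filter fun r : Fin D.nroots => half D ≤ (r : ℕ)) := by
        ext r
        simp only [Finset.mem_filter, Finset.mem_univ, true_and]
        constructor
        · rintro (h | h) <;> exact h.1
        · intro h; by_cases h' : half D ≤ (π r : ℕ)
          · exact Or.inl ⟨h, h'⟩
          · exact Or.inr ⟨h, not_le.1 h'⟩
      rw [this]
      have hev := hF.nroots_even
      have e : (Finset.univ.filter fun r : Fin D.nroots => half D ≤ (r : ℕ)).map Fin.valEmbedding =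
          Finset.Ico (half D) D.nroots := by
        ext k
        simp only [Finset.mem_map, Finset.mem_filter, Finset.mem_univ, true_and,
          Fin.valEmbedding_apply, Finset.mem_Ico]
        exact ⟨fun ⟨r, hr, hk⟩ => hk ▸ ⟨hr, r.2⟩, fun hk => ⟨⟨k, hk.2⟩, hk.1, rfl⟩⟩
      have := congrArg Finset.card e
      rw [Finset.card_map, Nat.card_Ico] at this
      omega
    · rw [Finset.disjoint_filter]
      intro r _ h1 h2
      omega
  set q := Fintype.card F with hq
  set a := Nat.card ↥(uPlus hF π (F := F)) with ha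
  set b := Nat.card ↥(uMinus hF π (F := F)) with hb
  have hp' : q ^ Nat.card {r : Fin D.nroots // half D ≤ (r : ℕ) ∧ half D ≤ (π r : ℕ)} ≤ a := hp
  have hm' : q ^ invCard π ≤ b := hm
  refine le_antisymm ?_ hm'
  have hq0 : 0 < q := Fintype.card_pos
  refine Nat.le_of_mul_le_mul_left (c := q ^ (half D - invCard π)) ?_ (pow_pos hq0 _)
  rw [← pow_add, show half D - invCard π + invCard π = half D by omega]
  calc q ^ (half D - invCard π) * b ≤ a * b :=
        Nat.mul_le_mul_right _ (by rwa [show half D - invCard π =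
          Nat.card {r : Fin D.nroots // half D ≤ (r : ℕ) ∧ half D ≤ (π r : ℕ)} by omega])
    _ = q ^ half D := by rw [hprod]

/-- Existence of the Bruhat normal form. -/
theorem exists_normalForm {g : GL D.Idx F} (hg : g ∈ D.group F) :
    ∃ b ∈ D.borelSubgroup F, ∃ w : List (Fin D.rank), ∃ x ∈ uMinus hF (pWord hF w),
      g = b * nWord hF w * x := by
  obtain ⟨n, hn, hd⟩ := BN.exists_mem_dc (P := bnPair hF (F := F)) ⟨g, hg⟩
  obtain ⟨a, ha, a', ha', e⟩ := BN.mem_dc.1 hd
  have hn' : (n : GL D.Idx F) ∈ D.monomialSubgroup F := Subgroup.mem_subgroupOf.1 hn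
  obtain ⟨w, c, hwc⟩ := (mem_monomial_iff hF).1 hn'
  have hA : (a : GL D.Idx F) ∈ D.borelSubgroup F := Subgroup.mem_subgroupOf.1 ha
  have hA' : (torusHom c * (a' : GL D.Idx F)) ∈ D.borelSubgroup F :=
    Subgroup.mul_mem _ (Subgroup.mem_sup_right (torusHom_mem hF c)) (Subgroup.mem_subgroupOf.1 ha')
  obtain ⟨v, hv, d, hvd⟩ := (mem_borel_iff hF).1 hA'
  obtain ⟨p, hp, m, hm, rfl⟩ := posUnipotent_split hF (pWord hF w) hv
  obtain ⟨d', hd'⟩ := nWord_torus hF w d (F := F)
  have hp' : nWord hF w * p * (nWord hF w)⁻¹ ∈ D.posUnipotent F :=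
    conj_uPlus hF (isMon_nWord hF w) hp
  have hm' : (torusHom d)⁻¹ * m * torusHom d ∈ uMinus hF (pWord hF w) (F := F) := by
    have hle : uMinus hF (pWord hF w) (F := F) ≤ (uMinus hF (pWord hF w)).comap
        (MulAut.conj ((torusHom d : GL D.Idx F)⁻¹)).toMonoidHom := by
      refine (Subgroup.closure_le _).2 ?_
      rintro x ⟨r, t, h1, h2, rfl⟩
      show (torusHom d)⁻¹ * xG hF r t * ((torusHom d : GL D.Idx F)⁻¹)⁻¹ ∈ uMinus hF (pWord hF w)
      rw [← map_inv, torusHom_conj hF d⁻¹ r.2, mul_inv_cancel_right]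
      exact Subgroup.subset_closure ⟨r, _, h1, h2, rfl⟩
    simpa using hle hm
  refine ⟨(a : GL D.Idx F) * (nWord hF w * p * (nWord hF w)⁻¹) * torusHom d',
    Subgroup.mul_mem _ (Subgroup.mul_mem _ hA (Subgroup.mem_sup_left hp'))
      (Subgroup.mem_sup_right (torusHom_mem hF d')), w, _, hm', ?_⟩
  have hg' : g = (a : GL D.Idx F) * (n : GL D.Idx F) * (a' : GL D.Idx F) :=
    congrArg Subtype.val e
  rw [hg', hwc]
  calc (a : GL D.Idx F) * (nWord hF w * torusHom c) * (a' : GL D.Idx F)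
      = (a : GL D.Idx F) * nWord hF w * (torusHom c * (a' : GL D.Idx F)) := by group
    _ = (a : GL D.Idx F) * nWord hF w * (p * m * torusHom d) := by rw [hvd]
    _ = (a : GL D.Idx F) * (nWord hF w * p * (nWord hF w)⁻¹) * (nWord hF w * torusHom d) *
          ((torusHom d)⁻¹ * m * torusHom d) := by group
    _ = _ := by rw [hd']; group

/-- Uniqueness of the Bruhat normal form. -/
theorem normalForm_unique {b b' n n' x x' : GL D.Idx F} (hb : b ∈ D.borelSubgroup F)
    (hb' : b' ∈ D.borelSubgroup F) (hn : n ∈ D.monomialSubgroup F)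
    (hn' : n' ∈ D.monomialSubgroup F) (hx : x ∈ uMinus hF (monPerm hF n))
    (hx' : x' ∈ uMinus hF (monPerm hF n')) (e : b * n * x = b' * n' * x') :
    n⁻¹ * n' ∈ D.diagonalSubgroup F ∧ (n = n' → b = b' ∧ x = x') := by
  have hxB := uMinus_le_borel hF _ hx
  have hx'B := uMinus_le_borel hF _ hx'
  constructor
  · let inj : ∀ {y : GL D.Idx F}, y ∈ D.monomialSubgroup F → ↥(D.group F) :=
      fun {y} hy => ⟨y, monomial_le_group hF hy⟩
    let binj : ∀ {y : GL D.Idx F}, y ∈ D.borelSubgroup F → ↥(D.group F) :=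
      fun {y} hy => ⟨y, borel_le_group hF hy⟩
    have hd : inj hn' ∈ BN.dc (bnPair hF (F := F)) (inj hn) := by
      refine BN.mem_dc.2 ⟨binj (Subgroup.mul_mem _ (Subgroup.inv_mem _ hb') hb),
        Subgroup.mem_subgroupOf.2 (Subgroup.mul_mem _ (Subgroup.inv_mem _ hb') hb),
        binj (Subgroup.mul_mem _ hxB (Subgroup.inv_mem _ hx'B)),
        Subgroup.mem_subgroupOf.2 (Subgroup.mul_mem _ hxB (Subgroup.inv_mem _ hx'B)),
        Subtype.ext ?_⟩
      show n' = b'⁻¹ * b * n * (x * x'⁻¹)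
      rw [show b'⁻¹ * b * n * (x * x'⁻¹) = b'⁻¹ * (b * n * x) * x'⁻¹ by group, e]
      group
    have h := BN.eqv_of_mem_dc (P := bnPair hF (F := F)) (Subgroup.mem_subgroupOf.2 hn)
      (Subgroup.mem_subgroupOf.2 hn') hd
    exact (borel_inf_monomial hF (F := F)).le
      ⟨Subgroup.mem_subgroupOf.1 h, Subgroup.mul_mem _ (Subgroup.inv_mem _ hn) hn'⟩
  · rintro rfl
    have hV : n * (x' * x⁻¹) * n⁻¹ ∈ D.negUnipotent F :=
      conj_uMinus hF (isMon_monPerm hF hn)
        (Subgroup.mul_mem _ hx' (Subgroup.inv_mem _ hx))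
    have hB : n * (x' * x⁻¹) * n⁻¹ ∈ D.borelSubgroup F := by
      have : n * (x' * x⁻¹) * n⁻¹ = b'⁻¹ * b := by
        rw [show b'⁻¹ * b = b'⁻¹ * (b * n * x) * x⁻¹ * n⁻¹ by group, e]
        group
      rw [this]
      exact Subgroup.mul_mem _ (Subgroup.inv_mem _ hb') hb
    have h1 := borel_inf_upper hF hB (negUnipotent_le_upperGroup hF hV)
    have hxx : x' = x := by
      exact eq_of_mul_inv_eq_one (conj_eq_one_iff.1 h1)
    subst hxx
    exact ⟨mul_right_cancel (mul_right_cancel e), rfl⟩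

theorem setOf_conj_le {n : GL D.Idx F} (hn : n ∈ D.monomialSubgroup F) :
    {x : GL D.Idx F | ∃ (r : ℕ) (t : F), D.IsPosRoot r ∧
        (D.rootSubgroup F r).map (MulAut.conj n).toMonoidHom ≤ D.negUnipotent F ∧
        (x : Matrix D.Idx D.Idx F) = D.x F r t} =
      uGens hF fun r => (monPerm hF n r : ℕ) < half D := by
  have hmon := isMon_monPerm hF hn
  ext g
  constructor
  · rintro ⟨r, t, hr, hle, e⟩
    refine ⟨⟨r, hr.1⟩, t, (hF.posRoot_iff r hr.1).1 hr, ?_, Units.ext e⟩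
    by_contra hneg
    obtain ⟨c, hc, hconj⟩ := hmon ⟨r, hr.1⟩
    have h1 := hle (Subgroup.mem_map_of_mem _
      (Subgroup.subset_closure (⟨(1 : F), rfl⟩ : ∃ t : F,
        ((xG hF r (1 : F) : GL D.Idx F) : Matrix D.Idx D.Idx F) = D.x F r t)))
    have h2 : n * xG hF r (1 : F) * n⁻¹ = xG hF (monPerm hF n ⟨r, hr.1⟩) (c * 1) :=
      mul_inv_eq_iff_eq_mul.2 (hconj 1)
    rw [show (MulAut.conj n).toMonoidHom (xG hF r (1 : F)) = n * xG hF r (1 : F) * n⁻¹ from rfl,
      h2, mul_one] at h1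
    have h3 := borel_inf_upper hF (Subgroup.mem_sup_left
      (mem_posUnipotent_of hF (monPerm hF n ⟨r, hr.1⟩).2 (not_lt.1 hneg) c))
      (negUnipotent_le_upperGroup hF h1)
    exact hc ((xG_eq_one_iff hF (monPerm hF n ⟨r, hr.1⟩).2).1 h3)
  · rintro ⟨r, t, h1, h2, rfl⟩
    refine ⟨r, t, (hF.posRoot_iff r r.2).2 h1, ?_, rfl⟩
    rw [ChevalleyDatum.rootSubgroup, MonoidHom.map_closure, Subgroup.closure_le]
    rintro x ⟨y, ⟨v, e⟩, rfl⟩
    obtain ⟨v', hv'⟩ := isMon_conj_mem hF hmon r v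
    show n * y * n⁻¹ ∈ D.negUnipotent F
    rw [show y = xG hF r v from Units.ext e, hv']
    exact mem_negUnipotent_of hF (monPerm hF n r).2 h2 v'

end Cfsg.Agent.Chev
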