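import Cfsg.Prelude.Def_ChevStructure

/-!
The facts about a tabulated Chevalley datum from which the structure theory is derived.
Each of the seven data satisfies them (see `Cfsg.Agent.Chev.All`).
-/

set_option autoImplicit false

namespace Cfsg.Agent.Chev

open Cfsg.Lie

universe u

variable (D : ChevalleyDatum)

/-- The number of positive roots; the positive roots are those of index at least this. -/
def half : ℕ := D.nroots / 2

/-- Coefficient `j` of the coroot of `r` on the fundamental coroots. -/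
def coef (r j : ℕ) : ℤ := (D.coroot.getD r #[]).getD j 0

/-- Position of a coordinate in the order negative roots, coroots, positive roots. -/
def pos : D.Idx → ℕ
  | .inl j => half D + j
  | .inr s => if (s : ℕ) < half D then (s : ℕ) else D.rank + s

/-- The signed monomial matrix which is the shape of `n_p(a)`, `b` standing for `a⁻¹`. -/
def nShape {F : Type u} [Field F] (i : ℕ) (η : ℕ → ℤ) (a b : F) : Matrix D.Idx D.Idx F :=
  Matrix.of fun (row col : D.Idx) =>
    Sum.elim
      (fun j' : Fin D.rank => Sum.elim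
        (fun j : Fin D.rank => (if j' = j then (1 : F) else 0) -
          (if (j' : ℕ) = i then ((D.cartan j (D.simple i) : ℤ) : F) else 0))
        (fun _ => (0 : F)) col)
      (fun s' : Fin D.nroots => Sum.elim
        (fun _ => (0 : F))
        (fun s : Fin D.nroots => if (s' : ℕ) = D.reflectRoot i s then
          ((η s : ℤ) : F) * (a ^ (-D.cartan i s).toNat * b ^ (D.cartan i s).toNat) else 0) col)
      row

/-- The character of the torus element with simple parameters `c`, evaluated at the root `s`. -/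
def chi {F : Type u} [Field F] (c : ℕ → F) (s : ℕ) : F :=
  ∏ j : Fin D.rank, c j ^ D.cartan j s

/-- The torus element with simple parameters `c`. -/
def torus {F : Type u} [Field F] (c : ℕ → F) : Matrix D.Idx D.Idx F :=
  Matrix.diagonal (Sum.elim (fun _ => (1 : F)) (fun s : Fin D.nroots => chi D c s))

/-- Facts about roots and about root elements of a datum, valid for the seven tabulated types. -/
structure Facts : Prop where
  rank_pos : 0 < D.rank
  nroots_even : D.nroots = 2 * half D
  neg_eq : ∀ r < D.nroots, D.neg r = D.nroots - 1 - r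
  posRoot_iff : ∀ r < D.nroots, (D.IsPosRoot r ↔ half D ≤ r)
  negRoot_iff : ∀ r < D.nroots, (D.IsNegRoot r ↔ r < half D)
  simple_lt : ∀ i < D.rank, D.simple i < D.nroots
  simple_pos : ∀ i < D.rank, half D ≤ D.simple i
  coef_simple : ∀ i < D.rank, ∀ j < D.rank, coef D (D.simple i) j = if j = i then 1 else 0
  coef_neg : ∀ r < D.nroots, ∀ j < D.rank, coef D (D.neg r) j = -coef D r j
  coef_unit : ∀ {F : Type u} [Field F] {r : ℕ}, r < D.nroots →
    ∃ j < D.rank, ((coef D r j : ℤ) : F) ≠ 0
  cartan_self : ∀ i < D.rank, D.cartan i (D.simple i) = 2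
  cartan_neg : ∀ r < D.nroots, ∀ i < D.rank, D.cartan i (D.neg r) = -D.cartan i r
  refl_lt : ∀ i < D.rank, ∀ s < D.nroots, D.reflectRoot i s < D.nroots
  refl_refl : ∀ i < D.rank, ∀ s < D.nroots, D.reflectRoot i (D.reflectRoot i s) = s
  refl_neg : ∀ i < D.rank, ∀ s < D.nroots,
    D.reflectRoot i (D.neg s) = D.neg (D.reflectRoot i s)
  refl_simple : ∀ i < D.rank, D.reflectRoot i (D.simple i) = D.neg (D.simple i)
  refl_pos : ∀ i < D.rank, ∀ s < D.nroots, half D ≤ s → s ≠ D.simple i →
    half D ≤ D.reflectRoot i s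
  cartan_refl : ∀ i < D.rank, ∀ s < D.nroots, ∀ j < D.rank,
    D.cartan j (D.reflectRoot i s) = D.cartan j s - D.cartan i s * D.cartan j (D.simple i)
  coef_refl : ∀ i < D.rank, ∀ s < D.nroots, ∀ j < D.rank,
    coef D (D.reflectRoot i s) j = coef D s j -
      (if j = i then ∑ k : Fin D.rank, coef D s k * D.cartan k (D.simple i) else 0)
  root_induction : ∀ (P : ℕ → Prop), (∀ i < D.rank, P (D.simple i)) →
    (∀ i < D.rank, ∀ r < D.nroots, P r → P (D.reflectRoot i r)) → ∀ r < D.nroots, P r
  longest : ∃ l : List ℕ, (∀ i ∈ l, i < D.rank) ∧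
    ∀ r < D.nroots, half D ≤ r → l.foldr (fun i s => D.reflectRoot i s) r < half D
  n_simple : ∀ i < D.rank, ∃ η : ℕ → ℤ,
    (∀ s < D.nroots, η s = 1 ∨ η s = -1) ∧ η (D.simple i) = -1 ∧
    (∀ s < D.nroots, η s * η (D.reflectRoot i s) = (-1) ^ (D.cartan i s).natAbs) ∧
    (∀ s < D.nroots, η (D.neg s) = η s) ∧
    (∀ (F : Type u) [Field F] (t : F), t ≠ 0 →
      D.nMat F (D.simple i) t = nShape D i η t t⁻¹) ∧
    (∀ (F : Type u) [Field F] (s : ℕ), s < D.nroots → ∀ t : F,
      nShape D i η (1 : F) 1 * D.x F s t =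
        D.x F (D.reflectRoot i s) ((η s : F) * t) * nShape D i η (1 : F) 1)
  x_add : ∀ (F : Type u) [Field F] (r : ℕ), r < D.nroots → ∀ t₁ t₂ : F,
    D.x F r t₁ * D.x F r t₂ = D.x F r (t₁ + t₂)
  x_comm : ∀ (F : Type u) [Field F] (r s : ℕ), r < D.nroots → s < D.nroots → s ≠ r →
    s ≠ D.neg r → ∀ t v : F,
      D.x F s v * D.x F r t = D.x F r t * D.x F s v * D.wordMat F (D.commWord F r s t v)
  torus_x : ∀ (F : Type u) [Field F] (c : ℕ → F), (∀ j < D.rank, c j ≠ 0) →
    ∀ r < D.nroots, ∀ t : F,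
      torus D c * D.x F r t = D.x F r (chi D c r * t) * torus D c
  x_lower : ∀ (F : Type u) [Field F] (r : ℕ), r < D.nroots → half D ≤ r → ∀ (t : F)
    (a b : D.Idx), pos D a ≤ pos D b → D.x F r t a b = if a = b then 1 else 0
  x_upper : ∀ (F : Type u) [Field F] (r : ℕ), r < D.nroots → r < half D → ∀ (t : F)
    (a b : D.Idx), pos D b ≤ pos D a → D.x F r t a b = if a = b then 1 else 0
  comm_lt : ∀ r s : ℕ, r < D.nroots → s < D.nroots → ∀ c ∈ D.commTerms r s, c.1 < D.nroots
  comm_pos : ∀ r s : ℕ, r < D.nroots → s < D.nroots → half D ≤ r → half D ≤ s →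
    ∀ c ∈ D.commTerms r s, r < c.1 ∧ s < c.1
  comm_neg_simple : ∀ i < D.rank, ∀ s < D.nroots, half D ≤ s → s ≠ D.simple i →
    ∀ c ∈ D.commTerms (D.neg (D.simple i)) s, half D ≤ c.1 ∧ c.1 ≠ D.simple i

end Cfsg.Agent.Chev
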