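import Cfsg.Agent.Chev.Apply
import Cfsg.Agent.Chev.Facts

/-!
Certificates: packed tables and the Boolean checks made on them by the kernel.
-/

set_option autoImplicit false

namespace Cfsg.Agent.Chev

open Cfsg.Lie

/-- Certificate of a datum. All tables are tries of packed natural numbers. -/
structure Cert where
  T : Tab
  /-- `s` ↦ `A(j, s) + 8` in bits `8 j ..` -/
  car : Tr
  /-- `r` ↦ `c_j(r) + 16` in bits `8 j ..` -/
  cor : Tr
  /-- `i` ↦ `2 w_i(s) + [η_i(s) = -1]` in bits `16 s ..` -/
  refl : Tr
  /-- `r` ↦ `256 * depth + (0 or i + 1)` towards the representative of the orbit of `r` -/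
  step : Tr
  /-- the same for pairs whose first root is a representative `r` -/
  pairStep : List (ℕ × Tr)
  /-- a reduced word of the longest element -/
  longest : List ℕ

variable (D : ChevalleyDatum) (C : Cert)

/-- Cartan integer from the table. -/
noncomputable def Cert.cA (i s : ℕ) : ℤ :=
  Int.subNatNat (Nat.mod (Nat.shiftRight (C.car.get s) (Nat.mul 8 i)) 256) 8

/-- Coroot coefficient from the table. -/
noncomputable def Cert.cR (r j : ℕ) : ℤ :=
  Int.subNatNat (Nat.mod (Nat.shiftRight (C.cor.get r) (Nat.mul 8 j)) 256) 16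

/-- Packed reflection entry. -/
noncomputable def Cert.cV (i s : ℕ) : ℕ :=
  Nat.mod (Nat.shiftRight (C.refl.get i) (Nat.mul 16 s)) 65536

/-- Reflected root from the table. -/
noncomputable def Cert.cW (i s : ℕ) : ℕ := Nat.div (C.cV i s) 2

/-- Sign bit from the table. -/
noncomputable def Cert.cB (i s : ℕ) : ℕ := Nat.mod (C.cV i s) 2

/-- The sign of a bit. -/
def bitSign (b : ℕ) : ℤ := cond (Nat.beq b 0) 1 (-1)

/-- Sign from the table. -/
noncomputable def Cert.cEta (i s : ℕ) : ℤ := bitSign (C.cB i s)

/-- The negative of a root. -/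
noncomputable def negN (r : ℕ) : ℕ := Nat.sub (Nat.sub D.nroots 1) r

/-- Step data of the pair `(r, s)`. -/
noncomputable def Cert.pStep (r s : ℕ) : ℕ :=
  List.rec (motive := fun _ => ℕ) 0 (fun e _ ih => cond (Nat.beq e.1 r) (e.2.get s) ih) C.pairStep

/-- Chain entry from the packed table. -/
noncomputable def Cert.cE (r s : ℕ) : List (ℕ × ℤ) :=
  cond (and (and (Nat.blt r D.nroots) (Nat.blt s D.nroots))
      (and (not (Nat.beq s r)) (not (Nat.beq s (negN D r)))))
    (decRaw C.T.K (C.T.slot r (Nat.add D.rank s))) []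

/-- Root of the chain from the packed table. -/
noncomputable def Cert.cRoot (r s i : ℕ) : Option ℕ := ((C.cE D r s)[i - 1]?).map Prod.fst

/-- Coefficient of the chain from the packed table. -/
noncomputable def Cert.cM (r s i : ℕ) : ℤ := (((C.cE D r s)[i - 1]?).map Prod.snd).getD 0

/-- Commutator terms from the packed table, for any lengths of chains. -/
noncomputable def Cert.cTermsGen (r s : ℕ) : List (ℕ × ℤ × ℕ × ℕ) :=
  let rs := C.cRoot D r s 1
  let cands : List (Option ℕ × ℤ × ℕ × ℕ) :=
    [ (C.cRoot D r s 1, C.cM D r s 1, 1, 1),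
      (C.cRoot D r s 2, C.cM D r s 2, 2, 1),
      (C.cRoot D s r 2, C.cM D s r 2, 1, 2),
      (C.cRoot D r s 3, C.cM D r s 3, 3, 1),
      (C.cRoot D s r 3, - C.cM D s r 3, 1, 3),
      ((C.cRoot D r s 3).bind fun k => C.cRoot D k s 1,
        (rs.map fun k => C.cM D k r 2 / 3).getD 0, 3, 2),
      ((C.cRoot D s r 3).bind fun k => C.cRoot D k r 1,
        (rs.map fun k => -2 * C.cM D k s 2 / 3).getD 0, 2, 3) ]
  cands.filterMap fun c => c.1.map fun k => (k, c.2)

/-- Commutator terms from the packed table, with a short path for chains of length at most 1. -/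
noncomputable def Cert.cTerms (r s : ℕ) : List (ℕ × ℤ × ℕ × ℕ) :=
  List.rec (motive := fun _ => List (ℕ × ℤ × ℕ × ℕ))
    (cond (C.cE D s r).isEmpty [] (C.cTermsGen D r s))
    (fun a L _ => cond (and L.isEmpty (Nat.beq (C.cE D s r).length 1)) [(a.1, a.2, 1, 1)]
      (C.cTermsGen D r s))
    (C.cE D r s)

/-- No multiple `i r + j s` is a root. -/
noncomputable def Cert.noTerms (r s : ℕ) : Bool :=
  and (Nat.beq (C.T.slot r (Nat.add D.rank s)) 0) (Nat.beq (C.T.slot s (Nat.add D.rank r)) 0)

/-- Checks on one root. -/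
noncomputable def chkRoot (s : ℕ) : Bool :=
  (decide (D.IsPosRoot s) == Nat.ble (half D) s) &&
  (decide (D.IsNegRoot s) == Nat.blt s (half D)) &&
  (allBelow (fun j =>
    and (and (zbeq (D.cartan j s) (C.cA j s)) (zbeq (coef D s j) (C.cR s j)))
      (and (zbeq (C.cA j (negN D s)) (Int.neg (C.cA j s)))
      (and (zbeq (C.cR (negN D s) j) (Int.neg (C.cR s j)))
        (Nat.blt (Nat.mod (Nat.shiftRight (C.car.get s) (Nat.mul 8 j)) 256) 16)))) D.rank) &&
  (Nat.beq ((List.range D.rank).foldl (fun g j => Nat.gcd (C.cR s j).natAbs g) 0) 1)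

/-- Checks on one fundamental root. -/
noncomputable def chkSimple (i : ℕ) : Bool :=
  Nat.blt (D.simple i) D.nroots && Nat.ble (half D) (D.simple i) &&
  zbeq (C.cA i (D.simple i)) 2 && Nat.beq (C.cW i (D.simple i)) (negN D (D.simple i)) &&
  Nat.beq (C.cB i (D.simple i)) 1 &&
  (allBelow (fun j => zbeq (C.cR (D.simple i) j) (cond (Nat.beq j i) 1 0)) D.rank)

/-- Checks on the reflection `w_i` at the root `s`, `p` being the fundamental root. -/
noncomputable def chkRefl (i p s : ℕ) : Bool :=
  force (C.cW i s) fun ws =>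
    Nat.beq (D.reflectRoot i s) ws && Nat.blt ws D.nroots && Nat.beq (C.cW i ws) s &&
    Nat.beq (C.cW i (negN D s)) (negN D ws) &&
    Nat.beq (C.cB i (negN D s)) (C.cB i s) &&
    Nat.beq (Nat.mod (Nat.add (C.cB i s) (C.cB i ws)) 2) (Nat.mod (C.cA i s).natAbs 2) &&
    cond (and (Nat.ble (half D) s) (not (Nat.beq s p))) (Nat.ble (half D) ws) true &&
    (allBelow (fun j =>
      and (zbeq (C.cA j ws) (Int.sub (C.cA j s) (Int.mul (C.cA i s) (C.cA j p))))
        (zbeq (C.cR ws j) (Int.sub (C.cR s j) (cond (Nat.beq j i)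
          (((List.range D.rank).map fun k => Int.mul (C.cR s k) (C.cA k p)).sum) 0)))) D.rank)

/-- All elementary checks on roots, except those on reflections. -/
noncomputable def chkBase : Bool :=
  Nat.blt 0 D.rank && Nat.beq D.nroots (2 * half D) && Nat.ble D.chain.size D.nroots &&
  allBelow (chkRoot D C) D.nroots && allBelow (chkSimple D C) D.rank

/-- All checks on one fundamental reflection. -/
noncomputable def chkReflAll (i : ℕ) : Bool :=
  force (D.simple i) fun p => allBelow (chkRefl D C i p) D.nroots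

/-- The formal image of a formal vector under the shape of `n_p(t)`. -/
noncomputable def shapeApp (i : ℕ) (v : List Tm) : List Tm :=
  v.flatMap fun x =>
    cond (Nat.blt x.row D.rank)
      [x, ⟨i, x.a, x.b, -C.cA x.row (D.simple i) * x.coef⟩]
      (cond (Nat.blt x.row (D.rank + D.nroots))
        [⟨D.rank + C.cW i (x.row - D.rank), x.a + (-C.cA i (x.row - D.rank)).toNat,
          x.b + (C.cA i (x.row - D.rank)).toNat, C.cEta i (x.row - D.rank) * x.coef⟩] [])

/-- The check that `n_p(t)` has the tabulated shape. -/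
noncomputable def chkN (i : ℕ) : Bool :=
  force (D.simple i) fun p =>
    let w : List (ℕ × List Mon) :=
      [(p, [⟨1, 0, 1⟩]), (negN D p, [⟨0, 1, -1⟩]), (p, [⟨1, 0, 1⟩])]
    wordOk D w && allBelow (fun c =>
      sameTms (cancelTms (appW D C.T w (unitTm c))) (cancelTms (shapeApp D C i (unitTm c))))
      (D.rank + D.nroots)

/-- The slots of `(s, c)` and `(w s, w c)` agree under `w_i`, with the sign bit `b` so far and
`bs` to add at each step. -/
noncomputable def sameSlot (i bs K : ℕ) : ℕ → ℕ → ℕ → Bool :=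
  Nat.rec (motive := fun _ => ℕ → ℕ → ℕ → Bool) (fun _ _ _ => true)
    (fun _ ih b v v' =>
      cond (Nat.beq (Nat.mod v 1024) 0) (Nat.beq (Nat.mod v' 1024) 0)
        (and (and (Nat.blt 0 (Nat.mod v' 1024)) (Nat.blt (Nat.sub (Nat.mod v 1024) 1) D.nroots))
        (and (Nat.beq (Nat.add (C.cW i (Nat.sub (Nat.mod v 1024) 1)) 1) (Nat.mod v' 1024))
        (and (Nat.ble (Nat.mod (Nat.div v 1024) 64) 16)
        (and (Nat.beq (Nat.mod (Nat.div v' 1024) 64)
          (cond (Nat.beq (Nat.mod (Nat.add (Nat.add b bs)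
              (C.cB i (Nat.sub (Nat.mod v 1024) 1))) 2) 0)
            (Nat.mod (Nat.div v 1024) 64) (Nat.sub 16 (Nat.mod (Nat.div v 1024) 64))))
          (ih (Nat.add b bs) (Nat.div v 65536) (Nat.div v' 65536))))))) K

/-- `w_i` carries the table of `x_s` to that of `x_{w s}`, at the column of the root `c`. -/
noncomputable def chkConjCol (i s ws c : ℕ) : Bool :=
  cond (or (Nat.beq c s) (Nat.beq c (negN D s))) true
    (force (C.T.slot s (Nat.add D.rank c)) fun v =>
      force (C.T.slot ws (Nat.add D.rank (C.cW i c))) fun v' =>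
        cond (Nat.beq v 0) (Nat.beq v' 0)
          (sameSlot D C i (C.cB i s) C.T.K (C.cB i c) v v'))

/-- `w_i` carries root elements to root elements. -/
noncomputable def chkConj (i : ℕ) : Bool :=
  allBelow (fun s => force (C.cW i s) fun ws =>
    cond (Nat.ble s ws) (allBelow (chkConjCol D C i s ws) D.nroots) true) D.nroots

/-- Position of a coordinate given by its number. -/
noncomputable def posN (c : ℕ) : ℕ :=
  cond (Nat.blt c D.rank) (Nat.add (half D) c)
    (cond (Nat.blt (Nat.sub c D.rank) (half D)) (Nat.sub c D.rank) c)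

/-- A number all of whose first `n` bytes are `8`. -/
noncomputable def bytes8 (n : ℕ) : ℕ :=
  Nat.rec 0 (fun _ ih => Nat.add 8 (Nat.mul 256 ih)) n

/-- Packed weight of a coordinate given by its number, each entry shifted by `8`. -/
noncomputable def Cert.cWt (c : ℕ) : ℕ :=
  cond (Nat.blt c D.rank) (bytes8 D.rank) (C.car.get (Nat.sub c D.rank))

/-- Weights and triangularity of one entry of the table of the root `r`. -/
noncomputable def chkEntry (r c : ℕ) (q : ℕ × ℕ × ℤ) : Bool :=
  and (cond (Nat.ble (half D) r) (Nat.blt (posN D c) (posN D q.1))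
      (Nat.blt (posN D q.1) (posN D c)))
  (and (Nat.ble q.2.1 4)
    (Nat.beq (Nat.add (C.cWt D q.1) (Nat.mul q.2.1 (bytes8 D.rank)))
      (Nat.add (C.cWt D c) (Nat.mul q.2.1 (C.car.get r)))))

/-- Weights and triangularity of the table of one root. -/
noncomputable def chkEntries (r : ℕ) : Bool :=
  allBelow (fun c =>
    cond (and (Nat.beq (C.T.slot r c) 0)
        (not (Nat.beq c (Nat.add D.rank (negN D r)))))
      true (List.rec (motive := fun _ => Bool) true
        (fun q _ ih => and (chkEntry D C r c q) ih) (colOf D C.T r c)))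
    (Nat.add D.rank D.nroots)

/-- The check on the tables of all roots. -/
noncomputable def chkAllEntries : Bool := allBelow (chkEntries D C) D.nroots

/-- Depth of a root in the certificate. -/
noncomputable def Cert.depth (r : ℕ) : ℕ := Nat.div (C.step.get r) 256

/-- The fundamental reflection of the step at `r`. -/
noncomputable def Cert.stepI (r : ℕ) : ℕ := Nat.sub (Nat.mod (C.step.get r) 256) 1

/-- The representatives of the orbits: roots with no step. -/
noncomputable def Cert.isRep (r : ℕ) : Bool := Nat.beq (Nat.mod (C.step.get r) 256) 0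

/-- Follow the steps. -/
noncomputable def Cert.follow (C : Cert) (k : ℕ) : ℕ → ℕ :=
  Nat.rec (motive := fun _ => ℕ → ℕ) (fun r => r)
    (fun _ ih r => force r fun r => cond (C.isRep r) r (ih (C.cW (C.stepI r) r))) k

/-- The representatives. -/
noncomputable def reps : List ℕ := (List.range D.nroots).filter C.isRep

/-- The check on the steps. -/
noncomputable def chkSteps : Bool :=
  (allBelow (fun r =>
    or (C.isRep r) (and (Nat.blt (C.stepI r) D.rank)
      (Nat.blt (C.depth (C.cW (C.stepI r) r)) (C.depth r)))) D.nroots) &&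
  ((reps D C).all fun r => (List.range D.rank).any fun i =>
    Nat.beq (C.follow D.nroots (D.simple i)) r) &&
  (C.longest.all fun i => Nat.blt i D.rank) &&
  (allBelow (fun r => or (Nat.blt r (half D))
    (Nat.blt (C.longest.foldr (fun i s => force s fun s => C.cW i s) r) (half D))) D.nroots)

/-- Additivity of the root elements of the representatives. -/
noncomputable def chkAdd : Bool :=
  (reps D C).all fun r =>
    eqFree D C.T [(r, [⟨1, 0, 1⟩]), (r, [⟨0, 1, 1⟩])] [(r, [⟨1, 0, 1⟩, ⟨0, 1, 1⟩])]

/-- Formal word of the right-hand side of the commutator formula. -/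
noncomputable def Cert.cWord (r s : ℕ) : List (ℕ × List Mon) :=
  (C.cTerms D r s).map fun c =>
    (c.1, [⟨c.2.2.1, c.2.2.2, c.2.1 * cond (c.2.2.1 % 2 == 0) 1 (-1)⟩])

/-- The commutator formula checked directly. -/
noncomputable def chkDirect (r s : ℕ) : Bool :=
  eqFree D C.T [(s, [⟨0, 1, 1⟩]), (r, [⟨1, 0, 1⟩])]
    ([(r, [⟨1, 0, 1⟩]), (s, [⟨0, 1, 1⟩])] ++ C.cWord D r s)

/-- Equality of lists of terms, the second list transported by `w_i`. -/
noncomputable def sameTerms (i br bs : ℕ) (l : List (ℕ × ℤ × ℕ × ℕ)) :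
    List (ℕ × ℤ × ℕ × ℕ) → Bool :=
  List.rec (motive := fun _ => List (ℕ × ℤ × ℕ × ℕ) → Bool) (fun l' => l'.isEmpty)
    (fun a _ ih l' => List.rec (motive := fun _ => Bool) false
      (fun b L _ =>
        and (Nat.beq a.1 (C.cW i b.1))
        (and (Nat.beq a.2.2.1 b.2.2.1)
        (and (Nat.beq a.2.2.2 b.2.2.2)
        (and (zbeq a.2.1 (cond (Nat.beq (Nat.mod (Nat.add (Nat.add (Nat.mul b.2.2.1 br)
            (Nat.mul b.2.2.2 bs)) (C.cB i b.1)) 2) 0) b.2.1 (Int.neg b.2.1)))
          (ih L))))) l') l

/-- Compatibility of the commutator terms of `(r, s)` with `w_i`. -/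
noncomputable def chkTerms (i r s : ℕ) : Bool :=
  force (C.cW i r) fun r' => force (C.cW i s) fun s' =>
    cond (and (C.noTerms D r s) (C.noTerms D r' s')) true
      (sameTerms C i (C.cB i r') (C.cB i s') (C.cTerms D r s) (C.cTerms D r' s'))

/-- The commutator formula of the pair `(r, s)`: transported or checked directly. -/
noncomputable def chkPair (r s : ℕ) : Bool :=
  cond (or (Nat.beq s r) (Nat.beq s (negN D r))) true
    (cond (C.isRep r)
      (force (C.pStep r s) fun d => cond (Nat.beq (Nat.mod d 256) 0) (chkDirect D C r s)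
        (force (Nat.sub (Nat.mod d 256) 1) fun i =>
          Nat.blt i D.rank && Nat.beq (C.cW i r) r &&
          Nat.blt (Nat.div (C.pStep r (C.cW i s)) 256) (Nat.div d 256) && chkTerms D C i r s))
      (force (C.stepI r) fun i => chkTerms D C i r s))

/-- Order conditions on the commutator terms of the pair `(r, s)`. -/
noncomputable def chkOrder (r s : ℕ) : Bool :=
  cond (or (C.noTerms D r s) (or (Nat.beq s r) (Nat.beq s (negN D r)))) true
    ((C.cTerms D r s).all fun c =>
      Nat.blt c.1 D.nroots &&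
      cond (and (Nat.ble (half D) r) (Nat.ble (half D) s))
        (and (Nat.blt r c.1) (Nat.blt s c.1)) true &&
      cond (and (and (Nat.ble (half D) s) (Nat.blt r (half D))) ((List.range D.rank).any fun i =>
          and (Nat.beq r (negN D (D.simple i))) (not (Nat.beq s (D.simple i)))))
        (and (Nat.ble (half D) c.1) (not (Nat.beq (negN D r) c.1))) true)

/-- All checks on pairs with first root in `[lo, hi)`. -/
noncomputable def chkPairs (lo hi : ℕ) : Bool :=
  allBelow (fun d => force (Nat.add lo d) fun r =>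
    allBelow (fun s => and (chkPair D C r s) (chkOrder D C r s)) D.nroots) (Nat.sub hi lo)

/-- A Boolean function holding on `[0, n)`, assembled from consecutive ranges. -/
theorem all_range_glue {f : ℕ → ℕ → Bool} {P : ℕ → Prop}
    (hf : ∀ a b, f a b = true → ∀ x, a ≤ x → x < b → P x) :
    ∀ (l : List ℕ) (a : ℕ), (List.zip (a :: l) l).all (fun p => f p.1 p.2) = true →
      ∀ x, a ≤ x → x < l.getLastD a → P x
  | [], a, _, x, h₁, h₂ => by simp at h₂; omega
  | b :: l, a, h, x, h₁, h₂ => by
    rw [List.zip_cons_cons, List.all_cons, Bool.and_eq_true] at h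
    by_cases hx : x < b
    · exact hf a b h.1 x h₁ hx
    · exact all_range_glue hf l b h.2 x (by omega)
        (by rwa [List.getLastD_cons] at h₂)

end Cfsg.Agent.Chev
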