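import Cfsg.Agent.Chev.Unipotent
import Mathlib.Algebra.CharP.Two

/-!
Collection of words in root elements in characteristic two, on symbolic coefficients.
-/

set_option autoImplicit false

namespace Cfsg.Agent.Chev

open Cfsg.Lie

universe u

/-- Symbolic coefficients: sums and products of variables. -/
inductive CE where
  | var : ℕ → CE
  | one : CE
  | add : CE → CE → CE
  | mul : CE → CE → CE

namespace CE

/-- The value. -/
def val {F : Type u} [Field F] (ρ : ℕ → F) : CE → F
  | .var i => ρ i
  | .one => 1
  | .add a b => val ρ a + val ρ b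
  | .mul a b => val ρ a * val ρ b

/-- A power. -/
def pw (e : CE) : ℕ → CE
  | 0 => .one
  | n + 1 => .mul (pw e n) e

theorem val_pw {F : Type u} [Field F] (ρ : ℕ → F) (e : CE) : ∀ n, (pw e n).val ρ = e.val ρ ^ n
  | 0 => (pow_zero _).symm
  | n + 1 => by
    show (pw e n).val ρ * e.val ρ = _
    rw [val_pw ρ e n, pow_succ]

end CE

variable (D : ChevalleyDatum)

/-- The terms created when `x_s(v)` is moved past `x_r(e)`. -/
def collTerms (r s : ℕ) (e v : CE) : List (ℕ × CE) :=
  ((D.commTerms r s).filter fun c => !(c.2.1 % 2 == 0)).map fun c =>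
    (c.1, CE.mul (CE.pw e c.2.2.1) (CE.pw v c.2.2.2))

/-- Append a letter to a reversed collected word. -/
def collApp (key : ℕ → ℕ) : ℕ → List (ℕ × CE) → ℕ × CE → List (ℕ × CE)
  | 0, S, x => x :: S
  | _ + 1, [], x => [x]
  | n + 1, (s, v) :: S, (r, e) =>
    bif r == s then (s, CE.add v e) :: S
    else bif Nat.blt (key r) (key s) && (Nat.blt r D.nroots && (Nat.blt s D.nroots && !(s == D.neg r)))
    then ((s, v) :: collTerms D r s e v).foldl (collApp key n) (collApp key n S (r, e))
    else (r, e) :: (s, v) :: S

/-- The collected word. -/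
def coll (key : ℕ → ℕ) (n : ℕ) (w : List (ℕ × CE)) : List (ℕ × CE) :=
  (w.foldl (collApp D key n) []).reverse

variable {D} {F : Type u} [Field F] (hF : Facts.{u} D) (ρ : ℕ → F)

/-- The value of a symbolic word. -/
def wordC (w : List (ℕ × CE)) : GL D.Idx F := wordG hF (w.map fun p => (p.1, p.2.val ρ))

theorem wordC_cons (x : ℕ × CE) (w : List (ℕ × CE)) :
    wordC hF ρ (x :: w) = xG hF x.1 (x.2.val ρ) * wordC hF ρ w := by
  simp [wordC, wordG]

theorem wordC_append (v w : List (ℕ × CE)) :
    wordC hF ρ (v ++ w) = wordC hF ρ v * wordC hF ρ w := by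
  simp [wordC, wordG, List.map_append, List.prod_append]

variable [CharP F 2]

theorem collTerms_spec (r s : ℕ) (e v : CE) :
    wordC hF ρ (collTerms D r s e v) = wordG hF (D.commWord F r s (e.val ρ) (v.val ρ)) := by
  rw [ChevalleyDatum.commWord, collTerms]
  induction D.commTerms r s with
  | nil => rfl
  | cons c l ih =>
    rw [List.map_cons, List.filter_cons]
    have hsplit : wordG hF ((c.1, (c.2.1 : F) * (-e.val ρ) ^ c.2.2.1 * v.val ρ ^ c.2.2.2) ::
        l.map fun c => (c.1, (c.2.1 : F) * (-e.val ρ) ^ c.2.2.1 * v.val ρ ^ c.2.2.2)) =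
        xG hF c.1 ((c.2.1 : F) * (-e.val ρ) ^ c.2.2.1 * v.val ρ ^ c.2.2.2) *
          wordG hF (l.map fun c => (c.1, (c.2.1 : F) * (-e.val ρ) ^ c.2.2.1 * v.val ρ ^ c.2.2.2)) := by
      simp [wordG]
    rw [hsplit, ← ih, CharTwo.neg_eq]
    rcases Int.emod_two_eq c.2.1 with h | h
    · have h0 : ((c.2.1 : ℤ) : F) = 0 :=
        (CharP.intCast_eq_zero_iff F 2 _).2 (Int.dvd_of_emod_eq_zero h)
      rw [if_neg (by simp [h]), h0, zero_mul, zero_mul, xG_zero, one_mul]
    · have h1 : ((c.2.1 : ℤ) : F) = 1 := by
        have h0 : ((c.2.1 - 1 : ℤ) : F) = 0 :=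
          (CharP.intCast_eq_zero_iff F 2 _).2 (Int.dvd_of_emod_eq_zero (by omega))
        push_cast at h0
        exact sub_eq_zero.1 h0
      rw [if_pos (by simp [h]), List.map_cons, wordC_cons, h1, one_mul]
      simp only [CE.val, CE.val_pw]

theorem collApp_spec (key : ℕ → ℕ) : ∀ (n : ℕ) (S : List (ℕ × CE)) (x : ℕ × CE),
    wordC hF ρ (collApp D key n S x).reverse = wordC hF ρ S.reverse * xG hF x.1 (x.2.val ρ) := by
  intro n
  induction n with
  | zero =>
    intro S x
    rw [collApp, List.reverse_cons, wordC_append]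
    simp [wordC, wordG]
  | succ n ih =>
    intro S x
    have hfold : ∀ (l : List (ℕ × CE)) (S : List (ℕ × CE)),
        wordC hF ρ (l.foldl (collApp D key n) S).reverse = wordC hF ρ S.reverse * wordC hF ρ l := by
      intro l
      induction l with
      | nil => intro S; simp [wordC, wordG]
      | cons a l ihl =>
        intro S
        rw [List.foldl_cons, ihl, ih, wordC_cons, mul_assoc]
    obtain ⟨r, e⟩ := x
    rcases S with _ | ⟨⟨s, v⟩, S⟩
    · simp [collApp, wordC, wordG]
    rw [List.reverse_cons, wordC_append, collApp, mul_assoc]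
    cases hrs : r == s
    · cases hok : Nat.blt (key r) (key s) &&
          (Nat.blt r D.nroots && (Nat.blt s D.nroots && !(s == D.neg r)))
      · simp only [cond_false, List.reverse_cons, wordC_append, mul_assoc]
        simp [wordC, wordG]
      · simp only [Bool.and_eq_true, Bool.not_eq_true', Nat.blt_eq, beq_eq_false_iff_ne] at hok hrs
        simp only [cond_false, cond_true, hfold, ih, wordC_cons, mul_assoc]
        congr 1
        rw [collTerms_spec, show wordC hF ρ ([] : List (ℕ × CE)) = 1 from rfl, one_mul,
          xG_comm hF hok.2.1 hok.2.2.1 (Ne.symm hrs) hok.2.2.2, mul_assoc]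
    · rw [beq_iff_eq] at hrs
      subst hrs
      simp only [cond_true, List.reverse_cons, wordC_append, wordC_cons, mul_assoc]
      congr 1
      rw [show wordC hF ρ ([] : List (ℕ × CE)) = 1 from rfl, mul_one, one_mul]
      show xG hF r (v.val ρ + e.val ρ) = _
      rw [xG_mul]

theorem wordC_coll (key : ℕ → ℕ) (n : ℕ) (w : List (ℕ × CE)) :
    wordC hF ρ (coll D key n w) = wordC hF ρ w := by
  suffices h : ∀ S : List (ℕ × CE), wordC hF ρ (w.foldl (collApp D key n) S).reverse =
      wordC hF ρ S.reverse * wordC hF ρ w by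
    rw [coll, h]
    simp [wordC, wordG]
  induction w with
  | nil => intro S; simp [wordC, wordG]
  | cons a w ih =>
    intro S
    rw [List.foldl_cons, ih, collApp_spec, wordC_cons, mul_assoc]

namespace CE

/-- Add a monomial modulo two. -/
def tog (m : List ℕ) (l : List (List ℕ)) : List (List ℕ) :=
  bif l.contains m then l.erase m else m :: l

/-- Merge a monomial. -/
def insM : ℕ → List ℕ → List ℕ
  | a, [] => [a]
  | a, b :: l => bif Nat.ble a b then a :: b :: l else b :: insM a l

/-- The polynomial modulo two, as a list of monomials. -/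
def poly : CE → List (List ℕ)
  | .var i => [[i]]
  | .one => [[]]
  | .add a b => (poly b).foldl (fun l m => tog m l) (poly a)
  | .mul a b =>
    ((poly a).flatMap fun x => (poly b).map fun y => y.foldl (fun l i => insM i l) x).foldl
      (fun l m => tog m l) []

/-- The value of a list of monomials. -/
def pval {F : Type u} [Field F] (ρ : ℕ → F) (l : List (List ℕ)) : F :=
  (l.map fun m => (m.map ρ).prod).sum

theorem prod_insM {F : Type u} [Field F] (ρ : ℕ → F) (a : ℕ) :
    ∀ l : List ℕ, ((insM a l).map ρ).prod = ρ a * (l.map ρ).prod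
  | [] => by simp [insM]
  | b :: l => by
    rw [insM]
    cases Nat.ble a b
    · simp only [cond_false, List.map_cons, List.prod_cons, prod_insM ρ a l]; ring
    · simp

theorem pval_tog {F : Type u} [Field F] [CharP F 2] (ρ : ℕ → F) (m : List ℕ) (l : List (List ℕ)) :
    pval ρ (tog m l) = pval ρ l + (m.map ρ).prod := by
  rw [tog]
  cases h : l.contains m
  · simp [pval, add_comm]
  · rw [List.contains_iff_mem] at h
    rw [cond_true, pval, pval, ((List.perm_cons_erase h).map _).sum_eq, List.map_cons, List.sum_cons,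
      add_comm ((m.map ρ).prod), CharTwo.add_cancel_right]

theorem pval_foldl {F : Type u} [Field F] [CharP F 2] (ρ : ℕ → F) : ∀ ms l : List (List ℕ),
    pval ρ (ms.foldl (fun l m => tog m l) l) = pval ρ l + pval ρ ms
  | [], l => by simp [pval]
  | m :: ms, l => by
    rw [List.foldl_cons, pval_foldl ρ ms, pval_tog]
    simp only [pval, List.map_cons, List.sum_cons]
    ring

theorem val_poly {F : Type u} [Field F] [CharP F 2] (ρ : ℕ → F) :
    ∀ e : CE, e.val ρ = pval ρ e.poly
  | .var i => by simp [val, poly, pval]
  | .one => by simp [val, poly, pval]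
  | .add a b => by rw [val, poly, pval_foldl, val_poly ρ a, val_poly ρ b]
  | .mul a b => by
    rw [val, poly, pval_foldl, val_poly ρ a, val_poly ρ b]
    have hm : ∀ x y : List ℕ, ((y.foldl (fun l i => insM i l) x).map ρ).prod =
        (x.map ρ).prod * (y.map ρ).prod := by
      intro x y
      induction y generalizing x with
      | nil => simp
      | cons i y ih => rw [List.foldl_cons, ih, prod_insM, List.map_cons, List.prod_cons]; ring
    generalize poly a = A
    generalize poly b = B
    induction A with
    | nil => simp [pval]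
    | cons x A ih =>
      simp only [pval, List.map_nil, List.sum_nil, zero_add, List.map_cons, List.sum_cons,
        List.flatMap_cons, List.map_append, List.sum_append, add_mul] at ih ⊢
      rw [ih, List.map_map, Function.comp_def]
      simp only [hm, List.sum_map_mul_left]

end CE

/-- A collected word with expanded coefficients. -/
def collPoly (D : ChevalleyDatum) (key : ℕ → ℕ) (n : ℕ) (w : List (ℕ × CE)) :
    List (ℕ × List (List ℕ)) :=
  (coll D key n w).map fun p => (p.1, p.2.poly)

theorem wordC_collPoly {D : ChevalleyDatum} {F : Type u} [Field F] [CharP F 2] (hF : Facts.{u} D)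
    (ρ : ℕ → F) (key : ℕ → ℕ) (n : ℕ) (w : List (ℕ × CE)) :
    wordC hF ρ w =
      wordG hF ((collPoly D key n w).map fun p => (p.1, CE.pval ρ p.2)) := by
  rw [← wordC_coll hF ρ key n w, collPoly, wordC, List.map_map]
  simp only [Function.comp_def, CE.val_poly]

end Cfsg.Agent.Chev
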