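import Cfsg.Agent.Chev.Lang
import Cfsg.Agent.Chev.RegularTorus
import Cfsg.Agent.Chev.TopCentralizer
import Mathlib.FieldTheory.IsAlgClosed.AlgebraicClosure
import Mathlib.RingTheory.RootsOfUnity.AlgebraicallyClosed
import Mathlib.FieldTheory.Finite.Basic

/-!
Self-centralising cyclic subgroups from a regular element of the Weyl group: given a word `w`, a
root `r₀` whose orbit under `w` gives a basis of the character lattice, and the characteristic
polynomial `Φ` of `w`, the torus twisted by `w` is cyclic of order `Φ(q)` and self-centralising.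
-/

set_option autoImplicit false

namespace Cfsg.Agent.Chev

open Cfsg.Lie
open scoped MatrixGroups

universe u

/-- Coefficients of `p (X + 2)`. -/
def shiftTwo : List ℤ → List ℤ
  | [] => []
  | c :: l =>
    let s := shiftTwo l
    match s with
    | [] => [c]
    | a :: s' => (c + 2 * a) :: List.zipWith (· + ·) (a :: s') ((s'.map (2 * ·)) ++ [0])

/-- Value of a coefficient list. -/
def evList (l : List ℤ) (x : ℤ) : ℤ := l.foldr (fun c v => c + x * v) 0

theorem evList_cons (c : ℤ) (l : List ℤ) (x : ℤ) : evList (c :: l) x = c + x * evList l x := rfl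

theorem evList_nonneg : ∀ (l : List ℤ) (x : ℤ), 0 ≤ x → (∀ a ∈ l, 0 ≤ a) → 0 ≤ evList l x := by
  intro l
  induction l with
  | nil => intro x _ _; exact le_rfl
  | cons c l ih =>
    intro x hx h
    rw [evList_cons]
    exact add_nonneg (h c (by simp)) (mul_nonneg hx (ih x hx fun a ha => h a (by simp [ha])))

theorem evList_shift_aux (x : ℤ) : ∀ (a : ℤ) (s : List ℤ),
    evList (List.zipWith (· + ·) (a :: s) ((s.map (2 * ·)) ++ [0])) x =
      evList (a :: s) x + 2 * evList s x := by
  intro a s
  induction s generalizing a with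
  | nil => simp [evList]
  | cons b s ih =>
    simp only [List.map_cons, List.cons_append, List.zipWith_cons_cons] at ih ⊢
    rw [evList_cons, ih b]
    simp only [evList_cons]
    ring

theorem evList_shiftTwo : ∀ (l : List ℤ) (x : ℤ), evList (shiftTwo l) x = evList l (x + 2) := by
  intro l
  induction l with
  | nil => intro x; rfl
  | cons c l ih =>
    intro x
    rw [evList_cons c l, ← ih, shiftTwo]
    cases h : shiftTwo l with
    | nil => simp [evList]
    | cons a s =>
      simp only []
      rw [evList_cons, evList_shift_aux]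
      simp only [evList_cons]
      ring

/-- The polynomial is positive at every integer `≥ 2`, seen from the coefficients of `p (X + 2)`. -/
def posB (l : List ℤ) : Bool :=
  match shiftTwo l with
  | [] => false
  | a :: s => decide (0 < a) && s.all fun b => decide (0 ≤ b)

theorem pos_of_posB {l : List ℤ} (h : posB l = true) {x : ℤ} (hx : 2 ≤ x) : 0 < evList l x := by
  have e := evList_shiftTwo l (x - 2)
  rw [sub_add_cancel] at e
  rw [← e]
  unfold posB at h
  cases hs : shiftTwo l with
  | nil => simp [hs] at h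
  | cons a s =>
    simp only [hs, Bool.and_eq_true, decide_eq_true_eq, List.all_eq_true] at h
    rw [evList_cons]
    have := mul_nonneg (show (0 : ℤ) ≤ x - 2 by omega) (evList_nonneg s (x - 2) (by omega) h.2)
    omega

/-- The value at `q` of a coefficient vector. -/
def evFin {n : ℕ} (f : Fin n → ℤ) (q : ℤ) : ℤ := ∑ j : Fin n, f j * q ^ (j : ℕ)

theorem evList_ofFn : ∀ {n : ℕ} (f : Fin n → ℤ) (q : ℤ), evList (List.ofFn f) q = evFin f q := by
  intro n
  induction n with
  | zero => intro f q; simp [evList, evFin]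
  | succ n ih =>
    intro f q
    rw [List.ofFn_succ, evList_cons, ih, evFin, evFin, Fin.sum_univ_succ, Finset.mul_sum]
    congr 1
    · simp
    · exact Finset.sum_congr rfl fun j _ => by rw [Fin.val_succ, pow_succ]; ring

/-- Certificate of a twisted torus. -/
structure TorusCert (D : ChevalleyDatum) where
  w : List (Fin D.rank)
  r0 : ℕ
  phi : Fin (D.rank + 1) → ℤ
  B : Fin D.rank → Fin D.rank → ℤ
  cand : List ℕ

variable {D : ChevalleyDatum}

/-- The action of a word on root indices. -/
def wStep (D : ChevalleyDatum) (w : List (Fin D.rank)) (s : ℕ) : ℕ :=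
  w.foldr (fun i v => D.reflectRoot i v) s

namespace TorusCert

variable (C : TorusCert D)

/-- The orbit of the base root. -/
def orb (j : ℕ) : ℕ := (wStep D C.w)^[j] C.r0

/-- The exponent of a root, as a polynomial in `q`. -/
def E (s : ℕ) (j : Fin D.rank) : ℤ := ∑ i : Fin D.rank, D.cartan i s * C.B i j

/-- The difference of the exponent from the one of the base root. -/
def dE (s : ℕ) (j : Fin D.rank) : ℤ := C.E s j - if (j : ℕ) = 0 then 1 else 0

/-- A polynomial of degree below the rank is not a multiple of the order, at any `q ≥ 2`. -/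
def sepB (e : Fin D.rank → ℤ) : Bool :=
  posB (List.ofFn fun j : Fin (D.rank + 1) => C.phi j - Fin.snoc (α := fun _ => ℤ) e 0 j) &&
    posB (List.ofFn fun j : Fin (D.rank + 1) => C.phi j + Fin.snoc (α := fun _ => ℤ) e 0 j) &&
    (posB (List.ofFn e) || posB (List.ofFn fun j => -e j))

/-- The conditions on a certificate. -/
structure Valid : Prop where
  r0_lt : C.r0 < D.nroots
  rank_pos : 0 < D.rank
  phi_zero : C.phi 0 = 1
  rel : ∀ i : Fin D.rank, ∑ j : Fin (D.rank + 1), C.phi j * D.cartan i (C.orb j) = 0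
  left_inv : ∀ i i' : Fin D.rank,
    ∑ j : Fin D.rank, C.B i j * D.cartan i' (C.orb j) = if i = i' then 1 else 0
  right_inv : ∀ j j' : Fin D.rank, C.E (C.orb j) j' = if j = j' then 1 else 0
  equiv : ∀ s : Fin D.nroots, ∃ k ∈ List.ofFn (C.E s), ∀ j : Fin (D.rank + 1),
    Fin.cons (α := fun _ => ℤ) 0 (C.E s) j -
      Fin.snoc (α := fun _ => ℤ) (C.E (wStep D C.w s)) 0 j = k * C.phi j
  regular : ∀ s : Fin D.nroots, C.sepB (C.E s) = true
  sep : ∀ s : Fin D.nroots, (s : ℕ) ∈ C.cand ∨ C.sepB (C.dE s) = true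
  rigid : ∀ l ∈ List.sections (List.ofFn fun j : Fin D.rank =>
      C.cand.map fun c => (wStep D C.w)^[(j : ℕ)] c),
    (∀ i j : Fin D.rank, pairing D (l.getD i 0) (l.getD j 0) =
      pairing D (C.orb i) (C.orb j)) → ∀ j : Fin D.rank, l.getD j 0 = C.orb j
  inj : ∀ s t : Fin D.nroots,
    (∀ j : Fin D.rank, pairing D (C.orb j) s = pairing D (C.orb j) t) → s = t

end TorusCert

theorem zpow_sum_aux {G : Type*} [CommGroup G] {α : Type*} [Fintype α] (a : G) (f : α → ℤ) :
    ∏ i : α, a ^ f i = a ^ ∑ i : α, f i := by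
  classical
  induction (Finset.univ : Finset α) using Finset.induction_on with
  | empty => simp
  | insert b t hb ih => rw [Finset.prod_insert hb, Finset.sum_insert hb, ih, zpow_add]

section

variable (hF : Facts.{u} D)
include hF

theorem pWord_wStep : ∀ (w : List (Fin D.rank)) (s : Fin D.nroots),
    (pWord hF w s : ℕ) = wStep D w s := by
  intro w
  induction w with
  | nil => intro s; rfl
  | cons i w ih =>
    intro s
    rw [pWord_cons, Equiv.Perm.mul_apply, wPerm_val, ih]
    rfl

theorem pWord_pow_val (w : List (Fin D.rank)) (j : ℕ) (s : Fin D.nroots) :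
    (((pWord hF w) ^ j) s : ℕ) = (wStep D w)^[j] s := by
  induction j with
  | zero => rfl
  | succ j ih =>
    rw [pow_succ', Equiv.Perm.mul_apply, pWord_wStep, ih, Function.iterate_succ_apply']

variable {F : Type u} [Field F]

theorem torusHom_eq_iff (c d : Fin D.rank → Fˣ) :
    (torusHom c : GL D.Idx F) = torusHom d ↔
      ∀ s : Fin D.nroots, chiU c (s : ℕ) = chiU d (s : ℕ) := by
  have hmul : ∀ s : Fin D.nroots, chiU (c * d⁻¹) (s : ℕ) = chiU c (s : ℕ) * (chiU d (s : ℕ))⁻¹ :=
    fun s => by simp [chiU, mul_zpow, Finset.prod_mul_distrib]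
  rw [← mul_inv_eq_one, ← map_inv, ← map_mul, torusHom_eq_one_iff]
  simp only [hmul, mul_inv_eq_one]

/-- Moving a torus element past a Weyl element. -/
theorem torus_mul_nWord_iff (w : List (Fin D.rank)) (c d : Fin D.rank → Fˣ) :
    torusHom c * nWord hF w = (nWord hF w : GL D.Idx F) * torusHom d ↔
      ∀ s : Fin D.nroots, chiU c (pWord hF w s : ℕ) = chiU d (s : ℕ) := by
  have key : ∀ a : Fin D.rank → Fˣ,
      torusHom c * nWord hF w = (nWord hF w : GL D.Idx F) * torusHom a →
        ∀ s : Fin D.nroots, chiU c (pWord hF w s : ℕ) = chiU a (s : ℕ) := by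
    intro a h s
    obtain ⟨b, hb, hconj⟩ := isMon_nWord hF w (F := F) s
    have e1 : (torusHom c * nWord hF w) * xG hF s (1 : F) =
        xG hF (pWord hF w s) ((chiU c (pWord hF w s : ℕ) : F) * b) * (torusHom c * nWord hF w) := by
      rw [mul_assoc, hconj, mul_one, ← mul_assoc, torusHom_conj hF c (pWord hF w s).2, mul_assoc]
    have e2 : (nWord hF w * torusHom a) * xG hF s (1 : F) =
        xG hF (pWord hF w s) (b * (chiU a (s : ℕ) : F)) * (nWord hF w * torusHom a) := by
      rw [mul_assoc, torusHom_conj hF a s.2, mul_one, ← mul_assoc, hconj, mul_assoc]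
    rw [← h, e1] at e2
    have := (eq_of_x_eq hF (pWord hF w s).2 (mul_ne_zero (Units.ne_zero _) hb)
      (congrArg Units.val (mul_right_cancel e2))).2
    rw [mul_comm b] at this
    exact Units.ext (mul_right_cancel₀ hb this)
  refine ⟨key d, fun h => ?_⟩
  obtain ⟨a, ha⟩ := torus_nWord hF w c (F := F)
  rw [ha, mul_right_inj, torusHom_eq_iff hF]
  exact fun s => (key a ha s).symm.trans (h s)

end

namespace TorusCert

variable {C : TorusCert D} (hC : C.Valid) (hF : Facts.{u} D)
  {F : Type u} [Field F] [Fintype F]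
include hC hF

theorem exists_selfCentralizing (q : ℕ) (hq : Fintype.card F = q) (N : ℕ)
    (hN : (N : ℤ) = evFin C.phi q) :
    ∃ H : Subgroup ↥(D.group F), IsCyclic ↥H ∧ Nat.card ↥H = N ∧
      Subgroup.centralizer (H : Set ↥(D.group F)) = H := by
  classical
  have hq2 : 2 ≤ q := hq ▸ Fintype.one_lt_card
  have hqz : (2 : ℤ) ≤ q := by exact_mod_cast hq2
  let k := AlgebraicClosure F
  let ι : F →+* k := algebraMap F k
  let σ : k →+* k := (FiniteField.frobeniusAlgHom F k).toRingHom
  have hσ : ∀ t : k, σ t = t ^ q := fun t => by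
    show FiniteField.frobeniusAlgHom F k t = _
    simp [hq]
  have hσι : ∀ a : F, σ (ι a) = ι a := fun a => (FiniteField.frobeniusAlgHom F k).commutes a
  have hrange : ∀ z : k, σ z = z → ∃ a : F, ι a = z := by
    intro z hz
    rw [hσ] at hz
    open Polynomial in
    have hroots : z ∈ ((Finset.univ.image ι).val : Multiset k) := by
      have hdeg : ((X : k[X]) ^ q - X).natDegree = q := FiniteField.X_pow_card_sub_X_natDegree_eq k hq2
      have hne : ((X : k[X]) ^ q - X) ≠ 0 := FiniteField.X_pow_card_sub_X_ne_zero k hq2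
      have heq : (Finset.univ.image ι).val = ((X : k[X]) ^ q - X).roots := by
        refine Multiset.eq_of_le_of_card_le ((Multiset.le_iff_subset (Finset.nodup _)).2 fun x hx => ?_) ?_
        · obtain ⟨a, -, rfl⟩ := Finset.mem_image.1 hx
          rw [mem_roots hne, IsRoot.def, eval_sub, eval_pow, eval_X, ← map_pow, ← hq,
            FiniteField.pow_card, sub_self]
        · refine le_trans (card_roots' _) ?_
          rw [hdeg, Finset.card_val, Finset.card_image_of_injective _ ι.injective, Finset.card_univ,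
            hq]
      rw [heq, mem_roots hne, IsRoot.def, eval_sub, eval_pow, eval_X, hz, sub_self]
    obtain ⟨a, -, ha⟩ := Finset.mem_image.1 hroots
    exact ⟨a, ha⟩
  -- a primitive root of unity
  obtain ⟨p, hp⟩ := CharP.exists F
  obtain ⟨e, hpr, he⟩ := FiniteField.card F p
  have hqk : (q : k) = 0 := by
    rw [← map_natCast ι, ← hq, FiniteField.cast_card_eq_zero, map_zero]
  have hN1 : ((N : ℤ) : k) = 1 := by
    have hm : (N : ℤ) = 1 + (q : ℤ) * ∑ j : Fin D.rank, C.phi j.succ * (q : ℤ) ^ (j : ℕ) := by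
      rw [hN, evFin, Fin.sum_univ_succ, hC.phi_zero, Finset.mul_sum]
      congr 1
      exact Finset.sum_congr rfl fun j _ => by rw [Fin.val_succ, pow_succ]; ring
    show (Int.castRingHom k) (N : ℤ) = 1
    rw [hm, map_add, map_one, map_mul, map_natCast, hqk, zero_mul, add_zero]
  haveI hNk : NeZero (N : k) := ⟨by rw [← Int.cast_natCast, hN1]; exact one_ne_zero⟩
  haveI : NeZero N := ⟨fun h => (NeZero.ne (N : k)) (by rw [h, Nat.cast_zero])⟩
  obtain ⟨μ0, hμ0⟩ := HasEnoughRootsOfUnity.exists_primitiveRoot k N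
  set μ : kˣ := (hμ0.isUnit (NeZero.ne N)).unit with hμ
  have hμ0v : (μ : k) = μ0 := rfl
  have hμprim : IsPrimitiveRoot μ N := IsPrimitiveRoot.coe_units_iff.1 hμ0
  have hoμ : orderOf μ = N := hμprim.eq_orderOf.symm
  have hdvdN : ∀ m : ℤ, μ ^ m = 1 ↔ (N : ℤ) ∣ m := fun m => by
    rw [← hoμ, orderOf_dvd_iff_zpow_eq_one]
  have hsep : ∀ e : Fin D.rank → ℤ, C.sepB e = true → ¬ (N : ℤ) ∣ evFin e q := by
    intro e he hdvd
    simp only [sepB, Bool.and_eq_true, Bool.or_eq_true] at he
    obtain ⟨⟨h1, h2⟩, h3⟩ := he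
    have hsn : evFin (Fin.snoc e 0 : Fin (D.rank + 1) → ℤ) q = evFin e q := by
      rw [evFin, Fin.sum_univ_castSucc]
      simp [evFin]
    have hadd : ∀ f g : Fin (D.rank + 1) → ℤ, evFin (fun j => f j + g j) q = evFin f q + evFin g q :=
      fun f g => by simp [evFin, add_mul, Finset.sum_add_distrib]
    have hsub : ∀ f g : Fin (D.rank + 1) → ℤ, evFin (fun j => f j - g j) q = evFin f q - evFin g q :=
      fun f g => by simp [evFin, sub_mul, Finset.sum_sub_distrib]
    have a1 := pos_of_posB h1 hqz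
    have a2 := pos_of_posB h2 hqz
    rw [evList_ofFn, hsub, hsn, ← hN] at a1
    rw [evList_ofFn, hadd, hsn, ← hN] at a2
    have hzero := Int.eq_zero_of_abs_lt_dvd hdvd (abs_lt.2 ⟨by omega, by omega⟩)
    rcases h3 with h3 | h3
    · have a3 := pos_of_posB h3 hqz
      rw [evList_ofFn, hzero] at a3
      exact lt_irrefl _ a3
    · have a3 := pos_of_posB h3 hqz
      rw [evList_ofFn, show evFin (fun j => -e j) (q : ℤ) = -evFin e q by
        simp [evFin, Finset.sum_neg_distrib], hzero, neg_zero] at a3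
      exact lt_irrefl _ a3
  set π := pWord hF C.w with hπ
  let r0F : Fin D.nroots := ⟨C.r0, hC.r0_lt⟩
  have horb : ∀ j : ℕ, ((π ^ j) r0F : ℕ) = C.orb j := fun j => pWord_pow_val hF C.w j r0F
  -- the torus
  let cc : kˣ → Fin D.rank → kˣ := fun z i => z ^ evFin (C.B i) q
  have hchi : ∀ (z : kˣ) (s : ℕ), chiU (cc z) s = z ^ evFin (C.E s) q := by
    intro z s
    have hee : evFin (C.E s) (q : ℤ) = ∑ i : Fin D.rank, evFin (C.B i) q * D.cartan i s := by
      simp only [evFin, TorusCert.E, Finset.sum_mul]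
      rw [Finset.sum_comm]
      exact Finset.sum_congr rfl fun i _ => Finset.sum_congr rfl fun j _ => by ring
    rw [hee, chiU, ← zpow_sum_aux z]
    exact Finset.prod_congr rfl fun i _ => (zpow_mul z _ _).symm
  have hchi_orb : ∀ (z : kˣ) (j : Fin D.rank), chiU (cc z) (C.orb j) = z ^ ((q : ℤ) ^ (j : ℕ)) := by
    intro z j
    rw [hchi, evFin, Finset.sum_eq_single j (fun j' _ hj' => by
      rw [hC.right_inv, if_neg (Ne.symm hj'), zero_mul]) (fun h => absurd (Finset.mem_univ _) h),
      hC.right_inv, if_pos rfl, one_mul]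
  have hchi0 : ∀ z : kˣ, chiU (cc z) C.r0 = z := by
    intro z
    have := hchi_orb z ⟨0, hC.rank_pos⟩
    simpa [TorusCert.orb] using this
  have hequiv : ∀ s : Fin D.nroots,
      (N : ℤ) ∣ (q : ℤ) * evFin (C.E s) q - evFin (C.E (π s : ℕ)) q := by
    intro s
    obtain ⟨a, -, ha⟩ := hC.equiv s
    refine ⟨a, ?_⟩
    have h1 : evFin (Fin.cons 0 (C.E s) : Fin (D.rank + 1) → ℤ) q = q * evFin (C.E s) q := by
      rw [evFin, Fin.sum_univ_succ, evFin, Finset.mul_sum]
      simp only [Fin.cons_zero, Fin.cons_succ, zero_mul, zero_add, Fin.val_succ]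
      exact Finset.sum_congr rfl fun j _ => by ring
    have h2 : evFin (Fin.snoc (C.E (π s : ℕ)) 0 : Fin (D.rank + 1) → ℤ) q =
        evFin (C.E (π s : ℕ)) q := by
      rw [evFin, Fin.sum_univ_castSucc]
      simp [evFin]
    rw [← h1, ← h2, hN, hπ, pWord_wStep, evFin, evFin, evFin, ← Finset.sum_sub_distrib,
      Finset.sum_mul]
    refine Finset.sum_congr rfl fun j _ => ?_
    rw [← sub_mul, ha j]
    ring
  have hmon : ∀ z : kˣ, z ^ N = 1 → ∀ s : Fin D.nroots,
      chiU (cc z) (π s : ℕ) = (chiU (cc z) (s : ℕ)) ^ q := by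
    intro z hz s
    rw [hchi, hchi, ← zpow_natCast, ← zpow_mul]
    obtain ⟨a, ha⟩ := hequiv s
    rw [show evFin (C.E (s : ℕ)) (q : ℤ) * (q : ℕ) = evFin (C.E (π s : ℕ)) q + (N : ℤ) * a by
      rw [← ha]; ring, zpow_add, zpow_mul, zpow_natCast, hz, one_zpow, mul_one]
  set n : GL D.Idx k := nWord hF C.w with hn
  have hnG : n ∈ D.group k := monomial_le_group hF (nWord_mem hF C.w)
  obtain ⟨g, hg, hgn⟩ := exists_lang hF hq2 σ hσ hnG
  have hσn : gmap D σ n = n := gmap_nWord hF hF σ C.w
  have hchiσ : ∀ (d : Fin D.rank → kˣ) (s : ℕ),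
      chiU (fun j => Units.map σ.toMonoidHom (d j)) s = (chiU d s) ^ q := by
    intro d s
    have : ∀ u : kˣ, Units.map σ.toMonoidHom u = u ^ q := fun u =>
      Units.ext (by simpa using hσ (u : k))
    simp only [chiU, this, ← Finset.prod_pow]
    exact Finset.prod_congr rfl fun j _ => by
      rw [← zpow_natCast (d j ^ D.cartan j s), ← zpow_natCast (d j), ← zpow_mul, ← zpow_mul,
        mul_comm]
  -- fixed torus elements are rational
  have hfix : ∀ d : Fin D.rank → kˣ, (∀ s : Fin D.nroots, chiU d (π s : ℕ) = chiU d (s : ℕ) ^ q) →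
      gmap D σ (g * torusHom d * g⁻¹) = g * torusHom d * g⁻¹ := by
    intro d hd
    have h1 : torusHom d * n = n * torusHom fun j => Units.map σ.toMonoidHom (d j) :=
      (torus_mul_nWord_iff hF C.w d _).2 fun s => by rw [hchiσ]; exact hd s
    rw [map_mul, map_mul, map_inv, hgn, gmap_torusHom, mul_assoc g n, ← h1]
    group
  -- elements of the group over `F`
  have hdown : ∀ y ∈ D.group k, gmap D σ y = y → ∃ x ∈ D.group F, gmap D ι x = y := by
    intro y hy hyfix
    obtain ⟨t, t', d, v, ht, ht', hd, rfl⟩ := exists_fixed_normalForm hF σ hy hyfix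
    rw [gmap_torusHom] at hd
    have hchid := (torusHom_eq_iff hF _ _).1 hd
    have hdq : ∀ i, σ (d i : k) = d i := by
      intro i
      have hrec : ∀ f : Fin D.rank → kˣ, f i = ∏ j : Fin D.rank, chiU f (C.orb j) ^ C.B i j := by
        intro f
        have : ∀ j : Fin D.rank, chiU f (C.orb j) ^ C.B i j =
            ∏ i' : Fin D.rank, f i' ^ (C.B i j * D.cartan i' (C.orb j)) := fun j => by
          rw [chiU, ← Finset.prod_zpow]
          exact Finset.prod_congr rfl fun i' _ => by rw [← zpow_mul, mul_comm]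
        simp only [this]
        rw [Finset.prod_comm]
        simp only [zpow_sum_aux, hC.left_inv]
        simp [Finset.prod_ite_eq]
      have e := hrec fun j => Units.map σ.toMonoidHom (d j)
      rw [Finset.prod_congr rfl fun j _ => by rw [← horb, hchid ((π ^ (j : ℕ)) r0F), horb]] at e
      exact congrArg Units.val (e.trans (hrec d).symm)
    choose a ha using fun i => hrange _ (hdq i)
    have ha0 : ∀ i, a i ≠ 0 := fun i h => (d i).ne_zero (by rw [← ha i, h, map_zero])
    choose b hb using fun r => hrange (if half D ≤ r ∧ r < D.nroots then t r else 0)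
      (by split
          · exact ht r (by omega) (by omega)
          · exact map_zero σ)
    choose b' hb' using fun r => hrange (if half D ≤ r ∧ r < D.nroots then t' r else 0)
      (by split
          · exact ht' r (by omega) (by omega)
          · exact map_zero σ)
    refine ⟨prodFrom hF (half D) b * torusHom (fun i => Units.mk0 (a i) (ha0 i)) * nWord hF v *
      prodFrom hF (half D) b', ?_, ?_⟩
    · have hU : ∀ f : ℕ → F, prodFrom hF (half D) f ∈ D.group F := fun f =>
        borel_le_group hF (Subgroup.mem_sup_left ((mem_posUnipotent_iff hF).2 ⟨f, rfl⟩))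
      exact Subgroup.mul_mem _ (Subgroup.mul_mem _ (Subgroup.mul_mem _ (hU b)
        (borel_le_group hF (Subgroup.mem_sup_right (torusHom_mem hF _))))
        (monomial_le_group hF (nWord_mem hF v))) (hU b')
    · rw [map_mul, map_mul, map_mul, gmap_prodFrom hF hF, gmap_prodFrom hF hF, gmap_nWord hF hF,
        gmap_torusHom,
        prodFrom_congr hF (t := fun r => ι (b r)) (t' := t) fun r h1 h2 => by
          rw [hb, if_pos ⟨h1, h2⟩],
        prodFrom_congr hF (t := fun r => ι (b' r)) (t' := t') fun r h1 h2 => by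
          rw [hb', if_pos ⟨h1, h2⟩]]
      congr 4
      funext i
      exact Units.ext (by simpa using ha i)
  have htorus : ∀ d, torusHom d ∈ D.group k := fun d =>
    borel_le_group hF (Subgroup.mem_sup_right (torusHom_mem hF d))
  obtain ⟨gF, hgF, hgFι⟩ := hdown (g * torusHom (cc μ) * g⁻¹)
    (Subgroup.mul_mem _ (Subgroup.mul_mem _ hg (htorus _)) (Subgroup.inv_mem _ hg))
    (hfix _ (hmon μ (by rw [← hoμ, pow_orderOf_eq_one])))
  let gμ : ↥(D.group F) := ⟨gF, hgF⟩
  have hccmul : ∀ (z : kˣ) (m : ℕ), cc (z ^ m) = cc z ^ m := fun z m => by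
    funext i
    simp only [cc, Pi.pow_apply]
    rw [← zpow_natCast, ← zpow_natCast, ← zpow_mul, ← zpow_mul, mul_comm]
  have hconjpow : ∀ m : ℕ, gmap D ι (gF ^ m) = g * torusHom (cc (μ ^ m)) * g⁻¹ := fun m => by
    rw [map_pow, hgFι, conj_pow, hccmul, map_pow]
  have hpow : ∀ m : ℕ, gμ ^ m = 1 ↔ μ ^ m = 1 := by
    intro m
    rw [Subtype.ext_iff, SubmonoidClass.coe_pow, OneMemClass.coe_one]
    show gF ^ m = 1 ↔ _
    rw [← (gmap_injective (D := D) ι).eq_iff, hconjpow, map_one, conj_eq_one_iff,
      torusHom_eq_one_iff]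
    constructor
    · intro h
      have := h r0F
      rwa [show ((r0F : Fin D.nroots) : ℕ) = C.r0 from rfl, hchi0] at this
    · intro h s
      rw [hchi, h, one_zpow]
  refine ⟨Subgroup.zpowers gμ, inferInstance,
    by rw [Nat.card_zpowers, (orderOf_eq_orderOf_iff.2 hpow), hoμ], le_antisymm ?_ ?_⟩
  swap
  · intro x hx
    rw [Subgroup.mem_centralizer_iff]
    intro y hy
    obtain ⟨i, rfl⟩ := Subgroup.mem_zpowers_iff.1 hx
    obtain ⟨j, rfl⟩ := Subgroup.mem_zpowers_iff.1 (SetLike.mem_coe.1 hy)
    rw [← zpow_add, ← zpow_add, add_comm]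
  intro x hx
  have hxμ : gF * (x : GL D.Idx F) = (x : GL D.Idx F) * gF :=
    congrArg Subtype.val (Subgroup.mem_centralizer_iff.1 hx gμ (Subgroup.mem_zpowers gμ))
  set X := g⁻¹ * gmap D ι (x : GL D.Idx F) * g with hX
  have hXc : torusHom (cc μ) * X = X * torusHom (cc μ) := by
    have h1 := congrArg (gmap D ι) hxμ
    rw [map_mul, map_mul, hgFι] at h1
    calc torusHom (cc μ) * X
        = g⁻¹ * ((g * torusHom (cc μ) * g⁻¹) * gmap D ι (x : GL D.Idx F)) * g := by rw [hX]; group
      _ = g⁻¹ * (gmap D ι (x : GL D.Idx F) * (g * torusHom (cc μ) * g⁻¹)) * g := by rw [h1]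
      _ = X * torusHom (cc μ) := by rw [hX]; group
  obtain ⟨d, hd⟩ := eq_torusHom_of_comm hF (c := cc μ)
    (fun s h => by
      rw [hchi, hdvdN] at h
      exact hsep _ (hC.regular s) h)
    (fun v hv => by
      set π' := pWord hF v with hπ'
      have hcand : ∀ j : Fin D.rank, (π' ((π ^ (j : ℕ)) r0F) : ℕ) ∈
          C.cand.map fun c => (wStep D C.w)^[(j : ℕ)] c := by
        intro j
        obtain ⟨s, hs⟩ := (π ^ (j : ℕ)).surjective (π' ((π ^ (j : ℕ)) r0F))
        have hiter : ∀ (i : ℕ) (r : Fin D.nroots),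
            chiU (cc μ) ((π ^ i) r : ℕ) = chiU (cc μ) (r : ℕ) ^ q ^ i := by
          intro i
          induction i with
          | zero => intro r; simp
          | succ i ih =>
            intro r
            rw [pow_succ' π, Equiv.Perm.mul_apply,
              hmon μ (by rw [← hoμ, pow_orderOf_eq_one]), ih, ← pow_mul, ← pow_succ]
        have h1 := hv ((π ^ (j : ℕ)) r0F)
        rw [← hs, hiter, hiter, show ((r0F : Fin D.nroots) : ℕ) = C.r0 from rfl, hchi0, hchi] at h1
        have hcop : (q ^ (j : ℕ)).Coprime N := by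
          refine Nat.Coprime.pow_left _ ?_
          refine Nat.coprime_of_dvd fun r hr hrq hrN => ?_
          have hrp : r = p := (Nat.prime_dvd_prime_iff_eq hr hpr).1
            (hr.dvd_of_dvd_pow (n := (e : ℕ)) (by rw [← he, hq]; exact hrq))
          haveI : CharP k p := charP_of_injective_algebraMap ι.injective p
          exact (NeZero.ne (N : k)) ((CharP.cast_eq_zero_iff k p N).2 (hrp ▸ hrN))
        have h2 : μ ^ evFin (C.E (s : ℕ)) q = μ := by
          have hf : ∀ z : kˣ, z ^ N = 1 → z ^ q ^ (j : ℕ) = 1 → z = 1 := fun z hz1 hz2 => by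
            have h := pow_gcd_eq_one.2 ⟨hz2, hz1⟩
            rwa [hcop.gcd_eq_one, pow_one] at h
          have := hf (μ ^ evFin (C.E (s : ℕ)) q * μ⁻¹)
            (by rw [mul_pow, inv_pow, ← zpow_natCast, ← zpow_mul, mul_comm, zpow_mul,
                  zpow_natCast, ← hoμ, pow_orderOf_eq_one]; simp)
            (by rw [mul_pow, inv_pow, h1, mul_inv_cancel])
          exact mul_inv_eq_one.1 this
        have hmem : (s : ℕ) ∈ C.cand := by
          refine (hC.sep s).resolve_right fun h => hsep _ h ?_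
          rw [← hdvdN, show evFin (C.dE s) (q : ℤ) = evFin (C.E (s : ℕ)) q - 1 by
            simp only [evFin, TorusCert.dE, sub_mul, Finset.sum_sub_distrib]
            congr 1
            rw [Finset.sum_eq_single ⟨0, hC.rank_pos⟩ (fun b _ hb => by
              rw [if_neg (fun h => hb (Fin.ext h)), zero_mul])
              (fun h => absurd (Finset.mem_univ _) h)]
            simp, zpow_sub, h2, zpow_one, mul_inv_cancel]
        exact List.mem_map.2 ⟨s, hmem, by rw [← pWord_pow_val hF C.w, ← hπ, hs]⟩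
      let l : List ℕ := List.ofFn fun j : Fin D.rank => (π' ((π ^ (j : ℕ)) r0F) : ℕ)
      have hl : ∀ j : Fin D.rank, l.getD j 0 = (π' ((π ^ (j : ℕ)) r0F) : ℕ) := fun j => by
        rw [List.getD_eq_getElem _ _ (by simp [l])]
        simp [l]
      have hrig := hC.rigid l (List.mem_sections.2 (List.forall₂_iff_get.2 ⟨by simp [l],
        fun i h1 h2 => by simpa [l] using hcand ⟨i, by simpa [l] using h1⟩⟩))
        (fun i j => by rw [hl, hl, ← horb, ← horb]; exact pairing_pWord hF v _ _)
      ext1 s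
      refine hC.inj _ _ fun j => ?_
      rw [← horb]
      conv_lhs => rw [show ((π ^ (j : ℕ)) r0F) = π' ((π ^ (j : ℕ)) r0F) from
        Fin.ext (by rw [horb, ← hrig j, hl])]
      exact pairing_pWord hF v _ s)
    (Subgroup.mul_mem _ (Subgroup.mul_mem _ (Subgroup.inv_mem _ hg)
      (gmap_mem_group hF hF ι x.2)) hg)
    hXc
  -- the parameter
  have hdσ : ∀ s : Fin D.nroots, chiU d (π s : ℕ) = chiU d (s : ℕ) ^ q := by
    have hxσ : gmap D σ (gmap D ι (x : GL D.Idx F)) = gmap D ι (x : GL D.Idx F) := by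
      apply Units.ext
      ext a b
      simp [gmap_apply, hσι]
    have h1 : gmap D σ X = n⁻¹ * X * n := by
      rw [hX, map_mul, map_mul, map_inv, hgn, hxσ]; group
    rw [hX] at h1
    rw [hd, gmap_torusHom] at h1
    have h2 : torusHom d * n = n * torusHom fun j => Units.map σ.toMonoidHom (d j) := by
      rw [h1]; group
    intro s
    rw [(torus_mul_nWord_iff hF C.w d _).1 h2 s, hchiσ]
  set ζ := chiU d C.r0 with hζ
  have hζorb : ∀ j : ℕ, chiU d (C.orb j) = ζ ^ q ^ j := by
    intro j
    induction j with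
    | zero => simp [TorusCert.orb, hζ]
    | succ j ih =>
      rw [← horb, pow_succ' π, Equiv.Perm.mul_apply, hdσ, horb, ih, ← pow_mul, ← pow_succ]
  have hζN : ζ ^ N = 1 := by
    have h0 : ∏ j : Fin (D.rank + 1), chiU d (C.orb j) ^ C.phi j = 1 := by
      have hd1 : ∀ j : Fin (D.rank + 1), chiU d (C.orb j) ^ C.phi j =
          ∏ i : Fin D.rank, d i ^ (D.cartan i (C.orb j) * C.phi j) := fun j => by
        rw [chiU, ← Finset.prod_zpow]
        exact Finset.prod_congr rfl fun i _ => by rw [← zpow_mul]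
      simp only [hd1]
      rw [Finset.prod_comm]
      refine Finset.prod_eq_one fun i _ => ?_
      rw [zpow_sum_aux, Finset.sum_congr rfl (fun (j : Fin (D.rank + 1)) _ => mul_comm (D.cartan i (C.orb j)) (C.phi j)),
        hC.rel i, zpow_zero]
    simp only [hζorb, ← zpow_natCast, ← zpow_mul] at h0
    rw [zpow_sum_aux] at h0
    rw [← zpow_natCast, hN]
    rw [show evFin C.phi (q : ℤ) = ∑ j : Fin (D.rank + 1), ((q ^ (j : ℕ) : ℕ) : ℤ) * C.phi j from
      Finset.sum_congr rfl fun j _ => by push_cast; ring]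
    exact h0
  obtain ⟨m, -, hm⟩ := hμ0.eq_pow_of_pow_eq_one
    (by rw [← Units.val_pow_eq_pow_val, hζN, Units.val_one] : (ζ : k) ^ N = 1)
  refine Subgroup.mem_zpowers_iff.2 ⟨m, ?_⟩
  rw [zpow_natCast]
  apply Subtype.ext
  rw [SubmonoidClass.coe_pow]
  apply gmap_injective ι
  show gmap D ι (gF ^ m) = _
  rw [hconjpow, show gmap D ι (x : GL D.Idx F) = g * torusHom d * g⁻¹ by
    rw [← hd]; group]
  congr 2
  rw [torusHom_eq_iff hF]
  have hμm : μ ^ m = ζ := Units.ext (by rw [Units.val_pow_eq_pow_val, hμ0v, hm])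
  have hd_eq : d = cc ζ := by
    funext i
    have : ∀ j : Fin D.rank, chiU d (C.orb j) ^ C.B i j =
        ∏ i' : Fin D.rank, d i' ^ (C.B i j * D.cartan i' (C.orb j)) := fun j => by
      rw [chiU, ← Finset.prod_zpow]
      exact Finset.prod_congr rfl fun i' _ => by rw [← zpow_mul, mul_comm]
    have hrec : d i = ∏ j : Fin D.rank, chiU d (C.orb j) ^ C.B i j := by
      simp only [this]
      rw [Finset.prod_comm]
      simp only [zpow_sum_aux, hC.left_inv]
      simp [Finset.prod_ite_eq]
    rw [hrec]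
    simp only [hζorb, ← zpow_natCast, ← zpow_mul, zpow_sum_aux]
    show _ = ζ ^ evFin (C.B i) q
    congr 1
    exact Finset.sum_congr rfl fun j _ => by push_cast; ring
  intro s
  rw [hμm, hd_eq]

end TorusCert

end Cfsg.Agent.Chev
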