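import Mathlib.Logic.Basic
import Mathlib.Data.List.Basic
import Mathlib.Algebra.Order.Ring.Int

/-!
Primitives written so that the kernel evaluates them with few reduction steps: raw `Nat`
functions, explicit recursors, and arguments forced to literals.
-/

set_option autoImplicit false

namespace Cfsg.Agent.Chev

/-- `f k` holds for all `k < n`. -/
noncomputable def allBelow (f : ℕ → Bool) (n : ℕ) : Bool :=
  Nat.rec true (fun m ih => and (f m) ih) n

theorem allBelow_iff {f : ℕ → Bool} {n : ℕ} : allBelow f n = true ↔ ∀ k < n, f k = true := by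
  induction n with
  | zero => simp [allBelow]
  | succ n ih =>
    show and (f n) (allBelow f n) = true ↔ _
    rw [Bool.and_eq_true, ih]
    exact ⟨fun h k hk => (Nat.lt_succ_iff_lt_or_eq.1 hk).elim (h.2 k) (fun e => e ▸ h.1),
      fun h => ⟨h n (Nat.lt_succ_self n), fun k hk => h k (Nat.lt_succ_of_lt hk)⟩⟩

/-- `f` applied to the literal value of `n`. -/
noncomputable def force {α : Type} (n : ℕ) (f : ℕ → α) : α :=
  Nat.rec (f 0) (fun m _ => f (Nat.succ m)) n

theorem force_eq {α : Type} (n : ℕ) (f : ℕ → α) : force n f = f n := by cases n <;> rfl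

/-- Equality of integers, by constructors. -/
noncomputable def zbeq (a b : ℤ) : Bool :=
  Int.rec (fun m => Int.rec (fun k => Nat.beq m k) (fun _ => false) b)
    (fun m => Int.rec (fun _ => false) (fun k => Nat.beq m k) b) a

theorem zbeq_iff {a b : ℤ} : zbeq a b = true ↔ a = b := by
  cases a <;> cases b <;> simp [zbeq]

/-- Test for zero. -/
noncomputable def zzero (a : ℤ) : Bool := zbeq a 0

theorem nbeq_iff {a b : ℕ} : Nat.beq a b = true ↔ a = b :=
  ⟨Nat.eq_of_beq_eq_true, fun h => h ▸ Nat.beq_refl a⟩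

theorem nbeq_false_iff {a b : ℕ} : Nat.beq a b = false ↔ a ≠ b := by
  rw [Ne, ← nbeq_iff, Bool.not_eq_true]

theorem nblt_iff {a b : ℕ} : Nat.blt a b = true ↔ a < b :=
  ⟨Nat.le_of_ble_eq_true, Nat.ble_eq_true_of_le⟩

theorem nble_iff {a b : ℕ} : Nat.ble a b = true ↔ a ≤ b :=
  ⟨Nat.le_of_ble_eq_true, Nat.ble_eq_true_of_le⟩

theorem nblt_false_iff {a b : ℕ} : Nat.blt a b = false ↔ b ≤ a := by
  rw [← not_lt, ← nblt_iff, Bool.not_eq_true]

theorem nble_false_iff {a b : ℕ} : Nat.ble a b = false ↔ b < a := by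
  rw [← not_le, ← nble_iff, Bool.not_eq_true]

end Cfsg.Agent.Chev
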