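import Cfsg.Agent.Chev.Lift
import Cfsg.Agent.Chev.Fast

/-!
Boolean checks for `Extra`.
-/

set_option autoImplicit false

namespace Cfsg.Agent.Chev

open Cfsg.Lie

/-- The check on pairs of negative roots, and of a fundamental root with a negative root. -/
def negOrderChk (D : ChevalleyDatum) : Bool :=
  ((List.range (half D)).all fun r => (List.range (half D)).all fun s =>
    Nat.beq s r || ((D.commTerms r s).all fun c => Nat.blt c.1 r && Nat.blt c.1 s)) &&
  ((List.range D.rank).all fun i => (List.range (half D)).all fun s =>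
    Nat.beq s (D.neg (D.simple i)) || ((D.commTerms (D.simple i) s).all fun c =>
      Nat.blt c.1 (half D) && !(Nat.beq c.1 (D.neg (D.simple i)))))

/-- The check on a commutator expression of the `i`-th fundamental root. -/
def specialChk (D : ChevalleyDatum) (i p q : ℕ) : Bool :=
  decide (p < D.nroots) && decide (q < D.nroots) && decide (q ≠ p) && decide (q ≠ D.neg p) &&
  decide (p ≠ D.simple i) && decide (p ≠ D.neg (D.simple i)) &&
  decide (q ≠ D.simple i) && decide (q ≠ D.neg (D.simple i)) &&
  ((D.commTerms p q).all fun c => decide (half D ≤ c.1)) &&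
  ((D.commTerms (D.reflectRoot i p) (D.reflectRoot i q)).all fun c =>
    decide ((half D ≤ c.1 ∧ c.1 ≠ D.simple i) ∨ c.1 = D.neg (D.simple i))) &&
  match ((D.commTerms p q).filter fun c => Nat.beq c.1 (D.simple i)) with
  | [c] => decide (c.2.1.natAbs = 1 ∧ (c.2.2.1 = 1 ∨ c.2.2.2 = 1))
  | _ => false

/-- The check on all fundamental roots, given a list of pairs. -/
def specialAll (D : ChevalleyDatum) (l : List (ℕ × ℕ)) : Bool :=
  (List.range D.rank).all fun i => specialChk D i (l.getD i (0, 0)).1 (l.getD i (0, 0)).2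

theorem extra_of_chk {D : ChevalleyDatum} {l : List (ℕ × ℕ)} (h₁ : negOrderChk D = true)
    (h₂ : specialAll D l = true) : Extra D := by
  simp only [negOrderChk, Bool.and_eq_true, List.all_eq_true, List.mem_range, Bool.or_eq_true,
    nbeq_iff, nblt_iff, Bool.not_eq_true', nbeq_false_iff] at h₁
  refine ⟨fun r s hr hs hne c hc => ((h₁.1 r hr s hs).resolve_left hne) c hc,
    fun i hi s hs hne c hc => ((h₁.2 i hi s hs).resolve_left hne) c hc, fun i hi => ?_⟩
  simp only [specialAll, List.all_eq_true, List.mem_range] at h₂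
  have h := h₂ i hi
  simp only [specialChk, Bool.and_eq_true, decide_eq_true_eq, List.all_eq_true] at h
  obtain ⟨⟨⟨⟨⟨⟨⟨⟨⟨⟨a1, a2⟩, a3⟩, a4⟩, a5⟩, a6⟩, a7⟩, a8⟩, a9⟩, a10⟩, a11⟩ := h
  refine ⟨_, _, a1, a2, a3, a4, a5, a6, a7, a8, a9, a10, ?_⟩
  split at a11
  · next c hc => exact ⟨c, hc, (of_decide_eq_true a11).1, (of_decide_eq_true a11).2⟩
  · exact absurd a11 (by simp)

end Cfsg.Agent.Chev
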