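import Cfsg.Agent.Chev.Generation
import Cfsg.Agent.Chev.Functorial

/-!
Graph automorphisms of a Chevalley group as conjugations by signed permutation matrices.
-/

set_option autoImplicit false
set_option maxHeartbeats 1000000

namespace Cfsg.Agent.Chev

open Cfsg.Lie
open scoped MatrixGroups

universe u

variable {D : ChevalleyDatum}

/-- The fundamental roots and their negatives. -/
def IsPMSimple (D : ChevalleyDatum) (r : ℕ) : Prop :=
  ∃ i < D.rank, r = D.simple i ∨ r = D.neg (D.simple i)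

/-- A symmetry of the Dynkin diagram with its action on roots and the signs on root vectors. -/
structure GraphFacts (D : ChevalleyDatum) (π : Equiv.Perm (Fin D.rank))
    (ρ : Equiv.Perm (Fin D.nroots)) (ε : Fin D.nroots → ℤ) : Prop where
  sign : ∀ r, ε r = 1 ∨ ε r = -1
  simple : ∀ (i : Fin D.rank) (r : Fin D.nroots), (r : ℕ) = D.simple i →
    (ρ r : ℕ) = D.simple (π i) ∧ ε r = 1
  neg : ∀ r s : Fin D.nroots, (s : ℕ) = D.neg r → (ρ s : ℕ) = D.neg (ρ r) ∧ ε s = ε r
  pos : ∀ r : Fin D.nroots, half D ≤ (ρ r : ℕ) ↔ half D ≤ (r : ℕ)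
  refl : ∀ (i : Fin D.rank) (r s : Fin D.nroots), (s : ℕ) = D.reflectRoot i r →
    (ρ s : ℕ) = D.reflectRoot (π i) (ρ r)
  cartan : ∀ (i : Fin D.rank) (r : Fin D.nroots), D.cartan (π i) (ρ r) = D.cartan i r
  coef : ∀ (i : Fin D.rank) (r : Fin D.nroots), coef D (ρ r) (π i) = coef D r i
  chain : ∀ r : Fin D.nroots, IsPMSimple D r → ∀ s : Fin D.nroots, (s : ℕ) ≠ r → (s : ℕ) ≠ D.neg r →
    ∀ u : Fin D.nroots, D.chainCoeff (ρ r) (ρ s) (ρ u) =
      (D.chainCoeff r s u).map fun km => (km.1, ε s * ε u * km.2)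

variable {π : Equiv.Perm (Fin D.rank)} {ρ : Equiv.Perm (Fin D.nroots)} {ε : Fin D.nroots → ℤ}
  (hG : GraphFacts D π ρ ε) {F : Type u} [Field F]
include hG

theorem GraphFacts.cast_sq (r : Fin D.nroots) : ((ε r : ℤ) : F) * (ε r : F) = 1 := by
  rcases hG.sign r with e | e <;> simp [e]

omit hG in
/-- The weights of the signed permutation matrix. -/
def graphWeight (ε : Fin D.nroots → ℤ) : D.Idx → F := Sum.elim (fun _ => 1) fun r => (ε r : F)

/-- The signed permutation matrix of a diagram symmetry. -/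
def GraphFacts.mat : GL D.Idx F :=
  ⟨Matrix.of fun a b => if a = Equiv.sumCongr π ρ b then graphWeight ε b else 0,
    Matrix.of fun a b => if Equiv.sumCongr π ρ a = b then graphWeight ε a else 0,
    by
      ext a b
      rw [Matrix.mul_apply, Finset.sum_eq_single ((Equiv.sumCongr π ρ).symm b)]
      · simp only [Matrix.of_apply, Equiv.apply_symm_apply, Matrix.one_apply]
        by_cases h : a = b
        · subst h
          simp only [if_true]
          rcases e : (Equiv.sumCongr π ρ).symm a with j | r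
          · simp [graphWeight]
          · simp [graphWeight, hG.cast_sq r]
        · simp [h]
      · intro c _ hc
        simp only [Matrix.of_apply]
        rw [if_neg (show ¬ Equiv.sumCongr π ρ c = b from fun e => hc (by rw [← e, Equiv.symm_apply_apply])),
          mul_zero]
      · intro h; exact absurd (Finset.mem_univ _) h,
    by
      ext a b
      rw [Matrix.mul_apply, Finset.sum_eq_single (Equiv.sumCongr π ρ a)]
      · simp only [Matrix.of_apply, Matrix.one_apply, if_true]
        by_cases h : a = b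
        · subst h
          simp only [if_true]
          rcases a with j | r
          · simp [graphWeight]
          · simp [graphWeight, hG.cast_sq r]
        · rw [if_neg (fun e => h ((Equiv.injective _) e)), if_neg h, mul_zero]
      · intro c _ hc
        simp only [Matrix.of_apply]
        rw [if_neg (show ¬ Equiv.sumCongr π ρ a = c from fun e => hc e.symm), zero_mul]
      · intro h; exact absurd (Finset.mem_univ _) h⟩

theorem GraphFacts.mat_mul_apply (X : Matrix D.Idx D.Idx F) (a b : D.Idx) :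
    (((hG.mat : GL D.Idx F) : Matrix D.Idx D.Idx F) * X) (Equiv.sumCongr π ρ a) b =
      graphWeight ε a * X a b := by
  rw [Matrix.mul_apply, Finset.sum_eq_single a]
  · simp [GraphFacts.mat]
  · intro c _ hc
    have : Equiv.sumCongr π ρ a ≠ Equiv.sumCongr π ρ c :=
      fun e => hc ((Equiv.injective _) e).symm
    simp only [GraphFacts.mat, Matrix.of_apply]
    rw [if_neg this, zero_mul]
  · intro h; exact absurd (Finset.mem_univ _) h

theorem GraphFacts.mul_mat_apply (X : Matrix D.Idx D.Idx F) (a b : D.Idx) :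
    (X * ((hG.mat : GL D.Idx F) : Matrix D.Idx D.Idx F)) a b =
      X a (Equiv.sumCongr π ρ b) * graphWeight ε b := by
  rw [Matrix.mul_apply, Finset.sum_eq_single (Equiv.sumCongr π ρ b)]
  · simp [GraphFacts.mat]
  · intro c _ hc
    simp only [GraphFacts.mat, Matrix.of_apply]
    rw [if_neg hc, mul_zero]
  · intro h; exact absurd (Finset.mem_univ _) h

/-- The graph automorphism of `GL`. -/
def GraphFacts.aut : GL D.Idx F ≃* GL D.Idx F := MulAut.conj hG.mat

theorem GraphFacts.aut_eq (g : GL D.Idx F) : hG.aut g = hG.mat * g * (hG.mat)⁻¹ := rfl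

variable (hF : Facts.{u} D)
include hF

theorem GraphFacts.aut_pm {r : Fin D.nroots} (hr : IsPMSimple D r) (t : F) :
    hG.aut (xG hF r t) = xG hF (ρ r) t := by
  have hε : ε r = 1 := by
    obtain ⟨i, hi, e | e⟩ := hr
    · exact (hG.simple ⟨i, hi⟩ r e).2
    · exact ((hG.neg ⟨D.simple i, hF.simple_lt i hi⟩ r e).2).trans
        (hG.simple ⟨i, hi⟩ ⟨D.simple i, hF.simple_lt i hi⟩ rfl).2
  rw [hG.aut_eq, mul_inv_eq_iff_eq_mul]
  apply Units.ext
  rw [Units.val_mul, Units.val_mul, xG_val, xG_val, ChevalleyDatum.x, ChevalleyDatum.x,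
    dif_pos r.2, dif_pos (ρ r).2]
  ext a b
  obtain ⟨a, rfl⟩ := (Equiv.sumCongr π ρ).surjective a
  rw [hG.mat_mul_apply, hG.mul_mat_apply]
  obtain ⟨n, hn⟩ : ∃ n : Fin D.nroots, (n : ℕ) = D.neg r := ⟨⟨_, neg_lt hF r.2⟩, rfl⟩
  have hρn := (hG.neg r n hn).1
  rcases b with i | s
  · rcases a with i' | w
    · simp [ChevalleyDatum.xMat, graphWeight]
    · simp only [ChevalleyDatum.xMat, Matrix.of_apply, Equiv.sumCongr_apply, Sum.map_inl,
        Sum.map_inr, graphWeight, Sum.elim_inl, Sum.elim_inr, mul_one, Fin.eta, EmbeddingLike.apply_eq_iff_eq]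
      by_cases hw : w = r
      · subst hw
        have hc : (D.cartanSR.getD (π i : ℕ) #[]).getD (ρ w : ℕ) 0 =
            (D.cartanSR.getD (i : ℕ) #[]).getD (w : ℕ) 0 := hG.cartan i w
        rw [if_pos rfl, if_pos rfl, hε, Int.cast_one, one_mul, hc]
      · rw [if_neg hw, if_neg hw, mul_zero]
  · simp only [ChevalleyDatum.xMat, Matrix.of_apply, Equiv.sumCongr_apply, Sum.map_inr,
      graphWeight, Sum.elim_inr, Fin.eta, EmbeddingLike.apply_eq_iff_eq]
    by_cases hsr : s = r
    · subst hsr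
      rcases a with i' | w
      · simp
      · simp only [Sum.map_inr, Sum.elim_inr, if_true, EmbeddingLike.apply_eq_iff_eq]
        by_cases hw : w = s
        · subst hw; simp
        · simp [hw]
    rw [if_neg hsr, if_neg hsr]
    by_cases hsn : (s : ℕ) = D.negIdx.getD (r : ℕ) 0
    · obtain rfl : s = n := Fin.ext (hsn.trans hn.symm)
      rw [if_pos hsn, if_pos (show (ρ s : ℕ) = D.negIdx.getD (ρ r : ℕ) 0 from hρn)]
      have hεs : ε s = 1 := (hG.neg r s hn).2.trans hε
      rcases a with i' | w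
      · have hc : (D.coroot.getD (ρ r : ℕ) #[]).getD (π i' : ℕ) 0 =
            (D.coroot.getD (r : ℕ) #[]).getD (i' : ℕ) 0 := hG.coef i' r
        simp only [Sum.map_inl, Sum.elim_inl, one_mul, mul_one, hεs, Int.cast_one, hc]
      · simp only [Sum.map_inr, Sum.elim_inr, EmbeddingLike.apply_eq_iff_eq, hεs, Int.cast_one,
          mul_one]
        by_cases hws : w = s
        · subst hws; simp [hεs]
        · rw [if_neg hws]
          by_cases hwr : w = r
          · subst hwr; simp [hε]
          · simp [hwr]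
    · have hsn' : ¬ (ρ s : ℕ) = D.negIdx.getD (ρ r : ℕ) 0 := fun e => hsn (by
        have : ρ s = ρ n := Fin.ext (e.trans hρn.symm)
        rw [ρ.injective this]; exact hn)
      rw [if_neg hsn, if_neg hsn']
      rcases a with i' | w
      · simp
      · simp only [Sum.map_inr, Sum.elim_inr, EmbeddingLike.apply_eq_iff_eq]
        rw [hG.chain r hr s (fun e => hsr (Fin.ext e)) hsn w, List.map_map, add_mul,
          ← List.sum_map_mul_right, mul_add, ← List.sum_map_mul_left]
        congr 1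
        · by_cases hws : w = s
          · subst hws; simp
          · simp [hws]
        · refine congrArg List.sum (List.map_congr_left fun km _ => ?_)
          simp only [Function.comp_apply, Int.cast_mul]
          rw [show ((ε s : ℤ) : F) * (ε w : F) * (km.2 : F) * t ^ km.1 * (ε s : F) =
            (ε w : F) * ((km.2 : F) * t ^ km.1) * ((ε s : F) * (ε s : F)) by ring,
            hG.cast_sq s, mul_one]

theorem GraphFacts.aut_nS (i : Fin D.rank) :
    hG.aut (nS hF (i : ℕ) : GL D.Idx F) = nS hF (π i : ℕ) := by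
  have hp : (sRoot hF i : ℕ) = D.simple i := rfl
  have hρ := (hG.simple i (sRoot hF i) hp).1
  have hn := (hG.neg (sRoot hF i) (negF hF (sRoot hF i)) rfl).1
  rw [hρ] at hn
  show hG.aut (xG hF (sRoot hF i : ℕ) (1 : F) * xG hF (negF hF (sRoot hF i) : ℕ) (-(1 : F)⁻¹) *
    xG hF (sRoot hF i : ℕ) 1) = _
  rw [map_mul, map_mul, hG.aut_pm hF ⟨i, i.2, Or.inl rfl⟩, hG.aut_pm hF ⟨i, i.2, Or.inr rfl⟩, hρ,
    hn]
  rfl

/-- The graph automorphism permutes the root subgroups up to a sign. -/
theorem GraphFacts.aut_x (r : Fin D.nroots) :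
    ∃ e : F, (e = 1 ∨ e = -1) ∧ ∀ t : F, hG.aut (xG hF r t) = xG hF (ρ r) (e * t) := by
  suffices H : ∀ r, r < D.nroots → ∀ s : Fin D.nroots, (s : ℕ) = r →
      ∃ e : F, (e = 1 ∨ e = -1) ∧ ∀ t : F, hG.aut (xG hF s t) = xG hF (ρ s) (e * t) from
    H r r.2 r rfl
  refine hF.root_induction _ (fun i hi s hs => ?_) (fun i hi r hr ih s hs => ?_)
  · exact ⟨1, Or.inl rfl, fun t => by rw [hG.aut_pm hF ⟨i, hi, Or.inl hs⟩, one_mul]⟩
  obtain ⟨e, he, h⟩ := ih ⟨r, hr⟩ rfl
  have hρs := hG.refl ⟨i, hi⟩ ⟨r, hr⟩ s hs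
  set η : F := ((etaN hF i r : ℤ) : F) with hη
  set η' : F := ((etaN hF (π ⟨i, hi⟩ : ℕ) (ρ ⟨r, hr⟩ : ℕ) : ℤ) : F) with hη'
  refine ⟨η' * e * η, ?_, fun t => ?_⟩
  · have hpm : ∀ {a b : ℕ}, a < D.rank → b < D.nroots →
        ((etaN hF a b : ℤ) : F) = 1 ∨ ((etaN hF a b : ℤ) : F) = -1 := fun ha hb => by
      rcases (etaN_spec hF ha).1 _ hb with e' | e' <;> simp [e']
    rcases hpm hi hr with a | a <;> rcases hpm (π ⟨i, hi⟩).2 (ρ ⟨r, hr⟩).2 with b | b <;>
      rcases he with c | c <;> simp [hη, hη', a, b, c]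
  · have e1 : xG hF (s : ℕ) t = nS hF i * xG hF r (η * t) * (nS hF i)⁻¹ := by
      rw [nS_conj_x hF hi hr, mul_inv_cancel_right, ← hη, ← mul_assoc, hη, etaN_cast_sq hF hi hr,
        one_mul, hs]
    rw [e1, map_mul, map_mul, map_inv, show hG.aut (nS hF i : GL D.Idx F) = _ from
      hG.aut_nS hF ⟨i, hi⟩, h, nS_conj_x hF (π ⟨i, hi⟩).2 (ρ ⟨r, hr⟩).2, mul_inv_cancel_right,
      hρs, ← hη']
    congr 1
    ring

theorem GraphFacts.map_group : (D.group F).map hG.aut.toMonoidHom = D.group F := by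
  refine le_antisymm ?_ ?_
  · rw [Subgroup.map_le_iff_le_comap]
    refine (Subgroup.closure_le _).2 ?_
    rintro g ⟨r, t, e⟩
    obtain ⟨e', -, h⟩ := hG.aut_x hF r (F := F)
    show hG.aut g ∈ D.group F
    rw [show g = xG hF r t from Units.ext (by rw [xG_val, ChevalleyDatum.x, dif_pos r.2]; exact e), h]
    exact xG_mem_group hF _ _
  · refine (Subgroup.closure_le _).2 ?_
    rintro g ⟨r, t, e⟩
    obtain ⟨s, rfl⟩ := ρ.surjective r
    obtain ⟨e', he', h⟩ := hG.aut_x hF s (F := F)
    refine ⟨xG hF s (e' * t), xG_mem_group hF _ _, ?_⟩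
    show hG.aut _ = g
    rw [h, ← mul_assoc, show e' * e' = 1 by rcases he' with a | a <;> simp [a], one_mul]
    exact Units.ext (by rw [xG_val, ChevalleyDatum.x, dif_pos (ρ s).2]; exact e.symm)

/-- The graph automorphism of the Chevalley group. -/
noncomputable def GraphFacts.groupAut : ↥(D.group F) ≃* ↥(D.group F) :=
  ((hG.aut (F := F)).subgroupMap (D.group F)).trans (MulEquiv.subgroupCongr (hG.map_group hF))

theorem GraphFacts.groupAut_val (g : ↥(D.group F)) :
    ((hG.groupAut hF g : ↥(D.group F)) : GL D.Idx F) = hG.aut (g : GL D.Idx F) := rfl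

end Cfsg.Agent.Chev
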