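import Cfsg.Agent.Chev.TopCentralizer

/-!
Centralisers of elements supported on dominant roots which are central in `U`, in characteristic two.
-/

set_option autoImplicit false

namespace Cfsg.Agent.Chev

open Cfsg.Lie
open scoped MatrixGroups

universe u

variable {D : ChevalleyDatum}

/-- The root elements of `a` and `b` commute in characteristic two, read off the tables. -/
def commutesTwoChk (D : ChevalleyDatum) (a b : ℕ) : Bool :=
  decide (b = a) ||
    (decide (b ≠ D.neg a) && (D.commTerms a b).all fun c => decide (c.2.1 % 2 = 0))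

variable (hF : Facts.{u} D)
include hF

/-- The common stabiliser of some dominant roots is generated by the fundamental reflections fixing
all of them. -/
theorem stab_dominant_list {R : List (Fin D.nroots)}
    (hdom : ∀ r ∈ R, ∀ j : Fin D.rank, 0 ≤ D.cartan j r) :
    ∀ (n : ℕ) (w : List (Fin D.rank)), w.length = n → (∀ r ∈ R, pWord hF w r = r) →
      ∃ v : List (Fin D.rank), (∀ i ∈ v, ∀ r ∈ R, D.cartan i r = 0) ∧
        pWord hF w = pWord hF v := by
  intro n
  induction n using Nat.strong_induction_on with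
  | _ n ih =>
    intro w hn hw
    by_cases h1 : pWord hF w = 1
    · exact ⟨[], by simp, h1⟩
    obtain ⟨i, hi⟩ : ∃ i, (pWord hF w (sRoot hF i) : ℕ) < half D := by
      by_contra h
      exact h1 (eq_one_of_pos hF (pWord_mem hF w) fun i => not_lt.1 fun hi => h ⟨i, hi⟩)
    have hA : ∀ r ∈ R, D.cartan i r = 0 := by
      intro r hr
      refine le_antisymm ?_ (hdom r hr i)
      have e := pairing_pWord hF w (sRoot hF i) r
      rw [hw r hr, show ((sRoot hF i : Fin D.nroots) : ℕ) = D.simple i from rfl,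
        pairing_simple hF] at e
      rw [← e]
      exact Finset.sum_nonpos fun j _ =>
        mul_nonpos_of_nonpos_of_nonneg (coef_nonpos hF hi j) (hdom r hr j)
    have hfix : ∀ r ∈ R, wPerm hF i r = r := by
      intro r hr
      apply Fin.ext
      have h2 := hF.cartan_self i i.2
      have h3 := hF.cartan_neg (D.simple i) (hF.simple_lt i i.2) i i.2
      have hA' := hA r hr
      have hne : (r : ℕ) ≠ D.simple i := fun e => by rw [← e, hA'] at h2; omega
      have hne' : (r : ℕ) ≠ D.neg (D.simple i) := fun e => by rw [← e, hA', h2] at h3; omega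
      rw [wPerm_val, ChevalleyDatum.reflectRoot]
      simp [hne, hne', hA']
    obtain ⟨u, j, v, hwuv, hp⟩ := exchange_perm hF w i hi
    have hfix' : ∀ r ∈ R, pWord hF (u ++ v) r = r := fun r hr => by
      rw [← hp, Equiv.Perm.mul_apply, hfix r hr, hw r hr]
    obtain ⟨v', hv', hvp⟩ := ih _ (by rw [← hn, hwuv]; simp) (u ++ v) rfl hfix'
    refine ⟨v' ++ [i], ?_, ?_⟩
    · intro x hx
      rcases List.mem_append.1 hx with hx | hx
      · exact hv' x hx
      · rw [List.mem_singleton.1 hx]; exact hA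
    · rw [pWord_append, show pWord hF [i] = wPerm hF i by simp [pWord], ← hvp, ← hp, mul_assoc,
        wPerm_sq, mul_one]

variable {F : Type u} [Field F]

theorem commute_of_chk_two [CharP F 2] {a b : ℕ} (ha : a < D.nroots) (hb : b < D.nroots)
    (h : commutesTwoChk D a b = true) (t v : F) : Commute (xG hF b v) (xG hF a t) := by
  by_cases hab : b = a
  · subst hab
    show _ = _
    rw [xG_mul, xG_mul, add_comm]
  simp only [commutesTwoChk, hab, decide_false, Bool.false_or, Bool.and_eq_true, decide_eq_true_eq,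
    List.all_eq_true] at h
  have e := xG_comm hF ha hb hab h.1 t v
  have hw : wordG hF (D.commWord F a b t v) = 1 := by
    rw [← Subgroup.mem_bot]
    refine wordG_mem hF fun p hp => ?_
    obtain ⟨c, hc, rfl⟩ := List.mem_map.1 hp
    have h2 : ((c.2.1 : ℤ) : F) = 0 := by
      rw [CharP.intCast_eq_zero_iff F 2]
      exact Int.dvd_of_emod_eq_zero (by simpa using h.2 c hc)
    rw [Subgroup.mem_bot, h2, zero_mul, zero_mul, xG_zero]
  exact e.trans (by rw [hw, mul_one])

theorem dom_commute_posUnipotent [CharP F 2] {a : ℕ} (ha : a < D.nroots)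
    (h : ∀ s < D.nroots, half D ≤ s → commutesTwoChk D a s = true) {v : GL D.Idx F}
    (hv : v ∈ D.posUnipotent F) (t : F) : Commute v (xG hF a t) := by
  rw [posUnipotent_eq hF] at hv
  have hle : Subgroup.closure (rootsFrom hF (half D) (F := F)) ≤
      Subgroup.centralizer {xG hF a t} := by
    refine (Subgroup.closure_le _).2 ?_
    rintro _ ⟨r, s, h1, h2, rfl⟩
    exact Subgroup.mem_centralizer_singleton_iff.2 (commute_of_chk_two hF ha h2 (h r h2 h1) t s).eq
  exact Subgroup.mem_centralizer_singleton_iff.1 (hle hv)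

/-- The centraliser of an element `z`, central in `U`, whose Weyl stabiliser is that of the dominant
roots `R` and whose torus centraliser has trivial parameters on `K`. -/
theorem centralizer_dominant (z : GL D.Idx F) (R : List (Fin D.nroots)) (K : Finset (Fin D.rank))
    (l : List ℕ)
    (hzU : ∀ v ∈ D.posUnipotent F, Commute v z)
    (hzl : ∀ s ∈ l, ∀ c : F, Commute (xG hF s c) z)
    (hdom : ∀ r ∈ R, ∀ j : Fin D.rank, 0 ≤ D.cartan j r)
    (hK : ∀ k ∈ K, ∃ r ∈ R, D.cartan k r ≠ 0)
    (hJ : ∀ j : Fin D.rank, j ∉ K → (∀ r ∈ R, D.cartan j r = 0) ∧ D.neg (D.simple j) ∈ l)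
    (hl : ∀ s ∈ l, s < D.nroots)
    (hfixR : ∀ (w : List (Fin D.rank)) (c : Fin D.rank → Fˣ),
      Commute (torusHom c * nWord hF w) z → ∀ r ∈ R, pWord hF w r = r)
    (hfixK : ∀ c : Fin D.rank → Fˣ, Commute (torusHom c : GL D.Idx F) z → ∀ k ∈ K, c k = 1) :
    D.group F ⊓ Subgroup.centralizer {z} = D.posUnipotent F ⊔
      Subgroup.closure {g : GL D.Idx F | ∃ s ∈ l, ∃ c : F,
        (g : Matrix D.Idx D.Idx F) = D.x F s c} := by
  classical
  set S : Set (GL D.Idx F) := {g | ∃ s ∈ l, ∃ c : F, (g : Matrix D.Idx D.Idx F) = D.x F s c}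
  set M := D.posUnipotent F ⊔ Subgroup.closure S with hM
  have hUG : D.posUnipotent F ≤ D.group F := le_sup_left.trans (borel_le_group hF)
  have hMle : M ≤ D.group F ⊓ Subgroup.centralizer {z} := by
    refine sup_le (le_inf hUG fun v hv =>
      Subgroup.mem_centralizer_singleton_iff.2 (hzU v hv).eq)
      ((Subgroup.closure_le _).2 ?_)
    rintro g ⟨s, hs, c, hg⟩
    obtain rfl : g = xG hF s c := Units.ext hg
    exact ⟨xG_mem_group hF s c, Subgroup.mem_centralizer_singleton_iff.2 (hzl s hs c).eq⟩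
  have hn : ∀ j : Fin D.rank, (∀ r ∈ R, D.cartan j r = 0) → ∀ c : F,
      xG hF (D.simple j) c ∈ M ∧ xG hF (D.neg (D.simple j)) c ∈ M := by
    intro j hj c
    refine ⟨Subgroup.mem_sup_left (mem_posUnipotent_of hF (hF.simple_lt j j.2)
      (hF.simple_pos j j.2) c), Subgroup.mem_sup_right (Subgroup.subset_closure
        ⟨_, (hJ j ?_).2, c, rfl⟩)⟩
    intro hjK
    obtain ⟨r, hr, hne⟩ := hK j hjK
    exact hne (hj r hr)
  have hnG : ∀ j : Fin D.rank, (∀ r ∈ R, D.cartan j r = 0) → ∀ c : F,
      nG hF (D.simple j) c ∈ M := fun j hj c =>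
    Subgroup.mul_mem _ (Subgroup.mul_mem _ (hn j hj _).1 (hn j hj _).2) (hn j hj _).1
  refine le_antisymm ?_ hMle
  rintro g ⟨hgG, hgC⟩
  replace hgC : Commute g z := Subgroup.mem_centralizer_singleton_iff.1 hgC
  obtain ⟨b, hb, w, x, hx, rfl⟩ := exists_normalForm hF hgG
  obtain ⟨v, hv, c, rfl⟩ := (mem_borel_iff hF).1 hb
  have hxU : x ∈ D.posUnipotent F := by
    refine (Subgroup.closure_le _).2 ?_ hx
    rintro _ ⟨r, s, h1, -, rfl⟩
    exact mem_posUnipotent_of hF r.2 h1 s
  -- The monomial part commutes with `z`.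
  have hmid : Commute (torusHom c * nWord hF w) z := by
    have h1 : torusHom c * nWord hF w = v⁻¹ * (v * torusHom c * nWord hF w * x) * x⁻¹ := by group
    rw [h1]
    exact ((hzU v hv).inv_left.mul_left hgC).mul_left (hzU x hxU).inv_left
  have hfix := hfixR w c hmid
  obtain ⟨w', hw', hpw⟩ := stab_dominant_list hF hdom _ w rfl hfix
  have hw'M : (nWord hF w' : GL D.Idx F) ∈ M := by
    refine Subgroup.list_prod_mem _ fun y hy => ?_
    obtain ⟨i, hi, rfl⟩ := List.mem_map.1 hy
    exact hnG i (hw' i hi) 1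
  obtain ⟨d, hd⟩ := (mem_diagonal_iff hF).1 (mem_diagonal_of_isMon_one hF
    (Subgroup.mul_mem _ (Subgroup.inv_mem _ (nWord_mem hF w')) (nWord_mem hF w) :
      (nWord hF w' : GL D.Idx F)⁻¹ * nWord hF w ∈ D.monomialSubgroup F) (by
      have h1 : IsMon hF ((nWord hF w' : GL D.Idx F)⁻¹) (pWord hF w')⁻¹ := by
        have h := isMon_monPerm hF (Subgroup.inv_mem _ (nWord_mem hF w' (F := F)))
        have h2 := isMon_mul hF (isMon_nWord hF w') h
        rw [mul_inv_cancel] at h2
        have := isMon_unique hF h2 (isMon_one hF)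
        rwa [eq_inv_of_mul_eq_one_right this] at h
      have h2 := isMon_mul hF h1 (isMon_nWord hF w)
      rwa [← hpw, inv_mul_cancel] at h2))
  obtain ⟨d', hd'⟩ := nWord_torus hF w' d (F := F)
  have hg : v * torusHom c * nWord hF w * x = v * torusHom (c * d') * (nWord hF w' * x) := by
    rw [map_mul, show (nWord hF w : GL D.Idx F) = torusHom d' * nWord hF w' by
      rw [← hd', hd, mul_inv_cancel_left]]
    group
  have hR : nWord hF w' * x ∈ M := Subgroup.mul_mem _ hw'M (Subgroup.mem_sup_left hxU)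
  have hT : Commute (torusHom (c * d') : GL D.Idx F) z := by
    have h1 : torusHom (c * d') = v⁻¹ * (v * torusHom c * nWord hF w * x) * (nWord hF w' * x)⁻¹ := by
      rw [hg]; group
    rw [h1]
    refine ((hzU v hv).inv_left.mul_left hgC).mul_left (Commute.inv_left ?_)
    exact Subgroup.mem_centralizer_singleton_iff.1 (hMle hR).2
  have hk1 := hfixK _ hT
  rw [hg]
  refine Subgroup.mul_mem _ (Subgroup.mul_mem _ (Subgroup.mem_sup_left hv) ?_) hR
  rw [← Finset.univ_prod_mulSingle (c * d'), map_prod_torus]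
  refine Subgroup.list_prod_mem _ fun y hy => ?_
  obtain ⟨j, -, rfl⟩ := List.mem_map.1 hy
  by_cases hjk : j ∈ K
  · rw [hk1 j hjk, Pi.mulSingle_one, map_one]; exact Subgroup.one_mem _
  · rw [← coH_simple hF j.2, ← hG_simple hF j.2]
    exact Subgroup.mul_mem _ (hnG j (hJ j hjk).1 _) (hnG j (hJ j hjk).1 _)
where
  map_prod_torus (f : Fin D.rank → (Fin D.rank → Fˣ)) :
      (torusHom (∏ j, f j) : GL D.Idx F) =
        ((List.finRange D.rank).map fun j => torusHom (f j)).prod := by
    rw [Fin.prod_univ_def, map_list_prod, List.map_map]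
    rfl

/-- An element `x_a(p) x_b(q)` with distinct roots lies among the positive ones only for positive
roots, and determines them. -/
theorem pair_inj {a b a' b' : Fin D.nroots} {p q p' q' : F} (hp : p ≠ 0) (hq : q ≠ 0)
    (ha' : half D ≤ (a' : ℕ)) (hb' : half D ≤ (b' : ℕ)) (hab : a ≠ b) (hab' : (a' : ℕ) < b')
    (hc : Commute (xG hF a p) (xG hF b q))
    (e : xG hF a p * xG hF b q = xG hF a' p' * xG hF b' q') :
    ((a = a' ∧ b = b') ∨ (a = b' ∧ b = a')) := by
  classical
  have hU : xG hF a' p' * xG hF b' q' ∈ D.posUnipotent F :=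
    Subgroup.mul_mem _ (mem_posUnipotent_of hF a'.2 ha' _) (mem_posUnipotent_of hF b'.2 hb' _)
  have hone : ∀ (r : Fin D.nroots) (t : F), (r : ℕ) < half D →
      xG hF r t ∈ D.posUnipotent F → t = 0 := fun r t hr hm => by
    have h := borel_inf_upper hF (Subgroup.mem_sup_left hm)
      (negUnipotent_le_upperGroup hF (mem_negUnipotent_of hF r.2 hr t))
    exact (xG_eq_one_iff hF r.2).1 h
  have hpa : half D ≤ (a : ℕ) := by
    by_contra h
    rw [not_le] at h
    by_cases hb : half D ≤ (b : ℕ)
    · refine hp (hone a p h ?_)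
      have := Subgroup.mul_mem _ (e ▸ hU : xG hF a p * xG hF b q ∈ D.posUnipotent F)
        (Subgroup.inv_mem _ (mem_posUnipotent_of hF b.2 hb q))
      rwa [mul_inv_cancel_right] at this
    · rw [not_le] at hb
      have h1 := borel_inf_upper hF (Subgroup.mem_sup_left (e ▸ hU))
        (negUnipotent_le_upperGroup hF (Subgroup.mul_mem _ (mem_negUnipotent_of hF a.2 h p)
          (mem_negUnipotent_of hF b.2 hb q)))
      rw [mul_eq_one_iff_eq_inv, xG_inv] at h1
      exact hab (Fin.ext (eq_of_x_eq hF b.2 (neg_ne_zero.2 hq) (congrArg Units.val h1).symm).1).symm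
  have hpb : half D ≤ (b : ℕ) := by
    by_contra h
    rw [not_le] at h
    refine hq (hone b q h ?_)
    have := Subgroup.mul_mem _ (Subgroup.inv_mem _ (mem_posUnipotent_of hF a.2 hpa p))
      (e ▸ hU : xG hF a p * xG hF b q ∈ D.posUnipotent F)
    rwa [inv_mul_cancel_left] at this
  have key : ∀ (a b : Fin D.nroots) (p q : F), half D ≤ (a : ℕ) → (a : ℕ) < b →
      xG hF a p * xG hF b q = prodFrom hF (half D)
        (fun r => if r = (a : ℕ) then p else if r = (b : ℕ) then q else 0) := by
    intro a b p q h1 h2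
    have hz : ∀ (m k : ℕ) (t : ℕ → F), k + m ≤ D.nroots → (∀ r, k ≤ r → r < k + m → t r = 0) →
        prodFrom hF k t = prodFrom hF (k + m) t := by
      intro m
      induction m with
      | zero => intros; rfl
      | succ m ihm =>
        intro k t hk ht
        rw [prodFrom_succ hF (by omega), ht k le_rfl (by omega), xG_zero, one_mul,
          ihm (k + 1) t (by omega) (fun r h3 h4 => ht r (by omega) (by omega))]
        congr 1; omega
    obtain ⟨m1, hm1⟩ := Nat.exists_eq_add_of_le h1
    obtain ⟨m2, hm2⟩ := Nat.exists_eq_add_of_le (show (a : ℕ) + 1 ≤ b from h2)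
    obtain ⟨m3, hm3⟩ := Nat.exists_eq_add_of_le (show (b : ℕ) + 1 ≤ D.nroots from b.2)
    rw [hz m1 (half D) _ (by omega) (fun r _ _ => by rw [if_neg (by omega), if_neg (by omega)]),
      ← hm1, prodFrom_succ hF a.2, if_pos rfl,
      hz m2 ((a : ℕ) + 1) _ (by omega) (fun r _ _ => by rw [if_neg (by omega), if_neg (by omega)]),
      ← hm2, prodFrom_succ hF b.2, if_neg (by omega), if_pos rfl,
      hz m3 ((b : ℕ) + 1) _ (by omega) (fun r _ _ => by rw [if_neg (by omega), if_neg (by omega)]),
      ← hm3, prodFrom_top hF le_rfl, mul_one]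
  have hmem : ∀ (a b : Fin D.nroots) (p q : F), p ≠ 0 → q ≠ 0 → half D ≤ (a : ℕ) → (a : ℕ) < b →
      xG hF a p * xG hF b q = xG hF a' p' * xG hF b' q' →
      (a = a' ∧ b = b') ∨ (a = b' ∧ b = a') := by
    intro a b p q hp hq h1 h2 e
    rw [key a b p q h1 h2, key a' b' p' q' ha' hab'] at e
    have hi := prodFrom_inj hF _ _ rfl le_rfl e
    have e1 := hi a h1 a.2
    have e2 := hi b (by omega) b.2
    simp only [if_true, if_neg (show (b : ℕ) ≠ a by omega)] at e1 e2
    have f1 : (a : ℕ) = a' ∨ (a : ℕ) = b' := by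
      by_contra! hne
      rw [if_neg hne.1, if_neg hne.2] at e1
      exact hp e1
    have f2 : (b : ℕ) = a' ∨ (b : ℕ) = b' := by
      by_contra! hne
      rw [if_neg hne.1, if_neg hne.2] at e2
      exact hq e2
    exact Or.inl ⟨Fin.ext (by omega), Fin.ext (by omega)⟩
  rcases Nat.lt_or_gt_of_ne (fun h => hab (Fin.ext h)) with h | h
  · exact hmem a b p q hp hq hpa h e
  · rw [hc.eq] at e
    rcases hmem b a q p hq hp hpb h e with h' | h'
    · exact Or.inr ⟨h'.2, h'.1⟩
    · exact Or.inl ⟨h'.2, h'.1⟩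

end Cfsg.Agent.Chev
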