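import Cfsg.Agent.Chev.SteinbergCells
import Cfsg.Agent.GLFlags.PermChar

/-!
Orbits on pairs of cosets of parabolic subgroups, and the norm of the Steinberg character.
-/

set_option autoImplicit false
set_option maxHeartbeats 1000000
set_option synthInstance.maxHeartbeats 200000

namespace Cfsg.Agent.Chev

open Cfsg.Lie
open scoped MatrixGroups

universe u

section Weyl

variable {D : ChevalleyDatum} (hF : Facts.{u} D)
include hF

/-- Minimality on both sides. -/
def IsBiMin (J K : Finset (Fin D.rank)) (π : Equiv.Perm (Fin D.nroots)) : Prop :=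
  IsMin hF K π ∧ IsMin hF J π⁻¹

/-- A shorter word for `x w_k` when `x` is minimal. -/
theorem step_minimal {K : Finset (Fin D.rank)} {x : Equiv.Perm (Fin D.nroots)}
    (hx : IsMin hF K x) (s : Fin D.rank) :
    IsMin hF K (wPerm hF s * x) ∨ ∃ k ∈ K, wPerm hF s * x * wPerm hF k = x := by
  by_cases h : ∀ k ∈ K, half D ≤ ((wPerm hF s * x) (sRoot hF k) : ℕ)
  · exact Or.inl ⟨Subgroup.mul_mem _ (Subgroup.subset_closure ⟨s, rfl⟩) hx.1, h⟩
  obtain ⟨k, hk, hneg⟩ : ∃ k ∈ K, ((wPerm hF s * x) (sRoot hF k) : ℕ) < half D := by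
    simpa [not_le] using h
  refine Or.inr ⟨k, hk, ?_⟩
  obtain ⟨w₀, e₀⟩ := exists_pWord hF hx.1
  obtain ⟨w, hwx, hmin⟩ := WellFounded.has_min
    (InvImage.wf List.length (Nat.lt_wfRel.wf)) {w : List (Fin D.rank) | pWord hF w = x} ⟨w₀, e₀⟩
  simp only [Set.mem_setOf_eq] at hwx
  obtain ⟨u, j, v, hw, e⟩ := exchange_perm hF (s :: w) k
    (by rw [pWord_cons, hwx]; exact hneg)
  rw [pWord_cons, hwx] at e
  rcases u with _ | ⟨a, u⟩
  · rw [List.nil_append, List.cons.injEq] at hw
    rw [e, List.nil_append, ← hw.2, hwx]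
  · exfalso
    rw [List.cons_append, List.cons.injEq] at hw
    rw [List.cons_append, pWord_cons, ← hw.1, mul_assoc, mul_left_cancel_iff] at e
    have hneg2 : (pWord hF (u ++ v) (sRoot hF k) : ℕ) < half D := by
      rw [← e, Equiv.Perm.mul_apply, wPerm_sRoot, weyl_negF hF hx.1]
      exact (neg_lt_half_iff hF (x (sRoot hF k)).2).2 (hx.2 k hk)
    obtain ⟨u', j', v', hw', e'⟩ := exchange_perm hF (u ++ v) k hneg2
    rw [← e, mul_assoc, wPerm_sq, mul_one] at e'
    refine hmin (u' ++ v') e'.symm ?_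
    show (u' ++ v').length < w.length
    have h1 := congrArg List.length hw'
    rw [hw.2]
    simp at h1 ⊢
    omega

theorem min_rep_left {J K : Finset (Fin D.rank)} {x : Equiv.Perm (Fin D.nroots)}
    (hx : IsMin hF K x) : ∀ {a : Equiv.Perm (Fin D.nroots)}, a ∈ wJ hF J →
      ∃ a' ∈ wJ hF J, IsMin hF K (a' * x) ∧ (a' * x)⁻¹ * (a * x) ∈ wJ hF K := by
  intro a ha
  obtain ⟨w, hw, rfl⟩ := exists_pWord_J hF ha
  clear ha
  induction w with
  | nil => exact ⟨1, Subgroup.one_mem _, by simpa using hx, by simp [pWord]⟩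
  | cons i w ih =>
    obtain ⟨a', ha', hmin, hc⟩ := ih fun j hj => hw j (List.mem_cons_of_mem _ hj)
    have hiJ : wPerm hF i ∈ wJ hF J := Subgroup.subset_closure ⟨i, hw i List.mem_cons_self, rfl⟩
    rcases step_minimal hF hmin i with h | ⟨k, hk, hk'⟩
    · refine ⟨wPerm hF i * a', Subgroup.mul_mem _ hiJ ha', by rwa [mul_assoc], ?_⟩
      rw [pWord_cons, show (wPerm hF i * a' * x)⁻¹ * (wPerm hF i * pWord hF w * x) =
        (a' * x)⁻¹ * (pWord hF w * x) by group]
      exact hc
    · refine ⟨a', ha', hmin, ?_⟩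
      have hs : wPerm hF i * (a' * x) = a' * x * wPerm hF k := by
        calc wPerm hF i * (a' * x)
            = wPerm hF i * (a' * x) * wPerm hF k * wPerm hF k := by
              rw [mul_assoc _ (wPerm hF k), wPerm_sq, mul_one]
          _ = a' * x * wPerm hF k := by rw [hk']
      rw [pWord_cons, show (a' * x)⁻¹ * (wPerm hF i * pWord hF w * x) =
        (a' * x)⁻¹ * (wPerm hF i * (a' * x)) * ((a' * x)⁻¹ * (pWord hF w * x)) by group, hs,
        inv_mul_cancel_left]
      exact Subgroup.mul_mem _ (Subgroup.subset_closure ⟨k, hk, rfl⟩) hc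

theorem biMin_unique {J K : Finset (Fin D.rank)} {x y a c : Equiv.Perm (Fin D.nroots)}
    (hx : IsBiMin hF J K x) (hy : IsBiMin hF J K y) (ha : a ∈ wJ hF J) (hc : c ∈ wJ hF K)
    (e : y = a * x * c) : x = y := by
  obtain ⟨a', ha', hmin, hcc⟩ := min_rep_left hF hx.1 ha
  have h1 : a' * x = y := by
    refine isMin_unique hF hmin hy.1 ?_
    rw [e, ← mul_assoc]
    exact Subgroup.mul_mem _ hcc hc
  have h2 := isMin_unique hF hx.2 hy.2 (by
    rw [inv_inv, ← h1, mul_inv_rev, mul_inv_cancel_left]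
    exact Subgroup.inv_mem _ ha')
  exact inv_injective h2

theorem exists_biMin (J K : Finset (Fin D.rank)) : ∀ (n : ℕ) {π : Equiv.Perm (Fin D.nroots)},
    invCard π = n → π ∈ weyl hF →
    ∃ x, IsBiMin hF J K x ∧ ∃ a ∈ wJ hF J, ∃ c ∈ wJ hF K, π = a * x * c := by
  intro n
  induction n using Nat.strong_induction_on with
  | _ n ih =>
    intro π hn hπ
    obtain ⟨u, hu, hv⟩ := exists_min hF (J := K) _ rfl hπ
    obtain ⟨u', hu', hv'⟩ := exists_min hF (J := J) _ rfl (Subgroup.inv_mem _ hπ)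
    have e1 := invCard_min_split hF hu hv
    rw [mul_inv_cancel_left, hn] at e1
    have e2 := invCard_min_split hF hu' hv'
    rw [mul_inv_cancel_left, invCard_inv hF hπ, hn, ← invCard_inv hF hu'.1] at e2
    by_cases hsame : invCard (u⁻¹ * π) = 0 ∧ invCard (u'⁻¹ * π⁻¹) = 0
    · have h1 : u⁻¹ * π = 1 := eq_one_of_pos hF (Subgroup.mul_mem _ (Subgroup.inv_mem _ hu.1) hπ)
        fun i => not_lt.1 fun hi => by
          have := invCard_pos_of_inverted (hF.simple_pos i i.2) hi; omega
      have h2 : u'⁻¹ * π⁻¹ = 1 := eq_one_of_pos hF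
        (Subgroup.mul_mem _ (Subgroup.inv_mem _ hu'.1) (Subgroup.inv_mem _ hπ))
        fun i => not_lt.1 fun hi => by
          have := invCard_pos_of_inverted (hF.simple_pos i i.2) hi; omega
      rw [inv_mul_eq_one] at h1 h2
      exact ⟨π, ⟨h1 ▸ hu, h2 ▸ hu'⟩, 1, Subgroup.one_mem _, 1, Subgroup.one_mem _, by simp⟩
    · by_cases hr : invCard (u⁻¹ * π) = 0
      · obtain ⟨x, hx, a, ha, c, hc, e⟩ := ih _ (by
          have : invCard (u'⁻¹ * π⁻¹) ≠ 0 := fun h => hsame ⟨hr, h⟩
          omega) rfl (Subgroup.inv_mem _ hu'.1)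
        refine ⟨x, hx, (u'⁻¹ * π⁻¹)⁻¹ * a, Subgroup.mul_mem _ (Subgroup.inv_mem _ hv') ha, c, hc,
          ?_⟩
        rw [show (u'⁻¹ * π⁻¹)⁻¹ * a * x * c = π * u' * (a * x * c) by group, ← e,
          mul_inv_cancel_right]
      · obtain ⟨x, hx, a, ha, c, hc, e⟩ := ih _ (by omega) rfl hu.1
        exact ⟨x, hx, a, ha, c * (u⁻¹ * π), Subgroup.mul_mem _ hc hv, by
          rw [← mul_assoc, ← e, mul_inv_cancel_left]⟩

open Classical in
/-- The representatives of the double cosets of two standard parabolic subgroups of `W`. -/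
noncomputable def biMinSet (J K : Finset (Fin D.rank)) : Finset (Equiv.Perm (Fin D.nroots)) :=
  (minSet hF K).filter fun x => x⁻¹ ∈ minSet hF J

theorem mem_biMinSet {J K : Finset (Fin D.rank)} {x : Equiv.Perm (Fin D.nroots)} :
    x ∈ biMinSet hF J K ↔ IsBiMin hF J K x := by
  classical
  simp only [biMinSet, Finset.mem_filter, mem_minSet hF, IsBiMin]

theorem double_alternating :
    ∑ J ∈ (Finset.univ : Finset (Fin D.rank)).powerset, (-1 : ℂ) ^ J.card *
      ∑ K ∈ (Finset.univ : Finset (Fin D.rank)).powerset,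
        (-1 : ℂ) ^ K.card * ((biMinSet hF J K).card : ℂ) = 1 := by
  classical
  obtain ⟨w, hw⟩ := exists_longest hF
  have h1 : ∀ J : Finset (Fin D.rank), ∑ K ∈ (Finset.univ : Finset (Fin D.rank)).powerset,
      (-1 : ℂ) ^ K.card * ((biMinSet hF J K).card : ℂ) =
      if (pWord hF w)⁻¹ ∈ minSet hF J then 1 else 0 := by
    intro J
    rw [← alternating_sum_fun hF (fun x => if x⁻¹ ∈ minSet hF J then (1 : ℂ) else 0) hw]
    refine Finset.sum_congr rfl fun K _ => ?_
    rw [Finset.sum_boole, biMinSet]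
  simp only [h1]
  have h2 : ∀ J : Finset (Fin D.rank), (pWord hF w)⁻¹ ∈ minSet hF J ↔ J = ∅ := by
    intro J
    rw [mem_minSet hF]
    refine ⟨fun h => Finset.eq_empty_iff_forall_notMem.2 fun j hj => ?_, fun h =>
      ⟨Subgroup.inv_mem _ (pWord_mem hF w), by simp [h]⟩⟩
    have h2 := h.2 j hj
    have h3 := hw ((pWord hF w)⁻¹ (sRoot hF j))
    rw [app_inv] at h3
    exact absurd (h3.2 h2) (not_lt.2 (hF.simple_pos j j.2))
  simp only [h2, mul_ite, mul_one, mul_zero, Finset.sum_ite_eq', Finset.mem_powerset,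
    Finset.empty_subset, if_true, Finset.card_empty, pow_zero]

end Weyl

section Group

variable {D : ChevalleyDatum} {F : Type u} [Field F] (hF : Facts.{u} D)
include hF

/-- `g` lies in a double coset `B n B` with `n` over an element of `W_J π W_K`. -/
def InDC (J K : Finset (Fin D.rank)) (π : Equiv.Perm (Fin D.nroots)) (g : GL D.Idx F) : Prop :=
  ∃ a ∈ D.borelSubgroup F, ∃ n ∈ D.monomialSubgroup F, ∃ b ∈ D.borelSubgroup F,
    g = a * n * b ∧ ∃ s ∈ wJ hF J, ∃ t ∈ wJ hF K, monPerm hF n = s * π * t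

theorem InDC.inv {J K : Finset (Fin D.rank)} {π : Equiv.Perm (Fin D.nroots)} {g : GL D.Idx F}
    (h : InDC hF J K π g) : InDC hF K J π⁻¹ g⁻¹ := by
  obtain ⟨a, ha, n, hn, b, hb, e, s, hs, t, ht, ep⟩ := h
  refine ⟨b⁻¹, Subgroup.inv_mem _ hb, n⁻¹, Subgroup.inv_mem _ hn, a⁻¹, Subgroup.inv_mem _ ha,
    by rw [e]; group, t⁻¹, Subgroup.inv_mem _ ht, s⁻¹, Subgroup.inv_mem _ hs, ?_⟩
  rw [monPerm_eq hF (isMon_inv hF hn (isMon_monPerm hF hn)), ep]
  group

theorem InDC.mul_parabolic {J K : Finset (Fin D.rank)} {π : Equiv.Perm (Fin D.nroots)}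
    {g p : GL D.Idx F} (hp : p ∈ D.parabolicSubgroup F ↑(J.map Fin.valEmbedding))
    (h : InDC hF J K π g) : InDC hF J K π (p * g) := by
  have hBmul : ∀ x ∈ D.borelSubgroup F, ∀ y, InDC hF J K π y → InDC hF J K π (x * y) := by
    rintro x hx y ⟨a, ha, n, hn, b, hb, e, hst⟩
    exact ⟨x * a, Subgroup.mul_mem _ hx ha, n, hn, b, hb, by rw [e]; group, hst⟩
  have hS : ∀ j ∈ J, ∀ y : GL D.Idx F, InDC hF J K π y → InDC hF J K π (nS hF (j : ℕ) * y) := by
    rintro j hj y ⟨a, ha, n, hn, b, hb, e, s, hs, t, ht, ep⟩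
    obtain ⟨a₁, ha₁, b₁, hb₁, h | h⟩ := step_mem hF j.2 ha hn
    · refine ⟨a₁, ha₁, nS hF (j : ℕ) * n, Subgroup.mul_mem _ (nS_mem hF j) hn, b₁ * b,
        Subgroup.mul_mem _ hb₁ hb, ?_, wPerm hF j * s,
        Subgroup.mul_mem _ (Subgroup.subset_closure ⟨j, hj, rfl⟩) hs, t, ht, ?_⟩
      · rw [e, show nS hF (j : ℕ) * (a * n * b) = nS hF (j : ℕ) * a * n * b by group, h]; group
      · rw [monPerm_eq hF (isMon_mul hF (isMon_nS hF j) (isMon_monPerm hF hn)), ep]; group
    · refine ⟨a₁, ha₁, n, hn, b₁ * b, Subgroup.mul_mem _ hb₁ hb, ?_, s, hs, t, ht, ep⟩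
      rw [e, show nS hF (j : ℕ) * (a * n * b) = nS hF (j : ℕ) * a * n * b by group, h]; group
  have hgen : ∀ y ∈ (D.borelSubgroup F : Set (GL D.Idx F)) ∪
      {y | ∃ i ∈ (↑(J.map Fin.valEmbedding) : Set ℕ), i < D.rank ∧
        (y : Matrix D.Idx D.Idx F) = D.nMat F (D.simple i) 1},
      ∀ z, InDC hF J K π z → InDC hF J K π (y * z) ∧ InDC hF J K π (y⁻¹ * z) := by
    rintro y (hy | ⟨i, hi, hir, ey⟩) z hz
    · exact ⟨hBmul y hy z hz, hBmul _ (Subgroup.inv_mem _ hy) z hz⟩
    · obtain ⟨j, hj, rfl⟩ := Finset.mem_map.1 (Finset.mem_coe.1 hi)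
      obtain rfl : y = nS hF (j : ℕ) := Units.ext (ey.trans (nG_val hF _ 1).symm)
      refine ⟨hS j hj z hz, ?_⟩
      obtain ⟨c, hc⟩ := nS_inv hF j (F := F)
      have hd := nS_mul_self hF j.2 (F := F)
      rw [show (nS hF (j : ℕ) : GL D.Idx F)⁻¹ * z =
        nS hF (j : ℕ) * ((nS hF (j : ℕ) * nS hF (j : ℕ))⁻¹ * z) by group]
      exact hS j hj _ (hBmul _ (Subgroup.mem_sup_right (Subgroup.inv_mem _ hd)) z hz)
  rw [ChevalleyDatum.parabolicSubgroup, ← Subgroup.closure_eq (D.borelSubgroup F),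
    ← Subgroup.closure_union] at hp
  revert h
  induction hp using Subgroup.closure_induction_left with
  | one => intro h; rwa [one_mul]
  | mul_left y hy z _ ih => intro h; rw [mul_assoc]; exact (hgen y hy _ (ih h)).1
  | inv_mul_cancel y hy z _ ih => intro h; rw [mul_assoc]; exact (hgen y hy _ (ih h)).2

theorem card_orbits_parabolic [Fintype F] (J K : Finset (Fin D.rank)) :
    Nat.card (MulAction.orbitRel.Quotient ↥(D.group F)
      ((↥(D.group F) ⧸ D.parabolicIn F (J.map Fin.valEmbedding)) ×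
        (↥(D.group F) ⧸ D.parabolicIn F (K.map Fin.valEmbedding)))) = (biMinSet hF J K).card := by
  classical
  set PJ := D.parabolicIn F (J.map Fin.valEmbedding) with hPJ
  set PK := D.parabolicIn F (K.map Fin.valEmbedding) with hPK
  let rep : Equiv.Perm (Fin D.nroots) → ↥(D.group F) := fun π =>
    ⟨repN hF π (F := F), monomial_le_group hF (repN_mem hF π)⟩
  let f : ↥(biMinSet hF J K) → MulAction.orbitRel.Quotient ↥(D.group F)
      ((↥(D.group F) ⧸ PJ) × (↥(D.group F) ⧸ PK)) := fun x =>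
    Quotient.mk'' (QuotientGroup.mk (1 : ↥(D.group F)), QuotientGroup.mk (rep x))
  have hmemP : ∀ (L : Finset (Fin D.rank)) {π : Equiv.Perm (Fin D.nroots)}, π ∈ wJ hF L →
      (repN hF π : GL D.Idx F) ∈ D.parabolicSubgroup F ↑(L.map Fin.valEmbedding) := by
    intro L π hπ
    refine repN_parabolic hF ?_
    rwa [idxSet_map]
  have hrefl : ∀ (π : Equiv.Perm (Fin D.nroots)), π ∈ weyl hF →
      InDC hF J K π (repN hF π : GL D.Idx F) := fun π hπ =>
    ⟨1, Subgroup.one_mem _, repN hF π (F := F), repN_mem hF π, 1, Subgroup.one_mem _, by group, 1,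
      Subgroup.one_mem _, 1, Subgroup.one_mem _, by
        rw [monPerm_eq hF (isMon_repN hF hπ), one_mul, mul_one]⟩
  rw [← Fintype.card_coe, ← Nat.card_eq_fintype_card]
  refine (Nat.card_congr (Equiv.ofBijective f ⟨?_, ?_⟩)).symm
  · rintro ⟨x, hx⟩ ⟨y, hy⟩ e
    rw [mem_biMinSet hF] at hx hy
    apply Subtype.ext
    obtain ⟨g, hg⟩ := MulAction.orbitRel_apply.1 (Quotient.eq''.1 e)
    have h1 : (g • (QuotientGroup.mk (1 : ↥(D.group F)) : ↥(D.group F) ⧸ PJ)) =
        QuotientGroup.mk (1 : ↥(D.group F)) := congrArg Prod.fst hg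
    have h2 : (g • (QuotientGroup.mk (rep y) : ↥(D.group F) ⧸ PK)) =
        QuotientGroup.mk (rep x) := congrArg Prod.snd hg
    rw [MulAction.Quotient.smul_mk, smul_eq_mul, QuotientGroup.eq, mul_one, mul_one] at h1
    rw [MulAction.Quotient.smul_mk, smul_eq_mul, QuotientGroup.eq] at h2
    have hgJ : (g : GL D.Idx F) ∈ D.parabolicSubgroup F ↑(J.map Fin.valEmbedding) := by
      have := Subgroup.mem_subgroupOf.1 h1
      simpa using this
    have hq := Subgroup.mem_subgroupOf.1 h2
    set q := (((g * rep y)⁻¹ * rep x : ↥(D.group F)) : GL D.Idx F) with hqdef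
    have hin : InDC hF J K y (repN hF x : GL D.Idx F) := by
      have e1 : (repN hF x : GL D.Idx F) = (g : GL D.Idx F) * ((q⁻¹ * (repN hF y)⁻¹)⁻¹) := by
        simp only [hqdef, Subgroup.coe_mul, Subgroup.coe_inv, rep]
        group
      rw [e1]
      refine InDC.mul_parabolic hF hgJ ?_
      have h3 := InDC.inv hF (InDC.mul_parabolic hF (Subgroup.inv_mem _ hq)
        (InDC.inv hF (hrefl y hy.1.1)))
      rwa [inv_inv] at h3
    obtain ⟨a, ha, n, hn, b, hb, en, s, hs, t, ht, ep⟩ := hin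
    have hd := (normalForm_unique hF (Subgroup.one_mem (D.borelSubgroup F))
      (Subgroup.one_mem _) (repN_mem hF x) (repN_mem hF x) (Subgroup.one_mem _)
      (Subgroup.one_mem _) rfl).1
    have hnx : monPerm hF n = x := by
      obtain ⟨v, hv, c, hvc⟩ := (mem_borel_iff hF).1 hb
      have hB : (repN hF x : GL D.Idx F)⁻¹ ∈ D.monomialSubgroup F :=
        Subgroup.inv_mem _ (repN_mem hF x)
      have hdc : (⟨n, monomial_le_group hF hn⟩ : ↥(D.group F)) ∈
          BN.dc (bnPair hF (F := F)) (rep x) := by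
        refine BN.mem_dc.2 ⟨⟨a⁻¹, borel_le_group hF (Subgroup.inv_mem _ ha)⟩,
          Subgroup.mem_subgroupOf.2 (Subgroup.inv_mem _ ha),
          ⟨b⁻¹, borel_le_group hF (Subgroup.inv_mem _ hb)⟩,
          Subgroup.mem_subgroupOf.2 (Subgroup.inv_mem _ hb), Subtype.ext ?_⟩
        show n = a⁻¹ * repN hF x * b⁻¹
        rw [en]; group
      have h := BN.eqv_of_mem_dc (P := bnPair hF (F := F))
        (Subgroup.mem_subgroupOf.2 (repN_mem hF x)) (Subgroup.mem_subgroupOf.2 hn) hdc
      obtain ⟨c', hc'⟩ := (mem_diagonal_iff hF).1 ((borel_inf_monomial hF (F := F)).le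
        ⟨Subgroup.mem_subgroupOf.1 h, Subgroup.mul_mem _ hB hn⟩)
      refine monPerm_eq hF ?_
      have hm := isMon_mul hF (isMon_repN hF hx.1.1 (F := F)) (isMon_torus hF c')
      simp only [Subgroup.coe_mul, Subgroup.coe_inv, rep] at hc'
      rw [mul_one, hc', mul_inv_cancel_left] at hm
      exact hm
    exact (biMin_unique hF hy hx hs ht (hnx.symm.trans ep)).symm
  · intro o
    induction o using Quotient.inductionOn' with
    | h p =>
      obtain ⟨p₁, p₂⟩ := p
      obtain ⟨g₁, rfl⟩ := QuotientGroup.mk_surjective p₁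
      obtain ⟨g₂, rfl⟩ := QuotientGroup.mk_surjective p₂
      obtain ⟨b, hb, w, x, hx, e⟩ := exists_normalForm hF (g₁⁻¹ * g₂).2
      obtain ⟨z, hz, a, ha, c, hc, ep⟩ := exists_biMin hF J K _ rfl (pWord_mem hF w)
      have hzW := hz.1.1
      have hh := isMon_mul hF (isMon_inv hF
        (Subgroup.mul_mem _ (Subgroup.mul_mem _ (repN_mem hF a) (repN_mem hF z)) (repN_mem hF c))
        (isMon_mul hF (isMon_mul hF (isMon_repN hF (wJ_le hF _ ha)) (isMon_repN hF hzW))
          (isMon_repN hF (wJ_le hF _ hc) (F := F)))) (isMon_nWord hF w (F := F))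
      rw [← ep, inv_mul_cancel] at hh
      have hd := mem_diagonal_of_isMon_one hF (Subgroup.mul_mem _ (Subgroup.inv_mem _
        (Subgroup.mul_mem _ (Subgroup.mul_mem _ (repN_mem hF a) (repN_mem hF z)) (repN_mem hF c)))
        (nWord_mem hF w)) hh
      set d := (repN hF a * repN hF z * repN hF c : GL D.Idx F)⁻¹ * nWord hF w with hdd
      have hbG : b * repN hF a ∈ D.group F := Subgroup.mul_mem _ (borel_le_group hF hb)
        (monomial_le_group hF (repN_mem hF a))
      refine ⟨⟨z, (mem_biMinSet hF).2 hz⟩, (Quotient.eq''.2 (MulAction.orbitRel_apply.2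
        ⟨g₁ * ⟨b * repN hF a, hbG⟩, Prod.ext ?_ ?_⟩)).symm⟩
      · show (g₁ * ⟨b * repN hF a, hbG⟩) • (QuotientGroup.mk (1 : ↥(D.group F)) : _ ⧸ PJ) =
          QuotientGroup.mk g₁
        rw [MulAction.Quotient.smul_mk, smul_eq_mul, QuotientGroup.eq, mul_one, mul_inv_rev,
          inv_mul_cancel_right]
        exact Subgroup.mem_subgroupOf.2 (Subgroup.inv_mem _ (Subgroup.mul_mem _
          (borel_le_parabolic _ hb) (hmemP J ha)))
      · show (g₁ * ⟨b * repN hF a, hbG⟩) • (QuotientGroup.mk (rep z) : _ ⧸ PK) =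
          QuotientGroup.mk g₂
        rw [MulAction.Quotient.smul_mk, smul_eq_mul, QuotientGroup.eq]
        refine Subgroup.mem_subgroupOf.2 ?_
        show ((g₁ : GL D.Idx F) * (b * repN hF a) * repN hF z)⁻¹ * (g₂ : GL D.Idx F) ∈ _
        have hg : (g₂ : GL D.Idx F) =
            (g₁ : GL D.Idx F) * (b * nWord hF w * x) := by
          rw [← e, Subgroup.coe_mul, Subgroup.coe_inv, mul_inv_cancel_left]
        rw [hg, show nWord hF w = repN hF a * repN hF z * repN hF c * d by
          rw [hdd, mul_inv_cancel_left],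
          show ((g₁ : GL D.Idx F) * (b * repN hF a) * repN hF z)⁻¹ *
            ((g₁ : GL D.Idx F) * (b * (repN hF a * repN hF z * repN hF c * d) * x)) =
            repN hF c * d * x by group]
        exact Subgroup.mul_mem _ (Subgroup.mul_mem _ (hmemP K hc)
          (borel_le_parabolic _ (Subgroup.mem_sup_right hd)))
          (borel_le_parabolic _ (uMinus_le_borel hF _ hx))

theorem steinberg_norm [Fintype F] [Fintype ↥(D.group F)] :
    classInner (D.steinbergCharacter F) (D.steinbergCharacter F) = 1 := by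
  classical
  have he : D.steinbergCharacter F = ∑ J ∈ (Finset.univ : Finset (Fin D.rank)).powerset,
      ((-1 : ℂ) ^ J.card) • fixedPointCharacter (D.parabolicIn F (J.map Fin.valEmbedding)) := by
    funext g
    simp only [ChevalleyDatum.steinbergCharacter, powerset_range_eq, Finset.sum_map,
      Function.Embedding.coeFn_mk, Finset.card_map, Finset.sum_apply, Pi.smul_apply, smul_eq_mul]
  rw [he, Char.classInner_sum_left]
  refine Eq.trans ?_ (double_alternating hF)
  refine Finset.sum_congr rfl fun J _ => ?_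
  rw [Char.classInner_smul_left, Char.classInner_sum_right]
  congr 1
  refine Finset.sum_congr rfl fun K _ => ?_
  rw [Char.classInner_smul_right, GLFlags.classInner_fixedPointCharacter,
    card_orbits_parabolic hF J K, map_pow, map_neg, map_one]

theorem steinberg_one [Fintype F] :
    D.steinbergCharacter F 1 = (Fintype.card F : ℂ) ^ half D := by
  classical
  have h1 : ∀ J : Finset ℕ, fixedPointCharacter (D.parabolicIn F J) (1 : ↥(D.group F)) =
      ((∑ u ∈ minSet hF (idxSet D ↑J), Fintype.card F ^ invCard u : ℕ) : ℂ) := by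
    intro J
    rw [← index_parabolic hF (↑J : Set ℕ) (F := F)]
    unfold fixedPointCharacter ChevalleyDatum.parabolicIn
    congr 1
    rw [Subgroup.index_eq_card]
    exact Nat.card_congr (Equiv.subtypeUnivEquiv fun x => one_smul _ x)
  simp only [ChevalleyDatum.steinbergCharacter, h1, powerset_range_eq, Finset.sum_map,
    Function.Embedding.coeFn_mk, idxSet_map, Finset.card_map]
  exact alternating_sum hF (Fintype.card F)

theorem steinberg_irr [Fintype F] :
    IsIrrCharacter ↥(D.group F) (D.steinbergCharacter F) := by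
  classical
  have := Fintype.ofFinite ↥(D.group F)
  refine Char.IsGen.isIrr_of_norm_one ?_ (steinberg_norm hF) ?_
  · have he : D.steinbergCharacter F = ∑ J ∈ (Finset.range D.rank).powerset,
        (((-1 : ℤ) ^ J.card : ℤ) : ℂ) • fixedPointCharacter (D.parabolicIn F J) := by
      funext g
      simp [ChevalleyDatum.steinbergCharacter]
    rw [he]
    exact Char.isGeneralized_sum _ _ fun J _ => Char.isGeneralized_intCast_smul _
      (Char.isGeneralized_of_isCharacter (GLFlags.isCharacter_fixedPointCharacter _))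
  · rw [steinberg_one hF, ← Nat.cast_pow, Complex.natCast_re]
    exact_mod_cast pow_pos Fintype.card_pos _

end Group

end Cfsg.Agent.Chev
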