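import Cfsg.Agent.Chev.SubCover
import Cfsg.Agent.Chev.All
import Cfsg.Agent.Chev.TorusCard

/-!
`E₆` and `E₇` inside `E₈`.
-/

set_option autoImplicit false
set_option maxRecDepth 10000
set_option maxHeartbeats 1000000

namespace Cfsg.Agent.Chev

open Cfsg.Lie

universe u

/-- The commutator formula is compatible with an embedding of chain tables. -/
theorem commTerms_map {D D' : ChevalleyDatum} (ρ : ℕ → ℕ)
    (h : ∀ r s : Fin D.nroots,
      D'.chainEntry (ρ r) (ρ s) = (D.chainEntry r s).map (fun c => (ρ c.1, c.2)) ∧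
        ∀ c ∈ D.chainEntry r s, c.1 < D.nroots) (r s : Fin D.nroots) :
    D'.commTerms (ρ r) (ρ s) = (D.commTerms r s).map fun c => (ρ c.1, c.2) := by
  have hM : ∀ a b, a < D.nroots → b < D.nroots → ∀ i,
      D'.chainM (ρ a) (ρ b) i = D.chainM a b i := fun a b ha hb i => by
    simp only [ChevalleyDatum.chainM, (h ⟨a, ha⟩ ⟨b, hb⟩).1, List.getElem?_map, Option.map_map]
    rfl
  have hR : ∀ a b, a < D.nroots → b < D.nroots → ∀ i,
      D'.chainRoot (ρ a) (ρ b) i = (D.chainRoot a b i).map ρ := fun a b ha hb i => by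
    simp only [ChevalleyDatum.chainRoot, (h ⟨a, ha⟩ ⟨b, hb⟩).1, List.getElem?_map,
      Option.map_map]
    rfl
  have hlt : ∀ a b, a < D.nroots → b < D.nroots → ∀ i k,
      D.chainRoot a b i = some k → k < D.nroots := fun a b ha hb i k hk => by
    simp only [ChevalleyDatum.chainRoot, Option.map_eq_some_iff] at hk
    obtain ⟨c, hc, rfl⟩ := hk
    exact (h ⟨a, ha⟩ ⟨b, hb⟩).2 c (List.mem_of_getElem? hc)
  have hB : ∀ (a b c : ℕ), a < D.nroots → b < D.nroots → c < D.nroots → ∀ i,
      ((D.chainRoot a b i).map ρ).bind (fun k => D'.chainRoot k (ρ c) 1) =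
        ((D.chainRoot a b i).bind fun k => D.chainRoot k c 1).map ρ := fun a b c ha hb hc i => by
    cases e : D.chainRoot a b i with
    | none => rfl
    | some k => exact hR k c (hlt a b ha hb i k e) hc 1
  have hG : ∀ (c : ℕ), c < D.nroots → ∀ (f : ℤ → ℤ),
      ((((D.chainRoot r s 1).map ρ).map fun k => f (D'.chainM k (ρ c) 2)).getD 0) =
        (((D.chainRoot r s 1).map fun k => f (D.chainM k c 2)).getD 0) := fun c hc f => by
    cases e : D.chainRoot r s 1 with
    | none => rfl
    | some k =>
      simp only [Option.map_some, Option.getD_some, hM k c (hlt r s r.2 s.2 1 k e) hc 2]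
  have aux : ∀ l : List (Option ℕ × ℤ × ℕ × ℕ),
      (l.map fun c => (c.1.map ρ, c.2)).filterMap (fun c => c.1.map fun k => (k, c.2)) =
        (l.filterMap fun c => c.1.map fun k => (k, c.2)).map fun c => (ρ c.1, c.2) := by
    intro l
    induction l with
    | nil => rfl
    | cons c l ih =>
      obtain ⟨_ | k, c⟩ := c <;> simp [ih]
  simp only [ChevalleyDatum.commTerms, hR r s r.2 s.2, hR s r s.2 r.2, hM r s r.2 s.2,
    hM s r s.2 r.2, hB r s s r.2 s.2 s.2, hB s r r s.2 r.2 r.2,
    hG r r.2 (fun x => x / 3), hG s s.2 (fun x => -2 * x / 3)]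
  exact Eq.trans (by rfl) (aux _)

/-- The entries of a row, as lists. -/
def chainRow (D : ChevalleyDatum) (r : ℕ) : List (ℕ × List (ℕ × ℤ)) :=
  ((D.chain.getD r #[]).toList).map fun e => (e.1, e.2.toList)

theorem chainEntry_eq_row (D : ChevalleyDatum) (r s : ℕ) :
    D.chainEntry r s = (((chainRow D r).find? fun e => e.1 = (s : ℕ)).map Prod.snd).getD [] := by
  simp only [ChevalleyDatum.chainEntry, chainRow, List.find?_map, Option.map_map,
    Function.comp_def]
  cases List.find? _ (D.chain.getD r #[]).toList <;> rfl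

/-- Comparing chain tables row by row. -/
theorem chainEntry_map {D D' : ChevalleyDatum} (T : List ℕ) (hT : T.Nodup)
    (hlen : T.length = D.nroots)
    (h : ∀ r : Fin D.nroots, ((chainRow D' (T.getD r 0)).filter fun e => T.elem e.1) =
        (chainRow D r).map (fun e => (T.getD e.1 0, e.2.map fun c => (T.getD c.1 0, c.2))) ∧
      ∀ e ∈ chainRow D r, e.1 < D.nroots ∧ ∀ c ∈ e.2, c.1 < D.nroots) :
    ∀ r s : Fin D.nroots,
      D'.chainEntry (T.getD r 0) (T.getD s 0) =
        (D.chainEntry r s).map (fun c => (T.getD c.1 0, c.2)) ∧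
        ∀ c ∈ D.chainEntry r s, c.1 < D.nroots := by
  intro r s
  obtain ⟨h1, h2⟩ := h r
  have hs : (s : ℕ) < T.length := hlen.symm ▸ s.2
  have hmem : T.getD s 0 ∈ T := by
    rw [List.getD_eq_getElem _ _ hs]; exact List.getElem_mem hs
  refine ⟨?_, fun c hc => ?_⟩
  · rw [chainEntry_eq_row, chainEntry_eq_row]
    have hf : ((chainRow D' (T.getD r 0)).find? fun e => e.1 = T.getD s 0) =
        ((chainRow D r).find? fun e => e.1 = (s : ℕ)).map
          (fun e => (T.getD e.1 0, e.2.map fun c => (T.getD c.1 0, c.2))) := by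
      have e1 : ((chainRow D' (T.getD r 0)).find? fun e => e.1 = T.getD s 0) =
          (((chainRow D' (T.getD r 0)).filter fun e => T.elem e.1).find?
            fun e => e.1 = T.getD s 0) := by
        induction chainRow D' (T.getD r 0) with
        | nil => rfl
        | cons a l ih =>
          by_cases ha : a.1 = T.getD s 0
          · have hb : List.elem a.1 T = true := by rw [ha]; simpa using hmem
            rw [List.filter_cons, if_pos hb]
            simp only [List.find?_cons, ha, decide_true]
          · cases hb : List.elem a.1 T <;>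
              simp only [List.filter_cons, hb, if_true, if_false, Bool.false_eq_true,
                List.find?_cons, ha, decide_false, ih]
      rw [e1, h1, List.find?_map]
      congr 1
      revert h2
      generalize chainRow D r = l
      intro h2
      induction l with
      | nil => rfl
      | cons a l ih =>
        have ha : a.1 < T.length := hlen.symm ▸ (h2 a (by simp)).1
        have hinj : T.getD a.1 0 = T.getD s 0 ↔ a.1 = s := by
          rw [List.getD_eq_getElem _ _ ha, List.getD_eq_getElem _ _ hs, hT.getElem_inj_iff]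
        simp only [List.find?_cons, Function.comp, hinj]
        rw [← ih fun e he => h2 e (List.mem_cons_of_mem _ he)]
        rfl
    rw [hf]
    generalize (chainRow D r).find? (fun e => decide (e.1 = (s : ℕ))) = o
    cases o <;> rfl
  · rw [chainEntry_eq_row] at hc
    cases hfind : (chainRow D r).find? fun e => e.1 = (s : ℕ) with
    | none => simp [hfind] at hc
    | some e =>
      rw [hfind] at hc
      exact (h2 e (List.mem_of_find?_eq_some hfind)).2 c hc

/-- A basis of roots of `E₈`. -/
def e8BasisRoot : Fin 8 → ℕ := ![6, 7, 14, 8, 16, 22, 37, 79]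

/-- The inverse of the Cartan pairing with this basis. -/
def e8BasisInv : Fin 8 → Fin 8 → ℤ :=
  ![![-1, -1, 0, 0, 0, 0, 0, 0], ![-1, -1, -1, 0, 0, 0, 0, 0], ![-1, -2, -1, 0, 0, 0, 0, 0],
    ![-1, -2, -2, -1, 0, 0, 0, 0], ![-1, -1, -1, -1, -1, 0, 0, 0], ![-1, -1, 0, 0, -1, -1, 0, 0],
    ![-1, -1, 0, 1, 0, -1, -1, 0], ![-1, -1, 0, 1, 1, 0, -1, -1]]

theorem e8Basis_spec : (∀ i l : Fin 8,
    ∑ j : Fin 8, e8BasisInv i j * chevE8.cartan l (e8BasisRoot j) = if i = l then 1 else 0) ∧
    ∀ j : Fin 8, e8BasisRoot j < chevE8.nroots := by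
  decide +kernel

theorem torusHom_injective_chevE8 {k : Type u} [Field k] :
    Function.Injective (torusHom : (Fin chevE8.rank → kˣ) →* GL chevE8.Idx k) := by
  rw [injective_iff_map_eq_one]
  intro c hc
  rw [torusHom_eq_one_iff] at hc
  funext (i : Fin 8)
  have hp : ∏ j : Fin 8, chiU c (e8BasisRoot j) ^ e8BasisInv i j = c i := by
    have h1 : ∀ j : Fin 8, chiU c (e8BasisRoot j) ^ e8BasisInv i j =
        ∏ l : Fin 8, c l ^ (e8BasisInv i j * chevE8.cartan l (e8BasisRoot j)) := fun j => by
      show (∏ l : Fin 8, c l ^ chevE8.cartan l (e8BasisRoot j)) ^ _ = _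
      rw [← Finset.prod_zpow]
      exact Finset.prod_congr rfl fun l _ => by rw [← zpow_mul, mul_comm]
    simp only [h1]
    rw [Finset.prod_comm]
    simp only [← zpow_finset_sum, e8Basis_spec.1]
    rw [Finset.prod_eq_single i (fun x _ hx => by rw [if_neg (Ne.symm hx), zpow_zero])
      (fun h => absurd (Finset.mem_univ _) h), if_pos rfl, zpow_one]
  rw [← hp]
  exact Finset.prod_eq_one fun j _ => by
    rw [hc ⟨_, e8Basis_spec.2 j⟩, one_zpow]

/-- The roots of `E6` among those of `E₈`. -/
def e6RootTable : List ℕ :=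
  [35, 45, 51, 54, 55, 61, 64, 65, 68, 69, 70, 73, 74, 75, 76, 77, 83, 86, 87, 90, 91, 92, 95,
  96, 97, 98, 101, 102, 103, 104, 107, 108, 109, 112, 113, 116, 123, 126, 127, 130, 131, 132,
  135, 136, 137, 138, 141, 142, 143, 144, 147, 148, 149, 152, 153, 156, 162, 163, 164, 165,
  166, 169, 170, 171, 174, 175, 178, 184, 185, 188, 194, 204]

theorem e6RootTable_chain : ∀ r s : Fin chevE6.nroots,
    chevE8.chainEntry (e6RootTable.getD r 0) (e6RootTable.getD s 0) =
      (chevE6.chainEntry r s).map (fun c => (e6RootTable.getD c.1 0, c.2)) ∧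
      ∀ c ∈ chevE6.chainEntry r s, c.1 < chevE6.nroots :=
  chainEntry_map _ (by decide +kernel) (by decide +kernel) (by decide +kernel)

/-- `E6` inside `E₈`. -/
def e6InE8 : SubDatum chevE6 chevE8 where
  root r := e6RootTable.getD r 0
  idx i := Fin.castLE (m := chevE8.rank) (n := chevE6.rank) (by decide +kernel) i
  root_lt := by decide +kernel
  root_inj := by decide +kernel
  idx_inj _ _ h := Fin.castLE_injective (by decide +kernel : chevE6.rank ≤ chevE8.rank) h
  root_neg := by decide +kernel
  root_simple := by decide +kernel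
  cartan_eq := by decide +kernel
  comm_eq r s _ _ := commTerms_map (fun x => e6RootTable.getD x 0)
    e6RootTable_chain r s

/-- The roots of `E7` among those of `E₈`. -/
def e7RootTable : List ℕ :=
  [13, 20, 25, 29, 32, 34, 35, 39, 42, 44, 45, 48, 50, 51, 53, 54, 55, 58, 60, 61, 63, 64, 65,
  67, 68, 69, 70, 72, 73, 74, 75, 76, 77, 80, 82, 83, 85, 86, 87, 89, 90, 91, 92, 94, 95, 96,
  97, 98, 100, 101, 102, 103, 104, 106, 107, 108, 109, 111, 112, 113, 115, 116, 118, 121, 123,
  124, 126, 127, 128, 130, 131, 132, 133, 135, 136, 137, 138, 139, 141, 142, 143, 144, 145,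
  147, 148, 149, 150, 152, 153, 154, 156, 157, 159, 162, 163, 164, 165, 166, 167, 169, 170,
  171, 172, 174, 175, 176, 178, 179, 181, 184, 185, 186, 188, 189, 191, 194, 195, 197, 200,
  204, 205, 207, 210, 214, 219, 226]

theorem e7RootTable_chain : ∀ r s : Fin chevE7.nroots,
    chevE8.chainEntry (e7RootTable.getD r 0) (e7RootTable.getD s 0) =
      (chevE7.chainEntry r s).map (fun c => (e7RootTable.getD c.1 0, c.2)) ∧
      ∀ c ∈ chevE7.chainEntry r s, c.1 < chevE7.nroots :=
  chainEntry_map _ (by decide +kernel) (by decide +kernel) (by decide +kernel)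

/-- `E7` inside `E₈`. -/
def e7InE8 : SubDatum chevE7 chevE8 where
  root r := e7RootTable.getD r 0
  idx i := Fin.castLE (m := chevE8.rank) (n := chevE7.rank) (by decide +kernel) i
  root_lt := by decide +kernel
  root_inj := by decide +kernel
  idx_inj _ _ h := Fin.castLE_injective (by decide +kernel : chevE7.rank ≤ chevE8.rank) h
  root_neg := by decide +kernel
  root_simple := by decide +kernel
  cartan_eq := by decide +kernel
  comm_eq r s _ _ := commTerms_map (fun x => e7RootTable.getD x 0)
    e7RootTable_chain r s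

end Cfsg.Agent.Chev
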