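import Cfsg.Agent.Chev.CoxeterTorus
import Cfsg.Agent.Chev.SubCover
import Mathlib.RingTheory.Polynomial.Cyclotomic.Eval
import Mathlib.GroupTheory.Sylow

/-!
Homocyclic Sylow subgroups in non-defining characteristic for primes not dividing the order of
the Weyl group: eigenvectors of Weyl elements for primitive roots of unity give tori.
-/

set_option autoImplicit false

namespace Cfsg.Agent.Chev

open Cfsg.Lie
open scoped MatrixGroups

universe u

namespace Eigen

/-- Sum of coefficient lists. -/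
def addL : List ℤ → List ℤ → List ℤ
  | [], b => b
  | a, [] => a
  | x :: a, y :: b => (x + y) :: addL a b

/-- Multiple of a coefficient list. -/
def smulL (c : ℤ) (a : List ℤ) : List ℤ := a.map (c * ·)

/-- Difference of coefficient lists. -/
def subL (a b : List ℤ) : List ℤ := addL a (smulL (-1) b)

/-- Product of coefficient lists. -/
def mulL : List ℤ → List ℤ → List ℤ
  | [], _ => []
  | x :: a, b => addL (smulL x b) (0 :: mulL a b)

/-- Sum over an indexing of coefficient lists. -/
def sumL {n : ℕ} (f : Fin n → List ℤ) : List ℤ := (List.ofFn f).foldr addL []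

/-- A quotient by a list with leading unit, from the constant term up. -/
def quotL (phi : List ℤ) : List ℤ → ℕ → List ℤ
  | _, 0 => []
  | p, n + 1 =>
    let q0 := p.headD 0 * phi.headD 0
    q0 :: quotL phi (subL p (smulL q0 phi)).tail n

/-- Divisibility of coefficient lists. -/
def divB (phi p : List ℤ) : Bool :=
  (subL p (mulL phi (quotL phi p p.length))).all fun x => decide (x = 0)

variable (q : ℤ)

theorem ev_addL : ∀ a b : List ℤ, evList (addL a b) q = evList a q + evList b q := by
  intro a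
  induction a with
  | nil => intro b; simp [addL, evList]
  | cons x a ih =>
    intro b
    cases b with
    | nil => simp [addL, evList]
    | cons y b => simp only [addL, evList_cons, ih]; ring

theorem ev_smulL (c : ℤ) : ∀ a : List ℤ, evList (smulL c a) q = c * evList a q := by
  intro a
  induction a with
  | nil => simp [smulL, evList]
  | cons x a ih => simp only [smulL, List.map_cons, evList_cons] at ih ⊢; rw [ih]; ring

theorem ev_subL (a b : List ℤ) : evList (subL a b) q = evList a q - evList b q := by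
  rw [subL, ev_addL, ev_smulL]; ring

theorem ev_mulL : ∀ a b : List ℤ, evList (mulL a b) q = evList a q * evList b q := by
  intro a
  induction a with
  | nil => intro b; simp [mulL, evList]
  | cons x a ih => intro b; simp only [mulL, ev_addL, ev_smulL, evList_cons, ih]; ring

theorem ev_sumL {n : ℕ} (f : Fin n → List ℤ) :
    evList (sumL f) q = ∑ i : Fin n, evList (f i) q := by
  induction n with
  | zero => simp [sumL, evList]
  | succ n ih =>
    rw [sumL, List.ofFn_succ, List.foldr_cons, ev_addL, Fin.sum_univ_succ,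
      ← ih fun i => f i.succ]
    rfl

theorem ev_zero : ∀ a : List ℤ, (a.all fun x => decide (x = 0)) = true → evList a q = 0 := by
  intro a
  induction a with
  | nil => intro _; rfl
  | cons x a ih =>
    intro h
    simp only [List.all_cons, Bool.and_eq_true, decide_eq_true_eq] at h
    rw [evList_cons, h.1, ih h.2]
    ring

theorem dvd_of_divB {phi p : List ℤ} (h : divB phi p = true) : evList phi q ∣ evList p q := by
  have := ev_zero q _ h
  rw [ev_subL, ev_mulL, sub_eq_zero] at this
  exact ⟨_, this⟩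

/-- The product of the cyclotomic lists of the divisors. -/
def divProd (tbl : List (List ℤ)) (n : ℕ) : List ℤ :=
  (((List.range (n + 1)).filter fun e => decide (e ∣ n)).map fun e => tbl.getD e []).foldr mulL [1]

theorem ev_foldr_mulL (L : List (List ℤ)) :
    evList (L.foldr mulL [1]) q = (L.map fun l => evList l q).prod := by
  induction L with
  | nil => simp [evList]
  | cons l L ih => rw [List.foldr_cons, ev_mulL, ih, List.map_cons, List.prod_cons]

/-- The list of `X ^ n - 1`. -/
def xPowSubOne (n : ℕ) : List ℤ := (-1) :: (List.replicate (n - 1) 0 ++ [1])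

theorem ev_xPowSubOne {n : ℕ} (hn : 0 < n) : evList (xPowSubOne n) q = q ^ n - 1 := by
  have h : ∀ m : ℕ, evList (List.replicate m 0 ++ [1]) q = q ^ m := by
    intro m
    induction m with
    | zero => simp [evList]
    | succ m ih => rw [List.replicate_succ, List.cons_append, evList_cons, ih, pow_succ]; ring
  rw [xPowSubOne, evList_cons, h, show n = n - 1 + 1 by omega, pow_succ]
  simp only [add_tsub_cancel_right]
  ring

theorem cyclotomic_eval_eq {tbl : List (List ℤ)} {M : ℕ}
    (h : ∀ n : Fin M, subL (divProd tbl (n + 1)) (xPowSubOne (n + 1)) |>.all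
      fun x => decide (x = 0)) (hq : 2 ≤ q) :
    ∀ n, 1 ≤ n → n ≤ M → (Polynomial.cyclotomic n ℤ).eval q = evList (tbl.getD n []) q := by
  intro n
  induction n using Nat.strong_induction_on with
  | _ n ih =>
    intro h1 hM
    have e := ev_zero q _ (h ⟨n - 1, by omega⟩)
    rw [ev_subL, sub_eq_zero, show ((⟨n - 1, by omega⟩ : Fin M) : ℕ) + 1 = n by simp; omega,
      ev_xPowSubOne q (by omega), divProd, ev_foldr_mulL, List.map_map] at e
    have hnd : ((List.range (n + 1)).filter fun e => decide (e ∣ n)).Nodup :=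
      List.nodup_range.filter _
    rw [← List.prod_toFinset _ hnd,
      show ((List.range (n + 1)).filter fun e => decide (e ∣ n)).toFinset = n.divisors by
        ext e
        simp only [List.mem_toFinset, List.mem_filter, List.mem_range, decide_eq_true_eq,
          Nat.mem_divisors]
        exact ⟨fun h => ⟨h.2, by omega⟩, fun h => ⟨Nat.lt_succ_of_le (Nat.le_of_dvd (by omega) h.1), h.1⟩⟩,
      ← Nat.cons_self_properDivisors (by omega), Finset.prod_cons] at e
    have e2 := congrArg (Polynomial.eval q) (Polynomial.prod_cyclotomic_eq_X_pow_sub_one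
      (show 0 < n by omega) ℤ)
    rw [← Nat.cons_self_properDivisors (by omega), Finset.prod_cons, Polynomial.eval_mul,
      Polynomial.eval_prod, Polynomial.eval_sub, Polynomial.eval_pow, Polynomial.eval_X,
      Polynomial.eval_one, ← e] at e2
    have hprod : ∏ e ∈ n.properDivisors, (Polynomial.cyclotomic e ℤ).eval q =
        ∏ e ∈ n.properDivisors, evList (tbl.getD e []) q :=
      Finset.prod_congr rfl fun e he => by
        obtain ⟨h2, h3⟩ := Nat.mem_properDivisors.1 he
        exact ih e h3 (Nat.pos_of_dvd_of_pos h2 (by omega)) (by omega)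
    have hne : ∏ e ∈ n.properDivisors, (Polynomial.cyclotomic e ℤ).eval q ≠ 0 :=
      Finset.prod_ne_zero_iff.2 fun e _ => (Polynomial.cyclotomic_pos' e (by omega)).ne'
    simp only [Function.comp_apply, ← hprod] at e2
    exact mul_right_cancel₀ hne e2

/-- Reflection of exponent vectors. -/
def reflV (D : ChevalleyDatum) (i : Fin D.rank) (v : Fin D.rank → ℤ) : Fin D.rank → ℤ :=
  fun a => v a - if a = i then ∑ l : Fin D.rank, v l * D.cartan l (D.simple i) else 0

/-- The action of a word on exponent vectors. -/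
def wordV (D : ChevalleyDatum) (w : List (Fin D.rank)) (v : Fin D.rank → ℤ) : Fin D.rank → ℤ :=
  w.foldr (reflV D) v

theorem reflV_sum {D : ChevalleyDatum} (i : Fin D.rank) {ι : Type*} [Fintype ι]
    (c : ι → ℤ) (v : ι → Fin D.rank → ℤ) :
    reflV D i (fun a => ∑ j, c j * v j a) = fun a => ∑ j, c j * reflV D i (v j) a := by
  funext a
  simp only [reflV, mul_sub, Finset.sum_sub_distrib]
  congr 1
  split
  · simp only [Finset.sum_mul, Finset.mul_sum]
    rw [Finset.sum_comm]
    exact Finset.sum_congr rfl fun j _ => Finset.sum_congr rfl fun l _ => by ring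
  · simp

theorem wordV_sum {D : ChevalleyDatum} (w : List (Fin D.rank)) {ι : Type*} [Fintype ι]
    (c : ι → ℤ) (v : ι → Fin D.rank → ℤ) :
    wordV D w (fun a => ∑ j, c j * v j a) = fun a => ∑ j, c j * wordV D w (v j) a := by
  induction w with
  | nil => rfl
  | cons i w ih =>
    show reflV D i (wordV D w _) = _
    rw [ih]
    exact reflV_sum i c _

theorem wordC_zpow {D : ChevalleyDatum} {F : Type u} [Field F] (w : List (Fin D.rank))
    (z : Fˣ) (v : Fin D.rank → ℤ) :
    wordC D w (fun a => z ^ v a) = fun a => z ^ wordV D w v a := by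
  induction w with
  | nil => rfl
  | cons i w ih =>
    show reflC D i (wordC D w _) = fun a => z ^ reflV D i (wordV D w v) a
    rw [ih]
    funext a
    simp only [reflC, Pi.mul_apply, reflV, zpow_sub]
    congr 1
    by_cases h : a = i
    · subst h
      rw [Pi.mulSingle_eq_same, if_pos rfl, chiU, ← zpow_sum_aux]
      congr 1
      exact Finset.prod_congr rfl fun l _ => (zpow_mul z _ _).symm
    · rw [Pi.mulSingle_eq_of_ne h, if_neg h, zpow_zero, inv_one]

/-- The word of a list of natural numbers. -/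
def toWord (n : ℕ) (w : List ℕ) : List (Fin n) :=
  w.filterMap fun i => if h : i < n then some ⟨i, h⟩ else none

/-- An eigenspace certificate. -/
structure Cert where
  d : ℕ
  w : List ℕ
  a : ℕ
  f : ℕ
  V : List (List (List ℤ))
  B : List (List (List ℤ))
  c : ℕ

variable (C : Cert) (D : ChevalleyDatum)

/-- A coefficient of an eigenvector. -/
def Cert.vec (k : Fin C.a) (j : Fin C.f) (l : Fin D.rank) : ℤ :=
  ((C.V.getD k []).getD j []).getD l 0

/-- A coordinate of an eigenvector. -/
def Cert.poly (k : Fin C.a) (l : Fin D.rank) : List ℤ :=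
  List.ofFn fun j : Fin C.f => C.vec D k j l

/-- A coordinate of the image of an eigenvector. -/
def Cert.moved (k : Fin C.a) (l : Fin D.rank) : List ℤ :=
  List.ofFn fun j : Fin C.f => wordV D (toWord D.rank C.w) (C.vec D k j) l

/-- The value of a fundamental root on an eigenvector. -/
def Cert.rootPoly (k : Fin C.a) (i : Fin D.rank) : List ℤ :=
  sumL fun l : Fin D.rank => smulL (D.cartan l (D.simple i)) (C.poly D k l)

/-- The checks on a certificate. -/
def Cert.chk (tbl : List (List ℤ)) (ds : List ℕ) : Bool :=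
  decide ((ds.filter fun e => C.d ∣ e).length = C.a) && decide (C.d ≤ 30) &&
    decide (C.c ∣ ds.prod ^ 8) &&
    (List.finRange C.a).all fun k =>
      ((List.finRange D.rank).all fun l =>
          divB (tbl.getD C.d []) (subL (0 :: C.moved D k l) (C.poly D k l))) &&
        (List.finRange C.a).all fun k' =>
          divB (tbl.getD C.d []) (subL
            (sumL fun i : Fin D.rank =>
              mulL ((C.B.getD k []).getD i []) (C.rootPoly D k' i))
            [if k = k' then (C.c : ℤ) else 0])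

/-- The first cyclotomic polynomials. -/
def cycTable : List (List ℤ) :=
  [[], [-1, 1], [1, 1], [1, 1, 1], [1, 0, 1], [1, 1, 1, 1, 1], [1, -1, 1],
  [1, 1, 1, 1, 1, 1, 1], [1, 0, 0, 0, 1], [1, 0, 0, 1, 0, 0, 1], [1, -1, 1, -1, 1],
  [1, 1, 1, 1, 1, 1, 1, 1, 1, 1, 1], [1, 0, -1, 0, 1], [1, 1, 1, 1, 1, 1, 1, 1, 1, 1, 1, 1, 1],
  [1, -1, 1, -1, 1, -1, 1], [1, -1, 0, 1, -1, 1, 0, -1, 1], [1, 0, 0, 0, 0, 0, 0, 0, 1],
  [1, 1, 1, 1, 1, 1, 1, 1, 1, 1, 1, 1, 1, 1, 1, 1, 1], [1, 0, 0, -1, 0, 0, 1],
  [1, 1, 1, 1, 1, 1, 1, 1, 1, 1, 1, 1, 1, 1, 1, 1, 1, 1, 1], [1, 0, -1, 0, 1, 0, -1, 0, 1],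
  [1, -1, 0, 1, -1, 0, 1, 0, -1, 1, 0, -1, 1], [1, -1, 1, -1, 1, -1, 1, -1, 1, -1, 1],
  [1, 1, 1, 1, 1, 1, 1, 1, 1, 1, 1, 1, 1, 1, 1, 1, 1, 1, 1, 1, 1, 1, 1],
  [1, 0, 0, 0, -1, 0, 0, 0, 1],
  [1, 0, 0, 0, 0, 1, 0, 0, 0, 0, 1, 0, 0, 0, 0, 1, 0, 0, 0, 0, 1],
  [1, -1, 1, -1, 1, -1, 1, -1, 1, -1, 1, -1, 1],
  [1, 0, 0, 0, 0, 0, 0, 0, 0, 1, 0, 0, 0, 0, 0, 0, 0, 0, 1],
  [1, 0, -1, 0, 1, 0, -1, 0, 1, 0, -1, 0, 1],
  [1, 1, 1, 1, 1, 1, 1, 1, 1, 1, 1, 1, 1, 1, 1, 1, 1, 1, 1, 1, 1, 1, 1, 1, 1, 1, 1, 1, 1],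
  [1, 1, 0, -1, -1, -1, 0, 1, 1]]

theorem cycTable_spec : ∀ n : Fin 30,
    (subL (divProd cycTable (n + 1)) (xPowSubOne (n + 1))).all fun x => decide (x = 0) := by
  decide +kernel

theorem not_dvd_of_dvd_pow {r W c n : ℕ} (hr : r.Prime) (hW : ¬ r ∣ W) (h : c ∣ W ^ n) :
    ¬ r ∣ c := fun hc => hW (hr.dvd_of_dvd_pow (hc.trans h))

theorem padic_pow_sub_one {r q d : ℕ} [Fact r.Prime] (hq : 2 ≤ q)
    (hd : orderOf (q : ZMod r) = d) (hd0 : 0 < d) :
    padicValNat r (q ^ d - 1) =
      padicValNat r ((Polynomial.cyclotomic d ℤ).eval (q : ℤ)).natAbs := by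
  have hprod := congrArg (Polynomial.eval (q : ℤ))
    (Polynomial.prod_cyclotomic_eq_X_pow_sub_one hd0 ℤ)
  rw [← Nat.cons_self_properDivisors hd0.ne', Finset.prod_cons, Polynomial.eval_mul,
    Polynomial.eval_prod, Polynomial.eval_sub, Polynomial.eval_pow, Polynomial.eval_X,
    Polynomial.eval_one] at hprod
  have habs := congrArg Int.natAbs hprod
  rw [Int.natAbs_mul] at habs
  have h1 : ((q : ℤ) ^ d - 1).natAbs = q ^ d - 1 := by
    have := Nat.one_le_pow d q (by omega)
    rw [show ((q : ℤ) ^ d - 1) = ((q ^ d - 1 : ℕ) : ℤ) by rw [Nat.cast_sub this]; push_cast; rfl]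
    exact Int.natAbs_natCast _
  rw [h1] at habs
  have hne : ∀ e, e ∈ d.properDivisors → ¬ r ∣ ((Polynomial.cyclotomic e ℤ).eval (q : ℤ)).natAbs := by
    intro e he hdvd
    obtain ⟨he1, he2⟩ := Nat.mem_properDivisors.1 he
    have h2 : ((Polynomial.cyclotomic e ℤ).eval (q : ℤ)) ∣ (q : ℤ) ^ e - 1 := by
      have := map_dvd (Polynomial.evalRingHom (q : ℤ)) (Polynomial.cyclotomic.dvd_X_pow_sub_one e ℤ)
      simpa using this
    have h3 : ((r : ℕ) : ℤ) ∣ (q : ℤ) ^ e - 1 := (Int.natCast_dvd.2 hdvd).trans h2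
    have h4 : (q : ZMod r) ^ e = 1 := by
      rw [← ZMod.intCast_zmod_eq_zero_iff_dvd] at h3
      push_cast at h3
      exact sub_eq_zero.1 h3
    have h5 := Nat.le_of_dvd (Nat.pos_of_dvd_of_pos he1 hd0) (hd ▸ orderOf_dvd_of_pow_eq_one h4)
    omega
  have hP : ¬ r ∣ (∏ e ∈ d.properDivisors, (Polynomial.cyclotomic e ℤ).eval (q : ℤ)).natAbs := by
    rw [← Int.natAbsHom_apply, map_prod]
    intro h
    obtain ⟨e, he, h⟩ := (Prime.dvd_finsetProd_iff (Fact.out : r.Prime).prime _).1 h
    exact hne e he h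
  have hne0 : ((Polynomial.cyclotomic d ℤ).eval (q : ℤ)).natAbs ≠ 0 :=
    Int.natAbs_ne_zero.2 (Polynomial.cyclotomic_pos' d (by omega : (1 : ℤ) < q)).ne'
  rw [← habs, padicValNat.mul hne0 (fun h => hP (by rw [h]; exact dvd_zero r)),
    padicValNat.eq_zero_of_not_dvd hP, add_zero]

theorem padic_pow_mul_sub_one {r q d k : ℕ} [Fact r.Prime] (hq : 2 ≤ q)
    (hd : orderOf (q : ZMod r) = d) (hd0 : 0 < d) (hk : ¬ r ∣ k) :
    padicValNat r (q ^ (d * k) - 1) = padicValNat r (q ^ d - 1) := by
  have h1 : 1 ≤ q ^ d := Nat.one_le_pow _ _ (by omega)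
  have hgs : q ^ (d * k) - 1 = (q ^ d - 1) * ∑ i ∈ Finset.range k, (q ^ d) ^ i := by
    have h2 : 1 ≤ q ^ (d * k) := Nat.one_le_pow _ _ (by omega)
    have := geom_sum_mul ((q : ℤ) ^ d) k
    rw [← pow_mul] at this
    zify [h1, h2]
    rw [← this]
    ring
  have hS : ¬ r ∣ ∑ i ∈ Finset.range k, (q ^ d) ^ i := by
    rw [← ZMod.natCast_eq_zero_iff]
    push_cast
    rw [← hd, pow_orderOf_eq_one]
    simp only [one_pow, Finset.sum_const, Finset.card_range, nsmul_one]
    rwa [ZMod.natCast_eq_zero_iff]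
  have h3 : q ^ d - 1 ≠ 0 := by
    have := Nat.one_lt_pow hd0.ne' (show 1 < q by omega)
    omega
  rw [hgs, padicValNat.mul h3 (fun h => hS (by rw [h]; exact dvd_zero r)),
    padicValNat.eq_zero_of_not_dvd hS, add_zero]

theorem padic_prod {r q d : ℕ} [Fact r.Prime] (hq : 2 ≤ q) (hd : orderOf (q : ZMod r) = d)
    (hd0 : 0 < d) : ∀ ds : List ℕ, (∀ e ∈ ds, 0 < e ∧ ¬ r ∣ e) →
      padicValNat r ((ds.map fun e => q ^ e - 1).prod) =
        (ds.filter fun e => d ∣ e).length *
          padicValNat r ((Polynomial.cyclotomic d ℤ).eval (q : ℤ)).natAbs := by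
  intro ds
  induction ds with
  | nil => simp
  | cons e ds ih =>
    intro h
    obtain ⟨he, her⟩ := h e (by simp)
    have hne : ∀ e, 0 < e → q ^ e - 1 ≠ 0 := fun e he => by
      have := Nat.one_lt_pow he.ne' (show 1 < q by omega)
      omega
    have hP : (ds.map fun e => q ^ e - 1).prod ≠ 0 := by
      refine List.prod_ne_zero fun h0 => ?_
      obtain ⟨x, hx, hx0⟩ := List.mem_map.1 h0
      exact hne x (h x (List.mem_cons_of_mem _ hx)).1 hx0
    rw [List.map_cons, List.prod_cons, padicValNat.mul (hne e he) hP,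
      ih fun x hx => h x (List.mem_cons_of_mem _ hx)]
    by_cases hde : d ∣ e
    · obtain ⟨k, rfl⟩ := hde
      rw [List.filter_cons_of_pos (by simp), List.length_cons,
        padic_pow_mul_sub_one hq hd hd0 (fun hk => her (hk.mul_left d)),
        padic_pow_sub_one hq hd hd0]
      ring
    · rw [List.filter_cons_of_neg (by simpa using hde), padicValNat.eq_zero_of_not_dvd]
      · simp
      · intro h1
        apply hde
        rw [← hd]
        apply orderOf_dvd_of_pow_eq_one
        rw [← ZMod.natCast_eq_zero_iff, Nat.cast_sub (Nat.one_le_pow _ _ (by omega)),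
          sub_eq_zero] at h1
        push_cast at h1
        exact h1

end Eigen

end Cfsg.Agent.Chev
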