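import Mathlib.Algebra.Field.Basic
import Mathlib.Algebra.Ring.Int.Parity
import Mathlib.Algebra.Order.Ring.Int
import Mathlib.Data.Int.Cast.Lemmas
import Mathlib.Data.List.Basic
import Mathlib.Algebra.BigOperators.Group.List.Basic
import Mathlib.Algebra.BigOperators.Ring.List
import Mathlib.Tactic.Ring

/-!
Formal sparse vectors whose entries are integer polynomials in two variables: kernel-friendly
operations and their soundness.
-/

set_option autoImplicit false

namespace Cfsg.Agent.Chev

/-- A monomial term `coef * t^a * u^b` in coordinate `row`. -/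
structure Tm where
  row : ℕ
  a : ℕ
  b : ℕ
  coef : ℤ

/-- A monomial `coef * t^a * u^b`. -/
structure Mon where
  a : ℕ
  b : ℕ
  coef : ℤ

variable {R : Type*} [CommRing R]

/-- Value of a monomial. -/
def Mon.val (t u : R) (m : Mon) : R := (m.coef : R) * (t ^ m.a * u ^ m.b)

/-- Value of a list of monomials. -/
def monsVal (t u : R) (l : List Mon) : R := (l.map (Mon.val t u)).sum

/-- The entry of a formal vector in coordinate `i`. -/
def tmsVal (t u : R) (i : ℕ) : List Tm → R
  | [] => 0
  | x :: l => (if x.row = i then (x.coef : R) * (t ^ x.a * u ^ x.b) else 0) + tmsVal t u i l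

theorem tmsVal_nil (t u : R) (i : ℕ) : tmsVal t u i [] = 0 := rfl

theorem tmsVal_cons (t u : R) (i : ℕ) (x : Tm) (l : List Tm) :
    tmsVal t u i (x :: l) =
      (if x.row = i then (x.coef : R) * (t ^ x.a * u ^ x.b) else 0) + tmsVal t u i l := rfl

theorem tmsVal_append (t u : R) (i : ℕ) (l₁ l₂ : List Tm) :
    tmsVal t u i (l₁ ++ l₂) = tmsVal t u i l₁ + tmsVal t u i l₂ := by
  induction l₁ with
  | nil => simp [tmsVal_nil]
  | cons x l ih => rw [List.cons_append, tmsVal_cons, tmsVal_cons, ih, add_assoc]

/-- Negation of a formal vector. -/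
def negTms (l : List Tm) : List Tm := l.map fun x => ⟨x.row, x.a, x.b, -x.coef⟩

theorem tmsVal_negTms (t u : R) (i : ℕ) (l : List Tm) :
    tmsVal t u i (negTms l) = -tmsVal t u i l := by
  induction l with
  | nil => simp [negTms, tmsVal_nil]
  | cons x l ih =>
    simp only [negTms, List.map_cons] at ih ⊢
    rw [tmsVal_cons, tmsVal_cons, ih]
    split <;> push_cast <;> ring

/-- Add one term into a list, merging with a term of the same key. -/
def insTm (x : Tm) : List Tm → List Tm
  | [] => [x]
  | y :: l =>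
    if x.row == y.row && x.a == y.a && x.b == y.b then ⟨y.row, y.a, y.b, x.coef + y.coef⟩ :: l
    else y :: insTm x l

theorem tmsVal_insTm (t u : R) (i : ℕ) (x : Tm) (l : List Tm) :
    tmsVal t u i (insTm x l) = tmsVal t u i (x :: l) := by
  induction l with
  | nil => rfl
  | cons y l ih =>
    rw [insTm]
    split
    · rename_i h
      simp only [Bool.and_eq_true, beq_iff_eq] at h
      obtain ⟨⟨h1, h2⟩, h3⟩ := h
      simp only [tmsVal_cons, h1, h2, h3]
      split <;> push_cast <;> ring
    · simp only [tmsVal_cons] at ih ⊢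
      rw [ih]; ring

/-- Normal form: equal keys merged. -/
def normTms : List Tm → List Tm
  | [] => []
  | x :: l => insTm x (normTms l)

theorem tmsVal_normTms (t u : R) (i : ℕ) (l : List Tm) :
    tmsVal t u i (normTms l) = tmsVal t u i l := by
  induction l with
  | nil => rfl
  | cons x l ih => rw [normTms, tmsVal_insTm, tmsVal_cons, tmsVal_cons, ih]

/-- All coefficients vanish. -/
def allZero : List Tm → Bool
  | [] => true
  | x :: l => x.coef == 0 && allZero l

theorem tmsVal_of_allZero (t u : R) (i : ℕ) {l : List Tm} (h : allZero l = true) :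
    tmsVal t u i l = 0 := by
  induction l with
  | nil => rfl
  | cons x l ih =>
    simp only [allZero, Bool.and_eq_true, beq_iff_eq] at h
    rw [tmsVal_cons, ih h.2, h.1]
    simp

/-- Decides that two formal vectors have equal value. -/
def sameTms (l₁ l₂ : List Tm) : Bool := allZero (normTms (l₁ ++ negTms l₂))

theorem tmsVal_eq_of_sameTms (t u : R) (i : ℕ) {l₁ l₂ : List Tm} (h : sameTms l₁ l₂ = true) :
    tmsVal t u i l₁ = tmsVal t u i l₂ := by
  have h' := tmsVal_of_allZero t u i h
  rw [tmsVal_normTms, tmsVal_append, tmsVal_negTms, ← sub_eq_add_neg, sub_eq_zero] at h'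
  exact h'

/-- Cancel `t` against `u`, sound when `t * u = 1`. -/
def cancelTms (l : List Tm) : List Tm :=
  l.map fun x => ⟨x.row, x.a - min x.a x.b, x.b - min x.a x.b, x.coef⟩

theorem tmsVal_cancelTms {t u : R} (h : t * u = 1) (i : ℕ) (l : List Tm) :
    tmsVal t u i (cancelTms l) = tmsVal t u i l := by
  induction l with
  | nil => rfl
  | cons x l ih =>
    simp only [cancelTms, List.map_cons] at ih ⊢
    rw [tmsVal_cons, tmsVal_cons, ih]
    have e : t ^ x.a * u ^ x.b = t ^ (x.a - min x.a x.b) * u ^ (x.b - min x.a x.b) := by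
      obtain ⟨a', ha⟩ : ∃ a', x.a = a' + min x.a x.b := ⟨x.a - min x.a x.b, by omega⟩
      obtain ⟨b', hb⟩ : ∃ b', x.b = b' + min x.a x.b := ⟨x.b - min x.a x.b, by omega⟩
      set m := min x.a x.b
      rw [ha, hb, Nat.add_sub_cancel, Nat.add_sub_cancel, pow_add, pow_add]
      calc t ^ a' * t ^ m * (u ^ b' * u ^ m) = t ^ a' * u ^ b' * (t * u) ^ m := by
            rw [mul_pow]; ring
        _ = t ^ a' * u ^ b' := by rw [h, one_pow, mul_one]
    rw [e]

/-- The terms `coef * t^a * u^b * arg^k` in coordinate `r`. -/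
def scaleMon (arg : List Mon) : ℕ → ℕ → ℕ → ℕ → ℤ → List Tm
  | 0, r, a, b, c => [⟨r, a, b, c⟩]
  | k + 1, r, a, b, c => arg.flatMap fun m => scaleMon arg k r (a + m.a) (b + m.b) (c * m.coef)

theorem tmsVal_flatMap {α : Type*} (t u : R) (i : ℕ) (f : α → List Tm) (l : List α) :
    tmsVal t u i (l.flatMap f) = (l.map fun x => tmsVal t u i (f x)).sum := by
  induction l with
  | nil => rfl
  | cons x l ih => rw [List.flatMap_cons, tmsVal_append, List.map_cons, List.sum_cons, ih]

theorem tmsVal_scaleMon (t u : R) (i : ℕ) (arg : List Mon) (k : ℕ) : ∀ (r a b : ℕ) (c : ℤ),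
    tmsVal t u i (scaleMon arg k r a b c) =
      if r = i then (c : R) * (t ^ a * u ^ b) * monsVal t u arg ^ k else 0 := by
  induction k with
  | zero => intro r a b c; simp [scaleMon, tmsVal_cons, tmsVal_nil]
  | succ k ih =>
    intro r a b c
    rw [scaleMon, tmsVal_flatMap]
    simp only [ih]
    split
    · have e : ∀ m : Mon, ((c * m.coef : ℤ) : R) * (t ^ (a + m.a) * u ^ (b + m.b)) * monsVal t u arg ^ k
          = (c : R) * (t ^ a * u ^ b) * monsVal t u arg ^ k * Mon.val t u m := by
        intro m; simp only [Mon.val]; push_cast; ring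
      simp only [e, List.sum_map_mul_left]
      rw [pow_succ, monsVal]; ring
    · simp

end Cfsg.Agent.Chev
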