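import Cfsg.Prelude.Def_ChevAutomorphisms
import Cfsg.Agent.Chev.Sound

/-!
Characters of the root lattice act on root elements by scaling the parameter.
-/

set_option autoImplicit false

namespace Cfsg.Agent.Chev

open Cfsg.Lie

universe u

variable (D : ChevalleyDatum) (T : Tab)

/-- The slot of `u` in the chain of `r` through `prev` starts with `u`. -/
noncomputable def okLink (r prev u : ℕ) : Bool :=
  and (and (Nat.blt prev D.nroots) (and (not (Nat.beq prev r)) (not (Nat.beq prev (Nat.sub (Nat.sub D.nroots 1) r)))))
    (List.rec (motive := fun _ => Bool) false (fun a _ _ => Nat.beq a.1 u)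
      (decRaw T.K (T.slot r (Nat.add D.rank prev))))

/-- Successive links of a chain. -/
noncomputable def linksFrom (r : ℕ) (L : List (ℕ × ℤ)) : ℕ → Bool :=
  List.rec (motive := fun _ => ℕ → Bool) (fun _ => true)
    (fun q _ ih prev => and (okLink D T r prev q.1) (ih q.1)) L

theorem linksFrom_cons (r : ℕ) (q : ℕ × ℤ) (L : List (ℕ × ℤ)) (prev : ℕ) :
    linksFrom D T r (q :: L) prev = (okLink D T r prev q.1 && linksFrom D T r L q.1) := rfl

/-- All chains of `r` step by `r`. -/
noncomputable def chkLinksRow (r : ℕ) : Bool :=
  allBelow (fun s => cond (Nat.beq (T.slot r (Nat.add D.rank s)) 0) true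
    (cond (or (Nat.beq s r) (Nat.beq s (Nat.sub (Nat.sub D.nroots 1) r))) true
      (List.rec (motive := fun _ => Bool) true (fun q L _ => linksFrom D T r L q.1)
        (decRaw T.K (T.slot r (Nat.add D.rank s)))))) D.nroots

/-- All chains of all roots step by their root. -/
noncomputable def chkLinks : Bool := allBelow (chkLinksRow D T) D.nroots

variable {D} {C : Cert}

theorem chainRoot_one (h : Checks D C) {r s : ℕ} (hr : r < D.nroots) (hs : s < D.nroots) (h1 : s ≠ r)
    (h2 : s ≠ D.nroots - 1 - r) {a : ℕ × ℤ} {L : List (ℕ × ℤ)}
    (hL : decRaw C.T.K (C.T.slot r (D.rank + s)) = a :: L) : D.chainRoot r s 1 = some a.1 := by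
  have hf := filter_chain h.tab hr hs h1 h2
  rw [hL] at hf
  simp only at hf
  rw [ChevalleyDatum.chainRoot, ChevalleyDatum.chainEntry, ← List.head?_filter]
  cases hl : (D.chain.getD r #[]).toList.filter (fun e => decide (e.1 = s)) with
  | nil => rw [hl] at hf; simp at hf
  | cons e l =>
    rw [hl] at hf
    simp only [List.map_cons, List.cons.injEq] at hf
    simp [hf.1]

variable {F : Type*} [Field F] {χ : ℕ → Fˣ}

theorem chain_char (h : Checks D C) (hχ : D.IsRootCharacter χ) {r : ℕ} (hr : r < D.nroots) :
    ∀ (L : List (ℕ × ℤ)) (prev k : ℕ) (x : Fˣ), linksFrom D C.T r L prev = true → χ prev = χ r ^ k * x →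
      ∀ q ∈ addIdx D.rank (k + 1) L, ∀ u : ℕ, q.1 = D.rank + u → χ u = χ r ^ q.2.1 * x
  | [], _, _, _, _, _ => by simp [addIdx_nil]
  | a :: L, prev, k, x, hl, hp => by
    rw [linksFrom_cons, Bool.and_eq_true] at hl
    obtain ⟨hok, hrest⟩ := hl
    simp only [okLink, Bool.and_eq_true, Bool.not_eq_true', nblt_iff, nbeq_false_iff, Nat.sub_eq, Nat.add_eq] at hok
    obtain ⟨⟨hlt, hne1, hne2⟩, hhead⟩ := hok
    have ha : χ a.1 = χ r ^ (k + 1) * x := by
      cases hd : decRaw C.T.K (C.T.slot r (D.rank + prev)) with
      | nil => rw [hd] at hhead; simp at hhead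
      | cons b L' =>
        rw [hd] at hhead
        simp only [nbeq_iff] at hhead
        have hroot := chainRoot_one h hr hlt hne1 hne2 hd
        rw [← hhead, hχ.2 r prev b.1 hr hlt hroot, hp, pow_succ', mul_assoc]
    intro q hq u hu
    obtain ⟨v, m⟩ := a
    rw [addIdx_cons] at hq
    rcases List.mem_cons.mp hq with rfl | hq
    · have : v = u := by simpa using hu
      subst this
      exact ha
    · exact chain_char h hχ hr L v (k + 1) x hrest ha q hq u hu

theorem charDiag_conj (h : Checks D C) (hl : chkLinks D C.T = true) (hχ : D.IsRootCharacter χ) {r : ℕ}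
    (hr : r < D.nroots) (t : F) :
    D.charDiag F χ * D.x F r t * D.charDiag F (fun s => (χ s)⁻¹) = D.x F r ((χ r : F) * t) := by
  classical
  obtain ⟨hneg, hne, hdiag, hlen, hcar, -⟩ := chkTab_row h.tab hr
  have hχneg : χ (D.nroots - 1 - r) = (χ r)⁻¹ := by
    rw [← hχ.1 r hr]
    congr 1
    exact hneg.symm
  set w : D.Idx → Fˣ := Sum.elim (fun _ => 1) (fun s => χ s.val) with hw
  have key : D.charDiag F χ * D.x F r t = D.x F r ((χ r : F) * t) * D.charDiag F χ := by
    ext a b
    rw [ChevalleyDatum.charDiag, Matrix.diagonal_mul, Matrix.mul_diagonal, x_apply h.tab F hr, x_apply h.tab F hr,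
      mul_add, add_mul]
    congr 1
    · by_cases e : a = b
      · subst e; simp
      · simp [e]
    · refine colVal_scale t (χ r : F) _ _ _ _ fun q hq e => ?_
      have hw' : ∀ a : D.Idx, Sum.elim (fun _ => (1 : F)) (fun s : Fin D.nroots => (χ s.val : F)) a = (w a : F) := by
        rintro (i | s) <;> simp [w]
      rw [hw', hw', ← Units.val_pow_eq_pow_val, ← Units.val_mul]
      refine congrArg Units.val ?_
      rcases b with i | s
      · -- a coroot column
        rw [show enc D (Sum.inl i) = (i : ℕ) from rfl, colOf_eq_addIdx (by have := i.2; omega)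
          (by have := i.2; omega), hcar i i.2] at hq
        cases hb : ((D.cartanSR.getD (i : ℕ) #[]).getD r 0 == 0) with
        | true => rw [hb] at hq; simp [addIdx_nil] at hq
        | false =>
          rw [hb] at hq
          simp only [cond_false, addIdx_cons, addIdx_nil, List.mem_singleton] at hq
          subst hq
          rcases a with j | u
          · have := j.2
            simp only [enc] at e
            omega
          · have : r = (u : ℕ) := by simpa [enc] using e
            simp [w, this]
      · by_cases hs1 : (s : ℕ) = r
        · rw [show enc D (Sum.inr s) = D.rank + r by simp [enc, hs1], colOf_eq_addIdx (by omega) (by omega), hdiag,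
            addIdx_nil] at hq
          simp at hq
        by_cases hs2 : (s : ℕ) = D.nroots - 1 - r
        · have hws : w (Sum.inr s) = (χ r)⁻¹ := by simp [w, hs2, hχneg]
          rw [hws]
          rw [show colOf D C.T r (enc D (Sum.inr s)) = negCol D r from
            colOf_neg (show D.rank + (s : ℕ) = _ by rw [hs2]), negCol, List.mem_append] at hq
          rcases hq with hq | hq
          · obtain ⟨z, hz, rfl⟩ := List.mem_map.mp hq
            have hlt : z.2 < D.rank := by
              have := List.snd_lt_of_mem_zipIdx hz
              omega
            rcases a with j | u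
            · simp [w]
            · simp only [enc] at e
              omega
          · rw [List.mem_singleton] at hq
            subst hq
            rcases a with j | u
            · have := j.2
              simp only [enc] at e
              omega
            · have : r = (u : ℕ) := by simpa [enc] using e
              simp [w, this, pow_two]
        · rw [show colOf D C.T r (enc D (Sum.inr s)) = addIdx D.rank 1 (decRaw C.T.K (C.T.slot r (D.rank + s))) from
            colOf_eq_addIdx (show D.rank + (s : ℕ) ≠ _ by omega) (enc_lt D (Sum.inr s))] at hq
          cases hd : decRaw C.T.K (C.T.slot r (D.rank + s)) with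
          | nil => rw [hd, addIdx_nil] at hq; simp at hq
          | cons c L =>
            obtain ⟨v, m⟩ := c
            rw [hd, addIdx_cons] at hq
            have hrow := allBelow_iff.1 (allBelow_iff.1 hl r hr) s s.2
            have hz : C.T.slot r (D.rank + s) ≠ 0 := fun h0 => by
              rw [h0, decRaw_of_zero] at hd; simp at hd
            simp only [Nat.add_eq, Nat.sub_eq] at hrow
            rw [nbeq_false_iff.2 hz, nbeq_false_iff.2 hs1, nbeq_false_iff.2 hs2, hd] at hrow
            simp only [Bool.or_self, cond_false] at hrow
            have hv : χ v = χ r ^ 1 * χ s := by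
              rw [pow_one, hχ.2 r s v hr s.2 (chainRoot_one h hr s.2 hs1 hs2 hd)]
            have hws : w (Sum.inr s) = χ s := rfl
            rw [hws]
            rcases a with j | u
            · exfalso
              have := j.2
              simp only [enc] at e
              have hbase : ∀ (k : ℕ) (M : List (ℕ × ℤ)), ∀ q ∈ addIdx D.rank k M, D.rank ≤ q.1 := by
                intro k M
                induction M generalizing k with
                | nil => simp [addIdx_nil]
                | cons p M ih =>
                  intro q hq
                  rw [addIdx_cons] at hq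
                  rcases List.mem_cons.mp hq with rfl | hq
                  · simp
                  · exact ih _ q hq
              have := hbase 1 ((v, m) :: L) q (by rwa [addIdx_cons])
              omega
            · show χ u = χ s * χ r ^ q.2.1
              rw [mul_comm]
              rcases List.mem_cons.mp hq with rfl | hq
              · have : v = (u : ℕ) := by simpa [enc] using e
                rw [← this]; exact hv
              · exact chain_char h hχ hr L v 1 (χ s) hrow hv q hq u e
  rw [key, mul_assoc, ChevalleyDatum.charDiag, ChevalleyDatum.charDiag, Matrix.diagonal_mul_diagonal]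
  convert mul_one (D.x F r ((χ r : F) * t))
  rw [← Matrix.diagonal_one]
  congr 1
  funext a
  rcases a with i | s <;> simp

end Cfsg.Agent.Chev
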