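import Cfsg.Agent.Chev.GraphData
import Cfsg.Agent.Chev.All
import Cfsg.Prelude.Def_ChevAutomorphisms

/-!
All symmetries of the diagrams of types `D₄` and `E₆`, and graph automorphisms.
-/

set_option autoImplicit false
set_option maxRecDepth 100000
set_option synthInstance.maxSize 8000
set_option synthInstance.maxHeartbeats 2000000
set_option maxHeartbeats 4000000

namespace Cfsg.Agent.Chev

open Cfsg.Lie
open scoped MatrixGroups

universe u

/-- An automorphism agreeing with the graph automorphism on the generators is equal to it. -/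
theorem GraphFacts.eq_aut {D : ChevalleyDatum} {π : Equiv.Perm (Fin D.rank)}
    {ρ : Equiv.Perm (Fin D.nroots)} {ε : Fin D.nroots → ℤ} (hG : GraphFacts D π ρ ε) {F : Type u}
    [Field F] (hF : Facts.{u} D) (φ : ↥(D.group F) ≃* ↥(D.group F))
    (hφ : ∀ (g : ↥(D.group F)) (i : Fin D.rank) (t : F),
      (((g : GL D.Idx F) : Matrix D.Idx D.Idx F) = D.x F (D.simple i) t →
        ((φ g : GL D.Idx F) : Matrix D.Idx D.Idx F) = D.x F (D.simple (π i)) t) ∧
      (((g : GL D.Idx F) : Matrix D.Idx D.Idx F) = D.x F (D.neg (D.simple i)) t →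
        ((φ g : GL D.Idx F) : Matrix D.Idx D.Idx F) = D.x F (D.neg (D.simple (π i))) t))
    (g : ↥(D.group F)) : (φ g : GL D.Idx F) = hG.aut (g : GL D.Idx F) := by
  obtain ⟨x, hx⟩ := g
  have key : ∀ x, x ∈ D.group F → ∀ hx : x ∈ D.group F, (φ ⟨x, hx⟩ : GL D.Idx F) = hG.aut x := by
    intro x hx
    rw [group_eq_closure_simple hF] at hx
    induction hx using Subgroup.closure_induction with
    | mem x hx =>
      intro hxG
      obtain ⟨i, t, rfl | rfl⟩ := hx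
      · refine Eq.trans ?_ (hG.aut_pm hF (r := sRoot hF i) ⟨i, i.2, Or.inl rfl⟩ t).symm
        refine Units.ext (((hφ ⟨_, hxG⟩ i t).1 rfl).trans ?_)
        rw [xG_val, (hG.simple i (sRoot hF i) rfl).1]
      · refine Eq.trans ?_ (hG.aut_pm hF (r := negF hF (sRoot hF i)) ⟨i, i.2, Or.inr rfl⟩ t).symm
        refine Units.ext (((hφ ⟨_, hxG⟩ i t).2 rfl).trans ?_)
        rw [xG_val, (hG.neg (sRoot hF i) (negF hF (sRoot hF i)) rfl).1,
          (hG.simple i (sRoot hF i) rfl).1]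
    | one => intro h1; rw [show (⟨1, h1⟩ : ↥(D.group F)) = 1 from rfl]; simp
    | mul a b ha hb iha ihb =>
      intro hab
      rw [← group_eq_closure_simple hF] at ha hb
      rw [show (⟨a * b, hab⟩ : ↥(D.group F)) = ⟨a, ha⟩ * ⟨b, hb⟩ from rfl, map_mul, map_mul,
        Subgroup.coe_mul, iha ha, ihb hb]
    | inv a ha iha =>
      intro hai
      rw [← group_eq_closure_simple hF] at ha
      rw [show (⟨a⁻¹, hai⟩ : ↥(D.group F)) = (⟨a, ha⟩)⁻¹ from rfl, map_inv, map_inv,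
        Subgroup.coe_inv, iha ha]
  exact key x hx hx

theorem d4_symm_chk : ∀ a : Fin 4, ∀ b : Fin 4, (b ≠ a ∧ chevD4.bonds b a = chevD4.bonds 1 0) →
    ∀ c : Fin 4, (c ≠ a ∧ c ≠ b ∧ chevD4.bonds c a = chevD4.bonds 2 0 ∧ chevD4.bonds c b = chevD4.bonds 2 1) →
    ∀ d : Fin 4, (d ≠ a ∧ d ≠ b ∧ d ≠ c ∧ chevD4.bonds d a = chevD4.bonds 3 0 ∧ chevD4.bonds d b = chevD4.bonds 3 1 ∧ chevD4.bonds d c = chevD4.bonds 3 2) →
    [(a : ℕ), (b : ℕ), (c : ℕ), (d : ℕ)] = d4_012_p ∨ [(a : ℕ), (b : ℕ), (c : ℕ), (d : ℕ)] = d4_031_p ∨ [(a : ℕ), (b : ℕ), (c : ℕ), (d : ℕ)] = d4_310_p ∨ [(a : ℕ), (b : ℕ), (c : ℕ), (d : ℕ)] = d4_213_p ∨ [(a : ℕ), (b : ℕ), (c : ℕ), (d : ℕ)] = d4_032_p ∨ [(a : ℕ), (b : ℕ), (c : ℕ), (d : ℕ)] = d4_312_p := by decide +kernel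

theorem d4_symm_cases (π : Equiv.Perm (Fin chevD4.rank)) (h : chevD4.IsDiagramSymmetry π) :
    π = d4_012_π ∨ π = d4_031_π ∨ π = d4_310_π ∨ π = d4_213_π ∨ π = d4_032_π ∨ π = d4_312_π := by
  have hb : ∀ i j : Fin chevD4.rank, j < i → π i ≠ π j ∧ chevD4.bonds (π i) (π j) = chevD4.bonds i j :=
    fun i j hij => ⟨fun e => hij.ne' (π.injective e), h i j hij.ne'⟩
  let c : ℕ → Fin chevD4.rank := fun k => π ⟨k % 4, Nat.mod_lt _ (by omega)⟩
  have h2 := d4_symm_chk (c 0) (c 1)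
    ⟨(hb ⟨1, by decide⟩ ⟨0, by decide⟩ (by decide)).1, (hb ⟨1, by decide⟩ ⟨0, by decide⟩ (by decide)).2⟩ (c 2)
    ⟨(hb ⟨2, by decide⟩ ⟨0, by decide⟩ (by decide)).1, (hb ⟨2, by decide⟩ ⟨1, by decide⟩ (by decide)).1, (hb ⟨2, by decide⟩ ⟨0, by decide⟩ (by decide)).2, (hb ⟨2, by decide⟩ ⟨1, by decide⟩ (by decide)).2⟩ (c 3)
    ⟨(hb ⟨3, by decide⟩ ⟨0, by decide⟩ (by decide)).1, (hb ⟨3, by decide⟩ ⟨1, by decide⟩ (by decide)).1, (hb ⟨3, by decide⟩ ⟨2, by decide⟩ (by decide)).1, (hb ⟨3, by decide⟩ ⟨0, by decide⟩ (by decide)).2, (hb ⟨3, by decide⟩ ⟨1, by decide⟩ (by decide)).2, (hb ⟨3, by decide⟩ ⟨2, by decide⟩ (by decide)).2⟩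
  rcases h2 with e | e | e | e | e | e
  · left; 
    refine Equiv.ext fun i => Fin.ext ?_
    fin_cases i
    · exact congrArg (fun l => List.getD l 0 0) e
    · exact congrArg (fun l => List.getD l 1 0) e
    · exact congrArg (fun l => List.getD l 2 0) e
    · exact congrArg (fun l => List.getD l 3 0) e
  · right; left; 
    refine Equiv.ext fun i => Fin.ext ?_
    fin_cases i
    · exact congrArg (fun l => List.getD l 0 0) e
    · exact congrArg (fun l => List.getD l 1 0) e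
    · exact congrArg (fun l => List.getD l 2 0) e
    · exact congrArg (fun l => List.getD l 3 0) e
  · right; right; left; 
    refine Equiv.ext fun i => Fin.ext ?_
    fin_cases i
    · exact congrArg (fun l => List.getD l 0 0) e
    · exact congrArg (fun l => List.getD l 1 0) e
    · exact congrArg (fun l => List.getD l 2 0) e
    · exact congrArg (fun l => List.getD l 3 0) e
  · right; right; right; left; 
    refine Equiv.ext fun i => Fin.ext ?_
    fin_cases i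
    · exact congrArg (fun l => List.getD l 0 0) e
    · exact congrArg (fun l => List.getD l 1 0) e
    · exact congrArg (fun l => List.getD l 2 0) e
    · exact congrArg (fun l => List.getD l 3 0) e
  · right; right; right; right; left; 
    refine Equiv.ext fun i => Fin.ext ?_
    fin_cases i
    · exact congrArg (fun l => List.getD l 0 0) e
    · exact congrArg (fun l => List.getD l 1 0) e
    · exact congrArg (fun l => List.getD l 2 0) e
    · exact congrArg (fun l => List.getD l 3 0) e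
  · right; right; right; right; right; 
    refine Equiv.ext fun i => Fin.ext ?_
    fin_cases i
    · exact congrArg (fun l => List.getD l 0 0) e
    · exact congrArg (fun l => List.getD l 1 0) e
    · exact congrArg (fun l => List.getD l 2 0) e
    · exact congrArg (fun l => List.getD l 3 0) e

theorem e6_symm_chk : ∀ a : Fin 6, ∀ b : Fin 6, (b ≠ a ∧ chevE6.bonds b a = chevE6.bonds 1 0) →
    ∀ c : Fin 6, (c ≠ a ∧ c ≠ b ∧ chevE6.bonds c a = chevE6.bonds 2 0 ∧ chevE6.bonds c b = chevE6.bonds 2 1) →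
    ∀ d : Fin 6, (d ≠ a ∧ d ≠ b ∧ d ≠ c ∧ chevE6.bonds d a = chevE6.bonds 3 0 ∧ chevE6.bonds d b = chevE6.bonds 3 1 ∧ chevE6.bonds d c = chevE6.bonds 3 2) →
    ∀ e : Fin 6, (e ≠ a ∧ e ≠ b ∧ e ≠ c ∧ e ≠ d ∧ chevE6.bonds e a = chevE6.bonds 4 0 ∧ chevE6.bonds e b = chevE6.bonds 4 1 ∧ chevE6.bonds e c = chevE6.bonds 4 2 ∧ chevE6.bonds e d = chevE6.bonds 4 3) →
    ∀ f : Fin 6, (f ≠ a ∧ f ≠ b ∧ f ≠ c ∧ f ≠ d ∧ f ≠ e ∧ chevE6.bonds f a = chevE6.bonds 5 0 ∧ chevE6.bonds f b = chevE6.bonds 5 1 ∧ chevE6.bonds f c = chevE6.bonds 5 2 ∧ chevE6.bonds f d = chevE6.bonds 5 3 ∧ chevE6.bonds f e = chevE6.bonds 5 4) →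
    [(a : ℕ), (b : ℕ), (c : ℕ), (d : ℕ), (e : ℕ), (f : ℕ)] = e6_id_p ∨ [(a : ℕ), (b : ℕ), (c : ℕ), (d : ℕ), (e : ℕ), (f : ℕ)] = e6_flip_p := by decide +kernel

theorem e6_symm_cases (π : Equiv.Perm (Fin chevE6.rank)) (h : chevE6.IsDiagramSymmetry π) :
    π = e6_id_π ∨ π = e6_flip_π := by
  have hb : ∀ i j : Fin chevE6.rank, j < i → π i ≠ π j ∧ chevE6.bonds (π i) (π j) = chevE6.bonds i j :=
    fun i j hij => ⟨fun e => hij.ne' (π.injective e), h i j hij.ne'⟩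
  let c : ℕ → Fin chevE6.rank := fun k => π ⟨k % 6, Nat.mod_lt _ (by omega)⟩
  have h2 := e6_symm_chk (c 0) (c 1)
    ⟨(hb ⟨1, by decide⟩ ⟨0, by decide⟩ (by decide)).1, (hb ⟨1, by decide⟩ ⟨0, by decide⟩ (by decide)).2⟩ (c 2)
    ⟨(hb ⟨2, by decide⟩ ⟨0, by decide⟩ (by decide)).1, (hb ⟨2, by decide⟩ ⟨1, by decide⟩ (by decide)).1, (hb ⟨2, by decide⟩ ⟨0, by decide⟩ (by decide)).2, (hb ⟨2, by decide⟩ ⟨1, by decide⟩ (by decide)).2⟩ (c 3)
    ⟨(hb ⟨3, by decide⟩ ⟨0, by decide⟩ (by decide)).1, (hb ⟨3, by decide⟩ ⟨1, by decide⟩ (by decide)).1, (hb ⟨3, by decide⟩ ⟨2, by decide⟩ (by decide)).1, (hb ⟨3, by decide⟩ ⟨0, by decide⟩ (by decide)).2, (hb ⟨3, by decide⟩ ⟨1, by decide⟩ (by decide)).2, (hb ⟨3, by decide⟩ ⟨2, by decide⟩ (by decide)).2⟩ (c 4)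
    ⟨(hb ⟨4, by decide⟩ ⟨0, by decide⟩ (by decide)).1, (hb ⟨4, by decide⟩ ⟨1, by decide⟩ (by decide)).1, (hb ⟨4, by decide⟩ ⟨2, by decide⟩ (by decide)).1, (hb ⟨4, by decide⟩ ⟨3, by decide⟩ (by decide)).1, (hb ⟨4, by decide⟩ ⟨0, by decide⟩ (by decide)).2, (hb ⟨4, by decide⟩ ⟨1, by decide⟩ (by decide)).2, (hb ⟨4, by decide⟩ ⟨2, by decide⟩ (by decide)).2, (hb ⟨4, by decide⟩ ⟨3, by decide⟩ (by decide)).2⟩ (c 5)
    ⟨(hb ⟨5, by decide⟩ ⟨0, by decide⟩ (by decide)).1, (hb ⟨5, by decide⟩ ⟨1, by decide⟩ (by decide)).1, (hb ⟨5, by decide⟩ ⟨2, by decide⟩ (by decide)).1, (hb ⟨5, by decide⟩ ⟨3, by decide⟩ (by decide)).1, (hb ⟨5, by decide⟩ ⟨4, by decide⟩ (by decide)).1, (hb ⟨5, by decide⟩ ⟨0, by decide⟩ (by decide)).2, (hb ⟨5, by decide⟩ ⟨1, by decide⟩ (by decide)).2, (hb ⟨5, by decide⟩ ⟨2, by decide⟩ (by decide)).2, (hb ⟨5, by decide⟩ ⟨3, by decide⟩ (by decide)).2, (hb ⟨5, by decide⟩ ⟨4, by decide⟩ (by decide)).2⟩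
  rcases h2 with e | e
  · left; 
    refine Equiv.ext fun i => Fin.ext ?_
    fin_cases i
    · exact congrArg (fun l => List.getD l 0 0) e
    · exact congrArg (fun l => List.getD l 1 0) e
    · exact congrArg (fun l => List.getD l 2 0) e
    · exact congrArg (fun l => List.getD l 3 0) e
    · exact congrArg (fun l => List.getD l 4 0) e
    · exact congrArg (fun l => List.getD l 5 0) e
  · right; 
    refine Equiv.ext fun i => Fin.ext ?_
    fin_cases i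
    · exact congrArg (fun l => List.getD l 0 0) e
    · exact congrArg (fun l => List.getD l 1 0) e
    · exact congrArg (fun l => List.getD l 2 0) e
    · exact congrArg (fun l => List.getD l 3 0) e
    · exact congrArg (fun l => List.getD l 4 0) e
    · exact congrArg (fun l => List.getD l 5 0) e

end Cfsg.Agent.Chev
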