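import Cfsg.Agent.Chev.Bruhat
import Cfsg.Agent.Chev.Orbits
import Cfsg.Agent.Chev.Fast
import Mathlib.GroupTheory.IsPerfect

/-!
Irreducibility, trivial core, perfectness and the simplicity criterion of the groups.
-/

set_option autoImplicit false

namespace Cfsg.Agent.Chev

open Cfsg.Lie
open scoped MatrixGroups commutatorElement

universe u

/-- Every index of the list has a neighbour for `M` among the earlier ones. -/
noncomputable def chkConn (M : ℕ → ℕ → ℕ) : List ℕ → List ℕ → Bool
  | _, [] => true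
  | seen, a :: l => (seen.any fun b => Nat.ble 3 (M b a)) && chkConn M (a :: seen) l

theorem eq_of_chkConn {M : ℕ → ℕ → ℕ} {f : ℕ → Bool} {v : Bool} {n : ℕ}
    (h : ∀ b a, b < n → a < n → 3 ≤ M b a → f b = v → f a = v) :
    ∀ (l seen : List ℕ), chkConn M seen l = true → (∀ a ∈ seen ++ l, a < n) →
      (∀ b ∈ seen, f b = v) → ∀ a ∈ seen ++ l, f a = v
  | [], seen, _, _, hs, a, ha => hs a (by simpa using ha)
  | x :: l, seen, hc, hlt, hs, a, ha => by
    simp only [chkConn, Bool.and_eq_true, List.any_eq_true, nble_iff] at hc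
    obtain ⟨⟨b, hb, hbx⟩, hrest⟩ := hc
    have hx := h b x (hlt b (List.mem_append_left _ hb))
      (hlt x (List.mem_append_right _ (List.mem_cons_self ..))) hbx (hs b hb)
    refine eq_of_chkConn h l (x :: seen) hrest (fun c hc => hlt c ?_)
      (List.forall_mem_cons.2 ⟨hx, hs⟩) a ?_
    · simp only [List.mem_append, List.mem_cons] at hc ⊢
      tauto
    simp only [List.mem_append, List.mem_cons] at ha ⊢
    tauto

/-- One deduction of a root subgroup lying in the derived group. -/
inductive PStep where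
  | torus (r j : ℕ)
  | comm (p q k : ℕ)
  | refl (i r : ℕ)

/-- The root given by a step. -/
noncomputable def PStep.root (D : ChevalleyDatum) : PStep → ℕ
  | .torus r _ => r
  | .comm _ _ k => k
  | .refl i r => D.reflectRoot i r

/-- The check of a list of deductions, the known roots being `known`; `a` says whether there is a
unit different from `1`. -/
noncomputable def chkPerfect (D : ChevalleyDatum) (a : Bool) : List ℕ → List PStep → Bool
  | known, [] => allBelow (fun i => known.contains (D.simple i)) D.rank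
  | known, st :: l =>
    (match st with
      | .torus r j => a && Nat.blt r D.nroots && Nat.blt j D.rank &&
          Nat.beq (D.cartan j r).natAbs 1
      | .comm p q k => Nat.blt p D.nroots && Nat.blt q D.nroots && !Nat.beq q p &&
          !Nat.beq q (D.neg p) &&
          ((D.commTerms p q).filter fun c => Nat.beq c.1 k).map (fun c => (c.2.1.natAbs, c.2.2.2))
            == [(1, 1)] &&
          (D.commTerms p q).all fun c => Nat.beq c.1 k || known.contains c.1
      | .refl i r => Nat.blt i D.rank && Nat.blt r D.nroots && known.contains r) &&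
      chkPerfect D a (st.root D :: known) l

variable {D : ChevalleyDatum} {F : Type u} [Field F] (hF : Facts.{u} D)
include hF

theorem bnPair_irreducible {M : ℕ → ℕ → ℕ} {o : ℕ} {l : List ℕ}
    (hM : ∀ i j : Fin D.rank, orderOf (wPerm hF i * wPerm hF j) = M i j)
    (hc : chkConn M [o] l = true)
    (hlt : ∀ a ∈ o :: l, a < D.rank)
    (hall : allBelow (fun i => (o :: l).contains i) D.rank = true) :
    (bnPair hF (F := F)).Irreducible := by
  classical
  intro J hJ hJne hJc
  by_contra hno
  push Not at hno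
  let f : ℕ → Bool := fun i => if h : i < D.rank then decide (nGrp hF ⟨i, h⟩ ∈ J) else false
  simp only [allBelow_iff, List.contains_iff_mem] at hall
  have hsymm : ∀ i j : Fin D.rank, M i j = M j i := fun i j => by
    rw [← hM, ← hM, ← orderOf_inv, mul_inv_rev, wPerm_inv, wPerm_inv]
  have hcomm : ∀ i j : Fin D.rank, nGrp hF i ∈ J → nGrp hF j ∉ J → M i j < 3 := by
    intro i j hi hj
    have h := hno _ hi _ ⟨⟨j, rfl⟩, hj⟩
    have h1 : (nS hF (i : ℕ) * nS hF (j : ℕ) * (nS hF (i : ℕ))⁻¹ * (nS hF (j : ℕ))⁻¹ :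
        GL D.Idx F) ∈ D.borelSubgroup F := by
      simpa [bnPair, nGrp, Subgroup.mem_subgroupOf] using h
    have hN : ∀ m : Fin D.rank, (nS hF (m : ℕ) : GL D.Idx F) ∈ D.monomialSubgroup F := nS_mem hF
    have hd := (borel_inf_monomial hF (F := F)).le ⟨h1, Subgroup.mul_mem _ (Subgroup.mul_mem _
      (Subgroup.mul_mem _ (hN i) (hN j)) (Subgroup.inv_mem _ (hN i))) (Subgroup.inv_mem _ (hN j))⟩
    obtain ⟨c, hc'⟩ := (mem_diagonal_iff hF).1 hd
    have e : (nS hF (i : ℕ) * nS hF (j : ℕ) : GL D.Idx F) =
        torusHom c * (nS hF (j : ℕ) * nS hF (i : ℕ)) := by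
      rw [hc']; group
    have h2 := isMon_mul hF (isMon_nS hF i (F := F)) (isMon_nS hF j)
    rw [e] at h2
    have h3 := isMon_unique hF h2
      (isMon_mul hF (isMon_torus hF c) (isMon_mul hF (isMon_nS hF j) (isMon_nS hF i)))
    rw [one_mul] at h3
    have h4 : (wPerm hF i * wPerm hF j) ^ 2 = 1 := by
      rw [pow_two]
      conv_lhs => arg 1; rw [h3]
      rw [mul_assoc, ← mul_assoc (wPerm hF i) (wPerm hF i), wPerm_sq, one_mul, wPerm_sq]
    have h5 := Nat.le_of_dvd (by norm_num) (orderOf_dvd_of_pow_eq_one h4)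
    rw [hM] at h5
    omega
  have hstep : ∀ b a, b < D.rank → a < D.rank → 3 ≤ M b a → f b = f a := by
    intro b a hb ha hba
    simp only [f, dif_pos hb, dif_pos ha, decide_eq_decide]
    by_contra hne
    rcases Classical.em (nGrp hF ⟨b, hb⟩ ∈ J) with h1 | h1
    · have := hcomm ⟨b, hb⟩ ⟨a, ha⟩ h1 fun h2 => hne (iff_of_true h1 h2)
      simp only at this; omega
    · rcases Classical.em (nGrp hF ⟨a, ha⟩ ∈ J) with h2 | h2
      · have := hcomm ⟨a, ha⟩ ⟨b, hb⟩ h2 h1
        rw [hsymm] at this
        simp only at this; omega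
      · exact hne (iff_of_false h1 h2)
  obtain ⟨s, hs⟩ := hJne
  obtain ⟨i, rfl⟩ := hJ hs
  obtain ⟨r, ⟨j, rfl⟩, hr⟩ := hJc
  have key : ∀ a ∈ o :: l, f a = f o := fun a ha =>
    eq_of_chkConn (n := D.rank) (fun b a hb ha hba e => (hstep b a hb ha hba).symm.trans e) l [o] hc
      (by simpa using hlt) (by simp) a (by simpa using ha)
  have hij : f (i : ℕ) = f (j : ℕ) := (key i (hall i i.2)).trans (key j (hall j j.2)).symm
  simp [f, hs, hr] at hij

theorem xG_comm_word_mem {p q : ℕ} (hp : p < D.nroots) (hq : q < D.nroots) (hqp : q ≠ p)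
    (hqn : q ≠ D.neg p) (t v : F) :
    wordG hF (D.commWord F p q t v) ∈ ⁅D.group F, D.group F⁆ := by
  have h := xG_comm hF hp hq hqp hqn t v
  have e : wordG hF (D.commWord F p q t v) =
      ⁅(xG hF q v)⁻¹, (xG hF p t)⁻¹⁆ := by
    rw [commutatorElement_def, inv_inv, inv_inv,
      show (xG hF q v)⁻¹ * (xG hF p t)⁻¹ * xG hF q v * xG hF p t =
        (xG hF q v)⁻¹ * (xG hF p t)⁻¹ * (xG hF q v * xG hF p t) by group, h]
    group
  rw [e]
  exact Subgroup.commutator_mem_commutator (Subgroup.inv_mem _ (xG_mem_group hF _ _))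
    (Subgroup.inv_mem _ (xG_mem_group hF _ _))

theorem conj_mem_commutator {x g : GL D.Idx F} (hg : g ∈ D.group F)
    (hx : x ∈ ⁅D.group F, D.group F⁆) : g * x * g⁻¹ ∈ ⁅D.group F, D.group F⁆ := by
  rw [show g * x * g⁻¹ = ⁅g, x⁆ * x by rw [commutatorElement_def]; group]
  exact Subgroup.mul_mem _
    (Subgroup.commutator_mem_commutator hg (Subgroup.commutator_le_self _ hx)) hx

theorem perfect_sound {a : Bool} (ha : a = true → ∃ x : F, x ≠ 0 ∧ x ≠ 1) :
    ∀ (l : List PStep) (known : List ℕ), chkPerfect D a known l = true →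
      (∀ r ∈ known, r < D.nroots ∧ ∀ t : F, xG hF r t ∈ ⁅D.group F, D.group F⁆) →
      ∀ i < D.rank, ∀ t : F, xG hF (D.simple i) t ∈ ⁅D.group F, D.group F⁆
  | [], known, hc, hk, i, hi => by
    simp only [chkPerfect, allBelow_iff, List.contains_iff_mem] at hc
    exact (hk _ (hc i hi)).2
  | st :: l, known, hc, hk, i, hi => by
    simp only [chkPerfect, Bool.and_eq_true] at hc
    obtain ⟨hst, hrest⟩ := hc
    refine perfect_sound ha l _ hrest (List.forall_mem_cons.2 ⟨?_, hk⟩) i hi
    cases st with
    | torus r j =>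
      simp only [Bool.and_eq_true, nblt_iff, nbeq_iff] at hst
      obtain ⟨⟨⟨hat, hr⟩, hj⟩, hA⟩ := hst
      refine ⟨hr, fun t => ?_⟩
      obtain ⟨x, hx0, hx1⟩ := ha hat
      set c : Fin D.rank → Fˣ := Pi.mulSingle ⟨j, hj⟩ (Units.mk0 x hx0) with hc
      have hchi : (chiU c r : F) ≠ 1 := by
        rw [hc, chiU_mulSingle hj, Units.val_zpow_eq_zpow_val, Units.val_mk0]
        rcases Int.natAbs_eq (D.cartan j r) with e | e <;> rw [e, hA]
        · simpa using hx1
        · simpa [inv_eq_one] using hx1
      set s := t / ((chiU c r : F) - 1) with hs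
      have hts : t = (chiU c r : F) * s + -s := by
        rw [hs]; field_simp [sub_ne_zero.2 hchi]; ring
      have e : xG hF r t = ⁅(torusHom c : GL D.Idx F), xG hF r s⁆ := by
        rw [commutatorElement_def, torusHom_conj hF c hr, mul_inv_cancel_right, xG_inv, xG_mul,
          ← hts]
      rw [show (PStep.torus r j).root D = r from rfl, e]
      exact Subgroup.commutator_mem_commutator
        (borel_le_group hF (Subgroup.mem_sup_right (torusHom_mem hF c))) (xG_mem_group hF _ _)
    | comm p q k =>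
      simp only [Bool.and_eq_true, nblt_iff, Bool.not_eq_true', nbeq_false_iff, beq_iff_eq,
        List.all_eq_true, Bool.or_eq_true, nbeq_iff, List.contains_iff_mem] at hst
      obtain ⟨⟨⟨⟨⟨hp, hq⟩, hqp⟩, hqn⟩, hfil⟩, hall⟩ := hst
      have hk1 : k < D.nroots := by
        obtain ⟨c, hc⟩ : ∃ c, c ∈ (D.commTerms p q).filter fun c => Nat.beq c.1 k := by
          rcases hL : (D.commTerms p q).filter fun c => Nat.beq c.1 k with _ | ⟨c, L⟩
          · simp [hL] at hfil
          · exact ⟨c, hL ▸ List.mem_cons_self ..⟩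
        rw [List.mem_filter, nbeq_iff] at hc
        exact hc.2 ▸ hF.comm_lt p q hp hq c hc.1
      refine ⟨hk1, fun t => ?_⟩
      set M := ⁅D.group F, D.group F⁆ with hMdef
      have key : ∀ (L : List (ℕ × ℤ × ℕ × ℕ)) (v : F), (∀ c ∈ L, c.1 = k ∨ c.1 ∈ known) →
          wordG hF (L.map fun c => (c.1, (c.2.1 : F) * (-(1 : F)) ^ c.2.2.1 * v ^ c.2.2.2)) ∈ M →
          ∀ c₀, (L.filter fun c => Nat.beq c.1 k) = [c₀] →
            xG hF k ((c₀.2.1 : F) * (-(1 : F)) ^ c₀.2.2.1 * v ^ c₀.2.2.2) ∈ M := by
        intro L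
        induction L with
        | nil => intro v _ _ c₀ h; simp at h
        | cons c L ih =>
          intro v hL hw c₀ hc₀
          rw [List.map_cons, show ∀ (y : ℕ × F) (w : List (ℕ × F)), wordG hF (y :: w) =
            xG hF y.1 y.2 * wordG hF w from fun _ _ => rfl] at hw
          obtain ⟨h0, hL⟩ := List.forall_mem_cons.1 hL
          by_cases hck : c.1 = k
          · rw [List.filter_cons_of_pos (by simp [hck, nbeq_iff])] at hc₀
            simp only [List.cons.injEq] at hc₀
            obtain ⟨rfl, hnil⟩ := hc₀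
            have hrest : wordG hF
                (L.map fun c => (c.1, (c.2.1 : F) * (-(1 : F)) ^ c.2.2.1 * v ^ c.2.2.2)) ∈ M := by
              refine Subgroup.list_prod_mem _ fun y hy => ?_
              obtain ⟨z, hz, rfl⟩ := List.mem_map.1 hy
              obtain ⟨c', hc', rfl⟩ := List.mem_map.1 hz
              rcases hL c' hc' with h' | h'
              · have : c' ∈ L.filter fun c => Nat.beq c.1 k := List.mem_filter.2 ⟨hc', nbeq_iff.2 h'⟩
                rw [hnil] at this
                simp at this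
              · exact (hk _ h').2 _
            rw [hck] at hw
            exact (Subgroup.mul_mem_cancel_right M hrest).1 hw
          · rw [List.filter_cons_of_neg (by simpa [nbeq_iff] using hck)] at hc₀
            exact ih v hL ((Subgroup.mul_mem_cancel_left M
              ((hk _ (h0.resolve_left hck)).2 _)).1 hw) c₀ hc₀
      rcases hL : (D.commTerms p q).filter fun c => Nat.beq c.1 k with _ | ⟨c₀, L⟩
      · simp [hL] at hfil
      simp only [hL, List.map_cons, List.cons.injEq, Prod.mk.injEq, List.map_eq_nil_iff] at hfil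
      obtain ⟨⟨hm, hj⟩, rfl⟩ := hfil
      set e : F := (c₀.2.1 : F) * (-(1 : F)) ^ c₀.2.2.1 with he
      have hee : e * e = 1 := by
        rw [he, mul_mul_mul_comm, ← pow_add, ← two_mul, pow_mul, neg_one_sq, one_pow, mul_one]
        rcases Int.natAbs_eq c₀.2.1 with e' | e' <;> rw [e', hm] <;> simp
      have := key (D.commTerms p q) (e * t) hall
        (xG_comm_word_mem hF hp hq hqp hqn 1 (e * t)) c₀ hL
      rw [hj, pow_one, ← mul_assoc, hee, one_mul] at this
      exact this
    | refl j r =>
      simp only [Bool.and_eq_true, nblt_iff, List.contains_iff_mem] at hst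
      obtain ⟨⟨hj, hr⟩, hkr⟩ := hst
      refine ⟨hF.refl_lt j hj r hr, fun t => ?_⟩
      set e : F := ((etaN hF j r : ℤ) : F) with he
      have hee : e * e = 1 := by
        rcases (etaN_spec hF hj).1 r hr with h | h <;> simp [he, h]
      have h1 := conj_mem_commutator hF (nG_mem_group hF (D.simple j) 1) ((hk r hkr).2 (e * t))
      rw [show nG hF (D.simple j) 1 = nS hF j (F := F) from rfl, nS_conj_x hF hj hr,
        mul_inv_cancel_right, ← he, ← mul_assoc, hee, one_mul] at h1
      exact h1

theorem group_commutator_eq_top {a : Bool} (ha : a = true → ∃ x : F, x ≠ 0 ∧ x ≠ 1)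
    {l : List PStep} (hc : chkPerfect D a [] l = true) : commutator ↥(D.group F) = ⊤ := by
  set M := ⁅D.group F, D.group F⁆ with hM
  have hs := perfect_sound hF ha l [] hc (by simp)
  have hall : ∀ r < D.nroots, ∀ t : F, xG hF r t ∈ M :=
    hF.root_induction (fun r => ∀ t : F, xG hF r t ∈ M) hs fun i hi r hr ih t => by
      set e : F := ((etaN hF i r : ℤ) : F) with he
      have hee : e * e = 1 := by
        rcases (etaN_spec hF hi).1 r hr with h | h <;> simp [he, h]
      have h1 := conj_mem_commutator hF (nG_mem_group hF (D.simple i) 1) (ih (e * t))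
      rw [show nG hF (D.simple i) 1 = nS hF i (F := F) from rfl, nS_conj_x hF hi hr,
        mul_inv_cancel_right, ← he, ← mul_assoc, hee, one_mul] at h1
      exact h1
  have hle : D.group F ≤ M := by
    refine (Subgroup.closure_le _).2 ?_
    rintro g ⟨r, t, e⟩
    rw [show g = xG hF r t from Units.ext (by rw [e, xG_val, ChevalleyDatum.x, dif_pos r.2])]
    exact hall r r.2 t
  apply Subgroup.map_injective (D.group F).subtype_injective
  rw [Subgroup.map_subtype_commutator, ← MonoidHom.range_eq_map, Subgroup.range_subtype]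
  exact le_antisymm (Subgroup.commutator_le_self _) hle

theorem normalCore_borel : ((D.borelSubgroup F).subgroupOf (D.group F)).normalCore = ⊥ := by
  classical
  rw [eq_bot_iff]
  intro g hg
  set C := ((D.borelSubgroup F).subgroupOf (D.group F)).normalCore with hC
  obtain ⟨n, hn, hmap⟩ := map_posUnipotent_longest hF (F := F)
  have hnG : n ∈ D.group F := monomial_le_group hF hn
  have hH : ∀ y ∈ C, (y : GL D.Idx F) ∈ D.diagonalSubgroup F := by
    intro y hy
    rw [← borel_inf_negBorel hF]
    refine ⟨Subgroup.mem_subgroupOf.1 (Subgroup.normalCore_le _ hy), ?_⟩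
    have h := Subgroup.normalCore_le _
      (Subgroup.Normal.conj_mem inferInstance y hy (⟨n, hnG⟩⁻¹))
    rw [Subgroup.mem_subgroupOf] at h
    simp only [inv_inv, Subgroup.coe_mul, Subgroup.coe_inv] at h
    obtain ⟨v, hv, c, e⟩ := (mem_borel_iff hF).1 h
    have e2 : (y : GL D.Idx F) = (n * v * n⁻¹) * (n * torusHom c * n⁻¹) := by
      rw [show n * v * n⁻¹ * (n * torusHom c * n⁻¹) = n * (v * torusHom c) * n⁻¹ by group, ← e]
      group
    rw [e2]
    refine Subgroup.mul_mem _ (Subgroup.mem_sup_left ?_) (Subgroup.mem_sup_right ?_)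
    · rw [← hmap]; exact ⟨v, hv, rfl⟩
    · exact Subgroup.mem_subgroupOf.1 ((diagonal_subgroupOf_normal hF (F := F)).conj_mem
        ⟨_, Subgroup.mem_sup_left (torusHom_mem hF c)⟩
        (Subgroup.mem_subgroupOf.2 (torusHom_mem hF c)) ⟨n, hn⟩)
  obtain ⟨c, hc⟩ := (mem_diagonal_iff hF).1 (hH g hg)
  rw [Subgroup.mem_bot]
  apply Subtype.ext
  rw [Subgroup.coe_one, ← hc, torusHom_eq_one_iff]
  have hpos : ∀ r : Fin D.nroots, half D ≤ (r : ℕ) → chiU c r = 1 := by
    intro r hr
    have hx : xG hF r (1 : F) ∈ D.group F := xG_mem_group hF _ _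
    have h := hH _ (Subgroup.Normal.conj_mem inferInstance g hg (⟨_, hx⟩ : ↥(D.group F)))
    simp only [Subgroup.coe_mul, Subgroup.coe_inv, ← hc] at h
    have h2 : xG hF r (1 : F) * torusHom c * (xG hF r (1 : F))⁻¹ * (torusHom c)⁻¹ ∈
        D.posUnipotent F ⊓ D.diagonalSubgroup F := by
      refine ⟨?_, Subgroup.mul_mem _ h (Subgroup.inv_mem _ (torusHom_mem hF c))⟩
      rw [xG_inv, mul_assoc (xG hF r (1 : F)) (torusHom c), torusHom_conj hF c r.2, ← mul_assoc,
        mul_inv_cancel_right, xG_mul]
      exact mem_posUnipotent_of hF r.2 hr _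
    rw [posUnipotent_inf_diagonal hF, Subgroup.mem_bot, xG_inv,
      mul_assoc (xG hF r (1 : F)) (torusHom c), torusHom_conj hF c r.2, ← mul_assoc,
      mul_inv_cancel_right, xG_mul, xG_eq_one_iff hF r.2] at h2
    apply Units.ext
    rw [Units.val_one]
    linear_combination -h2
  intro s
  by_cases hs : half D ≤ (s : ℕ)
  · exact hpos s hs
  · have := hpos (negF hF s) ((pos_negF_iff hF s).2 (not_le.1 hs))
    rw [show ((negF hF s : Fin D.nroots) : ℕ) = D.neg s from rfl, chiU_neg hF c s.2,
      inv_eq_one] at this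
    exact this

end Cfsg.Agent.Chev
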