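import Cfsg.Agent.Chev.All

/-!
The Weyl orbit of the root pair (39, 45) of F4, coded as 48 a + b.
-/

set_option autoImplicit false
set_option maxRecDepth 100000

namespace Cfsg.Agent.Chev.F4Pair

open Cfsg.Lie

/-- The orbit. -/
def orbit : List ℕ := [159, 160, 161, 165, 166, 167, 168, 169, 170, 174, 175, 176, 340, 341, 342, 357, 358, 359, 360, 361, 362, 377, 378, 379, 386, 389, 390, 400, 401, 407, 408, 414, 415, 425, 426, 429, 433, 436, 438, 447, 449, 453, 458, 462, 464, 473, 475, 478, 480, 484, 485, 495, 496, 502, 505, 511, 512, 522, 523, 527, 529, 530, 534, 543, 544, 550, 553, 559, 560, 569, 573, 574, 576, 578, 581, 591, 593, 597, 602, 606, 608, 618, 621, 623, 624, 625, 628, 640, 641, 647, 648, 654, 655, 667, 670, 671, 672, 673, 674, 693, 694, 695, 696, 697, 698, 717, 718, 719, 865, 866, 868, 869, 881, 886, 889, 894, 906, 907, 909, 910, 912, 914, 916, 918, 928, 933, 938, 943, 953, 955, 957, 959, 960, 961, 965, 966, 975, 983, 984, 992, 1001, 1002, 1006, 1007, 1296, 1297, 1301, 1302, 1311,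 1319, 1320, 1328, 1337, 1338, 1342, 1343, 1344, 1346, 1348, 1350, 1360, 1365, 1370, 1375, 1385, 1387, 1389, 1391, 1393, 1394, 1396, 1397, 1409, 1414, 1417, 1422, 1434, 1435, 1437, 1438, 1584, 1585, 1586, 1605, 1606, 1607, 1608, 1609, 1610, 1629, 1630, 1631, 1632, 1633, 1636, 1648, 1649, 1655, 1656, 1662, 1663, 1675, 1678, 1679, 1680, 1682, 1685, 1695, 1697, 1701, 1706, 1710, 1712, 1722, 1725, 1727, 1729, 1730, 1734, 1743, 1744, 1750, 1753, 1759, 1760, 1769, 1773, 1774, 1776, 1780, 1781, 1791, 1792, 1798, 1801, 1807, 1808, 1818, 1819, 1823, 1825, 1828, 1830, 1839, 1841, 1845, 1850, 1854, 1856, 1865, 1867, 1870, 1874, 1877, 1878, 1888, 1889, 1895, 1896, 1902, 1903, 1913, 1914, 1917, 1924, 1925, 1926, 1941, 1942, 1943, 1944, 1945, 1946, 1961, 1962, 1963, 2127, 2128, 2129, 2133, 2134, 2135, 2136, 2137, 2138, 2142, 2143, 2144]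

/-- The roots reached from 39 and 45 by positive root elements. -/
def supp : List ℕ := [39, 40, 44, 45, 46, 47]

theorem orbit_closed : ((List.range chevF4.rank).all fun i => orbit.all fun p =>
    orbit.contains (48 * chevF4.reflectRoot i (p / 48) + chevF4.reflectRoot i (p % 48))) = true := by
  decide +kernel

theorem orbit_supp : (orbit.all fun p =>
    !(supp.contains (p / 48) && supp.contains (p % 48)) || Nat.beq p (48 * 39 + 45)) = true := by
  decide +kernel

theorem start_mem : orbit.contains (48 * 39 + 45) = true := by decide +kernel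

end Cfsg.Agent.Chev.F4Pair
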