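import Cfsg.Agent.Chev.F4PairSupport

/-!
The centraliser of `x₃₉(1) x₄₅(1)` in `F₄`, characteristic two.
-/

set_option autoImplicit false
set_option maxRecDepth 100000

namespace Cfsg.Agent.Chev.F4Pair

open Cfsg.Lie Cfsg.Agent.Chev

universe u

theorem cartan_data : ∀ j : Fin chevF4.rank,
    0 ≤ 3 * chevF4.cartan j 39 + 2 * chevF4.cartan j 45 ∧
    (3 * chevF4.cartan j 39 + 2 * chevF4.cartan j 45 = 0 →
      chevF4.cartan j 39 = 0 ∧ chevF4.cartan j 45 = 0 ∧ ((j : ℕ) = 0 ∨ (j : ℕ) = 3)) := by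
  decide +kernel

theorem simple_data : ∀ j : Fin chevF4.rank,
    chevF4.simple j = [33, 27, 25, 24].getD j 0 ∧
    chevF4.neg (chevF4.simple j) = [14, 20, 22, 23].getD j 0 := by
  decide +kernel

theorem letters_chk : ([0, 3].all fun i => (List.range chevF4.nroots).all fun r =>
    (decide (r < half chevF4) || decide (r = 33) || decide (r = 24)) ||
      (decide (half chevF4 ≤ chevF4.reflectRoot i r) && decide (chevF4.reflectRoot i r ≠ 33) &&
        decide (chevF4.reflectRoot i r ≠ 24))) = true := by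
  decide +kernel

/-- The positive roots other than 25, 26, 27, 34. -/
def sRoots : List ℕ :=
  ((List.range chevF4.nroots).filter fun r => decide (half chevF4 ≤ r)).filter
    fun r => decide (r ∉ [27, 25, 34, 26])

theorem s_commutes_chk : ((sRoots ++ [14, 23]).all fun r =>
    decide (r < chevF4.nroots) && commutesTwoChk chevF4 39 r && commutesTwoChk chevF4 45 r) = true := by
  decide +kernel

theorem top44_chk : ((List.range chevF4.nroots).all fun s => decide (s < half chevF4) ||
    commutesTwoChk chevF4 44 s) = true := by decide +kernel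

theorem move_chk : (commutesTwoChk chevF4 27 45 && commutesTwoChk chevF4 27 44 &&
    commutesTwoChk chevF4 34 45 && commutesTwoChk chevF4 25 39 && commutesTwoChk chevF4 25 40 &&
    commutesTwoChk chevF4 25 44 && commutesTwoChk chevF4 25 47 && commutesTwoChk chevF4 26 39 &&
    commutesTwoChk chevF4 26 40 && commutesTwoChk chevF4 26 44 &&
    commutesTwoChk chevF4 40 27 && commutesTwoChk chevF4 44 34 && commutesTwoChk chevF4 46 25 &&
    commutesTwoChk chevF4 47 26) = true := by decide +kernel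

theorem move_terms :
    ((chevF4.commTerms 39 27).map (fun c => (c.1, c.2.1 % 2, c.2.2)) = [(40, 1, 1, 1)] ∧
    (chevF4.commTerms 39 34).map (fun c => (c.1, c.2.1 % 2, c.2.2)) = [(44, 1, 1, 1)] ∧
    (chevF4.commTerms 45 25).map (fun c => (c.1, c.2.1 % 2, c.2.2)) = [(46, 1, 1, 1)] ∧
    (chevF4.commTerms 45 26).map (fun c => (c.1, c.2.1 % 2, c.2.2)) = [(47, 1, 1, 1)]) := by
  decide +kernel

theorem neg_data : (27 ≠ chevF4.neg 39 ∧ 34 ≠ chevF4.neg 39 ∧ 25 ≠ chevF4.neg 45 ∧
    26 ≠ chevF4.neg 45) ∧ half chevF4 = 24 ∧ chevF4.nroots = 48 := by decide +kernel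

/-- The index of a root. -/
def r39 : Fin chevF4.nroots := ⟨39, by decide +kernel⟩

/-- The index of a root. -/
def r45 : Fin chevF4.nroots := ⟨45, by decide +kernel⟩

theorem half_le_39 : half chevF4 ≤ 39 := by decide +kernel

/-- A Weyl element mapping 39 and 45 into the support fixes both. -/
theorem fix_of_supp (w : List (Fin chevF4.rank))
    (h1 : ((pWord facts_chevF4.{u} w r39 : Fin chevF4.nroots) : ℕ) ∈ supp)
    (h2 : ((pWord facts_chevF4.{u} w r45 : Fin chevF4.nroots) : ℕ) ∈ supp) :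
    pWord facts_chevF4.{u} w r39 = r39 ∧ pWord facts_chevF4.{u} w r45 = r45 := by
  have hin : ∀ w : List (Fin chevF4.rank), 48 * (pWord facts_chevF4.{u} w r39 : ℕ) +
      (pWord facts_chevF4.{u} w r45 : ℕ) ∈ orbit := by
    intro w
    induction w with
    | nil =>
      have h := start_mem
      rw [List.contains_iff_mem] at h
      exact h
    | cons i w ih =>
      have h := orbit_closed
      simp only [List.all_eq_true, List.mem_range, List.contains_iff_mem] at h
      have := h i i.2 _ ih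
      have hlt := lt_of_lt_of_eq (pWord facts_chevF4.{u} w r45).2 neg_data.2.2
      rw [pWord_cons, Equiv.Perm.mul_apply, wPerm_val, Equiv.Perm.mul_apply, wPerm_val]
      rwa [show (48 * (pWord facts_chevF4.{u} w r39 : ℕ) + (pWord facts_chevF4.{u} w r45 : ℕ)) / 48 =
          (pWord facts_chevF4.{u} w r39 : ℕ) by omega,
        show (48 * (pWord facts_chevF4.{u} w r39 : ℕ) + (pWord facts_chevF4.{u} w r45 : ℕ)) % 48 =
          (pWord facts_chevF4.{u} w r45 : ℕ) by omega] at this
  have h := orbit_supp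
  simp only [List.all_eq_true, Bool.or_eq_true, Bool.not_eq_true', Bool.and_eq_false_iff] at h
  have hlt := lt_of_lt_of_eq (pWord facts_chevF4.{u} w r45).2 neg_data.2.2
  rcases h _ (hin w) with h | h
  · rw [show (48 * (pWord facts_chevF4.{u} w r39 : ℕ) + (pWord facts_chevF4.{u} w r45 : ℕ)) / 48 =
        (pWord facts_chevF4.{u} w r39 : ℕ) by omega,
      show (48 * (pWord facts_chevF4.{u} w r39 : ℕ) + (pWord facts_chevF4.{u} w r45 : ℕ)) % 48 =
        (pWord facts_chevF4.{u} w r45 : ℕ) by omega] at h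
    rw [List.contains_eq_mem, List.contains_eq_mem] at h
    simp [h1, h2] at h
  · have := Nat.eq_of_beq_eq_true h
    exact ⟨Fin.ext (show (pWord facts_chevF4.{u} w r39 : ℕ) = 39 by omega),
      Fin.ext (show (pWord facts_chevF4.{u} w r45 : ℕ) = 45 by omega)⟩

/-- The stabiliser of both roots is generated by the first and last fundamental reflection. -/
theorem stab_pair : ∀ (n : ℕ) (w : List (Fin chevF4.rank)), w.length = n →
    pWord facts_chevF4.{u} w r39 = r39 → pWord facts_chevF4.{u} w r45 = r45 →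
    ∃ v : List (Fin chevF4.rank),
      (∀ i ∈ v, (i : ℕ) = 0 ∨ (i : ℕ) = 3) ∧
      pWord facts_chevF4.{u} w = pWord facts_chevF4.{u} v := by
  intro n
  induction n using Nat.strong_induction_on with
  | _ n ih =>
    intro w hn h39 h45
    set hF := facts_chevF4.{u}
    by_cases h1 : pWord hF w = 1
    · exact ⟨[], by simp, h1⟩
    obtain ⟨i, hi⟩ : ∃ i, (pWord hF w (sRoot hF i) : ℕ) < half chevF4 := by
      by_contra h
      exact h1 (eq_one_of_pos hF (pWord_mem hF w) fun i => not_lt.1 fun hi => h ⟨i, hi⟩)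
    have e1 := pairing_pWord hF w (sRoot hF i) r39
    have e2 := pairing_pWord hF w (sRoot hF i) r45
    rw [h39, show ((sRoot hF i : Fin chevF4.nroots) : ℕ) = chevF4.simple i from rfl,
      pairing_simple hF] at e1
    rw [h45, show ((sRoot hF i : Fin chevF4.nroots) : ℕ) = chevF4.simple i from rfl,
      pairing_simple hF] at e2
    have hle : 3 * chevF4.cartan i 39 + 2 * chevF4.cartan i 45 ≤ 0 := by
      rw [show (39 : ℕ) = (r39 : ℕ) from rfl, show (45 : ℕ) = (r45 : ℕ) from rfl, ← e1, ← e2,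
        pairing, pairing, Finset.mul_sum, Finset.mul_sum, ← Finset.sum_add_distrib]
      refine Finset.sum_nonpos fun j _ => ?_
      have hc := coef_nonpos hF hi j
      have hj := (cartan_data j).1
      have := mul_nonpos_of_nonpos_of_nonneg hc hj
      show 3 * (coef chevF4 _ j * chevF4.cartan j 39) + 2 * (coef chevF4 _ j * chevF4.cartan j 45) ≤ 0
      linarith
    obtain ⟨hc39, hc45, hlet⟩ := (cartan_data i).2 (le_antisymm hle (cartan_data i).1)
    have hfix : ∀ r : Fin chevF4.nroots, chevF4.cartan i r = 0 → wPerm hF i r = r := by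
      intro r hA
      apply Fin.ext
      have h2 := hF.cartan_self i i.2
      have h3 := hF.cartan_neg (chevF4.simple i) (hF.simple_lt i i.2) i i.2
      have hne : (r : ℕ) ≠ chevF4.simple i := fun e => by rw [← e, hA] at h2; omega
      have hne' : (r : ℕ) ≠ chevF4.neg (chevF4.simple i) := fun e => by
        rw [← e, hA, h2] at h3; omega
      rw [wPerm_val, ChevalleyDatum.reflectRoot]
      simp [hne, hne', hA]
    obtain ⟨u, j, v, hwuv, hp⟩ := exchange_perm hF w i hi
    obtain ⟨v', hv', hvp⟩ := ih _ (by rw [← hn, hwuv]; simp) (u ++ v) rfl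
      (by rw [← hp, Equiv.Perm.mul_apply, hfix r39 hc39, h39])
      (by rw [← hp, Equiv.Perm.mul_apply, hfix r45 hc45, h45])
    refine ⟨v' ++ [i], ?_, ?_⟩
    · intro x hx
      rcases List.mem_append.1 hx with hx | hx
      · exact hv' x hx
      · rw [List.mem_singleton.1 hx]; exact hlet
    · rw [pWord_append, show pWord hF [i] = wPerm hF i by simp [pWord], ← hvp, ← hp, mul_assoc,
        wPerm_sq, mul_one]

theorem levi_pos (v : List (Fin chevF4.rank)) (hv : ∀ i ∈ v, (i : ℕ) = 0 ∨ (i : ℕ) = 3)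
    (r : Fin chevF4.nroots) (hr : half chevF4 ≤ (r : ℕ)) (h33 : (r : ℕ) ≠ 33) (h24 : (r : ℕ) ≠ 24) :
    half chevF4 ≤ (pWord facts_chevF4.{u} v r : ℕ) ∧ (pWord facts_chevF4.{u} v r : ℕ) ≠ 33 ∧
      (pWord facts_chevF4.{u} v r : ℕ) ≠ 24 := by
  induction v with
  | nil => exact ⟨hr, h33, h24⟩
  | cons i v ih =>
    obtain ⟨a, b, c⟩ := ih fun j hj => hv j (List.mem_cons_of_mem _ hj)
    have h := letters_chk
    simp only [List.all_eq_true, List.mem_range, Bool.or_eq_true, Bool.and_eq_true,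
      decide_eq_true_eq] at h
    have hi : (i : ℕ) ∈ [0, 3] := by
      rcases hv i List.mem_cons_self with e | e <;> simp [e]
    rw [pWord_cons, Equiv.Perm.mul_apply, wPerm_val]
    rcases h i hi _ (pWord facts_chevF4.{u} v r).2 with h' | h'
    · omega
    · exact ⟨h'.1.1, h'.1.2, h'.2⟩

variable {F : Type u} [Field F] [CharP F 2]

local notation "X" => xG facts_chevF4

theorem commute_pair {r : ℕ} (hr : r ∈ sRoots ++ [14, 23]) (a p q : F) :
    Commute (X r a) (X 39 p * X 45 q) := by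
  have h := s_commutes_chk
  simp only [List.all_eq_true, Bool.and_eq_true, decide_eq_true_eq] at h
  obtain ⟨⟨h1, h2⟩, h3⟩ := h r hr
  exact (commute_of_chk_two facts_chevF4 r39.2 h1 h2 p a).mul_right
    (commute_of_chk_two facts_chevF4 r45.2 h1 h3 q a)

/-- A commutator with a single odd term. -/
theorem conj_single {r s c : ℕ} (hr : r < chevF4.nroots) (hs : s < chevF4.nroots)
    (hc : c < chevF4.nroots) (hne : s ≠ r) (hneg : s ≠ chevF4.neg r)
    (hT : (chevF4.commTerms r s).map (fun c => (c.1, c.2.1 % 2, c.2.2)) = [(c, 1, 1, 1)])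
    (hcs : commutesTwoChk chevF4 c s = true) (v : F) :
    X s v * X r (1 : F) = X r (1 : F) * X c v * X s v := by
  obtain ⟨⟨c', k, i, j⟩, he, hl⟩ : ∃ x, chevF4.commTerms r s = [x] ∧
      (x.1, x.2.1 % 2, x.2.2) = (c, (1 : ℤ), 1, 1) := by
    rcases h : chevF4.commTerms r s with _ | ⟨x, _ | ⟨y, l⟩⟩ <;> rw [h] at hT <;> simp at hT
    exact ⟨x, rfl, by simp [hT]⟩
  simp only [Prod.mk.injEq] at hl
  obtain ⟨rfl, hk, rfl, rfl⟩ := hl
  have e := xG_comm facts_chevF4 hr hs hne hneg (1 : F) v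
  have hk1 : ((k : ℤ) : F) = 1 := by
    have h2 : (((k - 1 : ℤ)) : F) = 0 := by
      rw [CharP.intCast_eq_zero_iff F 2]; omega
    push_cast at h2
    exact sub_eq_zero.1 h2
  rw [ChevalleyDatum.commWord, he] at e
  simp only [List.map_cons, List.map_nil, pow_one, hk1, one_mul, CharTwo.neg_eq] at e
  rw [e]
  simp only [wordG, List.map_cons, List.map_nil, List.prod_cons, List.prod_nil, mul_one]
  rw [mul_assoc, mul_assoc, (commute_of_chk_two facts_chevF4 hc hs hcs v v).eq]

/-- The right-hand side. -/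
def M : Subgroup (GL chevF4.Idx F) :=
  chevF4.rootSubgroup F 33 ⊔ chevF4.rootSubgroup F 14 ⊔ chevF4.rootSubgroup F 24 ⊔
    chevF4.rootSubgroup F 23 ⊔
    Subgroup.closure {g : GL chevF4.Idx F | ∃ (r : ℕ) (c : F), chevF4.IsPosRoot r ∧
      r ∉ [27, 25, 34, 26] ∧ (g : Matrix chevF4.Idx chevF4.Idx F) = chevF4.x F r c}

theorem mem_M_pos {r : ℕ} (h1 : r < chevF4.nroots) (h2 : half chevF4 ≤ r)
    (h3 : r ∉ [27, 25, 34, 26]) (a : F) : X r a ∈ M (F := F) :=
  Subgroup.mem_sup_right (Subgroup.subset_closure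
    ⟨r, a, (facts_chevF4.{u}.posRoot_iff r h1).2 h2, h3, rfl⟩)

theorem mem_M_neg {r : ℕ} (h : r = 14 ∨ r = 23) (a : F) : X r a ∈ M (F := F) := by
  have hm : X r a ∈ chevF4.rootSubgroup F r := (mem_rootSubgroup facts_chevF4).2 ⟨a, rfl⟩
  rcases h with rfl | rfl
  · exact Subgroup.mem_sup_left (Subgroup.mem_sup_left (Subgroup.mem_sup_left
      (Subgroup.mem_sup_right hm)))
  · exact Subgroup.mem_sup_left (Subgroup.mem_sup_right hm)

theorem mem_sRoots {r : ℕ} (h1 : r < chevF4.nroots) (h2 : half chevF4 ≤ r)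
    (h3 : r ∉ [27, 25, 34, 26]) : r ∈ sRoots := by
  simp only [sRoots, List.mem_filter, List.mem_range, decide_eq_true_eq]
  exact ⟨⟨h1, h2⟩, h3⟩

theorem M_le : M (F := F) ≤
    chevF4.group F ⊓ Subgroup.centralizer {X 39 (1 : F) * X 45 (1 : F)} := by
  have key : ∀ r ∈ sRoots ++ [14, 23], ∀ a : F, X r a ∈
      chevF4.group F ⊓ Subgroup.centralizer {X 39 (1 : F) * X 45 (1 : F)} := fun r hr a =>
    ⟨xG_mem_group facts_chevF4 r a,
      Subgroup.mem_centralizer_singleton_iff.2 (commute_pair hr a 1 1).eq⟩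
  have hroot : ∀ r ∈ sRoots ++ [14, 23], chevF4.rootSubgroup F r ≤
      chevF4.group F ⊓ Subgroup.centralizer {X 39 (1 : F) * X 45 (1 : F)} := fun r hr g hg => by
    obtain ⟨a, rfl⟩ := (mem_rootSubgroup facts_chevF4).1 hg
    exact key r hr a
  refine sup_le (sup_le (sup_le (sup_le (hroot 33 ?_) (hroot 14 ?_)) (hroot 24 ?_)) (hroot 23 ?_))
    ((Subgroup.closure_le _).2 ?_)
  iterate 4 decide +kernel
  rintro g ⟨r, c, hr, hr', hg⟩
  obtain rfl : g = X r c := Units.ext hg
  exact key r (List.mem_append_left _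
    (mem_sRoots hr.1 ((facts_chevF4.{u}.posRoot_iff r hr.1).1 hr) hr')) c

theorem M_commute {g : GL chevF4.Idx F} (hg : g ∈ M (F := F)) :
    Commute g (X 39 (1 : F) * X 45 (1 : F)) :=
  Subgroup.mem_centralizer_singleton_iff.1 (M_le hg).2

theorem commute_top44 {g : GL chevF4.Idx F} (hg : g ∈ chevF4.posUnipotent F) (a : F) :
    Commute g (X 44 a) := by
  have h := top44_chk
  simp only [List.all_eq_true, Bool.or_eq_true, decide_eq_true_eq, List.mem_range] at h
  exact dom_commute_posUnipotent facts_chevF4 (by decide +kernel)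
    (fun s hs hp => (h s hs).resolve_left (by omega)) hg a

/-- The part of `C(v)` in `U`. -/
theorem mem_M_of_commute {g : GL chevF4.Idx F} (hg : g ∈ chevF4.posUnipotent F)
    (hc : Commute g (X 39 (1 : F) * X 45 (1 : F))) : g ∈ M (F := F) := by
  set hF := facts_chevF4.{u}
  set v := X 39 (1 : F) * X 45 (1 : F) with hv
  obtain ⟨t, rfl⟩ := (mem_posUnipotent_iff hF).1 hg
  obtain ⟨⟨n1, n2, n3, n4⟩, hh, hn⟩ := neg_data
  have hlt : ∀ {r : ℕ}, r < 48 → r < chevF4.nroots := fun h => hn.symm ▸ h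
  -- strip the factors
  have step : ∀ k, k < chevF4.nroots → prodFrom hF k t = X k (t k) * prodFrom hF (k + 1) t :=
    fun k hk => prodFrom_succ hF hk t
  set R := wordG hF ((List.range' 28 6).map fun r => (r, t r)) with hR
  set R' := prodFrom hF 35 t with hR'
  have eR : prodFrom hF 28 t = R * (X 34 (t 34) * R') := by
    rw [hR', ← step 34 (hlt (by norm_num)), hR]
    simp only [wordG, List.range', List.map_cons, List.map_nil, List.prod_cons, List.prod_nil,
      mul_one]
    rw [step 28 (hlt (by norm_num)), step 29 (hlt (by norm_num)), step 30 (hlt (by norm_num)),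
      step 31 (hlt (by norm_num)), step 32 (hlt (by norm_num)), step 33 (hlt (by norm_num))]
    simp [mul_assoc]
  have hdec : prodFrom hF (half chevF4) t =
      X 24 (t 24) * X 25 (t 25) * X 26 (t 26) * X 27 (t 27) * R * X 34 (t 34) * R' := by
    rw [hh, step 24 (hlt (by norm_num)), step 25 (hlt (by norm_num)),
      step 26 (hlt (by norm_num)), step 27 (hlt (by norm_num))]
    show X 24 (t 24) * (X 25 (t 25) * (X 26 (t 26) * (X 27 (t 27) * prodFrom hF 28 t))) = _
    rw [eR]
    simp [mul_assoc]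
  have hRM : R ∈ M (F := F) := by
    refine wordG_mem hF fun p hp => ?_
    obtain ⟨r, hr, rfl⟩ := List.mem_map.1 hp
    rw [List.mem_range'_1] at hr
    refine mem_M_pos (hlt (by omega)) (by omega) ?_ _
    simp only [List.mem_cons, List.not_mem_nil, or_false]
    omega
  have hR'M : R' ∈ M (F := F) := by
    refine (Subgroup.closure_le _).2 ?_ (prodFrom_mem hF 35 t)
    rintro _ ⟨r, s, h1, h2, rfl⟩
    refine mem_M_pos h2 (by omega) ?_ _
    simp only [List.mem_cons, List.not_mem_nil, or_false]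
    omega
  have h24M : X 24 (t 24) ∈ M (F := F) :=
    mem_M_pos (hlt (by norm_num)) (by omega) (by decide) _
  have hRU : R ∈ chevF4.posUnipotent F := by
    refine wordG_mem hF fun p hp => ?_
    obtain ⟨r, hr, rfl⟩ := List.mem_map.1 hp
    rw [List.mem_range'_1] at hr
    exact mem_posUnipotent_of hF (hlt (by omega)) (by omega) _
  have hchk := move_chk
  simp only [Bool.and_eq_true] at hchk
  obtain ⟨⟨⟨⟨⟨⟨⟨⟨⟨⟨⟨⟨⟨a1, a2⟩, a3⟩, a4⟩, a5⟩, a6⟩, a7⟩, a8⟩, a9⟩, a10⟩, s1⟩, s2⟩, s3⟩, s4⟩ :=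
    hchk
  have cm : ∀ {s r : ℕ}, s < 48 → r < 48 → commutesTwoChk chevF4 s r = true →
      ∀ a b : F, Commute (X s a) (X r b) := fun hs hr h a b =>
    (commute_of_chk_two hF (hlt hs) (hlt hr) h a b).symm
  have e34 : X 34 (t 34) * v = v * X 44 (t 34) * X 34 (t 34) := by
    rw [hv, ← mul_assoc, conj_single (hlt (by norm_num)) (hlt (by norm_num)) (hlt (by norm_num))
      (by norm_num) n2 move_terms.2.1 s2, mul_assoc _ (X 34 (t 34)),
      (cm (by norm_num) (by norm_num) a3 (t 34) 1).eq, ← mul_assoc, mul_assoc (X 39 1) (X 44 _),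
      (supp_commute 44 (by decide) 45 (by decide) (t 34) 1).eq, ← mul_assoc]
  have e27 : X 27 (t 27) * (v * X 44 (t 34)) = v * X 40 (t 27) * X 44 (t 34) * X 27 (t 27) := by
    rw [hv, ← mul_assoc, ← mul_assoc, conj_single (hlt (by norm_num)) (hlt (by norm_num))
      (hlt (by norm_num)) (by norm_num) n1 move_terms.1 s1,
      mul_assoc _ (X 27 (t 27)), (cm (by norm_num) (by norm_num) a1 (t 27) 1).eq, ← mul_assoc,
      mul_assoc (X 39 1) (X 40 _), (supp_commute 40 (by decide) 45 (by decide) (t 27) 1).eq,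
      ← mul_assoc, mul_assoc _ (X 27 (t 27)), (cm (by norm_num) (by norm_num) a2 (t 27) (t 34)).eq,
      ← mul_assoc]
  have e26 : X 26 (t 26) * (v * X 40 (t 27) * X 44 (t 34)) =
      v * X 47 (t 26) * X 40 (t 27) * X 44 (t 34) * X 26 (t 26) := by
    rw [hv, ← mul_assoc, ← mul_assoc, ← mul_assoc, (cm (by norm_num) (by norm_num) a8 (t 26) 1).eq,
      mul_assoc (X 39 1) (X 26 _), conj_single (hlt (by norm_num)) (hlt (by norm_num))
      (hlt (by norm_num)) (by norm_num) n4 move_terms.2.2.2 s4]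
    simp only [← mul_assoc]
    rw [mul_assoc _ (X 26 (t 26)), (cm (by norm_num) (by norm_num) a9 (t 26) (t 27)).eq,
      ← mul_assoc, mul_assoc _ (X 26 (t 26)),
      (cm (by norm_num) (by norm_num) a10 (t 26) (t 34)).eq, ← mul_assoc]
  have e25 : X 25 (t 25) * (v * X 47 (t 26) * X 40 (t 27) * X 44 (t 34)) =
      v * X 46 (t 25) * X 47 (t 26) * X 40 (t 27) * X 44 (t 34) * X 25 (t 25) := by
    rw [hv, ← mul_assoc, ← mul_assoc, ← mul_assoc, ← mul_assoc,
      (cm (by norm_num) (by norm_num) a4 (t 25) 1).eq,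
      mul_assoc (X 39 1) (X 25 _), conj_single (hlt (by norm_num)) (hlt (by norm_num))
      (hlt (by norm_num)) (by norm_num) n3 move_terms.2.2.1 s3]
    simp only [← mul_assoc]
    rw [mul_assoc _ (X 25 (t 25)), (cm (by norm_num) (by norm_num) a7 (t 25) (t 26)).eq,
      ← mul_assoc, mul_assoc _ (X 25 (t 25)),
      (cm (by norm_num) (by norm_num) a5 (t 25) (t 27)).eq, ← mul_assoc,
      mul_assoc _ (X 25 (t 25)),
      (cm (by norm_num) (by norm_num) a6 (t 25) (t 34)).eq, ← mul_assoc]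
  set P := v * X 46 (t 25) * X 47 (t 26) * X 40 (t 27) * X 44 (t 34) with hP
  have eR2 : R * (v * X 44 (t 34)) = v * X 44 (t 34) * R :=
    ((M_commute hRM).mul_right (commute_top44 hRU (t 34))).eq
  have hmain : prodFrom hF (half chevF4) t * v =
      X 24 (t 24) * P * (X 25 (t 25) * X 26 (t 26) * X 27 (t 27) * R * X 34 (t 34) * R') := by
    rw [hdec]
    calc X 24 (t 24) * X 25 (t 25) * X 26 (t 26) * X 27 (t 27) * R * X 34 (t 34) * R' * v
        = X 24 (t 24) * X 25 (t 25) * X 26 (t 26) * X 27 (t 27) * R * (X 34 (t 34) * v) * R' := by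
          rw [mul_assoc _ R' v, (M_commute hR'M).eq, hv]; group
      _ = X 24 (t 24) * X 25 (t 25) * X 26 (t 26) * X 27 (t 27) * (R * (v * X 44 (t 34))) *
            X 34 (t 34) * R' := by rw [e34]; group
      _ = X 24 (t 24) * X 25 (t 25) * X 26 (t 26) * (X 27 (t 27) * (v * X 44 (t 34))) * R *
            X 34 (t 34) * R' := by rw [eR2]; group
      _ = X 24 (t 24) * X 25 (t 25) * (X 26 (t 26) * (v * X 40 (t 27) * X 44 (t 34))) *
            X 27 (t 27) * R * X 34 (t 34) * R' := by rw [e27]; group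
      _ = X 24 (t 24) * (X 25 (t 25) * (v * X 47 (t 26) * X 40 (t 27) * X 44 (t 34))) *
            X 26 (t 26) * X 27 (t 27) * R * X 34 (t 34) * R' := by rw [e26]; group
      _ = _ := by rw [e25, hP]; group
  have hPv : P = v := by
    rw [hc.eq, hdec] at hmain
    have h' : X 24 (t 24) * P * (X 25 (t 25) * X 26 (t 26) * X 27 (t 27) * R * X 34 (t 34) * R') =
        X 24 (t 24) * v * (X 25 (t 25) * X 26 (t 26) * X 27 (t 27) * R * X 34 (t 34) * R') := by
      rw [← hmain, (M_commute h24M).eq, hv]; group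
    exact mul_left_cancel (mul_right_cancel h')
  have hzero : t 25 = 0 ∧ t 26 = 0 ∧ t 27 = 0 ∧ t 34 = 0 := by
    let τ : ℕ → F := fun r => if r = 39 then 1 else if r = 45 then 1 else
      if r = 46 then t 25 else if r = 47 then t 26 else if r = 40 then t 27 else
      if r = 44 then t 34 else 0
    have eτ : listProd hF [39, 45, 46, 47, 40, 44] τ = P := by
      simp [listProd, τ, hP, hv, mul_assoc]
    have ev : listProd hF [39, 45] τ = v := by simp [listProd, τ, hv]
    have hsub : ∀ r ∈ [39, 45, 46, 47, 40, 44], r ∈ supp := by decide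
    have hsub' : ∀ r ∈ [39, 45], r ∈ supp := by decide
    have h := fun r (hr : r ∈ [39, 45, 46, 47, 40, 44]) =>
      (listProd_inj hF (t := τ) (t' := τ) (show [39, 45, 46, 47, 40, 44].Nodup by decide)
        (show [39, 45].Nodup by decide) (fun r hr => supp_range r (hsub r hr))
        (fun r hr => supp_range r (hsub' r hr))
        (fun r hr s hs => supp_commute r (hsub r hr) s (hsub s hs))
        (fun r hr s hs => supp_commute r (hsub' r hr) s (hsub' s hs))
        (eτ.trans (hPv.trans ev.symm)) hr).1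
    refine ⟨?_, ?_, ?_, ?_⟩ <;> by_contra hne
    · exact absurd (h 46 (by decide) (by simpa [τ] using hne)) (by decide)
    · exact absurd (h 47 (by decide) (by simpa [τ] using hne)) (by decide)
    · exact absurd (h 40 (by decide) (by simpa [τ] using hne)) (by decide)
    · exact absurd (h 44 (by decide) (by simpa [τ] using hne)) (by decide)
  obtain ⟨z1, z2, z3, z4⟩ := hzero
  rw [hdec, z1, z2, z3, z4]
  simp only [xG_zero, mul_one]
  exact mul_mem (mul_mem h24M hRM) hR'M

theorem centralizer_pair :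
    chevF4.group F ⊓ Subgroup.centralizer {X 39 (1 : F) * X 45 (1 : F)} = M := by
  classical
  set hF := facts_chevF4.{u}
  refine le_antisymm ?_ M_le
  rintro g ⟨hgG, hgC⟩
  replace hgC : Commute g (X 39 (1 : F) * X 45 (1 : F)) :=
    Subgroup.mem_centralizer_singleton_iff.1 hgC
  obtain ⟨b, hb, w, x, hx, rfl⟩ := exists_normalForm hF hgG
  obtain ⟨a, ha, c, rfl⟩ := (mem_borel_iff hF).1 hb
  set v := X 39 (1 : F) * X 45 (1 : F) with hv
  have hxU : x ∈ chevF4.posUnipotent F := by
    refine (Subgroup.closure_le _).2 ?_ hx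
    rintro _ ⟨r, s, h1, -, rfl⟩
    exact mem_posUnipotent_of hF r.2 h1 s
  have hy : x * v * x⁻¹ ∈ coset (1 : F) 1 := conj_coset hxU (start_mem_coset 1 1)
  have hz := torus_coset c⁻¹ (conj_coset (Subgroup.inv_mem _ ha) (start_mem_coset (1 : F) 1))
  have e : nWord hF w * (x * v * x⁻¹) * (nWord hF w)⁻¹ =
      torusHom c⁻¹ * (a⁻¹ * v * a⁻¹⁻¹) * (torusHom c⁻¹ : GL chevF4.Idx F)⁻¹ := by
    rw [map_inv, inv_inv, inv_inv]
    calc nWord hF w * (x * v * x⁻¹) * (nWord hF w)⁻¹
        = (torusHom c)⁻¹ * a⁻¹ * ((a * torusHom c * nWord hF w * x) * v) * x⁻¹ * (nWord hF w)⁻¹ := by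
          group
      _ = (torusHom c)⁻¹ * a⁻¹ * (v * (a * torusHom c * nWord hF w * x)) * x⁻¹ * (nWord hF w)⁻¹ := by
          rw [hgC.eq]
      _ = _ := by group
  have h39 := mon_maps_supp (isMon_nWord hF w) hy hz e r39 (Or.inl ⟨rfl, one_ne_zero⟩)
  have h45 := mon_maps_supp (isMon_nWord hF w) hy hz e r45 (Or.inr ⟨rfl, one_ne_zero⟩)
  obtain ⟨hf39, hf45⟩ := fix_of_supp w h39 h45
  obtain ⟨w', hw', hpw⟩ := stab_pair _ w rfl hf39 hf45
  have hlev : ∀ j : Fin chevF4.rank, (j : ℕ) = 0 ∨ (j : ℕ) = 3 → ∀ s : F,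
      nG hF (chevF4.simple j) s ∈ M (F := F) := by
    intro j hj s
    obtain ⟨e1, e2⟩ := simple_data j
    have hp : ∀ b : F, xG hF (chevF4.simple j) b ∈ M (F := F) := fun b =>
      mem_M_pos (hF.simple_lt j j.2) (hF.simple_pos j j.2)
        (by rw [e1]; rcases hj with h | h <;> rw [h] <;> decide) b
    have hn : ∀ b : F, xG hF (chevF4.neg (chevF4.simple j)) b ∈ M (F := F) := fun b => by
      refine mem_M_neg ?_ b
      rw [e2]
      rcases hj with h | h <;> rw [h] <;> decide
    exact mul_mem (mul_mem (hp _) (hn _)) (hp _)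
  have hw'M : (nWord hF w' : GL chevF4.Idx F) ∈ M (F := F) := by
    refine Subgroup.list_prod_mem _ fun y hy => ?_
    obtain ⟨i, hi, rfl⟩ := List.mem_map.1 hy
    exact hlev i (hw' i hi) 1
  have hxM : x ∈ M (F := F) := by
    refine (Subgroup.closure_le _).2 ?_ hx
    rintro _ ⟨r, s, h1, h2, rfl⟩
    rw [hpw] at h2
    refine mem_M_pos r.2 h1 ?_ s
    by_cases h33 : (r : ℕ) = 33
    · rw [h33]; decide
    by_cases h24 : (r : ℕ) = 24
    · rw [h24]; decide
    exact absurd (levi_pos w' hw' r h1 h33 h24).1 (not_le.2 h2)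
  obtain ⟨d, hd⟩ := (mem_diagonal_iff hF).1 (mem_diagonal_of_isMon_one hF
    (Subgroup.mul_mem _ (Subgroup.inv_mem _ (nWord_mem hF w')) (nWord_mem hF w) :
      (nWord hF w' : GL chevF4.Idx F)⁻¹ * nWord hF w ∈ chevF4.monomialSubgroup F) (by
      have h1 : IsMon hF ((nWord hF w' : GL chevF4.Idx F)⁻¹) (pWord hF w')⁻¹ := by
        have h := isMon_monPerm hF (Subgroup.inv_mem _ (nWord_mem hF w' (F := F)))
        have h2 := isMon_mul hF (isMon_nWord hF w') h
        rw [mul_inv_cancel] at h2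
        have := isMon_unique hF h2 (isMon_one hF)
        rwa [eq_inv_of_mul_eq_one_right this] at h
      have h2 := isMon_mul hF h1 (isMon_nWord hF w)
      rwa [← hpw, inv_mul_cancel] at h2))
  obtain ⟨d', hd'⟩ := nWord_torus hF w' d (F := F)
  have hg : a * torusHom c * nWord hF w * x = a * torusHom (c * d') * (nWord hF w' * x) := by
    rw [map_mul, show (nWord hF w : GL chevF4.Idx F) = torusHom d' * nWord hF w' by
      rw [← hd', hd, mul_inv_cancel_left]]
    group
  have hR : nWord hF w' * x ∈ M (F := F) := mul_mem hw'M hxM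
  have hah : Commute (a * torusHom (c * d')) v := by
    rw [show a * torusHom (c * d') = (a * torusHom c * nWord hF w * x) * (nWord hF w' * x)⁻¹ by
      rw [hg]; group]
    exact hgC.mul_left (M_commute hR).inv_left
  have hchi : chiU (c * d') 39 = 1 ∧ chiU (c * d') 45 = 1 := by
    have h1 := conj_coset ha (torus_coset (c * d') (start_mem_coset (1 : F) 1))
    have h2 : a * (torusHom (c * d') * v * (torusHom (c * d'))⁻¹) * a⁻¹ = v := by
      calc a * (torusHom (c * d') * v * (torusHom (c * d'))⁻¹) * a⁻¹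
          = (a * torusHom (c * d')) * v * (a * torusHom (c * d'))⁻¹ := by group
        _ = v := by rw [hah.eq, mul_inv_cancel_right]
    rw [h2] at h1
    obtain ⟨i1, i2⟩ := coset_inj h1 (start_mem_coset 1 1)
    rw [mul_one] at i1 i2
    exact ⟨Units.ext i1, Units.ext i2⟩
  set h := c * d'
  have hh12 : h ⟨1, by decide +kernel⟩ = 1 ∧ h ⟨2, by decide +kernel⟩ = 1 := by
    have key : ∀ r : ℕ, chiU h r = h ⟨0, by decide +kernel⟩ ^ chevF4.cartan 0 r *
        h ⟨1, by decide +kernel⟩ ^ chevF4.cartan 1 r * h ⟨2, by decide +kernel⟩ ^ chevF4.cartan 2 r *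
        h ⟨3, by decide +kernel⟩ ^ chevF4.cartan 3 r := fun r => Fin.prod_univ_four _
    have k39 := key 39
    have k45 := key 45
    have hc : (chevF4.cartan 0 39 = 0 ∧ chevF4.cartan 1 39 = -1 ∧ chevF4.cartan 2 39 = 1 ∧
        chevF4.cartan 3 39 = 0) ∧ (chevF4.cartan 0 45 = 0 ∧ chevF4.cartan 1 45 = 2 ∧
        chevF4.cartan 2 45 = -1 ∧ chevF4.cartan 3 45 = 0) := by decide +kernel
    rw [hchi.1, hc.1.1, hc.1.2.1, hc.1.2.2.1, hc.1.2.2.2, zpow_zero, zpow_zero, one_mul, mul_one,
      zpow_neg_one, zpow_one, eq_comm, inv_mul_eq_one] at k39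
    rw [hchi.2, hc.2.1, hc.2.2.1, hc.2.2.2.1, hc.2.2.2.2, zpow_zero, zpow_zero, one_mul, mul_one,
      zpow_neg_one, zpow_two, eq_comm, ← k39, mul_inv_cancel_right] at k45
    exact ⟨k45, k39 ▸ k45⟩
  have hhM : torusHom h ∈ M (F := F) := by
    rw [← Finset.univ_prod_mulSingle h, centralizer_dominant.map_prod_torus]
    refine Subgroup.list_prod_mem _ fun y hy => ?_
    obtain ⟨j, -, rfl⟩ := List.mem_map.1 hy
    by_cases hj : (j : ℕ) = 0 ∨ (j : ℕ) = 3
    · rw [← coH_simple hF j.2, ← hG_simple hF j.2]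
      exact mul_mem (hlev j hj _) (hlev j hj _)
    · have hj4 : (j : ℕ) < 4 := lt_of_lt_of_eq j.2 (by decide +kernel)
      have hj1 : h j = 1 := by
        rcases (show (j : ℕ) = 1 ∨ (j : ℕ) = 2 by omega) with e | e
        · rw [show j = ⟨1, by decide +kernel⟩ from Fin.ext e]; exact hh12.1
        · rw [show j = ⟨2, by decide +kernel⟩ from Fin.ext e]; exact hh12.2
      rw [hj1, Pi.mulSingle_one, map_one]
      exact one_mem _
  have haM : a ∈ M (F := F) := by
    refine mem_M_of_commute ha ?_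
    rw [show a = (a * torusHom h) * (torusHom h)⁻¹ by group]
    exact hah.mul_left (M_commute hhM).inv_left
  rw [hg]
  exact mul_mem (mul_mem haM hhM) hR

end Cfsg.Agent.Chev.F4Pair
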