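import Cfsg.Agent.Chev.CommutingProd
import Cfsg.Agent.Chev.F4MixedPairData

/-!
The conjugates of `x₃₉(p) x₄₅(q)` under `U` in `F₄`, characteristic two, and the Weyl elements
carrying one to another.
-/

set_option autoImplicit false
set_option maxRecDepth 100000

namespace Cfsg.Agent.Chev.F4Pair

open Cfsg.Lie Cfsg.Agent.Chev

universe u

/-- The roots that can appear beside 39 and 45. -/
def extra : List ℕ := [40, 44, 46, 47]

/-- The terms of `(r, s)` with odd coefficient lie in `T`. -/
def targetsIn (r : ℕ) (T : List ℕ) : Bool :=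
  (List.range chevF4.nroots).all fun s => decide (s < half chevF4) || decide (s = r) ||
    (decide (s ≠ chevF4.neg r) &&
      (chevF4.commTerms r s).all fun c => decide (c.2.1 % 2 = 0) || T.contains c.1)

theorem targets_chk : (targetsIn 47 [] && targetsIn 44 [] && targetsIn 46 [47] &&
    targetsIn 40 [44] && targetsIn 39 [40, 44] && targetsIn 45 [46, 47]) = true := by
  decide +kernel

theorem supp_commutes_chk :
    (supp.all fun r => supp.all fun s => commutesTwoChk chevF4 r s) = true := by
  decide +kernel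

theorem supp_range : ∀ r ∈ supp, half chevF4 ≤ r ∧ r < chevF4.nroots := by decide +kernel

variable {F : Type u} [Field F] [CharP F 2]

theorem supp_commute (r : ℕ) (hr : r ∈ supp) (s : ℕ) (hs : s ∈ supp) (a b : F) :
    Commute (xG facts_chevF4 r a) (xG facts_chevF4 s b) := by
  have h := supp_commutes_chk
  simp only [List.all_eq_true] at h
  exact (commute_of_chk_two facts_chevF4 (supp_range r hr).2 (supp_range s hs).2 (h r hr s hs) a b).symm

/-- The products over the support with given parameters at 39 and 45. -/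
def coset (p q : F) : Set (GL chevF4.Idx F) :=
  {y | ∃ t : ℕ → F, t 39 = p ∧ t 45 = q ∧ y = listProd facts_chevF4 supp t}

theorem mul_mem_coset {p q p' q' : F} {y y' : GL chevF4.Idx F} (h : y ∈ coset p q)
    (h' : y' ∈ coset p' q') : y * y' ∈ coset (p + p') (q + q') := by
  obtain ⟨t, h1, h2, rfl⟩ := h
  obtain ⟨t', h1', h2', rfl⟩ := h'
  exact ⟨fun r => t r + t' r, by simp [h1, h1'], by simp [h2, h2'],
    (listProd_add facts_chevF4 t t' supp_commute).symm⟩

theorem single_mem (r : ℕ) (hr : r ∈ supp) (a : F) :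
    xG facts_chevF4 r a ∈ coset (if r = 39 then a else 0) (if r = 45 then a else 0) := by
  refine ⟨fun s => if r = s then a else 0, rfl, rfl, ?_⟩
  simp only [supp, List.mem_cons, List.not_mem_nil, or_false] at hr
  simp only [listProd, supp, List.map_cons, List.map_nil, List.prod_cons, List.prod_nil]
  rcases hr with rfl | rfl | rfl | rfl | rfl | rfl <;> simp [xG_zero]

theorem one_mem_coset : (1 : GL chevF4.Idx F) ∈ coset (0 : F) 0 :=
  ⟨fun _ => 0, rfl, rfl, by simp [listProd, supp, xG_zero]⟩

theorem inv_mem_coset {y : GL chevF4.Idx F} (h : y ∈ coset (0 : F) 0) : y⁻¹ ∈ coset (0 : F) 0 := by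
  obtain ⟨t, h1, h2, rfl⟩ := h
  refine ⟨fun r => -t r, by simp [h1], by simp [h2], ?_⟩
  refine inv_eq_of_mul_eq_one_right ?_
  rw [← listProd_add facts_chevF4 t _ supp_commute]
  simp [listProd, supp, xG_zero]

/-- The subgroup of the extra roots. -/
def extraGroup : Subgroup (GL chevF4.Idx F) where
  carrier := coset (0 : F) 0
  one_mem' := one_mem_coset
  mul_mem' := fun {a b} ha hb => by simpa using mul_mem_coset ha hb
  inv_mem' := inv_mem_coset

theorem extra_mem {r : ℕ} (hr : r ∈ extra) (a : F) : xG facts_chevF4 r a ∈ extraGroup (F := F) := by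
  have h : ∀ r ∈ extra, r ∈ supp ∧ r ≠ 39 ∧ r ≠ 45 := by decide
  obtain ⟨h1, h2, h3⟩ := h r hr
  have := single_mem r h1 a
  rwa [if_neg h2, if_neg h3] at this

theorem conj_root {r s : ℕ} (hr : r ∈ supp) (hs : s < chevF4.nroots) (hp : half chevF4 ≤ s)
    (T : List ℕ) (hT : targetsIn r T = true) (v t : F)
    (hTc : ∀ c ∈ T, ∀ a : F,
      xG facts_chevF4 s v * xG facts_chevF4 c a * (xG facts_chevF4 s v)⁻¹ ∈ extraGroup (F := F)) :
    ∃ e ∈ extraGroup (F := F),
      xG facts_chevF4 s v * xG facts_chevF4 r t * (xG facts_chevF4 s v)⁻¹ =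
        xG facts_chevF4 r t * e := by
  by_cases hsr : s = r
  · subst hsr
    refine ⟨1, one_mem _, ?_⟩
    rw [mul_one, xG_mul, xG_inv, xG_mul]
    congr 1
    ring
  simp only [targetsIn, List.all_eq_true, List.mem_range, Bool.or_eq_true, Bool.and_eq_true,
    decide_eq_true_eq, List.contains_iff_mem] at hT
  obtain ⟨hn, hterm⟩ := (hT s hs).resolve_left (by rintro (h | h) <;> omega)
  refine ⟨xG facts_chevF4 s v * wordG facts_chevF4 (chevF4.commWord F r s t v) *
    (xG facts_chevF4 s v)⁻¹, ?_, ?_⟩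
  · have : wordG facts_chevF4 (chevF4.commWord F r s t v) ∈
        (extraGroup (F := F)).comap (MulAut.conj (xG facts_chevF4 s v)).toMonoidHom := by
      refine wordG_mem facts_chevF4 fun p hp => ?_
      obtain ⟨c, hc, rfl⟩ := List.mem_map.1 hp
      rcases hterm c hc with h | h
      · have h2 : ((c.2.1 : ℤ) : F) = 0 := by
          rw [CharP.intCast_eq_zero_iff F 2]
          exact Int.dvd_of_emod_eq_zero (by simpa using h)
        rw [h2, zero_mul, zero_mul, xG_zero]
        exact one_mem _
      · exact hTc c.1 h _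
    exact this
  · rw [xG_comm facts_chevF4 (supp_range r hr).2 hs hsr hn t v]
    group

theorem conj_extra {r s : ℕ} (hs : s < chevF4.nroots) (hp : half chevF4 ≤ s) (hr : r ∈ extra)
    (v t : F) :
    xG facts_chevF4 s v * xG facts_chevF4 r t * (xG facts_chevF4 s v)⁻¹ ∈ extraGroup (F := F) := by
  have h := targets_chk
  simp only [Bool.and_eq_true] at h
  obtain ⟨⟨⟨⟨⟨t47, t44⟩, t46⟩, t40⟩, -⟩, -⟩ := h
  have fin : ∀ {r : ℕ} {t : F}, r ∈ extra → (∃ e ∈ extraGroup (F := F),
      xG facts_chevF4 s v * xG facts_chevF4 r t * (xG facts_chevF4 s v)⁻¹ =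
        xG facts_chevF4 r t * e) →
      xG facts_chevF4 s v * xG facts_chevF4 r t * (xG facts_chevF4 s v)⁻¹ ∈ extraGroup (F := F) := by
    rintro r t hr ⟨e, he, h⟩
    rw [h]
    exact mul_mem (extra_mem hr t) he
  have c47 : ∀ t : F, xG facts_chevF4 s v * xG facts_chevF4 47 t * (xG facts_chevF4 s v)⁻¹ ∈
      extraGroup (F := F) := fun t =>
    fin (by decide) (conj_root (by decide) hs hp [] t47 v t (by simp))
  have c44 : ∀ t : F, xG facts_chevF4 s v * xG facts_chevF4 44 t * (xG facts_chevF4 s v)⁻¹ ∈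
      extraGroup (F := F) := fun t =>
    fin (by decide) (conj_root (by decide) hs hp [] t44 v t (by simp))
  simp only [extra, List.mem_cons, List.not_mem_nil, or_false] at hr
  rcases hr with rfl | rfl | rfl | rfl
  · exact fin (by decide) (conj_root (by decide) hs hp _ t40 v t (by simpa using c44))
  · exact c44 t
  · exact fin (by decide) (conj_root (by decide) hs hp _ t46 v t (by simpa using c47))
  · exact c47 t

theorem listProd_supp_eq (t : ℕ → F) : listProd facts_chevF4 supp t =
    xG facts_chevF4 39 (t 39) * xG facts_chevF4 45 (t 45) *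
      (xG facts_chevF4 40 (t 40) * xG facts_chevF4 44 (t 44) * xG facts_chevF4 46 (t 46) *
        xG facts_chevF4 47 (t 47)) := by
  simp only [listProd, supp, List.map_cons, List.map_nil, List.prod_cons, List.prod_nil, mul_one]
  have h1 := (supp_commute 45 (by decide) 40 (by decide) (t 45) (t 40)).eq
  have h2 := (supp_commute 45 (by decide) 44 (by decide) (t 45) (t 44)).eq
  simp only [mul_assoc]
  rw [← mul_assoc (xG facts_chevF4 45 (t 45)) (xG facts_chevF4 40 (t 40)), h1, mul_assoc,
    ← mul_assoc (xG facts_chevF4 45 (t 45)) (xG facts_chevF4 44 (t 44)), h2, mul_assoc]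

theorem conj_coset_root {s : ℕ} (hs : s < chevF4.nroots) (hp : half chevF4 ≤ s) (v : F) {p q : F}
    {y : GL chevF4.Idx F} (hy : y ∈ coset p q) :
    xG facts_chevF4 s v * y * (xG facts_chevF4 s v)⁻¹ ∈ coset p q := by
  obtain ⟨t, rfl, rfl, rfl⟩ := hy
  have h := targets_chk
  simp only [Bool.and_eq_true] at h
  obtain ⟨⟨⟨⟨⟨-, -⟩, -⟩, -⟩, t39⟩, t45⟩ := h
  have hex : ∀ c ∈ extra, ∀ a : F,
      xG facts_chevF4 s v * xG facts_chevF4 c a * (xG facts_chevF4 s v)⁻¹ ∈ extraGroup (F := F) :=
    fun c hc a => conj_extra hs hp hc v a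
  obtain ⟨e1, he1, h39⟩ := conj_root (r := 39) (by decide) hs hp _ t39 v (t 39)
    (fun c hc a => hex c (by revert c; decide) a)
  obtain ⟨e2, he2, h45⟩ := conj_root (r := 45) (by decide) hs hp _ t45 v (t 45)
    (fun c hc a => hex c (by revert c; decide) a)
  have he3 : xG facts_chevF4 s v * (xG facts_chevF4 40 (t 40) * xG facts_chevF4 44 (t 44) *
      xG facts_chevF4 46 (t 46) * xG facts_chevF4 47 (t 47)) * (xG facts_chevF4 s v)⁻¹ ∈
      extraGroup (F := F) := by
    have := mul_mem (mul_mem (mul_mem (hex 40 (by decide) (t 40)) (hex 44 (by decide) (t 44)))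
      (hex 46 (by decide) (t 46))) (hex 47 (by decide) (t 47))
    simpa [mul_assoc] using this
  have e : xG facts_chevF4 s v * listProd facts_chevF4 supp t * (xG facts_chevF4 s v)⁻¹ =
      (xG facts_chevF4 39 (t 39) * e1) * (xG facts_chevF4 45 (t 45) * e2) *
        (xG facts_chevF4 s v * (xG facts_chevF4 40 (t 40) * xG facts_chevF4 44 (t 44) *
          xG facts_chevF4 46 (t 46) * xG facts_chevF4 47 (t 47)) * (xG facts_chevF4 s v)⁻¹) := by
    rw [← h39, ← h45, listProd_supp_eq]
    group
  rw [e]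
  have := mul_mem_coset (mul_mem_coset (mul_mem_coset (single_mem 39 (by decide) (t 39)) he1)
    (mul_mem_coset (single_mem 45 (by decide) (t 45)) he2)) he3
  simpa using this

theorem conj_coset {u : GL chevF4.Idx F} (hu : u ∈ chevF4.posUnipotent F) {p q : F}
    {y : GL chevF4.Idx F} (hy : y ∈ coset p q) : u * y * u⁻¹ ∈ coset p q := by
  rw [posUnipotent_eq facts_chevF4] at hu
  induction hu using Subgroup.closure_induction_left generalizing y with
  | one => simpa using hy
  | mul_left g hg u _ ih =>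
    obtain ⟨s, v, h1, h2, rfl⟩ := hg
    have := conj_coset_root h2 h1 v (ih hy)
    simpa [mul_assoc] using this
  | inv_mul_cancel g hg u _ ih =>
    obtain ⟨s, v, h1, h2, rfl⟩ := hg
    have := conj_coset_root h2 h1 (-v) (ih hy)
    rw [← xG_inv] at this
    simpa [mul_assoc] using this

theorem chi_mul_conj (c : Fin chevF4.rank → Fˣ) (t : ℕ → F) :
    (torusHom c : GL chevF4.Idx F) * listProd facts_chevF4 supp t * (torusHom c)⁻¹ =
      listProd facts_chevF4 supp (fun r => (chiU c r : F) * t r) := by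
  have key : ∀ L : List ℕ, (∀ r ∈ L, r < chevF4.nroots) →
      (torusHom c : GL chevF4.Idx F) * listProd facts_chevF4 L t * (torusHom c)⁻¹ =
        listProd facts_chevF4 L (fun r => (chiU c r : F) * t r) := by
    intro L
    induction L with
    | nil => simp [listProd]
    | cons a L ih =>
      intro hL
      simp only [listProd, List.map_cons, List.prod_cons] at ih ⊢
      rw [← mul_assoc, torusHom_conj facts_chevF4 c (hL a List.mem_cons_self),
        mul_assoc (xG facts_chevF4 a _), mul_assoc, ih fun r hr => hL r (List.mem_cons_of_mem _ hr)]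
  exact key supp fun r hr => (supp_range r hr).2

theorem torus_coset (c : Fin chevF4.rank → Fˣ) {p q : F} {y : GL chevF4.Idx F}
    (hy : y ∈ coset p q) :
    (torusHom c : GL chevF4.Idx F) * y * (torusHom c)⁻¹ ∈
      coset ((chiU c 39 : F) * p) ((chiU c 45 : F) * q) := by
  obtain ⟨t, rfl, rfl, rfl⟩ := hy
  exact ⟨_, rfl, rfl, chi_mul_conj c t⟩

theorem coset_inj {p q p' q' : F} {y : GL chevF4.Idx F} (h : y ∈ coset p q)
    (h' : y ∈ coset p' q') : p = p' ∧ q = q' := by
  obtain ⟨t, rfl, rfl, e⟩ := h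
  obtain ⟨t', rfl, rfl, e'⟩ := h'
  have := fun r (hr : r ∈ supp) => (listProd_inj facts_chevF4 (by decide) (by decide) supp_range
    supp_range supp_commute supp_commute (e.symm.trans e') hr).2 hr
  exact ⟨this 39 (by decide), this 45 (by decide)⟩

theorem start_mem_coset (p q : F) :
    xG facts_chevF4 39 p * xG facts_chevF4 45 q ∈ coset p q := by
  have := mul_mem_coset (single_mem 39 (by decide) p) (single_mem 45 (by decide) q)
  simpa using this

theorem listProd_filter (L : List ℕ) (t : ℕ → F) (P : ℕ → Prop) [DecidablePred P] :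
    listProd facts_chevF4 L (fun r => if P r then t r else 0) =
      listProd facts_chevF4 (L.filter fun r => decide (P r)) t := by
  induction L with
  | nil => rfl
  | cons a L ih =>
    by_cases h : P a
    · simp only [listProd, List.map_cons, List.prod_cons, List.filter_cons, h, decide_true,
        if_true] at ih ⊢
      rw [ih]
    · simp only [listProd, List.map_cons, List.prod_cons, List.filter_cons, h, decide_false,
        if_false, xG_zero, one_mul, Bool.false_eq_true] at ih ⊢
      rw [ih]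

/-- A monomial element carrying a conjugate to a conjugate maps 39 and 45 into the support. -/
theorem mon_maps_supp {g : GL chevF4.Idx F} {π : Equiv.Perm (Fin chevF4.nroots)}
    (hg : IsMon facts_chevF4 g π) {p q p' q' : F} {y z : GL chevF4.Idx F} (hy : y ∈ coset p q)
    (hz : z ∈ coset p' q') (e : g * y * g⁻¹ = z) (r : Fin chevF4.nroots)
    (hr : (r : ℕ) = 39 ∧ p ≠ 0 ∨ (r : ℕ) = 45 ∧ q ≠ 0) : (π r : ℕ) ∈ supp := by
  classical
  obtain ⟨t, rfl, rfl, rfl⟩ := hy
  obtain ⟨t', -, -, rfl⟩ := hz
  choose c hc hconj using hg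
  let P : ℕ → Prop := fun r => ∀ h : r < chevF4.nroots, half chevF4 ≤ (π ⟨r, h⟩ : ℕ)
  set ρ : ℕ → ℕ := fun r => if h : r < chevF4.nroots then (π ⟨r, h⟩ : ℕ) else 0 with hρ
  let τ : ℕ → F := fun r => if h : r < chevF4.nroots then
    c (π.symm ⟨r, h⟩) * t (π.symm ⟨r, h⟩ : ℕ) else 0
  have himg : ∀ L : List ℕ, (∀ r ∈ L, r < chevF4.nroots) →
      g * listProd facts_chevF4 L t * g⁻¹ = listProd facts_chevF4 (L.map ρ) τ := by
    intro L
    induction L with
    | nil => simp [listProd]
    | cons a L ih =>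
      intro hL
      have ha := hL a List.mem_cons_self
      have h1 : τ (ρ a) = c ⟨a, ha⟩ * t a := by
        simp only [τ, hρ, ha, dif_pos, Fin.is_lt, Fin.eta, Equiv.symm_apply_apply]
      have h2 : ρ a = (π ⟨a, ha⟩ : ℕ) := by simp only [hρ, ha, dif_pos]
      simp only [listProd, List.map_cons, List.prod_cons] at ih ⊢
      rw [← mul_assoc, show g * xG facts_chevF4 a (t a) =
        xG facts_chevF4 (ρ a) (τ (ρ a)) * g by rw [h1, h2]; exact hconj ⟨a, ha⟩ (t a),
        mul_assoc (xG facts_chevF4 (ρ a) _), mul_assoc,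
        ih fun r hr => hL r (List.mem_cons_of_mem _ hr)]
  set A := listProd facts_chevF4 supp (fun r => if P r then t r else 0) with hA
  set B := listProd facts_chevF4 supp (fun r => if P r then 0 else t r) with hB
  have hAB : listProd facts_chevF4 supp t = A * B :=
    listProd_split facts_chevF4 t P supp_commute
  have hgA : g * A * g⁻¹ ∈ chevF4.posUnipotent F := by
    refine conj_uPlus facts_chevF4 (π := π) (fun r => ⟨c r, hc r, hconj r⟩)
      (listProd_mem facts_chevF4 fun r hr => ?_)
    by_cases h : P r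
    · rw [if_pos h]
      exact Subgroup.subset_closure
        ⟨⟨r, (supp_range r hr).2⟩, t r, (supp_range r hr).1, h (supp_range r hr).2, rfl⟩
    · rw [if_neg h, xG_zero]; exact one_mem _
  have hgB : g * B * g⁻¹ ∈ chevF4.negUnipotent F := by
    refine conj_uMinus facts_chevF4 (π := π) (fun r => ⟨c r, hc r, hconj r⟩)
      (listProd_mem facts_chevF4 fun r hr => ?_)
    by_cases h : P r
    · rw [if_pos h, xG_zero]; exact one_mem _
    · rw [if_neg h]
      exact Subgroup.subset_closure ⟨⟨r, (supp_range r hr).2⟩, t r, (supp_range r hr).1,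
        not_le.1 fun h' => h fun _ => h', rfl⟩
  have hzU : listProd facts_chevF4 supp t' ∈ chevF4.posUnipotent F :=
    listProd_mem facts_chevF4 fun r hr =>
      mem_posUnipotent_of facts_chevF4 (supp_range r hr).2 (supp_range r hr).1 _
  have hB1 : B = 1 := by
    have hBU : g * B * g⁻¹ ∈ chevF4.posUnipotent F := by
      have h1 : g * B * g⁻¹ = (g * A * g⁻¹)⁻¹ * listProd facts_chevF4 supp t' := by
        rw [← e, hAB]; group
      rw [h1]
      exact Subgroup.mul_mem _ (Subgroup.inv_mem _ hgA) hzU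
    exact conj_eq_one_iff.1 (borel_inf_upper facts_chevF4 (Subgroup.mem_sup_left hBU)
      (negUnipotent_le_upperGroup facts_chevF4 hgB))
  have hnz : t r ≠ 0 := by rcases hr with ⟨h, h'⟩ | ⟨h, h'⟩ <;> rwa [h]
  have hrs : (r : ℕ) ∈ supp := by rcases hr with ⟨h, -⟩ | ⟨h, -⟩ <;> rw [h] <;> decide
  have hPr : P r := by
    by_contra h
    have := (listProd_inj facts_chevF4 (t' := fun _ => (0 : F)) (by decide) List.nodup_nil supp_range
      (by simp) supp_commute (by simp) (hB1 : _ = listProd facts_chevF4 [] _) hrs).1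
    rw [if_neg h] at this
    exact absurd (this hnz) (by simp)
  set L := supp.filter fun r => decide (P r) with hL
  have hLs : ∀ a ∈ L, a ∈ supp ∧ P a := fun a ha => by
    rw [hL, List.mem_filter, decide_eq_true_eq] at ha; exact ha
  have hyL : listProd facts_chevF4 supp t = listProd facts_chevF4 L t := by
    rw [hAB, hB1, mul_one, hA, listProd_filter]
  rw [hyL, himg L (fun x hx => (supp_range x (hLs x hx).1).2)] at e
  have hρa : ∀ a (ha : a ∈ L), ρ a = (π ⟨a, (supp_range a (hLs a ha).1).2⟩ : ℕ) := fun a ha => by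
    simp only [hρ, (supp_range a (hLs a ha).1).2, dif_pos]
  have hnd : (L.map ρ).Nodup := by
    refine List.Nodup.map_on (fun a ha b hb hab => ?_) ((show supp.Nodup by decide).filter _)
    rw [hρa a ha, hρa b hb] at hab
    exact congrArg Fin.val (π.injective (Fin.ext hab))
  have hrg : ∀ a ∈ L.map ρ, half chevF4 ≤ a ∧ a < chevF4.nroots := by
    intro a ha
    obtain ⟨b, hb, rfl⟩ := List.mem_map.1 ha
    rw [hρa b hb]
    exact ⟨(hLs b hb).2 _, (π _).2⟩
  have hcm : ∀ a ∈ L.map ρ, ∀ b ∈ L.map ρ, ∀ x y : F,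
      Commute (xG facts_chevF4 a x) (xG facts_chevF4 b y) := by
    intro a ha b hb x y
    obtain ⟨a, ha', rfl⟩ := List.mem_map.1 ha
    obtain ⟨b, hb', rfl⟩ := List.mem_map.1 hb
    have key : ∀ (a : Fin chevF4.nroots) (x : F),
        xG facts_chevF4 (π a : ℕ) x = g * xG facts_chevF4 a ((c a)⁻¹ * x) * g⁻¹ := fun a x => by
      rw [hconj, ← mul_assoc (c a), mul_inv_cancel₀ (hc a), one_mul, mul_inv_cancel_right]
    rw [hρa a ha', hρa b hb', key, key]
    exact (Commute.conj_iff g).2 (supp_commute a (hLs a ha').1 b (hLs b hb').1 _ _)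
  have hρr : ρ r = (π r : ℕ) := by simp only [hρ, r.2, dif_pos, Fin.eta]
  have hmem : ρ r ∈ L.map ρ :=
    List.mem_map_of_mem (List.mem_filter.2 ⟨hrs, by simpa using hPr⟩)
  have h1 := (listProd_inj facts_chevF4 hnd (by decide) hrg supp_range hcm supp_commute e hmem).1
  rw [← hρr]
  refine h1 ?_
  simp only [τ, hρr, Fin.is_lt, dif_pos, Fin.eta, Equiv.symm_apply_apply]
  exact mul_ne_zero (hc r) hnz

end Cfsg.Agent.Chev.F4Pair
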