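import Cfsg.Agent.Chev.All
import Cfsg.Agent.Chev.DomCentralizer

/-!
Centralisers of the long, short and mixed central root involutions of `F₄` in characteristic two.
-/

set_option autoImplicit false
set_option maxRecDepth 100000

namespace Cfsg.Agent.Chev.F4Root

open Cfsg.Lie Cfsg.Agent.Chev

universe u

/-- The roots in the Weyl orbit of the highest root. -/
def longs : List ℕ :=
  [47, 46, 45, 43, 32, 42, 31, 41, 26, 30, 24, 25, 23, 22, 21, 17, 16, 6, 5, 15, 4, 2, 1, 0]

theorem longs_closed : ((List.range chevF4.rank).all fun i => longs.all fun r =>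
    longs.contains (chevF4.reflectRoot i r)) = true := by decide +kernel

theorem top_chk : ((List.range chevF4.nroots).all fun s => decide (s < half chevF4) ||
    (commutesTwoChk chevF4 47 s && commutesTwoChk chevF4 44 s)) = true := by decide +kernel

theorem l47_chk : ([14, 20, 22].all fun s => commutesTwoChk chevF4 47 s) = true := by
  decide +kernel

theorem l44_chk : ([20, 22, 23].all fun s => commutesTwoChk chevF4 44 s) = true := by
  decide +kernel

theorem cartan47 : ∀ j : Fin chevF4.rank,
    chevF4.cartan j 47 = if (j : ℕ) = 3 then 1 else 0 := by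
  decide +kernel

theorem cartan44 : ∀ j : Fin chevF4.rank,
    chevF4.cartan j 44 = if (j : ℕ) = 0 then 1 else 0 := by
  decide +kernel

theorem negSimple : ∀ j : Fin chevF4.rank,
    chevF4.neg (chevF4.simple j) = [14, 20, 22, 23].getD j 0 := by
  decide +kernel

variable {F : Type u} [Field F] [CharP F 2]

/-- The index of a root. -/
def r47 : Fin chevF4.nroots := ⟨47, by decide +kernel⟩

/-- The index of a root. -/
def r44 : Fin chevF4.nroots := ⟨44, by decide +kernel⟩

theorem half_le47 : half chevF4 ≤ 47 := by decide +kernel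

theorem half_le44 : half chevF4 ≤ 44 := by decide +kernel

theorem commU {v : GL chevF4.Idx F} (hv : v ∈ chevF4.posUnipotent F) (a : ℕ)
    (ha : a = 47 ∨ a = 44) (t : F) : Commute v (xG facts_chevF4 a t) := by
  have h := top_chk
  simp only [List.all_eq_true, Bool.or_eq_true, Bool.and_eq_true, decide_eq_true_eq,
    List.mem_range] at h
  have hlt : a < chevF4.nroots := by rcases ha with rfl | rfl; exacts [r47.2, r44.2]
  refine dom_commute_posUnipotent facts_chevF4 hlt (fun s hs hp => ?_) hv t
  have := (h s hs).resolve_left (by omega)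
  rcases ha with rfl | rfl
  exacts [this.1, this.2]

theorem chi47 (c : Fin chevF4.rank → Fˣ) :
    chiU c 47 = c ⟨3, by decide +kernel⟩ := by
  rw [chiU, Finset.prod_eq_single ⟨3, by decide +kernel⟩
    (fun j _ hj => by rw [cartan47, if_neg (fun e => hj (Fin.ext e)), zpow_zero])
    (fun h => absurd (Finset.mem_univ _) h), cartan47, if_pos rfl, zpow_one]

theorem chi44 (c : Fin chevF4.rank → Fˣ) :
    chiU c 44 = c ⟨0, by decide +kernel⟩ := by
  rw [chiU, Finset.prod_eq_single ⟨0, by decide +kernel⟩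
    (fun j _ hj => by rw [cartan44, if_neg (fun e => hj (Fin.ext e)), zpow_zero])
    (fun h => absurd (Finset.mem_univ _) h), cartan44, if_pos rfl, zpow_one]

theorem fix_root (r : Fin chevF4.nroots) {w : List (Fin chevF4.rank)}
    {c : Fin chevF4.rank → Fˣ}
    (h : Commute (torusHom c * nWord facts_chevF4 w) (xG facts_chevF4 r (1 : F))) :
    pWord facts_chevF4 w r = r := by
  obtain ⟨a, ha, hconj⟩ :=
    isMon_mul facts_chevF4 (isMon_torus facts_chevF4 c) (isMon_nWord facts_chevF4 w) r
  rw [one_mul] at hconj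
  have h1 := hconj 1
  rw [mul_one, h.eq] at h1
  exact Fin.ext (eq_of_x_eq facts_chevF4 r.2 one_ne_zero
    (congrArg Units.val (mul_right_cancel h1))).1.symm

theorem fix_chi (r : Fin chevF4.nroots) {c : Fin chevF4.rank → Fˣ}
    (h : Commute (torusHom c : GL chevF4.Idx F) (xG facts_chevF4 r (1 : F))) :
    chiU c r = 1 := by
  have h1 := torusHom_conj facts_chevF4 c r.2 (1 : F)
  rw [h.eq, mul_left_inj, mul_one] at h1
  exact Units.ext (eq_of_x_eq facts_chevF4 r.2 one_ne_zero (congrArg Units.val h1)).2.symm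

theorem fix_pair {w : List (Fin chevF4.rank)} {c : Fin chevF4.rank → Fˣ}
    (h : Commute (torusHom c * nWord facts_chevF4 w)
      (xG facts_chevF4 47 (1 : F) * xG facts_chevF4 44 (1 : F))) :
    pWord facts_chevF4 w r47 = r47 ∧ pWord facts_chevF4 w r44 = r44 := by
  set g := torusHom c * nWord facts_chevF4 w
  have hmon := isMon_mul facts_chevF4 (isMon_torus facts_chevF4 c) (isMon_nWord facts_chevF4 w)
    (F := F)
  obtain ⟨a, ha, hca⟩ := hmon r47
  obtain ⟨b, hb, hcb⟩ := hmon r44
  rw [one_mul] at hca hcb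
  set π := pWord facts_chevF4 w
  have h1 : g * xG facts_chevF4 47 (1 : F) = xG facts_chevF4 (π r47 : ℕ) a * g := by
    have := hca 1; rwa [mul_one] at this
  have h2 : g * xG facts_chevF4 44 (1 : F) = xG facts_chevF4 (π r44 : ℕ) b * g := by
    have := hcb 1; rwa [mul_one] at this
  have hcomm : Commute (xG facts_chevF4 47 (1 : F)) (xG facts_chevF4 44 (1 : F)) :=
    commU (mem_posUnipotent_of facts_chevF4 r47.2 half_le47 (1 : F)) 44 (Or.inr rfl) 1
  have e : xG facts_chevF4 (π r47 : ℕ) a * xG facts_chevF4 (π r44 : ℕ) b =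
      xG facts_chevF4 44 (1 : F) * xG facts_chevF4 47 (1 : F) := by
    apply mul_right_cancel (b := g)
    calc xG facts_chevF4 (π r47 : ℕ) a * xG facts_chevF4 (π r44 : ℕ) b * g
        = g * (xG facts_chevF4 47 (1 : F) * xG facts_chevF4 44 (1 : F)) := by
          rw [mul_assoc, ← h2, ← mul_assoc, ← h1, mul_assoc]
      _ = xG facts_chevF4 47 (1 : F) * xG facts_chevF4 44 (1 : F) * g := h.eq
      _ = _ := by rw [hcomm.eq]
  have hne : π r47 ≠ π r44 := fun h => absurd (π.injective h) (by decide +kernel)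
  have hc : Commute (xG facts_chevF4 (π r47 : ℕ) a) (xG facts_chevF4 (π r44 : ℕ) b) := by
    have e1 : xG facts_chevF4 (π r47 : ℕ) a = g * xG facts_chevF4 r47 (1 : F) * g⁻¹ :=
      eq_mul_inv_iff_mul_eq.2 h1.symm
    have e2 : xG facts_chevF4 (π r44 : ℕ) b = g * xG facts_chevF4 r44 (1 : F) * g⁻¹ :=
      eq_mul_inv_iff_mul_eq.2 h2.symm
    rw [e1, e2]
    exact (Commute.conj_iff g).2 hcomm
  have hL : (π r47 : ℕ) ∈ longs := by
    refine weyl_closed facts_chevF4 (L := fun r => r ∈ longs) (fun i hi r _ hr => ?_) w r47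
      (by decide +kernel)
    have hc := longs_closed
    simp only [List.all_eq_true, List.mem_range] at hc
    simpa using hc i hi r hr
  rcases pair_inj facts_chevF4 (a' := r44) (b' := r47) ha hb half_le44 half_le47 hne
    (by decide +kernel) hc e with h | h
  · rw [h.1] at hL
    exact absurd hL (by decide +kernel)
  · exact h

theorem fix_chi_pair {c : Fin chevF4.rank → Fˣ}
    (h : Commute (torusHom c : GL chevF4.Idx F)
      (xG facts_chevF4 47 (1 : F) * xG facts_chevF4 44 (1 : F))) :
    chiU c 47 = 1 ∧ chiU c 44 = 1 := by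
  have h1 : (torusHom c : GL chevF4.Idx F) * xG facts_chevF4 47 (1 : F) =
      xG facts_chevF4 47 ((chiU c 47 : Fˣ) : F) * torusHom c := by
    have := torusHom_conj facts_chevF4 c r47.2 (1 : F); rwa [mul_one] at this
  have h2 : (torusHom c : GL chevF4.Idx F) * xG facts_chevF4 44 (1 : F) =
      xG facts_chevF4 44 ((chiU c 44 : Fˣ) : F) * torusHom c := by
    have := torusHom_conj facts_chevF4 c r44.2 (1 : F); rwa [mul_one] at this
  have e : xG facts_chevF4 47 ((chiU c 47 : Fˣ) : F) * xG facts_chevF4 44 ((chiU c 44 : Fˣ) : F) =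
      xG facts_chevF4 47 (1 : F) * xG facts_chevF4 44 (1 : F) := by
    apply mul_right_cancel (b := (torusHom c : GL chevF4.Idx F))
    rw [mul_assoc, ← h2, ← mul_assoc, ← h1, mul_assoc]
    exact h.eq
  have e' : xG facts_chevF4 47 (((chiU c 47 : Fˣ) : F) - 1) =
      xG facts_chevF4 44 (1 - ((chiU c 44 : Fˣ) : F)) := by
    rw [sub_eq_add_neg (1 : F), ← xG_mul, sub_eq_add_neg, add_comm _ (-(1 : F)), ← xG_mul,
      ← xG_inv, ← xG_inv, inv_mul_eq_iff_eq_mul, ← mul_assoc, eq_mul_inv_iff_mul_eq]
    exact e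
  have h47 : ((chiU c 47 : Fˣ) : F) - 1 = 0 := by
    by_contra hne
    exact absurd (eq_of_x_eq facts_chevF4 (r := 47) (r' := 44) r47.2 hne (congrArg Units.val e')).1
      (by decide +kernel)
  refine ⟨Units.ext (sub_eq_zero.1 h47), Units.ext ?_⟩
  rw [h47, xG_zero] at e'
  exact (sub_eq_zero.1 ((xG_eq_one_iff facts_chevF4 r44.2).1 e'.symm)).symm

theorem sup_eq_closure (l : List ℕ) :
    Subgroup.closure {g : GL chevF4.Idx F | ∃ s ∈ l, ∃ c : F,
        (g : Matrix chevF4.Idx chevF4.Idx F) = chevF4.x F s c} =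
      l.foldr (fun s H => chevF4.rootSubgroup F s ⊔ H) ⊥ := by
  induction l with
  | nil => simp
  | cons a l ih =>
    rw [List.foldr_cons, ← ih, ChevalleyDatum.rootSubgroup, ← Subgroup.closure_union]
    congr 1
    ext g
    simp

theorem negSimple_mem (l : List ℕ) (j : Fin chevF4.rank)
    (h : [14, 20, 22, 23].getD j 0 ∈ l) : chevF4.neg (chevF4.simple j) ∈ l := by
  rwa [negSimple]

theorem centralizer_long :
    chevF4.group F ⊓ Subgroup.centralizer {xG facts_chevF4 47 (1 : F)} = chevF4.posUnipotent F ⊔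
      chevF4.rootSubgroup F 14 ⊔ chevF4.rootSubgroup F 20 ⊔ chevF4.rootSubgroup F 22 := by
  refine (centralizer_dominant facts_chevF4 _ [r47] {⟨3, by decide +kernel⟩} [14, 20, 22]
    (fun v hv => commU hv 47 (Or.inl rfl) 1) (fun s hs c => ?_) ?_ ?_ ?_ ?_ (fun w c h => ?_)
    (fun c h => ?_)).trans ?_
  · have hl := l47_chk
    rw [List.all_eq_true] at hl
    refine commute_of_chk_two facts_chevF4 r47.2 ?_ (hl s hs) 1 c
    have : ∀ x ∈ [14, 20, 22], x < chevF4.nroots := by decide +kernel
    exact this s hs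
  · decide +kernel
  · decide +kernel
  · decide +kernel
  · decide +kernel
  · intro r hr
    rw [List.mem_singleton.1 hr]
    exact fix_root r47 h
  · intro k hk
    rw [Finset.mem_singleton.1 hk, ← chi47 c]
    exact fix_chi r47 h
  · rw [sup_eq_closure]
    simp [sup_assoc]

theorem centralizer_short :
    chevF4.group F ⊓ Subgroup.centralizer {xG facts_chevF4 44 (1 : F)} = chevF4.posUnipotent F ⊔
      chevF4.rootSubgroup F 20 ⊔ chevF4.rootSubgroup F 22 ⊔ chevF4.rootSubgroup F 23 := by
  refine (centralizer_dominant facts_chevF4 _ [r44] {⟨0, by decide +kernel⟩} [20, 22, 23]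
    (fun v hv => commU hv 44 (Or.inr rfl) 1) (fun s hs c => ?_) ?_ ?_ ?_ ?_ (fun w c h => ?_)
    (fun c h => ?_)).trans ?_
  · have hl := l44_chk
    rw [List.all_eq_true] at hl
    refine commute_of_chk_two facts_chevF4 r44.2 ?_ (hl s hs) 1 c
    have : ∀ x ∈ [20, 22, 23], x < chevF4.nroots := by decide +kernel
    exact this s hs
  · decide +kernel
  · decide +kernel
  · decide +kernel
  · decide +kernel
  · intro r hr
    rw [List.mem_singleton.1 hr]
    exact fix_root r44 h
  · intro k hk
    rw [Finset.mem_singleton.1 hk, ← chi44 c]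
    exact fix_chi r44 h
  · rw [sup_eq_closure]
    simp [sup_assoc]

theorem centralizer_mixed :
    chevF4.group F ⊓ Subgroup.centralizer {xG facts_chevF4 47 (1 : F) * xG facts_chevF4 44 1} =
      chevF4.posUnipotent F ⊔ chevF4.rootSubgroup F 20 ⊔ chevF4.rootSubgroup F 22 := by
  refine (centralizer_dominant facts_chevF4 _ [r47, r44]
    {⟨3, by decide +kernel⟩, ⟨0, by decide +kernel⟩} [20, 22]
    (fun v hv => (commU hv 47 (Or.inl rfl) 1).mul_right (commU hv 44 (Or.inr rfl) 1))
    (fun s hs c => ?_) ?_ ?_ ?_ ?_ (fun w c h => ?_) (fun c h => ?_)).trans ?_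
  · have hl := l44_chk
    have hl' := l47_chk
    rw [List.all_eq_true] at hl hl'
    have : ∀ x ∈ [20, 22], x ∈ [20, 22, 23] ∧ x ∈ [14, 20, 22] ∧ x < chevF4.nroots := by
      decide +kernel
    exact (commute_of_chk_two facts_chevF4 r47.2 (this s hs).2.2 (hl' s (this s hs).2.1) 1 c).mul_right
      (commute_of_chk_two facts_chevF4 r44.2 (this s hs).2.2 (hl s (this s hs).1) 1 c)
  · decide +kernel
  · decide +kernel
  · decide +kernel
  · decide +kernel
  · intro r hr
    obtain ⟨h1, h2⟩ := fix_pair h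
    simp only [List.mem_cons, List.not_mem_nil, or_false] at hr
    rcases hr with rfl | rfl
    exacts [h1, h2]
  · intro k hk
    obtain ⟨h1, h2⟩ := fix_chi_pair h
    simp only [Finset.mem_insert, Finset.mem_singleton] at hk
    rcases hk with rfl | rfl
    · rwa [← chi47 c]
    · rwa [← chi44 c]
  · rw [sup_eq_closure]
    simp [sup_assoc]

end Cfsg.Agent.Chev.F4Root
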