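import Cfsg.Agent.Chev.Orbits
import Cfsg.Agent.Chev.Sound

/-!
Orbit certificates for the sum `∑ q ^ N(w)` and the resulting factorisation.
-/

set_option autoImplicit false

namespace Cfsg.Agent.Chev

open Cfsg.Lie

universe u

/-- One step of the chain of parabolic subgroups: the removed index and the orbit of its
coordinate functional, with parents, successors and degrees. -/
structure Level where
  k : ℕ
  pts : List (List ℤ)
  par : List (ℕ × ℕ)
  succ : List (List ℕ)
  deg : List ℕ

variable (D : ChevalleyDatum) (C : Cert)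

/-- The functional given by a list. -/
def vecOf (l : List ℤ) : Fin D.rank → ℤ := fun j => l.getD j 0

/-- Equality of functionals given by lists. -/
noncomputable def eqv (l l' : List ℤ) : Bool :=
  allBelow (fun j => zbeq (l.getD j 0) (l'.getD j 0)) D.rank

/-- The fundamental reflection on lists. -/
noncomputable def stepL (i : ℕ) (l : List ℤ) : List ℤ :=
  (List.range D.rank).map fun j => l.getD j 0 - l.getD i 0 * C.cA j (D.simple i)

/-- Strict positivity. -/
noncomputable def zpos (a : ℤ) : Bool :=
  Int.rec (fun m => Nat.blt 0 m) (fun _ => false) a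

/-- Scalar product of two lists of the same length. -/
noncomputable def dotL (a : List ℤ) : List ℤ → ℤ :=
  List.rec (motive := fun _ => List ℤ → ℤ) (fun _ => 0)
    (fun x _ ih b => List.rec (motive := fun _ => ℤ) 0 (fun y b' _ => x * y + ih b') b) a

theorem dotL_cons (x : ℤ) (a : List ℤ) (y : ℤ) (b : List ℤ) :
    dotL (x :: a) (y :: b) = x * y + dotL a b := rfl

theorem dotL_eq : ∀ (a b : List ℤ), a.length = b.length →
    dotL a b = ∑ j : Fin a.length, a.getD j 0 * b.getD j 0
  | [], b, _ => by simp [dotL]
  | x :: a, [], h => by simp at h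
  | x :: a, y :: b, h => by
    rw [dotL_cons, dotL_eq a b (by simpa using h)]
    simp [Fin.sum_univ_succ]

/-- The number of negative roots at which a functional given by a list is positive. -/
noncomputable def degL (rows : List (List ℤ)) (l : List ℤ) : ℕ :=
  List.rec (motive := fun _ => ℕ) 0
    (fun row _ ih => cond (zpos (dotL row l)) (Nat.succ ih) ih) rows

/-- The check of the coroot coordinates of the negative roots. -/
noncomputable def chkRows (rows : List (List ℤ)) : Bool :=
  Nat.beq rows.length (half D) &&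
  allBelow (fun r => Nat.beq (rows.getD r []).length D.rank &&
    allBelow (fun j => zbeq ((rows.getD r []).getD j 0) (C.cR r j)) D.rank) (half D)

/-- No two members are equal. -/
noncomputable def chkNodup : List (List ℤ) → Bool
  | [] => true
  | a :: l => (l.all fun b => !eqv D a b) && chkNodup l

/-- The check of one level; `J` lists the indices still present. -/
noncomputable def chkLevel (rows : List (List ℤ)) (J : List ℕ) (L : Level) : Bool :=
  eqv D (L.pts.getD 0 []) ((List.range D.rank).map fun j => cond (Nat.beq j L.k) 1 0) &&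
  Nat.blt 0 L.pts.length &&
  chkNodup D L.pts &&
  (allBelow (fun idx => force ((L.par.getD idx (0, 0)).1) fun p =>
    force ((L.par.getD idx (0, 0)).2) fun i =>
      Nat.ble p idx && J.contains i &&
        eqv D (L.pts.getD (idx + 1) []) (stepL D C i (L.pts.getD p [])))
    (L.pts.length - 1)) &&
  (allBelow (fun idx => allBelow (fun m => force ((L.succ.getD idx []).getD m 0) fun t =>
      Nat.blt t L.pts.length &&
        eqv D (L.pts.getD t []) (stepL D C (J.getD m 0) (L.pts.getD idx []))) J.length)
    L.pts.length) &&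
  (allBelow (fun idx => Nat.beq (L.pts.getD idx []).length D.rank &&
      Nat.beq (L.deg.getD idx 0) (degL rows (L.pts.getD idx [])))
    L.pts.length) &&
  Nat.beq L.deg.length L.pts.length

/-- The check of the whole chain. -/
noncomputable def chkChain (rows : List (List ℤ)) : List Level → Bool
  | [] => true
  | L :: Ls =>
    Nat.blt L.k D.rank && !(Ls.map Level.k).contains L.k &&
      chkLevel D C rows (L.k :: Ls.map Level.k) L && chkChain rows Ls

variable {D C}

theorem eqv_iff {l l' : List ℤ} : eqv D l l' = true ↔ vecOf D l = vecOf D l' := by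
  rw [eqv, allBelow_iff, funext_iff]
  exact ⟨fun h j => zbeq_iff.1 (h j j.2), fun h j hj => zbeq_iff.2 (h ⟨j, hj⟩)⟩

theorem zpos_iff {a : ℤ} : zpos a = true ↔ 0 < a := by
  cases a with
  | ofNat m => exact nblt_iff.trans Int.natCast_pos.symm
  | negSucc m => simp [zpos]

theorem nodup_of_chk : ∀ {L : List (List ℤ)}, chkNodup D L = true → (L.map (vecOf D)).Nodup
  | [], _ => List.nodup_nil
  | a :: l, h => by
    simp only [chkNodup, Bool.and_eq_true, List.all_eq_true, Bool.not_eq_true',
      ← Bool.not_eq_true, eqv_iff] at h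
    rw [List.map_cons, List.nodup_cons, List.mem_map]
    exact ⟨fun ⟨b, hb, e⟩ => h.1 b hb e.symm, nodup_of_chk h.2⟩

/-- The set of indices of a list. -/
def setJ (D : ChevalleyDatum) (J : List ℕ) : Finset (Fin D.rank) :=
  Finset.univ.filter fun i => (i : ℕ) ∈ J

variable (h : Checks D C)
include h

theorem vecOf_stepL (i : Fin D.rank) (l : List ℤ) :
    vecOf D (stepL D C i l) = stepV i (vecOf D l) := by
  funext j
  simp only [vecOf, stepV, stepL, List.getD_eq_getElem?_getD, List.getElem?_map,
    List.getElem?_range j.2, Option.map_some, Option.getD_some]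
  rw [cartan_eq h j.2 (simple_split h i.2).1]

omit h in
theorem degL_card (l : List ℤ) : ∀ rows : List (List ℤ),
    degL rows l = (rows.filter fun row => zpos (dotL row l)).length
  | [] => rfl
  | row :: rows => by
    show cond (zpos (dotL row l)) (Nat.succ (degL rows l)) (degL rows l) = _
    rw [degL_card l rows, List.filter_cons]
    cases zpos (dotL row l) <;> simp

theorem degL_eq {rows : List (List ℤ)} (hr : chkRows D C rows = true) {l : List ℤ}
    (hl : l.length = D.rank) :
    degL rows l = posNegCount (fun r : Fin D.nroots => lamF (vecOf D l) (r : ℕ)) := by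
  classical
  have hN := (base_split h).2.1
  simp only [chkRows, Bool.and_eq_true, allBelow_iff, nbeq_iff, zbeq_iff] at hr
  have e : ((Finset.univ : Finset (Fin D.nroots)).filter fun r : Fin D.nroots =>
      (r : ℕ) < half D ∧ 0 < lamF (vecOf D l) (r : ℕ)).map Fin.valEmbedding =
      (Finset.range (half D)).filter fun r => 0 < lamF (vecOf D l) r := by
    ext x
    simp only [Finset.mem_map, Finset.mem_filter, Finset.mem_univ, true_and,
      Fin.valEmbedding_apply, Finset.mem_range]
    exact ⟨fun ⟨r, hr, hx⟩ => hx ▸ hr, fun hx => ⟨⟨x, by omega⟩, hx, rfl⟩⟩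
  have e' := congrArg Finset.card e
  rw [Finset.card_map] at e'
  have hrows : rows = (List.range (half D)).map fun r => rows.getD r [] := by
    refine List.ext_getElem (by simp [hr.1]) fun k h1 h2 => ?_
    simp [List.getD_eq_getElem?_getD, List.getElem?_eq_getElem h1]
  rw [posNegCount, e', degL_card]
  rw [hrows, List.filter_map, List.length_map,
    ← List.toFinset_card_of_nodup (List.nodup_range.filter _)]
  congr 1
  ext x
  simp only [List.mem_toFinset, List.mem_filter, List.mem_range, zpos_iff, Finset.mem_filter,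
    Finset.mem_range, Function.comp_apply]
  refine and_congr_right fun hx => ?_
  obtain ⟨hlen, hrow⟩ := hr.2 x hx
  rw [dotL_eq _ _ (hlen.trans hl.symm), lamF]
  refine iff_of_eq (congrArg _ ?_)
  refine Fintype.sum_equiv (finCongr hlen) _ _ fun j => ?_
  rw [finCongr_apply, Fin.val_cast, coef_eq h (hlen ▸ j.2) (by omega), ← hrow j (hlen ▸ j.2)]
  rfl

omit h in
theorem setJ_erase {k : ℕ} (hk : k < D.rank) {J : List ℕ} (hkJ : k ∉ J) :
    (setJ D (k :: J)).erase ⟨k, hk⟩ = setJ D J := by
  ext i
  simp only [setJ, Finset.mem_erase, Finset.mem_filter, Finset.mem_univ, true_and, List.mem_cons,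
    Ne, Fin.ext_iff]
  exact ⟨fun ⟨a, b⟩ => b.resolve_left a, fun b => ⟨fun e => hkJ (e ▸ b), Or.inr b⟩⟩

theorem poin_level (hF : Facts.{u} D) {rows : List (List ℤ)} (hrows : chkRows D C rows = true)
    (q : ℕ) {L : Level} {J : List ℕ} (hk : L.k < D.rank)
    (hkJ : L.k ∉ J) (hJ : ∀ i ∈ J, i < D.rank) (hL : chkLevel D C rows (L.k :: J) L = true) :
    poin hF (setJ D (L.k :: J)) q = (L.deg.map (q ^ ·)).sum * poin hF (setJ D J) q := by
  simp only [chkLevel, Bool.and_eq_true, allBelow_iff, force_eq, nblt_iff, nble_iff, nbeq_iff,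
    eqv_iff, List.contains_iff_mem] at hL
  obtain ⟨⟨⟨⟨⟨⟨hhead, hlen⟩, hnd⟩, hpar⟩, hsucc⟩, hdeg⟩, hdlen⟩ := hL
  have hget : ∀ idx < L.pts.length, L.pts.getD idx [] ∈ L.pts := fun idx hidx => by
    rw [List.getD_eq_getElem _ _ hidx]; exact List.getElem_mem hidx
  have hone : vecOf D (L.pts.getD 0 []) = Pi.single (⟨L.k, hk⟩ : Fin D.rank) 1 := by
    rw [hhead]
    funext j
    simp only [vecOf, List.getD_eq_getElem?_getD, List.getElem?_map, List.getElem?_range j.2,
      Option.map_some, Option.getD_some]
    by_cases e : (j : ℕ) = L.k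
    · rw [nbeq_iff.2 e, cond_true, show j = ⟨L.k, hk⟩ from Fin.ext e, Pi.single_eq_same]
    · rw [nbeq_false_iff.2 e, cond_false,
        Pi.single_eq_of_ne (fun e' => e (congrArg Fin.val e'))]
  have hJ' : ∀ i ∈ L.k :: J, i < D.rank := List.forall_mem_cons.2 ⟨hk, hJ⟩
  have hone' : Pi.single (⟨L.k, hk⟩ : Fin D.rank) (1 : ℤ) ∈ L.pts.map (vecOf D) :=
    List.mem_map.2 ⟨_, hget 0 hlen, hone⟩
  rw [← setJ_erase hk hkJ, poin_step hF q (L.pts.map (vecOf D)) (nodup_of_chk hnd) hone']
  · rw [List.map_map]
    congr 2
    refine List.ext_getElem (by simp [hdlen]) fun idx h1 h2 => ?_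
    simp only [List.getElem_map, Function.comp_apply]
    simp only [List.length_map] at h1
    congr 1
    have hl := (hdeg idx h1).1
    rw [List.getD_eq_getElem _ _ h1] at hl
    rw [← degL_eq h hrows hl]
    have := (hdeg idx h1).2
    rw [List.getD_eq_getElem _ _ (by omega), List.getD_eq_getElem _ _ h1] at this
    exact this.symm
  · intro v hv i hi
    obtain ⟨l, hl, rfl⟩ := List.mem_map.1 hv
    obtain ⟨idx, hidx, rfl⟩ := List.mem_iff_getElem.1 hl
    simp only [setJ, Finset.mem_filter, Finset.mem_univ, true_and] at hi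
    obtain ⟨m, hm, hmi⟩ := List.mem_iff_getElem.1 hi
    obtain ⟨ht, he⟩ := hsucc idx hidx m hm
    rw [List.getD_eq_getElem (L.k :: J) _ hm, hmi, List.getD_eq_getElem L.pts _ hidx,
      vecOf_stepL h] at he
    exact he ▸ List.mem_map_of_mem (hget _ ht)
  · intro v hv
    obtain ⟨l, hl, rfl⟩ := List.mem_map.1 hv
    obtain ⟨idx, hidx, rfl⟩ := List.mem_iff_getElem.1 hl
    suffices H : ∀ idx < L.pts.length, ∃ π ∈ wJ hF (setJ D (L.k :: J)),
        cosetFun ⟨L.k, hk⟩ π = fun r : Fin D.nroots => lamF (vecOf D (L.pts.getD idx [])) (r : ℕ) by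
      have := H idx hidx
      rwa [List.getD_eq_getElem _ _ hidx] at this
    intro idx
    induction idx using Nat.strong_induction_on with
    | _ idx ih =>
      intro hidx
      cases idx with
      | zero => exact ⟨1, Subgroup.one_mem _, by rw [hone]; exact cosetFun_one _⟩
      | succ idx =>
        obtain ⟨⟨hp, hi⟩, he⟩ := hpar idx (by omega)
        obtain ⟨π, hπ, hc⟩ := ih (L.par.getD idx (0, 0)).1 (by omega) (by omega)
        refine ⟨wPerm hF ⟨(L.par.getD idx (0, 0)).2, hJ' _ hi⟩ * π,
          Subgroup.mul_mem _ (Subgroup.subset_closure ⟨⟨_, hJ' _ hi⟩, by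
            simpa [setJ] using hi, rfl⟩) hπ, ?_⟩
        have := cosetFun_step hF (i := ⟨(L.par.getD idx (0, 0)).2, hJ' _ hi⟩) hc
        rw [← vecOf_stepL h, ← he] at this
        exact this

theorem poin_chain (hF : Facts.{u} D) {rows : List (List ℤ)} (hrows : chkRows D C rows = true)
    (q : ℕ) : ∀ (Ls : List Level), chkChain D C rows Ls = true →
      poin hF (setJ D (Ls.map Level.k)) q = (Ls.map fun L => (L.deg.map (q ^ ·)).sum).prod ∧
        ∀ i ∈ Ls.map Level.k, i < D.rank
  | [], _ => by
    constructor
    · rw [show setJ D (([] : List Level).map Level.k) = ∅ by ext i; simp [setJ]]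
      exact poin_empty hF q
    · simp
  | L :: Ls, hc => by
    simp only [chkChain, Bool.and_eq_true, nblt_iff, Bool.not_eq_true', ← Bool.not_eq_true,
      List.contains_iff_mem] at hc
    obtain ⟨⟨⟨hk, hkJ⟩, hL⟩, hrest⟩ := hc
    obtain ⟨h1, h2⟩ := poin_chain hF hrows q Ls hrest
    refine ⟨?_, List.forall_mem_cons.2 ⟨hk, h2⟩⟩
    rw [List.map_cons, poin_level h hF hrows q hk hkJ h2 hL, h1, List.map_cons, List.prod_cons]

theorem poin_univ (hF : Facts.{u} D) {rows : List (List ℤ)} (hrows : chkRows D C rows = true)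
    (q : ℕ) {Ls : List Level} (hc : chkChain D C rows Ls = true)
    (hall : allBelow (fun i => (Ls.map Level.k).contains i) D.rank = true) :
    poin hF Finset.univ q = (Ls.map fun L => (L.deg.map (q ^ ·)).sum).prod := by
  rw [← (poin_chain h hF hrows q Ls hc).1]
  congr 1
  ext i
  simp only [allBelow_iff, List.contains_iff_mem] at hall
  simpa [setJ] using hall i i.2

end Cfsg.Agent.Chev
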