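import Cfsg.Agent.Chev.Sound
import Cfsg.Agent.Chev.Torus
import Cfsg.Agent.Chev.Poincare

/-!
The grading attached to a set of fundamental roots; the Levi complement meets the radical trivially.
-/

set_option autoImplicit false

namespace Cfsg.Agent.Chev

open Cfsg.Lie
open scoped MatrixGroups

universe u

/-- The value at the root `r` of the coweight given by the row `i` of `mu`. -/
noncomputable def gradeC (D : ChevalleyDatum) (C : Cert) (mu : List (List ℤ)) (i r : ℕ) : ℤ :=
  ((List.range D.rank).map fun j => (mu.getD i []).getD j 0 * C.cA j r).sum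

/-- The check of the coweights. -/
noncomputable def chkGrade (D : ChevalleyDatum) (C : Cert) (mu : List (List ℤ)) : Bool :=
  allBelow (fun i => allBelow (fun r =>
    cond (zbeq (C.cR r i) 0) (zbeq (gradeC D C mu i r) 0)
      (cond (Nat.ble (half D) r) (zpos (gradeC D C mu i r)) true)) D.nroots) D.rank

variable {D : ChevalleyDatum} {C : Cert}

/-- The grading of a coordinate. -/
noncomputable def gradeJ (mu : List (List ℤ)) (J : Set ℕ) (a : D.Idx) : ℤ := by
  classical
  exact ∑ i ∈ (Finset.univ.filter fun i : Fin D.rank => (i : ℕ) ∉ J),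
    ∑ j : Fin D.rank, (mu.getD i []).getD j 0 *
      Sum.elim (fun _ => (0 : ℤ)) (fun s : Fin D.nroots => D.cartan j s) a

theorem pow_pos_of_mem_colOf {T : Tab} {r c : ℕ} {q : ℕ × ℕ × ℤ} (hq : q ∈ colOf D T r c) :
    1 ≤ q.2.1 := by
  have hadd : ∀ (L : List (ℕ × ℤ)) (base k : ℕ), ∀ q ∈ addIdx base k L, k ≤ q.2.1 := by
    intro L
    induction L with
    | nil => intro base k q hq; simp [addIdx_nil] at hq
    | cons a L ih =>
      intro base k q hq
      rw [addIdx_cons, List.mem_cons] at hq
      rcases hq with rfl | hq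
      · exact le_rfl
      · exact (Nat.le_succ k).trans (ih base (k + 1) q hq)
  rw [colOf_def] at hq
  cases h1 : Nat.beq c (D.rank + (D.nroots - 1 - r)) with
  | true =>
    rw [h1, cond_true, negCol, List.mem_append] at hq
    rcases hq with hq | hq
    · obtain ⟨z, -, rfl⟩ := List.mem_map.1 hq; exact le_rfl
    · rw [List.mem_singleton] at hq; subst hq; exact Nat.le_succ 1
  | false =>
    rw [h1, cond_false] at hq
    cases h2 : Nat.blt c (D.rank + D.nroots) with
    | true => rw [h2, cond_true] at hq; exact hadd _ _ _ q hq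
    | false => rw [h2, cond_false] at hq; simp at hq

variable {F : Type u} [Field F] (h : Checks D C)
include h

theorem entry_grade (mu : List (List ℤ)) (J : Set ℕ) {r : ℕ} (hr : r < D.nroots) (t : F)
    {a b : D.Idx} (hne : D.x F r t a b ≠ if a = b then 1 else 0) :
    ∃ k : ℕ, 1 ≤ k ∧ gradeJ mu J a =
      gradeJ mu J b + (k : ℤ) * gradeJ mu J (Sum.inr ⟨r, hr⟩ : D.Idx) := by
  by_contra hno
  refine hne ?_
  rw [x_apply h.tab F hr, colVal_eq_zero, add_zero]
  intro q hq e
  refine hno ⟨q.2.1, pow_pos_of_mem_colOf hq, ?_⟩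
  simp only [gradeJ, Finset.mul_sum, ← Finset.sum_add_distrib, Sum.elim_inr]
  refine Finset.sum_congr rfl fun i _ => Finset.sum_congr rfl fun j _ => ?_
  rw [entry_weight h hr hq e j.2]
  ring

theorem grade_of_chk {mu : List (List ℤ)} (hg : chkGrade D C mu = true) {i : ℕ} (hi : i < D.rank)
    (r : Fin D.nroots) :
    (coef D r i = 0 → ∑ j : Fin D.rank, (mu.getD i []).getD j 0 * D.cartan j r = 0) ∧
    (coef D r i ≠ 0 → half D ≤ (r : ℕ) →
      0 < ∑ j : Fin D.rank, (mu.getD i []).getD j 0 * D.cartan j r) := by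
  simp only [chkGrade, allBelow_iff] at hg
  have := hg i hi r r.2
  have e : gradeC D C mu i r = ∑ j : Fin D.rank, (mu.getD i []).getD j 0 * D.cartan j r := by
    rw [gradeC, list_range_map_sum]
    exact Finset.sum_congr rfl fun j _ => by rw [cartan_eq h j.2 r.2]
  rw [← coef_eq h hi r.2, e] at this
  constructor
  · intro h0
    rw [zbeq_iff.2 h0, cond_true, zbeq_iff] at this
    exact this
  · intro h0 hp
    rw [show zbeq (coef D r i) 0 = false by
        rw [← Bool.not_eq_true, zbeq_iff]; exact h0, cond_false, nble_iff.2 hp, cond_true,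
      zpos_iff] at this
    exact this

theorem radical_inf_levi (hF : Facts.{u} D) {mu : List (List ℤ)} (hg : chkGrade D C mu = true)
    (J : Set ℕ) : D.unipotentRadical F J ⊓ D.leviSubgroup F J = ⊥ := by
  classical
  set G := gradeJ (D := D) mu J with hG
  -- matrices strictly raising the grading, and matrices preserving it
  let rais : Matrix D.Idx D.Idx F → Prop := fun A =>
    ∀ a b, G a ≤ G b → A a b = if a = b then 1 else 0
  let blk : Matrix D.Idx D.Idx F → Prop := fun A => ∀ a b, G a ≠ G b → A a b = 0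
  let Ur : Subgroup (GL D.Idx F) :=
    { carrier := {g | rais (g : Matrix D.Idx D.Idx F) ∧ rais ((g⁻¹ : GL D.Idx F) : Matrix D.Idx D.Idx F)}
      one_mem' := by simp [rais, Matrix.one_apply]
      mul_mem' := by
        have key : ∀ A B : Matrix D.Idx D.Idx F, rais A → rais B → rais (A * B) := by
          intro A B hA hB a b hab
          rw [Matrix.mul_apply, Finset.sum_eq_single a]
          · rw [hA a a le_rfl, if_pos rfl, one_mul, hB a b hab]
          · intro c _ hc
            by_cases h' : G a ≤ G c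
            · rw [hA a c h', if_neg (Ne.symm hc), zero_mul]
            · rw [hB c b (by omega), if_neg (fun e => h' (by rw [e]; exact hab)), mul_zero]
          · intro hn; exact absurd (Finset.mem_univ _) hn
        rintro g g' ⟨h1, h2⟩ ⟨h3, h4⟩
        exact ⟨by rw [Units.val_mul]; exact key _ _ h1 h3,
          by rw [mul_inv_rev, Units.val_mul]; exact key _ _ h4 h2⟩
      inv_mem' := by rintro g ⟨h1, h2⟩; exact ⟨h2, by rwa [inv_inv]⟩ }
  let Lb : Subgroup (GL D.Idx F) :=
    { carrier := {g | blk (g : Matrix D.Idx D.Idx F) ∧ blk ((g⁻¹ : GL D.Idx F) : Matrix D.Idx D.Idx F)}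
      one_mem' := by
        have : blk (1 : Matrix D.Idx D.Idx F) := fun a b hab =>
          Matrix.one_apply_ne fun e => hab (congrArg G e)
        simpa using this
      mul_mem' := by
        have key : ∀ A B : Matrix D.Idx D.Idx F, blk A → blk B → blk (A * B) := by
          intro A B hA hB a b hab
          rw [Matrix.mul_apply]
          refine Finset.sum_eq_zero fun c _ => ?_
          by_cases h' : G a = G c
          · rw [hB c b (fun e => hab (h'.trans e)), mul_zero]
          · rw [hA a c h', zero_mul]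
        rintro g g' ⟨h1, h2⟩ ⟨h3, h4⟩
        exact ⟨by rw [Units.val_mul]; exact key _ _ h1 h3,
          by rw [mul_inv_rev, Units.val_mul]; exact key _ _ h4 h2⟩
      inv_mem' := by rintro g ⟨h1, h2⟩; exact ⟨h2, by rwa [inv_inv]⟩ }
  have hU : D.unipotentRadical F J ≤ Ur := by
    refine (Subgroup.closure_le _).2 ?_
    rintro g ⟨r, t, hr, hsub, e⟩
    have hpos := (hF.posRoot_iff r hr.1).1 hr
    have hG0 : 0 < G (Sum.inr ⟨r, hr.1⟩ : D.Idx) := by
      simp only [hG, gradeJ, Sum.elim_inr]
      obtain ⟨i, hi, hiJ, hne⟩ : ∃ i, i < D.rank ∧ i ∉ J ∧ coef D r i ≠ 0 := by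
        by_contra hno
        push Not at hno
        exact hsub ⟨hr.1, fun i hi hiJ => hno i hi hiJ⟩
      refine Finset.sum_pos' (fun j hj => ?_) ⟨⟨i, hi⟩, by simp [hiJ],
        (grade_of_chk h hg hi ⟨r, hr.1⟩).2 hne hpos⟩
      by_cases h0 : coef D r j = 0
      · exact ((grade_of_chk h hg j.2 ⟨r, hr.1⟩).1 h0).ge
      · exact ((grade_of_chk h hg j.2 ⟨r, hr.1⟩).2 h0 hpos).le
    have key : ∀ v : F, rais (D.x F r v) := fun v a b hab => by
      by_contra hne
      obtain ⟨k, hk, e'⟩ := entry_grade h mu J hr.1 v hne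
      rw [← hG] at e'
      nlinarith
    rw [show g = xG hF r t from Units.ext e]
    exact ⟨key t, by rw [xG_inv]; exact key (-t)⟩
  have hL : D.leviSubgroup F J ≤ Lb := by
    refine sup_le ?_ ((Subgroup.closure_le _).2 ?_)
    · intro g hgd
      obtain ⟨c, rfl⟩ := (mem_diagonal_iff hF).1 hgd
      have key : ∀ d : Fin D.rank → Fˣ,
          blk ((torusHom d : GL D.Idx F) : Matrix D.Idx D.Idx F) := fun d a b hab => by
        rw [torusHom_apply, if_neg fun e => hab (congrArg G e)]
      exact ⟨key c, by rw [← map_inv]; exact key c⁻¹⟩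
    · rintro g ⟨r, t, hr, e⟩
      have hG0 : G (Sum.inr ⟨r, hr.1⟩ : D.Idx) = 0 := by
        simp only [hG, gradeJ, Sum.elim_inr]
        refine Finset.sum_eq_zero fun i hi => ?_
        rw [Finset.mem_filter] at hi
        exact (grade_of_chk h hg i.2 ⟨r, hr.1⟩).1 (hr.2 i i.2 hi.2)
      have key : ∀ v : F, blk (D.x F r v) := fun v a b hab => by
        by_contra hne
        have hne' : D.x F r v a b ≠ if a = b then 1 else 0 := by
          rwa [if_neg fun e => hab (congrArg G e)]
        obtain ⟨k, -, e'⟩ := entry_grade h mu J hr.1 v hne'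
        rw [← hG, hG0, mul_zero, add_zero] at e'
        exact hab e'
      rw [show g = xG hF r t from Units.ext e]
      exact ⟨key t, by rw [xG_inv]; exact key (-t)⟩
  rw [eq_bot_iff]
  intro g hg'
  obtain ⟨h1, h2⟩ := Subgroup.mem_inf.1 hg'
  rw [Subgroup.mem_bot]
  apply Units.ext
  ext a b
  rw [Units.val_one, Matrix.one_apply]
  by_cases e : G a = G b
  · exact (hU h1).1 a b e.le
  · rw [(hL h2).1 a b e, if_neg fun e' => e (congrArg G e')]

end Cfsg.Agent.Chev
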