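import Cfsg.Agent.Chev.Grading
import Cfsg.Agent.Chev.Parabolic
import Cfsg.Agent.Chev.Check.G2
import Cfsg.Agent.Chev.Check.B2
import Cfsg.Agent.Chev.Check.D4
import Cfsg.Agent.Chev.Check.F4
import Cfsg.Agent.Chev.Check.E6
import Cfsg.Agent.Chev.Check.E7
import Cfsg.Agent.Chev.Check.E8
import Cfsg.Agent.Chev.All

/-! Coweights of the seven tabulated data. -/

set_option autoImplicit false

namespace Cfsg.Agent.Chev

open Cfsg.Lie

universe u

/-- Coweights of `chevG2`. -/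
def g2Mu : List (List ℤ) := [[2, 3], [1, 2]]

theorem g2_grade : chkGrade chevG2 g2Cert g2Mu = true := by decide +kernel

/-- Coweights of `chevB2`. -/
def b2Mu : List (List ℤ) := [[2, 2], [1, 2]]

theorem b2_grade : chkGrade chevB2 b2Cert b2Mu = true := by decide +kernel

/-- Coweights of `chevD4`. -/
def d4Mu : List (List ℤ) := [[2, 2, 1, 1], [2, 4, 2, 2], [1, 2, 2, 1], [1, 2, 1, 2]]

theorem d4_grade : chkGrade chevD4 d4Cert d4Mu = true := by decide +kernel

/-- Coweights of `chevF4`. -/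
def f4Mu : List (List ℤ) := [[2, 3, 4, 2], [3, 6, 8, 4], [2, 4, 6, 3], [1, 2, 3, 2]]

theorem f4_grade : chkGrade chevF4 f4Cert f4Mu = true := by decide +kernel

/-- Coweights of `chevE6`. -/
def e6Mu : List (List ℤ) := [[4, 3, 5, 6, 4, 2], [3, 6, 6, 9, 6, 3], [5, 6, 10, 12, 8, 4], [6, 9, 12, 18, 12, 6], [4, 6, 8, 12, 10, 5], [2, 3, 4, 6, 5, 4]]

theorem e6_grade : chkGrade chevE6 e6Cert e6Mu = true := by decide +kernel

/-- Coweights of `chevE7`. -/
def e7Mu : List (List ℤ) := [[4, 4, 6, 8, 6, 4, 2], [4, 7, 8, 12, 9, 6, 3], [6, 8, 12, 16, 12, 8, 4], [8, 12, 16, 24, 18, 12, 6], [6, 9, 12, 18, 15, 10, 5], [4, 6, 8, 12, 10, 8, 4], [2, 3, 4, 6, 5, 4, 3]]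

theorem e7_grade : chkGrade chevE7 e7Cert e7Mu = true := by decide +kernel

/-- Coweights of `chevE8`. -/
def e8Mu : List (List ℤ) := [[4, 5, 7, 10, 8, 6, 4, 2], [5, 8, 10, 15, 12, 9, 6, 3], [7, 10, 14, 20, 16, 12, 8, 4], [10, 15, 20, 30, 24, 18, 12, 6], [8, 12, 16, 24, 20, 15, 10, 5], [6, 9, 12, 18, 15, 12, 8, 4], [4, 6, 8, 12, 10, 8, 6, 3], [2, 3, 4, 6, 5, 4, 3, 2]]

theorem e8_grade : chkGrade chevE8 e8Cert e8Mu = true := by decide +kernel

theorem radical_inf_levi_of_mem {D : ChevalleyDatum}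
    (hD : D ∈ [chevG2, chevB2, chevD4, chevF4, chevE6, chevE7, chevE8]) (F : Type u) [Field F]
    (J : Set ℕ) : D.unipotentRadical F J ⊓ D.leviSubgroup F J = ⊥ := by
  simp only [List.mem_cons, List.not_mem_nil, or_false] at hD
  rcases hD with rfl | rfl | rfl | rfl | rfl | rfl | rfl
  · exact radical_inf_levi g2_checks facts_chevG2 g2_grade J
  · exact radical_inf_levi b2_checks facts_chevB2 b2_grade J
  · exact radical_inf_levi d4_checks facts_chevD4 d4_grade J
  · exact radical_inf_levi f4_checks facts_chevF4 f4_grade J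
  · exact radical_inf_levi e6_checks facts_chevE6 e6_grade J
  · exact radical_inf_levi e7_checks facts_chevE7 e7_grade J
  · exact radical_inf_levi e8_checks facts_chevE8 e8_grade J

end Cfsg.Agent.Chev
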