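import Cfsg.Agent.Chev.GraphAut
import Cfsg.Agent.Chev.Fast

/-!
Boolean checks for diagram symmetries.
-/

set_option autoImplicit false

namespace Cfsg.Agent.Chev

open Cfsg.Lie

/-- Two lists give mutually inverse maps of `[0, n)`. -/
def chkInv (n : ℕ) (P Q : List ℕ) : Bool :=
  decide (∀ r : Fin n, P.getD r 0 < n ∧ Q.getD (P.getD r 0) 0 = r) &&
  decide (∀ r : Fin n, Q.getD r 0 < n ∧ P.getD (Q.getD r 0) 0 = r)

/-- A permutation given by two lists. -/
def listPerm (n : ℕ) (P Q : List ℕ) (h : chkInv n P Q = true) : Equiv.Perm (Fin n) where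
  toFun r := ⟨P.getD r 0, by
    simp only [chkInv, Bool.and_eq_true, decide_eq_true_eq] at h; exact (h.1 r).1⟩
  invFun r := ⟨Q.getD r 0, by
    simp only [chkInv, Bool.and_eq_true, decide_eq_true_eq] at h; exact (h.2 r).1⟩
  left_inv r := Fin.ext (by
    simp only [chkInv, Bool.and_eq_true, decide_eq_true_eq] at h; exact (h.1 r).2)
  right_inv r := Fin.ext (by
    simp only [chkInv, Bool.and_eq_true, decide_eq_true_eq] at h; exact (h.2 r).2)

theorem listPerm_val {n : ℕ} {P Q : List ℕ} (h : chkInv n P Q = true) (r : Fin n) :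
    (listPerm n P Q h r : ℕ) = P.getD r 0 := rfl

/-- The check of a diagram symmetry `p` with root permutation `P` and signs `E`. -/
def graphChk (D : ChevalleyDatum) (p P : List ℕ) (E : List ℤ) : Bool :=
  ((List.range D.nroots).all fun r =>
    (decide (E.getD r 0 = 1) || decide (E.getD r 0 = -1)) &&
    decide (P.getD (D.neg r) 0 = D.neg (P.getD r 0)) && decide (E.getD (D.neg r) 0 = E.getD r 0) &&
    decide ((half D ≤ P.getD r 0) ↔ half D ≤ r) &&
    ((List.range D.rank).all fun i =>
      decide (P.getD (D.reflectRoot i r) 0 = D.reflectRoot (p.getD i 0) (P.getD r 0)) &&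
      decide (D.cartan (p.getD i 0) (P.getD r 0) = D.cartan i r) &&
      decide ((D.coroot.getD (P.getD r 0) #[]).getD (p.getD i 0) 0 =
        (D.coroot.getD r #[]).getD i 0))) &&
  ((List.range D.rank).all fun i =>
    decide (P.getD (D.simple i) 0 = D.simple (p.getD i 0)) && decide (E.getD (D.simple i) 0 = 1) &&
    [D.simple i, D.neg (D.simple i)].all fun r => (List.range D.nroots).all fun s =>
      Nat.beq s r || Nat.beq s (D.neg r) || ((List.range D.nroots).all fun u =>
        decide (D.chainCoeff (P.getD r 0) (P.getD s 0) (P.getD u 0) =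
          (D.chainCoeff r s u).map fun km => (km.1, E.getD s 0 * E.getD u 0 * km.2))))

theorem graphFacts_of_chk {D : ChevalleyDatum} {p q P Q : List ℕ} {E : List ℤ}
    (hp : chkInv D.rank p q = true) (hP : chkInv D.nroots P Q = true)
    (h : graphChk D p P E = true) :
    GraphFacts D (listPerm D.rank p q hp) (listPerm D.nroots P Q hP) fun r => E.getD r 0 := by
  simp only [graphChk, Bool.and_eq_true, List.all_eq_true, List.mem_range, Bool.or_eq_true,
    decide_eq_true_eq, nbeq_iff] at h
  obtain ⟨h1, h2⟩ := h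
  constructor
  · exact fun r => (h1 r r.2).1.1.1.1
  · intro i r hr
    simp only [listPerm_val, hr]
    exact (h2 i i.2).1
  · intro r s hs
    simp only [listPerm_val, hs]
    exact ⟨(h1 r r.2).1.1.1.2, (h1 r r.2).1.1.2⟩
  · intro r
    simp only [listPerm_val]
    exact (h1 r r.2).1.2
  · intro i r s hs
    simp only [listPerm_val, hs]
    exact ((h1 r r.2).2 i i.2).1.1
  · intro i r
    simp only [listPerm_val]
    exact ((h1 r r.2).2 i i.2).1.2
  · intro i r
    simp only [listPerm_val, coef]
    exact ((h1 r r.2).2 i i.2).2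
  · intro r hr s hs1 hs2 u
    obtain ⟨i, hi, e⟩ := hr
    simp only [listPerm_val]
    have h3 := (h2 i hi).2 r (by simpa using e) s s.2
    exact (h3.resolve_left fun h => h.elim hs1 hs2) u u.2

end Cfsg.Agent.Chev
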