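import Cfsg.Agent.Chev.GraphChk
import Cfsg.Prelude.Def_LieTwisted

/-!
The symmetries of the diagrams of types `D₄` and `E₆`.
-/

set_option autoImplicit false
set_option maxRecDepth 100000
set_option maxHeartbeats 4000000

namespace Cfsg.Agent.Chev

open Cfsg.Lie

/-- Nodes. -/
def d4_012_p : List ℕ := [0, 1, 2, 3]

/-- Nodes, inverse. -/
def d4_012_q : List ℕ := [0, 1, 2, 3]

/-- Roots. -/
def d4_012_P : List ℕ := [0, 1, 2, 3, 4, 5, 6, 7, 8, 9, 10, 11, 12, 13, 14, 15, 16, 17, 18, 19, 20, 21, 22, 23]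

/-- Roots, inverse. -/
def d4_012_Q : List ℕ := [0, 1, 2, 3, 4, 5, 6, 7, 8, 9, 10, 11, 12, 13, 14, 15, 16, 17, 18, 19, 20, 21, 22, 23]

/-- Signs. -/
def d4_012_E : List ℤ := [1, 1, 1, 1, 1, 1, 1, 1, 1, 1, 1, 1, 1, 1, 1, 1, 1, 1, 1, 1, 1, 1, 1, 1]

theorem d4_012_inv : chkInv chevD4.rank d4_012_p d4_012_q = true := by decide +kernel

theorem d4_012_Inv : chkInv chevD4.nroots d4_012_P d4_012_Q = true := by decide +kernel

theorem d4_012_chk : graphChk chevD4 d4_012_p d4_012_P d4_012_E = true := by decide +kernel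

/-- The permutation of the nodes. -/
def d4_012_π : Equiv.Perm (Fin chevD4.rank) := listPerm _ _ _ d4_012_inv

/-- The permutation of the roots. -/
def d4_012_ρ : Equiv.Perm (Fin chevD4.nroots) := listPerm _ _ _ d4_012_Inv

theorem d4_012_facts : GraphFacts chevD4 d4_012_π d4_012_ρ fun r => d4_012_E.getD r 0 :=
  graphFacts_of_chk _ _ d4_012_chk

/-- Nodes. -/
def d4_031_p : List ℕ := [2, 1, 3, 0]

/-- Nodes, inverse. -/
def d4_031_q : List ℕ := [3, 1, 0, 2]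

/-- Roots. -/
def d4_031_P : List ℕ := [0, 1, 6, 2, 7, 10, 3, 8, 4, 9, 11, 5, 18, 12, 14, 19, 15, 20, 13, 16, 21, 17, 22, 23]

/-- Roots, inverse. -/
def d4_031_Q : List ℕ := [0, 1, 3, 6, 8, 11, 2, 4, 7, 9, 5, 10, 13, 18, 14, 16, 19, 21, 12, 15, 17, 20, 22, 23]

/-- Signs. -/
def d4_031_E : List ℤ := [1, 1, -1, 1, -1, 1, -1, 1, -1, 1, 1, 1, 1, 1, 1, -1, 1, -1, 1, -1, 1, -1, 1, 1]

theorem d4_031_inv : chkInv chevD4.rank d4_031_p d4_031_q = true := by decide +kernel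

theorem d4_031_Inv : chkInv chevD4.nroots d4_031_P d4_031_Q = true := by decide +kernel

theorem d4_031_chk : graphChk chevD4 d4_031_p d4_031_P d4_031_E = true := by decide +kernel

/-- The permutation of the nodes. -/
def d4_031_π : Equiv.Perm (Fin chevD4.rank) := listPerm _ _ _ d4_031_inv

/-- The permutation of the roots. -/
def d4_031_ρ : Equiv.Perm (Fin chevD4.nroots) := listPerm _ _ _ d4_031_Inv

theorem d4_031_facts : GraphFacts chevD4 d4_031_π d4_031_ρ fun r => d4_031_E.getD r 0 :=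
  graphFacts_of_chk _ _ d4_031_chk

/-- Nodes. -/
def d4_310_p : List ℕ := [3, 1, 0, 2]

/-- Nodes, inverse. -/
def d4_310_q : List ℕ := [2, 1, 3, 0]

/-- Roots. -/
def d4_310_P : List ℕ := [0, 1, 3, 6, 8, 11, 2, 4, 7, 9, 5, 10, 13, 18, 14, 16, 19, 21, 12, 15, 17, 20, 22, 23]

/-- Roots, inverse. -/
def d4_310_Q : List ℕ := [0, 1, 6, 2, 7, 10, 3, 8, 4, 9, 11, 5, 18, 12, 14, 19, 15, 20, 13, 16, 21, 17, 22, 23]

/-- Signs. -/
def d4_310_E : List ℤ := [1, 1, 1, -1, -1, 1, -1, -1, 1, 1, 1, 1, 1, 1, 1, 1, -1, -1, 1, -1, -1, 1, 1, 1]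

theorem d4_310_inv : chkInv chevD4.rank d4_310_p d4_310_q = true := by decide +kernel

theorem d4_310_Inv : chkInv chevD4.nroots d4_310_P d4_310_Q = true := by decide +kernel

theorem d4_310_chk : graphChk chevD4 d4_310_p d4_310_P d4_310_E = true := by decide +kernel

/-- The permutation of the nodes. -/
def d4_310_π : Equiv.Perm (Fin chevD4.rank) := listPerm _ _ _ d4_310_inv

/-- The permutation of the roots. -/
def d4_310_ρ : Equiv.Perm (Fin chevD4.nroots) := listPerm _ _ _ d4_310_Inv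

theorem d4_310_facts : GraphFacts chevD4 d4_310_π d4_310_ρ fun r => d4_310_E.getD r 0 :=
  graphFacts_of_chk _ _ d4_310_chk

/-- Nodes. -/
def d4_213_p : List ℕ := [2, 1, 0, 3]

/-- Nodes, inverse. -/
def d4_213_q : List ℕ := [2, 1, 0, 3]

/-- Roots. -/
def d4_213_P : List ℕ := [0, 1, 2, 6, 7, 10, 3, 4, 8, 9, 5, 11, 12, 18, 14, 15, 19, 20, 13, 16, 17, 21, 22, 23]

/-- Roots, inverse. -/
def d4_213_Q : List ℕ := [0, 1, 2, 6, 7, 10, 3, 4, 8, 9, 5, 11, 12, 18, 14, 15, 19, 20, 13, 16, 17, 21, 22, 23]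

/-- Signs. -/
def d4_213_E : List ℤ := [1, 1, 1, -1, -1, 1, -1, -1, 1, 1, 1, 1, 1, 1, 1, 1, -1, -1, 1, -1, -1, 1, 1, 1]

theorem d4_213_inv : chkInv chevD4.rank d4_213_p d4_213_q = true := by decide +kernel

theorem d4_213_Inv : chkInv chevD4.nroots d4_213_P d4_213_Q = true := by decide +kernel

theorem d4_213_chk : graphChk chevD4 d4_213_p d4_213_P d4_213_E = true := by decide +kernel

/-- The permutation of the nodes. -/
def d4_213_π : Equiv.Perm (Fin chevD4.rank) := listPerm _ _ _ d4_213_inv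

/-- The permutation of the roots. -/
def d4_213_ρ : Equiv.Perm (Fin chevD4.nroots) := listPerm _ _ _ d4_213_Inv

theorem d4_213_facts : GraphFacts chevD4 d4_213_π d4_213_ρ fun r => d4_213_E.getD r 0 :=
  graphFacts_of_chk _ _ d4_213_chk

/-- Nodes. -/
def d4_032_p : List ℕ := [0, 1, 3, 2]

/-- Nodes, inverse. -/
def d4_032_q : List ℕ := [0, 1, 3, 2]

/-- Roots. -/
def d4_032_P : List ℕ := [0, 1, 3, 2, 4, 5, 6, 8, 7, 9, 11, 10, 13, 12, 14, 16, 15, 17, 18, 19, 21, 20, 22, 23]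

/-- Roots, inverse. -/
def d4_032_Q : List ℕ := [0, 1, 3, 2, 4, 5, 6, 8, 7, 9, 11, 10, 13, 12, 14, 16, 15, 17, 18, 19, 21, 20, 22, 23]

/-- Signs. -/
def d4_032_E : List ℤ := [1, 1, 1, 1, 1, 1, 1, 1, 1, 1, 1, 1, 1, 1, 1, 1, 1, 1, 1, 1, 1, 1, 1, 1]

theorem d4_032_inv : chkInv chevD4.rank d4_032_p d4_032_q = true := by decide +kernel

theorem d4_032_Inv : chkInv chevD4.nroots d4_032_P d4_032_Q = true := by decide +kernel

theorem d4_032_chk : graphChk chevD4 d4_032_p d4_032_P d4_032_E = true := by decide +kernel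

/-- The permutation of the nodes. -/
def d4_032_π : Equiv.Perm (Fin chevD4.rank) := listPerm _ _ _ d4_032_inv

/-- The permutation of the roots. -/
def d4_032_ρ : Equiv.Perm (Fin chevD4.nroots) := listPerm _ _ _ d4_032_Inv

theorem d4_032_facts : GraphFacts chevD4 d4_032_π d4_032_ρ fun r => d4_032_E.getD r 0 :=
  graphFacts_of_chk _ _ d4_032_chk

/-- Nodes. -/
def d4_312_p : List ℕ := [3, 1, 2, 0]

/-- Nodes, inverse. -/
def d4_312_q : List ℕ := [3, 1, 2, 0]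

/-- Roots. -/
def d4_312_P : List ℕ := [0, 1, 6, 3, 8, 11, 2, 7, 4, 9, 10, 5, 18, 13, 14, 19, 16, 21, 12, 15, 20, 17, 22, 23]

/-- Roots, inverse. -/
def d4_312_Q : List ℕ := [0, 1, 6, 3, 8, 11, 2, 7, 4, 9, 10, 5, 18, 13, 14, 19, 16, 21, 12, 15, 20, 17, 22, 23]

/-- Signs. -/
def d4_312_E : List ℤ := [1, 1, -1, 1, -1, 1, -1, 1, -1, 1, 1, 1, 1, 1, 1, -1, 1, -1, 1, -1, 1, -1, 1, 1]

theorem d4_312_inv : chkInv chevD4.rank d4_312_p d4_312_q = true := by decide +kernel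

theorem d4_312_Inv : chkInv chevD4.nroots d4_312_P d4_312_Q = true := by decide +kernel

theorem d4_312_chk : graphChk chevD4 d4_312_p d4_312_P d4_312_E = true := by decide +kernel

/-- The permutation of the nodes. -/
def d4_312_π : Equiv.Perm (Fin chevD4.rank) := listPerm _ _ _ d4_312_inv

/-- The permutation of the roots. -/
def d4_312_ρ : Equiv.Perm (Fin chevD4.nroots) := listPerm _ _ _ d4_312_Inv

theorem d4_312_facts : GraphFacts chevD4 d4_312_π d4_312_ρ fun r => d4_312_E.getD r 0 :=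
  graphFacts_of_chk _ _ d4_312_chk

/-- Nodes. -/
def e6_id_p : List ℕ := [0, 1, 2, 3, 4, 5]

/-- Nodes, inverse. -/
def e6_id_q : List ℕ := [0, 1, 2, 3, 4, 5]

/-- Roots. -/
def e6_id_P : List ℕ := [0, 1, 2, 3, 4, 5, 6, 7, 8, 9, 10, 11, 12, 13, 14, 15, 16, 17, 18, 19, 20, 21, 22, 23, 24, 25, 26, 27, 28, 29, 30, 31, 32, 33, 34, 35, 36, 37, 38, 39, 40, 41, 42, 43, 44, 45, 46, 47, 48, 49, 50, 51, 52, 53, 54, 55, 56, 57, 58, 59, 60, 61, 62, 63, 64, 65, 66, 67, 68, 69, 70, 71]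

/-- Roots, inverse. -/
def e6_id_Q : List ℕ := [0, 1, 2, 3, 4, 5, 6, 7, 8, 9, 10, 11, 12, 13, 14, 15, 16, 17, 18, 19, 20, 21, 22, 23, 24, 25, 26, 27, 28, 29, 30, 31, 32, 33, 34, 35, 36, 37, 38, 39, 40, 41, 42, 43, 44, 45, 46, 47, 48, 49, 50, 51, 52, 53, 54, 55, 56, 57, 58, 59, 60, 61, 62, 63, 64, 65, 66, 67, 68, 69, 70, 71]

/-- Signs. -/
def e6_id_E : List ℤ := [1, 1, 1, 1, 1, 1, 1, 1, 1, 1, 1, 1, 1, 1, 1, 1, 1, 1, 1, 1, 1, 1, 1, 1, 1, 1, 1, 1, 1, 1, 1, 1, 1, 1, 1, 1, 1, 1, 1, 1, 1, 1, 1, 1, 1, 1, 1, 1, 1, 1, 1, 1, 1, 1, 1, 1, 1, 1, 1, 1, 1, 1, 1, 1, 1, 1, 1, 1, 1, 1, 1, 1]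

theorem e6_id_inv : chkInv chevE6.rank e6_id_p e6_id_q = true := by decide +kernel

theorem e6_id_Inv : chkInv chevE6.nroots e6_id_P e6_id_Q = true := by decide +kernel

theorem e6_id_chk : graphChk chevE6 e6_id_p e6_id_P e6_id_E = true := by decide +kernel

/-- The permutation of the nodes. -/
def e6_id_π : Equiv.Perm (Fin chevE6.rank) := listPerm _ _ _ e6_id_inv

/-- The permutation of the roots. -/
def e6_id_ρ : Equiv.Perm (Fin chevE6.nroots) := listPerm _ _ _ e6_id_Inv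

theorem e6_id_facts : GraphFacts chevE6 e6_id_π e6_id_ρ fun r => e6_id_E.getD r 0 :=
  graphFacts_of_chk _ _ e6_id_chk

/-- Nodes. -/
def e6_flip_p : List ℕ := [5, 1, 4, 3, 2, 0]

/-- Nodes, inverse. -/
def e6_flip_q : List ℕ := [5, 1, 4, 3, 2, 0]

/-- Roots. -/
def e6_flip_P : List ℕ := [0, 1, 2, 5, 16, 3, 6, 17, 8, 19, 22, 11, 26, 30, 33, 35, 4, 7, 18, 9, 20, 23, 10, 21, 24, 25, 12, 27, 31, 34, 13, 28, 32, 14, 29, 15, 56, 42, 57, 39, 43, 58, 37, 40, 44, 59, 46, 47, 50, 61, 48, 51, 62, 53, 64, 67, 36, 38, 41, 45, 60, 49, 52, 63, 54, 65, 68, 55, 66, 69, 70, 71]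

/-- Roots, inverse. -/
def e6_flip_Q : List ℕ := [0, 1, 2, 5, 16, 3, 6, 17, 8, 19, 22, 11, 26, 30, 33, 35, 4, 7, 18, 9, 20, 23, 10, 21, 24, 25, 12, 27, 31, 34, 13, 28, 32, 14, 29, 15, 56, 42, 57, 39, 43, 58, 37, 40, 44, 59, 46, 47, 50, 61, 48, 51, 62, 53, 64, 67, 36, 38, 41, 45, 60, 49, 52, 63, 54, 65, 68, 55, 66, 69, 70, 71]

/-- Signs. -/
def e6_flip_E : List ℤ := [1, 1, 1, 1, -1, 1, 1, -1, 1, -1, -1, 1, -1, 1, -1, 1, -1, -1, 1, -1, 1, 1, -1, 1, 1, 1, -1, 1, -1, 1, 1, -1, 1, -1, 1, 1, 1, 1, -1, 1, -1, 1, 1, -1, 1, -1, 1, 1, 1, -1, 1, 1, -1, 1, -1, -1, 1, -1, 1, -1, 1, -1, -1, 1, -1, 1, 1, -1, 1, 1, 1, 1]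

theorem e6_flip_inv : chkInv chevE6.rank e6_flip_p e6_flip_q = true := by decide +kernel

theorem e6_flip_Inv : chkInv chevE6.nroots e6_flip_P e6_flip_Q = true := by decide +kernel

theorem e6_flip_chk : graphChk chevE6 e6_flip_p e6_flip_P e6_flip_E = true := by decide +kernel

/-- The permutation of the nodes. -/
def e6_flip_π : Equiv.Perm (Fin chevE6.rank) := listPerm _ _ _ e6_flip_inv

/-- The permutation of the roots. -/
def e6_flip_ρ : Equiv.Perm (Fin chevE6.nroots) := listPerm _ _ _ e6_flip_Inv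

theorem e6_flip_facts : GraphFacts chevE6 e6_flip_π e6_flip_ρ fun r => e6_flip_E.getD r 0 :=
  graphFacts_of_chk _ _ e6_flip_chk

end Cfsg.Agent.Chev
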