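import Cfsg.Agent.Chev.GraphSymm

/-!
The permutation of roots attached to a symmetry.
-/

set_option autoImplicit false
set_option maxRecDepth 100000

namespace Cfsg.Agent.Chev

open Cfsg.Lie

theorem d4_012_perm : ∀ r : Fin chevD4.nroots, chevD4.permRoot d4_012_π r = (d4_012_ρ r : ℕ) := by
  decide +kernel

theorem d4_031_perm : ∀ r : Fin chevD4.nroots, chevD4.permRoot d4_031_π r = (d4_031_ρ r : ℕ) := by
  decide +kernel

theorem d4_310_perm : ∀ r : Fin chevD4.nroots, chevD4.permRoot d4_310_π r = (d4_310_ρ r : ℕ) := by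
  decide +kernel

theorem d4_213_perm : ∀ r : Fin chevD4.nroots, chevD4.permRoot d4_213_π r = (d4_213_ρ r : ℕ) := by
  decide +kernel

theorem d4_032_perm : ∀ r : Fin chevD4.nroots, chevD4.permRoot d4_032_π r = (d4_032_ρ r : ℕ) := by
  decide +kernel

theorem d4_312_perm : ∀ r : Fin chevD4.nroots, chevD4.permRoot d4_312_π r = (d4_312_ρ r : ℕ) := by
  decide +kernel

theorem e6_id_perm : ∀ r : Fin chevE6.nroots, chevE6.permRoot e6_id_π r = (e6_id_ρ r : ℕ) := by
  decide +kernel

theorem e6_flip_perm : ∀ r : Fin chevE6.nroots, chevE6.permRoot e6_flip_π r = (e6_flip_ρ r : ℕ) := by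
  decide +kernel

end Cfsg.Agent.Chev
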