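import Cfsg.Agent.Chev.InvolTorus
import Cfsg.Agent.Chev.Orbits
import Cfsg.Agent.Chev.Lift

/-!
In odd characteristic, when the torus parameters are faithful, every involution of a Chevalley
group is conjugate to a diagonal one: induction on the length of the Weyl group component.
-/

set_option autoImplicit false
set_option maxHeartbeats 1000000

namespace Cfsg.Agent.Chev

open Cfsg.Lie
open scoped MatrixGroups

universe u

namespace InvolClass

open InvolTorus

variable (D : ChevalleyDatum)

/-- The root subgroups of two indices and of their negatives commute. -/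
def OrthPair (i j : ℕ) : Prop :=
  D.cartan j (D.simple i) = 0 ∧ D.reflectRoot j (D.simple i) = D.simple i ∧
    ∀ a ∈ [D.simple i, D.neg (D.simple i)], ∀ b ∈ [D.simple j, D.neg (D.simple j)],
      b ≠ a ∧ b ≠ D.neg a ∧ D.commTerms a b = []

/-- Two fundamental roots are orthogonal or have an odd Cartan integer. -/
def Adjacent : Prop :=
  ∀ i j : Fin D.rank, i ≠ j →
    OrthPair D i j ∨ Odd (D.cartan i (D.simple j)) ∨ Odd (D.cartan j (D.simple i))

variable {D} {F : Type u} [Field F] (hF : Facts.{u} D)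
include hF

theorem exists_kappa {n : GL D.Idx F} {π : Equiv.Perm (Fin D.nroots)} (hn : IsMon hF n π)
    (i : Fin D.rank) (hπ : π (sRoot hF i) = negF hF (sRoot hF i)) :
    ∃ κ : Fˣ, ∀ s : F, n * xG hF (D.simple i) s * n⁻¹ =
      xG hF (D.neg (D.simple i)) ((κ : F) * s) := by
  obtain ⟨c, hc, h⟩ := hn (sRoot hF i)
  refine ⟨Units.mk0 c hc, fun s => ?_⟩
  have e := h s
  rw [hπ] at e
  change n * xG hF (D.simple i) s = xG hF (D.neg (D.simple i)) (c * s) * n at e
  rw [e, mul_inv_cancel_right]
  rfl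

theorem commute_xG {i j : Fin D.rank} (h : OrthPair D i j) {a b : ℕ}
    (ha : a ∈ [D.simple i, D.neg (D.simple i)]) (hb : b ∈ [D.simple j, D.neg (D.simple j)])
    (s t : F) : Commute (xG hF a s) (xG hF b t) := by
  have hlt : ∀ {k : Fin D.rank} {x : ℕ}, x ∈ [D.simple k, D.neg (D.simple k)] → x < D.nroots := by
    intro k x hx
    simp only [List.mem_cons, List.not_mem_nil, or_false] at hx
    rcases hx with rfl | rfl
    · exact hF.simple_lt k k.2
    · exact neg_lt hF (hF.simple_lt k k.2)
  obtain ⟨h1, h2, h3⟩ := h.2.2 a ha b hb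
  have := xG_comm hF (hlt ha) (hlt hb) h1 h2 s t
  rw [ChevalleyDatum.commWord, h3, List.map_nil, wordG, List.map_nil, List.prod_nil,
    mul_one] at this
  exact this.symm

theorem commute_nS {i j : Fin D.rank} (h : OrthPair D i j) {a : ℕ}
    (ha : a ∈ [D.simple i, D.neg (D.simple i)]) (s : F) :
    Commute (xG hF a s) (nS hF (j : ℕ)) := by
  rw [nS, nG]
  exact ((commute_xG hF h ha (by simp) _ _).mul_right (commute_xG hF h ha (by simp) _ _)).mul_right
    (commute_xG hF h ha (by simp) _ _)

theorem commute_nS_nS {i j : Fin D.rank} (h : OrthPair D i j) :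
    Commute (nS hF (i : ℕ) : GL D.Idx F) (nS hF (j : ℕ)) := by
  rw [nS, nG]
  exact ((commute_nS hF h (by simp) _).mul_left (commute_nS hF h (by simp) _)).mul_left
    (commute_nS hF h (by simp) _)

/-- The square of the product of mutually orthogonal representatives, and its action on the
torus and on an orthogonal root. -/
theorem orth_word (i : Fin D.rank) : ∀ (L : List (Fin D.rank)), L.Nodup → i ∉ L →
    (∀ j ∈ L, ∀ k ∈ i :: L, j ≠ k → OrthPair D k j) →
    (Commute (nS hF (i : ℕ) : GL D.Idx F) (nWord hF L)) ∧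
    (∀ s, Commute (xG hF (D.simple i) s) (nWord hF L : GL D.Idx F)) ∧
    (∃ d : Fin D.rank → Fˣ, (nWord hF L * nWord hF L : GL D.Idx F) = torusHom d ∧ d i = 1) ∧
    ∀ c : Fin D.rank → Fˣ, ∃ c' : Fin D.rank → Fˣ,
      (nWord hF L * torusHom c : GL D.Idx F) = torusHom c' * nWord hF L ∧ c' i = c i ∧
        chiU c' (D.simple i) = chiU c (D.simple i)
  | [], _, _, _ => ⟨Commute.one_right _, fun _ => Commute.one_right _,
      ⟨1, by simp [nWord], rfl⟩, fun c => ⟨c, by simp [nWord], rfl, rfl⟩⟩
  | j :: L, hnd, hi, horth => by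
    rw [List.nodup_cons] at hnd
    have hij : i ≠ j := fun e => hi (e ▸ List.mem_cons_self ..)
    have hi' : i ∉ L := fun e => hi (List.mem_cons_of_mem _ e)
    have hsub : ∀ k ∈ i :: L, k ∈ i :: j :: L := fun k hk => by
      rcases List.mem_cons.1 hk with rfl | hk
      · simp
      · simp [hk]
    obtain ⟨h1, h2, ⟨d, hd, hdi⟩, h4⟩ := orth_word i L hnd.2 hi'
      fun a ha k hk hne => horth a (List.mem_cons_of_mem _ ha) k (hsub k hk) hne
    have hpair : OrthPair D i j := horth j (by simp) i (by simp) hij.symm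
    have hjL : Commute (nS hF (j : ℕ) : GL D.Idx F) (nWord hF L) := by
      refine Commute.list_prod_right _ _ fun g hg => ?_
      obtain ⟨k, hk, rfl⟩ := List.mem_map.1 hg
      exact commute_nS_nS hF (horth k (List.mem_cons_of_mem _ hk) j (by simp)
        fun e => hnd.1 (e ▸ hk))
    rw [nWord_cons]
    refine ⟨(commute_nS_nS hF hpair).mul_right h1,
      fun s => (commute_nS hF hpair (by simp) s).mul_right (h2 s), ?_, fun c => ?_⟩
    · refine ⟨(coH (D.simple j) (-1 : Fˣ))⁻¹ * d, ?_, ?_⟩
      · rw [map_mul, map_inv, ← hd, mul_assoc, ← mul_assoc (nWord hF L), ← hjL.eq,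
          mul_assoc (nS hF (j : ℕ)), ← mul_assoc (nS hF (j : ℕ))]
        congr 1
        obtain ⟨e, he⟩ : ∃ e : GL D.Idx F, e = torusHom (coH (D.simple j) (-1 : Fˣ)) := ⟨_, rfl⟩
        have hinv : (nS hF (j : ℕ) : GL D.Idx F)⁻¹ = nS hF (j : ℕ) * e := by
          rw [he, ← hG_eq_torus hF (hF.simple_lt j j.2), hG, nS, nG_inv]
          simp only [Units.val_neg, Units.val_one]
          rw [← mul_assoc, ← nG_inv hF (D.simple j) (1 : F), mul_inv_cancel, one_mul]
        rw [← he, eq_inv_iff_mul_eq_one, mul_assoc, ← hinv, mul_inv_cancel]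
      · rw [Pi.mul_apply, Pi.inv_apply, hdi, coH_simple hF j.2, Pi.mulSingle_eq_of_ne hij,
          inv_one, one_mul]
    · obtain ⟨c', hc', hci, hχ⟩ := h4 c
      refine ⟨c' * Pi.mulSingle j (chiU c' (D.simple j))⁻¹, ?_, ?_, ?_⟩
      · rw [mul_assoc, hc', ← mul_assoc, nS_conj_torus hF j.2, mul_assoc]
      · rw [Pi.mul_apply, Pi.mulSingle_eq_of_ne hij, mul_one, hci]
      · have hm : chiU (c' * Pi.mulSingle j (chiU c' (D.simple j))⁻¹) (D.simple i) =
            chiU c' (D.simple i) * chiU (Pi.mulSingle j (chiU c' (D.simple j))⁻¹) (D.simple i) := by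
          simp [chiU, mul_zpow, Finset.prod_mul_distrib]
        rw [hm, chiU_mulSingle j.2, hpair.1, zpow_zero, mul_one, hχ]

/-- An involution acting as a product of mutually orthogonal fundamental reflections has square
scalars. -/
theorem orth_square (hinj : Function.Injective (torusHom : (Fin D.rank → Fˣ) →* GL D.Idx F))
    {n : GL D.Idx F} (hn : n ∈ D.monomialSubgroup F) (hn2 : n * n = 1) {i : Fin D.rank}
    {L : List (Fin D.rank)} (hnd : L.Nodup) (hi : i ∉ L)
    (horth : ∀ j ∈ L, ∀ k ∈ i :: L, j ≠ k → OrthPair D k j)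
    (hπ : IsMon hF n (pWord hF (i :: L))) {κ : Fˣ}
    (hκ : ∀ s : F, n * xG hF (D.simple i) s * n⁻¹ = xG hF (D.neg (D.simple i)) ((κ : F) * s)) :
    IsSquare (κ : F) := by
  obtain ⟨h1, h2, ⟨d, hd, hdi⟩, h4⟩ := orth_word hF i L hnd hi horth (F := F)
  set R : GL D.Idx F := nWord hF L with hR
  set a : GL D.Idx F := nS hF (i : ℕ) with ha
  have hq : n * (a * R)⁻¹ ∈ D.diagonalSubgroup F := by
    refine mem_diagonal_of_isMon_one hF
      (Subgroup.mul_mem _ hn (Subgroup.inv_mem _ (nWord_mem hF (i :: L)))) ?_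
    have hm := isMon_monPerm hF (Subgroup.inv_mem _ (nWord_mem hF (i :: L) (F := F)))
    have := isMon_mul hF hπ hm
    rw [ha, hR, ← nWord_cons]
    convert this using 1
    have h := map_inv (monHom hF (F := F))
      (⟨_, nWord_mem hF (i :: L)⟩ : ↥(D.monomialSubgroup F))
    change monPerm hF (nWord hF (i :: L))⁻¹ = (monPerm hF (nWord hF (i :: L)))⁻¹ at h
    rw [h, monPerm_eq hF (isMon_nWord hF (i :: L)), mul_inv_cancel]
  obtain ⟨c, hc⟩ := (mem_diagonal_iff hF).1 hq
  rw [eq_mul_inv_iff_mul_eq] at hc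
  have hklt := hF.simple_lt i i.2
  -- the scalar
  have hk1 : (κ : F) = -((chiU c (D.simple i) : F))⁻¹ := by
    have e := hκ 1
    rw [← hc, show torusHom c * (a * R) * xG hF (D.simple i) 1 * (torusHom c * (a * R))⁻¹ =
        torusHom c * (a * (R * xG hF (D.simple i) 1 * R⁻¹) * a⁻¹) * (torusHom c)⁻¹ by group,
      ← (h2 1).eq, mul_inv_cancel_right, ha, nS_conj_x hF i.2 hklt, mul_inv_cancel_right,
      hF.refl_simple i i.2, torusHom_conj hF c (neg_lt hF hklt), mul_inv_cancel_right,
      (etaN_spec hF i.2).2.1, chiU_neg hF c hklt, Units.val_inv_eq_inv_val] at e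
    have e2 := xG_inj hF (neg_lt hF hklt) e
    rw [mul_one, mul_one] at e2
    rw [← e2]
    simp
  -- the square
  obtain ⟨c', hc', hci, hχ⟩ := h4 c
  obtain ⟨e', he'⟩ : ∃ e : GL D.Idx F, e = torusHom (coH (D.simple i) (-1 : Fˣ)) := ⟨_, rfl⟩
  have haa : a * a = (torusHom (coH (D.simple i) (-1 : Fˣ)) : GL D.Idx F)⁻¹ := by
    have hinv : a⁻¹ = a * torusHom (coH (D.simple i) (-1 : Fˣ)) := by
      rw [ha, ← hG_eq_torus hF hklt, hG, nS, nG_inv]
      simp only [Units.val_neg, Units.val_one]
      rw [← mul_assoc, ← nG_inv hF (D.simple i) (1 : F), mul_inv_cancel, one_mul]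
    rw [eq_inv_iff_mul_eq_one, mul_assoc, ← hinv, mul_inv_cancel]
  set c'' := c' * Pi.mulSingle i (chiU c' (D.simple i))⁻¹ with hc''
  have hnn : torusHom (c * c'' * (coH (D.simple i) (-1 : Fˣ))⁻¹ * d) = (1 : GL D.Idx F) := by
    rw [← hn2, ← hc, map_mul, map_mul, map_mul, map_inv, ← haa, ← hd]
    have e1 : a * torusHom c' = torusHom c'' * a := by rw [ha, nS_conj_torus hF i.2, hc'']
    calc torusHom c * torusHom c'' * (a * a) * (R * R)
        = torusHom c * (torusHom c'' * a) * (a * R) * R := by group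
      _ = torusHom c * (a * torusHom c') * (R * a) * R := by rw [← e1, h1.eq]
      _ = torusHom c * a * (torusHom c' * R) * a * R := by group
      _ = torusHom c * a * (R * torusHom c) * a * R := by rw [hc']
      _ = torusHom c * (a * R) * (torusHom c * (a * R)) := by group
  have h := congrFun (hinj (hnn.trans (map_one _).symm)) i
  simp only [hc'', Pi.mul_apply, Pi.inv_apply, coH_simple hF i.2, Pi.mulSingle_eq_same, hdi,
    mul_one, hci, hχ, Pi.one_apply] at h
  have h' := congrArg Units.val h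
  simp only [Units.val_mul, Units.val_inv_eq_inv_val, Units.val_neg, Units.val_one] at h'
  refine ⟨((c i : Fˣ) : F)⁻¹, ?_⟩
  rw [hk1]
  have hci0 : ((c i : Fˣ) : F) ≠ 0 := Units.ne_zero _
  field_simp at h' ⊢
  linear_combination h'

variable [Fintype F]

/-- Every involution is conjugate to a diagonal element. -/
theorem exists_torus (hinj : Function.Injective (torusHom : (Fin D.rank → Fˣ) →* GL D.Idx F))
    (hadj : Adjacent D) (hodd : Odd (Fintype.card F)) {g : GL D.Idx F} (hg : g ∈ D.group F)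
    (hsq : g * g = 1) : ∃ c, Cj g (torusHom c : GL D.Idx F) := by
  classical
  suffices H : ∀ (N : ℕ) (w : List (Fin D.rank)) (n : GL D.Idx F), w.length = N →
      n ∈ D.monomialSubgroup F → IsMon hF n (pWord hF w) → n * n = 1 →
      ∃ c, Cj n (torusHom c : GL D.Idx F) by
    obtain ⟨b, hb, w, x, hx, e⟩ := exists_normalForm hF hg
    obtain ⟨n, hnm, hπ, hn2, hcj⟩ := cell hF hodd (nWord_mem hF w) (isMon_nWord hF w) hb
      (uMinus_le_borel hF _ hx) e hsq
    obtain ⟨c, hc⟩ := H _ w n rfl hnm hπ hn2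
    exact ⟨c, hcj.trans hc⟩
  intro N
  induction N using Nat.strong_induction_on with
  | _ N ih =>
    intro w n hN hnm hmon hn2
    set π := pWord hF w with hπdef
    have hππ : π * π = 1 := by
      have h := isMon_mul hF hmon hmon
      rw [hn2] at h
      exact isMon_unique hF h (isMon_one hF)
    have hπinv : π⁻¹ = π := inv_eq_of_mul_eq_one_right hππ
    have huniv : ∀ (v : List (Fin D.rank)), ∀ i ∈ v, i ∈ (Finset.univ : Finset (Fin D.rank)) :=
      fun _ i _ => Finset.mem_univ i
    by_cases hpos : ∀ i, half D ≤ (π (sRoot hF i) : ℕ)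
    · rw [hπdef] at hpos
      obtain ⟨c, hc⟩ := (mem_diagonal_iff hF).1 (mem_diagonal_of_isMon_one hF hnm
        (by rwa [← pWord_eq_one_of_pos hF w hpos]))
      exact ⟨c, hc ▸ Cj.refl n⟩
    by_cases hA : ∃ i, (π (sRoot hF i) : ℕ) < half D ∧
        π (sRoot hF i) ≠ negF hF (sRoot hF i)
    · -- conjugate by a reflection
      obtain ⟨i, hi, hne⟩ := hA
      obtain ⟨-, v, -, hlen, hv⟩ := shorten hF (huniv w) hi
      have hv' : pWord hF v.reverse = wPerm hF i * π := by
        rw [pWord_reverse, ← hv, mul_inv_rev, wPerm_inv, hπinv]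
      have hneg : (pWord hF v.reverse (sRoot hF i) : ℕ) < half D := by
        rw [hv', Equiv.Perm.mul_apply]
        by_contra hh
        have hp : half D ≤ (negF hF (π (sRoot hF i)) : ℕ) := (pos_negF_iff hF _).2 hi
        have hne' : (negF hF (π (sRoot hF i)) : ℕ) ≠ D.simple i := fun e => hne (by
          rw [show sRoot hF i = negF hF (π (sRoot hF i)) from Fin.ext e.symm, negF_negF,
            ← show sRoot hF i = negF hF (π (sRoot hF i)) from Fin.ext e.symm])
        have h2 := hF.refl_pos i i.2 _ (negF hF (π (sRoot hF i))).2 hp hne'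
        rw [← wPerm_val hF, wPerm_negF, pos_negF_iff] at h2
        omega
      obtain ⟨-, v', -, hlen', hv''⟩ := shorten hF (huniv v.reverse) hneg
      rw [hv'] at hv''
      set a : GL D.Idx F := nS hF (i : ℕ) with ha
      have hcj : Cj n (a * n * a⁻¹) := ⟨a, nG_mem_group hF _ _, rfl⟩
      have hm := isMon_mul hF (isMon_mul hF (isMon_nS hF i (F := F)) hmon)
        (isMon_monPerm hF (Subgroup.inv_mem _ (nS_mem hF i (F := F))))
      have hainv : monPerm hF (nS hF (i : ℕ) : GL D.Idx F)⁻¹ = wPerm hF i := by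
        have h := map_inv (monHom hF (F := F)) (⟨_, nS_mem hF i⟩ : ↥(D.monomialSubgroup F))
        change monPerm hF (nS hF (i : ℕ))⁻¹ = (monPerm hF (nS hF (i : ℕ)))⁻¹ at h
        rw [h, monPerm_eq hF (isMon_nS hF i), wPerm_inv]
      rw [hainv, hv''] at hm
      obtain ⟨c, hc⟩ := ih v'.length (by rw [← hN]; simp at hlen'; omega) v' _ rfl
        (Subgroup.mul_mem _ (Subgroup.mul_mem _ (nS_mem hF i) hnm)
          (Subgroup.inv_mem _ (nS_mem hF i))) hm (hcj.sq hn2)
      exact ⟨c, hcj.trans hc⟩
    -- every inverted fundamental root goes to its negative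
    push Not at hA
    have hneg : ∀ i, (π (sRoot hF i) : ℕ) < half D → π (sRoot hF i) = negF hF (sRoot hF i) := hA
    have drop : ∀ (i : Fin D.rank) (n₁ : GL D.Idx F) (κ : Fˣ),
        (π (sRoot hF i) : ℕ) < half D → n₁ ∈ D.monomialSubgroup F → IsMon hF n₁ π → n₁ * n₁ = 1 →
        (∀ s : F, n₁ * xG hF (D.simple i) s * n₁⁻¹ =
          xG hF (D.neg (D.simple i)) ((κ : F) * s)) → IsSquare (κ : F) →
        ∃ c, Cj n₁ (torusHom c : GL D.Idx F) := by
      intro i n₁ κ hi h1 h2 h3 h4 h5
      obtain ⟨n', hn'm, hn'π, hn'2, hcj⟩ := step_square hF hodd i h1 h2 h3 h4 h5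
      obtain ⟨-, v, -, hlen, hv⟩ := shorten hF (huniv w) hi
      have hv' : pWord hF v.reverse = wPerm hF i * π := by
        rw [pWord_reverse, ← hv, mul_inv_rev, wPerm_inv, hπinv]
      obtain ⟨c, hc⟩ := ih v.reverse.length (by rw [← hN]; simpa using hlen) v.reverse n' rfl hn'm
        (hv'.symm ▸ hn'π) hn'2
      exact ⟨c, hcj.trans hc⟩
    by_cases hsqr : ∃ i, (π (sRoot hF i) : ℕ) < half D ∧ ∃ κ : Fˣ,
        (∀ s : F, n * xG hF (D.simple i) s * n⁻¹ = xG hF (D.neg (D.simple i)) ((κ : F) * s)) ∧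
          IsSquare (κ : F)
    · obtain ⟨i, hi, κ, hκ, hs⟩ := hsqr
      exact drop i n κ hi hnm hmon hn2 hκ hs
    push Not at hsqr
    by_cases hflip : ∃ i j, (π (sRoot hF i) : ℕ) < half D ∧ (π (sRoot hF j) : ℕ) < half D ∧
        i ≠ j ∧ Odd (D.cartan j (D.simple i))
    · obtain ⟨i, j, hi, hj, hij, hoddC⟩ := hflip
      obtain ⟨κi, hκi⟩ := exists_kappa hF hmon i (hneg i hi)
      obtain ⟨κj, hκj⟩ := exists_kappa hF hmon j (hneg j hj)
      have hchar : ringChar F ≠ 2 := fun h => by
        have := FiniteField.even_card_iff_char_two.1 h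
        rw [Nat.odd_iff] at hodd
        omega
      obtain ⟨ν, hν⟩ := FiniteField.exists_nonsquare hchar
      have hν0 : ν ≠ 0 := fun e => hν (e ▸ IsSquare.zero)
      set νu : Fˣ := Units.mk0 ν hν0 with hνu
      have hcj := step_flip hF hodd j hn2 hκj νu
      set t : GL D.Idx F := torusHom (coH (D.simple j) νu) with ht
      have hklt := hF.simple_lt i i.2
      set χ : Fˣ := νu ^ (-D.cartan j (D.simple i)) with hχ
      have htmon : IsMon hF (t * n) π := by
        have := isMon_mul hF (isMon_torus hF (coH (D.simple j) νu)) hmon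
        rwa [one_mul] at this
      have hκ' : ∀ s : F, t * n * xG hF (D.simple i) s * (t * n)⁻¹ =
          xG hF (D.neg (D.simple i)) (((χ * κi : Fˣ) : F) * s) := fun s => by
        rw [show t * n * xG hF (D.simple i) s * (t * n)⁻¹ =
          t * (n * xG hF (D.simple i) s * n⁻¹) * t⁻¹ by group, hκi, ht,
          torusHom_conj hF _ (neg_lt hF hklt), mul_inv_cancel_right, chiU_neg hF _ hklt,
          coH_simple hF j.2, chiU_mulSingle j.2, hχ, zpow_neg, Units.val_mul, mul_assoc]
      have hns : ¬ IsSquare ((χ : Fˣ) : F) := by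
        intro hs
        have hz : IsSquare (χ : Fˣ) := by
          obtain ⟨y, hy⟩ := hs
          have hy0 : y ≠ 0 := fun e => Units.ne_zero χ (by rw [hy, e, mul_zero])
          exact ⟨Units.mk0 y hy0, Units.ext hy⟩
        obtain ⟨m, hm⟩ := hoddC
        obtain ⟨y, hy⟩ := hz
        refine hν ⟨((y * νu ^ (m + 1) : Fˣ) : F), ?_⟩
        rw [← Units.val_mul]
        change ((νu : Fˣ) : F) = _
        congr 1
        calc νu = νu ^ (-D.cartan j (D.simple i)) * νu ^ (2 * (m + 1)) := by
              rw [← zpow_add, hm, show -(2 * m + 1) + 2 * (m + 1) = (1 : ℤ) by ring, zpow_one]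
          _ = y * y * (νu ^ (m + 1) * νu ^ (m + 1)) := by
              rw [← hχ, hy, two_mul (m + 1), zpow_add]
          _ = _ := by rw [mul_mul_mul_comm]
      have hκns : ¬ IsSquare (κi : F) := hsqr i hi κi hκi
      have hsq' : IsSquare (((χ * κi : Fˣ) : F)) := by
        rw [Units.val_mul]
        have h2 : ∀ {a : F}, ¬ IsSquare a → a ≠ 0 := fun h e => h (e ▸ IsSquare.zero)
        rw [FiniteField.isSquare_iff hchar (mul_ne_zero (h2 hns) (h2 hκns)), mul_pow,
          (FiniteField.pow_dichotomy hchar (h2 hns)).resolve_left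
            (fun e => hns ((FiniteField.isSquare_iff hchar (h2 hns)).2 e)),
          (FiniteField.pow_dichotomy hchar (h2 hκns)).resolve_left
            (fun e => hκns ((FiniteField.isSquare_iff hchar (h2 hκns)).2 e))]
        norm_num
      obtain ⟨c, hc⟩ := drop i (t * n) (χ * κi) hi
        (Subgroup.mul_mem _ ((mem_monomial_iff hF).2 ⟨[], _, by simp [nWord, ht]; rfl⟩) hnm)
        htmon (hcj.sq hn2) hκ' hsq'
      exact ⟨c, hcj.trans hc⟩
    -- the inverted fundamental roots are mutually orthogonal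
    push Not at hflip
    exfalso
    set J : Finset (Fin D.rank) :=
      Finset.univ.filter fun i => (π (sRoot hF i) : ℕ) < half D with hJ
    have memJ : ∀ {i}, i ∈ J ↔ (π (sRoot hF i) : ℕ) < half D := fun {i} => by simp [hJ]
    have horth : ∀ j ∈ J, ∀ k ∈ J, j ≠ k → OrthPair D k j := by
      intro j hj k hk hne
      rcases hadj k j hne.symm with h | h | h
      · exact h
      · exact absurd h (hflip j k (memJ.1 hj) (memJ.1 hk) hne)
      · exact absurd h (hflip k j (memJ.1 hk) (memJ.1 hj) hne.symm)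
    obtain ⟨i, hi⟩ : ∃ i, i ∈ J := by
      push Not at hpos
      obtain ⟨i, hi⟩ := hpos
      exact ⟨i, memJ.2 hi⟩
    set L := (J.erase i).toList with hL
    have hLmem : ∀ {j}, j ∈ i :: L ↔ j ∈ J := fun {j} => by
      rw [List.mem_cons, hL, Finset.mem_toList, Finset.mem_erase]
      exact ⟨fun h => h.elim (fun e => e ▸ hi) (·.2), fun h => or_iff_not_imp_left.2 fun e => ⟨e, h⟩⟩
    have hnd : L.Nodup := Finset.nodup_toList _
    have hiL : i ∉ L := by rw [hL, Finset.mem_toList]; exact Finset.notMem_erase i J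
    have horth' : ∀ j ∈ L, ∀ k ∈ i :: L, j ≠ k → OrthPair D k j := fun j hj k hk hne =>
      horth j (hLmem.1 (List.mem_cons_of_mem _ hj)) k (hLmem.1 hk) hne
    have hact : ∀ (M : List (Fin D.rank)), M.Nodup → (∀ j ∈ M, j ∈ J) → ∀ k ∈ J,
        pWord hF M (sRoot hF k) = if k ∈ M then negF hF (sRoot hF k) else sRoot hF k := by
      intro M
      induction M with
      | nil => intro _ _ k _; simp [pWord]
      | cons j M ihM =>
        intro hnd hsub k hk
        rw [List.nodup_cons] at hnd
        rw [pWord_cons, Equiv.Perm.mul_apply,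
          ihM hnd.2 (fun x hx => hsub x (List.mem_cons_of_mem _ hx)) k hk]
        by_cases hkj : k = j
        · subst hkj
          rw [if_neg hnd.1, if_pos (List.mem_cons_self ..), wPerm_sRoot]
        · have hfix : wPerm hF j (sRoot hF k) = sRoot hF k := by
            exact Fin.ext (horth j (hsub j (List.mem_cons_self ..)) k hk fun e => hkj e.symm).2.1
          have hiff : k ∈ j :: M ↔ k ∈ M := by simp [hkj]
          by_cases hm : k ∈ M
          · rw [if_pos hm, if_pos (hiff.2 hm), wPerm_negF, hfix]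
          · rw [if_neg hm, if_neg (mt hiff.1 hm), hfix]
    have hnd' : (i :: L).Nodup := List.nodup_cons.2 ⟨hiL, hnd⟩
    have hone : π * pWord hF (i :: L) = 1 := by
      rw [hπdef, ← pWord_append]
      refine pWord_eq_one_of_pos hF _ fun k => ?_
      rw [pWord_append, ← hπdef, Equiv.Perm.mul_apply]
      by_cases hk : k ∈ J
      · rw [hact _ hnd' (fun j hj => hLmem.1 hj) k hk, if_pos (hLmem.2 hk), hπdef, pWord_negF,
          pos_negF_iff, ← hπdef]
        exact memJ.1 hk
      · set r := pWord hF (i :: L) (sRoot hF k) with hr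
        have hrc : ∀ l ∉ J, coef D (r : ℕ) l = coef D (sRoot hF k : ℕ) l := fun l hl =>
          coef_pWord_of_not_mem hF (fun j hj => hLmem.1 hj) _ hl
        have hsk : ∀ l : Fin D.rank, coef D (sRoot hF k : ℕ) l = if l = k then 1 else 0 := by
          intro l
          show coef D (D.simple k) l = _
          rw [hF.coef_simple k k.2 l l.2]
          simp [Fin.ext_iff]
        -- coordinates outside `J`
        have hout : ∀ (s : Fin D.nroots) (l : Fin D.rank), l ∉ J → coef D (π s : ℕ) l =
            ∑ m ∈ Finset.univ.filter (· ∉ J),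
              coef D s m * coef D (π (sRoot hF m) : ℕ) l := by
          intro s l hl
          rw [hπdef, coef_pWord hF w s l, Finset.sum_filter]
          refine Finset.sum_congr rfl fun m _ => ?_
          by_cases hm : m ∈ J
          · rw [if_neg (not_not.2 hm), ← hπdef, hneg m (memJ.1 hm)]
            show _ * coef D (D.neg (D.simple m)) l = 0
            rw [hF.coef_neg _ (hF.simple_lt m m.2) l l.2, hF.coef_simple m m.2 l l.2,
              if_neg fun e => hl (by rw [Fin.ext e]; exact hm), neg_zero, mul_zero]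
          · rw [if_pos hm]
        have hπr : ∀ l ∉ J, coef D (π r : ℕ) l = coef D (π (sRoot hF k) : ℕ) l := fun l hl => by
          rw [hout r l hl, Finset.sum_eq_single k]
          · rw [hrc k hk, hsk, if_pos rfl, one_mul]
          · intro m hm hmk
            rw [hrc m (Finset.mem_filter.1 hm).2, hsk, if_neg hmk, zero_mul]
          · exact fun h => absurd (Finset.mem_filter.2 ⟨Finset.mem_univ k, hk⟩) h
        have hposk : half D ≤ (π (sRoot hF k) : ℕ) := not_lt.1 (mt memJ.2 hk)
        by_cases hsupp : ∃ l ∉ J, coef D (π (sRoot hF k) : ℕ) l ≠ 0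
        · obtain ⟨l, hl, hne⟩ := hsupp
          refine (pos_iff_exists_coef hF (π r).2).2 ⟨l, l.2, ?_⟩
          rw [hπr l hl]
          exact lt_of_le_of_ne (coef_nonneg hF (π (sRoot hF k)).2 hposk) hne.symm
        · exfalso
          push Not at hsupp
          have h := hout (π (sRoot hF k)) k hk
          rw [← Equiv.Perm.mul_apply, hππ, Equiv.Perm.one_apply, hsk, if_pos rfl,
            Finset.sum_eq_zero fun m hm => by rw [hsupp m (Finset.mem_filter.1 hm).2, zero_mul]] at h
          exact one_ne_zero h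
    have hπeq : π = pWord hF (i :: L) := by rw [← hπinv]; exact inv_eq_of_mul_eq_one_right hone
    obtain ⟨κ, hκ⟩ := exists_kappa hF hmon i (hneg i (memJ.1 hi))
    exact hsqr i (memJ.1 hi) κ hκ (orth_square hF hinj hnm hn2 hnd hiL horth' (hπeq ▸ hmon) hκ)

end InvolClass

end Cfsg.Agent.Chev
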