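import Cfsg.Agent.Chev.RankOne
import Cfsg.Agent.Chev.Bruhat
import Cfsg.Agent.Chev.UnipotentCount
import Mathlib.FieldTheory.Finite.Basic

/-!
Involutions of Chevalley groups in odd characteristic: conjugation into the monomial group and
moves lowering the Weyl group component.
-/

set_option autoImplicit false
set_option maxHeartbeats 1000000

namespace Cfsg.Agent.Chev

open Cfsg.Lie Matrix
open scoped MatrixGroups

universe u

namespace InvolTorus

variable {D : ChevalleyDatum} {F : Type u} [Field F] (hF : Facts.{u} D)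

/-- Conjugate inside the Chevalley group. -/
def Cj (g h : GL D.Idx F) : Prop := ∃ e ∈ D.group F, e * g * e⁻¹ = h

theorem Cj.refl (g : GL D.Idx F) : Cj g g := ⟨1, Subgroup.one_mem _, by simp⟩

theorem Cj.trans {g h k : GL D.Idx F} (h₁ : Cj g h) (h₂ : Cj h k) : Cj g k := by
  obtain ⟨e, he, rfl⟩ := h₁
  obtain ⟨f, hf, rfl⟩ := h₂
  exact ⟨f * e, Subgroup.mul_mem _ hf he, by group⟩

theorem Cj.symm {g h : GL D.Idx F} (h₁ : Cj g h) : Cj h g := by
  obtain ⟨e, he, rfl⟩ := h₁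
  exact ⟨e⁻¹, Subgroup.inv_mem _ he, by group⟩

theorem Cj.sq {g h : GL D.Idx F} (h₁ : Cj g h) (hg : g * g = 1) : h * h = 1 := by
  obtain ⟨e, -, rfl⟩ := h₁
  rw [show e * g * e⁻¹ * (e * g * e⁻¹) = e * (g * g) * e⁻¹ by group, hg]
  group

theorem Cj.ne_one {g h : GL D.Idx F} (h₁ : Cj g h) (hg : g ≠ 1) : h ≠ 1 := by
  obtain ⟨e, -, rfl⟩ := h₁
  exact fun h => hg (conj_eq_one_iff.1 h)

include hF

theorem orderOf_odd [Fintype F] (hodd : Odd (Fintype.card F)) {u : GL D.Idx F}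
    (hu : u ∈ D.posUnipotent F) : Odd (orderOf u) := by
  have hdvd : orderOf u ∣ Fintype.card F ^ half D := by
    rw [← card_posUnipotent hF, show orderOf u = orderOf (⟨u, hu⟩ : ↥(D.posUnipotent F)) from
      (Subgroup.orderOf_coe (⟨u, hu⟩ : ↥(D.posUnipotent F)))]
    exact orderOf_dvd_natCard _
  exact Odd.of_dvd_nat (hodd.pow) hdvd

/-- An involution in a double coset is conjugate to one in the monomial group with the same
permutation. -/
theorem cell [Fintype F] (hodd : Odd (Fintype.card F)) {g b b' n₀ : GL D.Idx F}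
    {π : Equiv.Perm (Fin D.nroots)} (hn₀ : n₀ ∈ D.monomialSubgroup F) (hπ : IsMon hF n₀ π)
    (hb : b ∈ D.borelSubgroup F) (hb' : b' ∈ D.borelSubgroup F) (hg : g = b * n₀ * b')
    (hsq : g * g = 1) :
    ∃ n ∈ D.monomialSubgroup F, IsMon hF n π ∧ n * n = 1 ∧ Cj g n := by
  obtain ⟨v, hv, d, rfl⟩ := (mem_borel_iff hF).1 hb'
  obtain ⟨a, ha, m, hm, rfl⟩ := posUnipotent_split hF π hv
  -- `g = b₁ * n₁ * m₁`
  have ha' : n₀ * a * n₀⁻¹ ∈ D.posUnipotent F := conj_uPlus hF hπ ha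
  set m₁ := (torusHom d : GL D.Idx F)⁻¹ * m * torusHom d with hm₁
  have hm₁' : m₁ ∈ D.borelSubgroup F :=
    Subgroup.mul_mem _ (Subgroup.mul_mem _
      (Subgroup.inv_mem _ (Subgroup.mem_sup_right (torusHom_mem hF d))) (uMinus_le_borel hF _ hm))
      (Subgroup.mem_sup_right (torusHom_mem hF d))
  set x := m₁ * g * m₁⁻¹ with hx
  have hβ : m₁ * b * (n₀ * a * n₀⁻¹) ∈ D.borelSubgroup F :=
    Subgroup.mul_mem _ (Subgroup.mul_mem _ hm₁' hb) (Subgroup.mem_sup_left ha')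
  obtain ⟨u, hu, c, hc⟩ := (mem_borel_iff hF).1 hβ
  set n := torusHom c * n₀ * torusHom d with hn
  have hnm : n ∈ D.monomialSubgroup F := by
    have ht : ∀ e, (torusHom e : GL D.Idx F) ∈ D.monomialSubgroup F := fun e =>
      (mem_monomial_iff hF).2 ⟨[], e, by simp [nWord]⟩
    exact Subgroup.mul_mem _ (Subgroup.mul_mem _ (ht c) hn₀) (ht d)
  have hnπ : IsMon hF n π := by
    have := isMon_mul hF (isMon_mul hF (isMon_torus hF c) hπ) (isMon_torus hF d)
    rwa [one_mul, mul_one] at this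
  have hxun : x = u * n := by
    rw [hx, hg, hn, show u * (torusHom c * n₀ * torusHom d) =
      u * torusHom c * n₀ * torusHom d by group, ← hc, hm₁]
    group
  have hxg : Cj g x := ⟨m₁, borel_le_group hF hm₁', rfl⟩
  have hxsq : x * x = 1 := hxg.sq hsq
  have hx' : u * n * 1 = n⁻¹ * u⁻¹ := by
    rw [mul_one, ← hxun, eq_comm, show n⁻¹ * u⁻¹ = (u * n)⁻¹ by group, ← hxun]
    exact inv_eq_of_mul_eq_one_right hxsq
  -- the normal form of the inverse
  set ρ := monPerm hF n⁻¹ with hρ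
  obtain ⟨a₂, ha₂, m₂, hm₂, e₂⟩ := posUnipotent_split hF ρ (Subgroup.inv_mem _ hu)
  have hni : n⁻¹ ∈ D.monomialSubgroup F := Subgroup.inv_mem _ hnm
  have hnl : n⁻¹ * a₂ * n ∈ D.posUnipotent F := by
    have := conj_uPlus hF (isMon_monPerm hF hni) ha₂
    rwa [inv_inv] at this
  have e : u * n * 1 = n⁻¹ * a₂ * n * n⁻¹ * m₂ := by
    rw [hx', e₂]; group
  have hdiag := (normalForm_unique hF (Subgroup.mem_sup_left hu) (Subgroup.mem_sup_left hnl) hnm hni
    (Subgroup.one_mem _) hm₂ e).1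
  obtain ⟨c', hc'⟩ := (mem_diagonal_iff hF).1 hdiag
  have hπρ : ρ = π := by
    have h1 := isMon_mul hF hnπ (isMon_torus hF c' (F := F))
    rw [mul_one, hc', mul_inv_cancel_left] at h1
    exact monPerm_eq hF h1
  -- move the diagonal factor to the left
  set d' := n⁻¹ * n⁻¹ with hd'
  have hd'T : d' ∈ D.diagonalSubgroup F := hdiag
  have e' : u * n * 1 = (n⁻¹ * a₂ * n * d') * n * m₂ := by rw [e, hd']; group
  have hm₂' : m₂ ∈ uMinus hF (monPerm hF n) := by
    rw [monPerm_eq hF hnπ, ← hπρ]; exact hm₂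
  obtain ⟨hu2, hm1⟩ := (normalForm_unique hF (Subgroup.mem_sup_left hu)
    (Subgroup.mul_mem _ (Subgroup.mem_sup_left hnl) (Subgroup.mem_sup_right hd'T)) hnm hnm
    (Subgroup.one_mem _) hm₂' e').2 rfl
  have hd1 : d' = 1 := by
    refine Subgroup.mem_bot.1 ((posUnipotent_inf_diagonal hF (F := F)).le ⟨?_, hd'T⟩)
    rw [show d' = (n⁻¹ * a₂ * n)⁻¹ * u by rw [hu2]; group]
    exact Subgroup.mul_mem _ (Subgroup.inv_mem _ hnl) hu
  have hn2 : n * n = 1 := by
    rw [← inv_eq_one, _root_.mul_inv_rev, ← hd', hd1]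
  have hninv : n⁻¹ = n := inv_eq_of_mul_eq_one_right hn2
  have hσ : n * u * n⁻¹ = u⁻¹ := by
    rw [hd1, mul_one] at hu2
    rw [← hm1, mul_one] at e₂
    rw [e₂, hu2, hninv]
    rw [show n * (n * a₂ * n) * n = n * n * a₂ * (n * n) by group, hn2, one_mul, mul_one]
  -- the square root
  obtain ⟨k, hk⟩ := orderOf_odd hF hodd hu
  have hy : u ^ (k + 1) * u ^ (k + 1) = u := by
    rw [← pow_add, show k + 1 + (k + 1) = orderOf u + 1 by omega, pow_succ, pow_orderOf_eq_one,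
      one_mul]
  set y := u ^ (k + 1) with hy'
  have hσy : n * y * n⁻¹ = y⁻¹ := by
    rw [hy', ← conj_pow, hσ, inv_pow]
  refine ⟨n, hnm, hnπ, hn2, hxg.trans (Cj.symm ⟨y, ?_, ?_⟩)⟩
  · exact borel_le_group hF (Subgroup.mem_sup_left (Subgroup.pow_mem _ hu _))
  · rw [hxun, show y * n * y⁻¹ = y * (n * y⁻¹ * n⁻¹) * n by group,
      show n * y⁻¹ * n⁻¹ = (n * y * n⁻¹)⁻¹ by group, hσy, inv_inv, hy]

omit hF

/-- The action of an involution inverting a root on the rank one group. -/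
def swapAut (κ : Fˣ) : SpecialLinearGroup (Fin 2) F →* SpecialLinearGroup (Fin 2) F where
  toFun g := ⟨!![g.1 1 1, (κ : F)⁻¹ * g.1 1 0; (κ : F) * g.1 0 1, g.1 0 0], by
    have h := SL2Data.det_eq g
    have h' : (κ : F)⁻¹ * (κ : F) = 1 := inv_mul_cancel₀ κ.ne_zero
    rw [det_fin_two]
    simp only [of_apply, cons_val', cons_val_zero, cons_val_one, empty_val', cons_val_fin_one]
    linear_combination h - g.1 1 0 * g.1 0 1 * h'⟩
  map_one' := by
    apply Subtype.ext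
    simp [Matrix.one_fin_two]
  map_mul' g h := by
    have h' : (κ : F)⁻¹ * (κ : F) = 1 := inv_mul_cancel₀ κ.ne_zero
    apply Subtype.ext
    show (!![(g.1 * h.1) 1 1, (κ : F)⁻¹ * (g.1 * h.1) 1 0; (κ : F) * (g.1 * h.1) 0 1,
        (g.1 * h.1) 0 0] : Matrix (Fin 2) (Fin 2) F) =
      !![g.1 1 1, (κ : F)⁻¹ * g.1 1 0; (κ : F) * g.1 0 1, g.1 0 0] *
        !![h.1 1 1, (κ : F)⁻¹ * h.1 1 0; (κ : F) * h.1 0 1, h.1 0 0]
    ext i j
    fin_cases i <;> fin_cases j <;> simp [Matrix.mul_apply, Fin.sum_univ_two] <;>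
      first
        | ring1
        | linear_combination (-(g.1 1 0 * h.1 0 1)) * h'
        | linear_combination (-(g.1 0 1 * h.1 1 0)) * h'

include hF

/-- The homomorphism of a fundamental root with its values. -/
theorem exists_simpleHom (i : Fin D.rank) :
    ∃ φ : SpecialLinearGroup (Fin 2) F →* GL D.Idx F,
      (∀ g, φ g ∈ D.group F) ∧
      (∀ (g : SpecialLinearGroup (Fin 2) F) (t : F),
        (g : Matrix (Fin 2) (Fin 2) F) = !![1, t; 0, 1] → φ g = xG hF (D.simple i) t) ∧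
      (∀ (g : SpecialLinearGroup (Fin 2) F) (t : F),
        (g : Matrix (Fin 2) (Fin 2) F) = !![1, 0; t, 1] → φ g = xG hF (D.neg (D.simple i)) t) ∧
      (∀ (g : SpecialLinearGroup (Fin 2) F) (t : F), t ≠ 0 →
        (g : Matrix (Fin 2) (Fin 2) F) = !![0, t; -t⁻¹, 0] → φ g = nG hF (D.simple i) t) ∧
      (∀ (g : SpecialLinearGroup (Fin 2) F) (t : Fˣ),
        (g : Matrix (Fin 2) (Fin 2) F) = !![(t : F), 0; 0, (t : F)⁻¹] →
          φ g = torusHom (coH (D.simple i) t)) ∧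
      ∀ (n : GL D.Idx F) (κ : Fˣ),
        (∀ s : F, n * xG hF (D.simple i) s * n⁻¹ = xG hF (D.neg (D.simple i)) ((κ : F) * s)) →
        n * n = 1 → ∀ g, n * φ g * n⁻¹ = φ (swapAut κ g) := by
  obtain ⟨φ, hu, hl⟩ := hasSL2_simple hF i.2 (F := F)
  let up : F → SpecialLinearGroup (Fin 2) F := fun t => SL2Data.upper t
  let lo : F → SpecialLinearGroup (Fin 2) F := fun t => ⟨!![1, 0; t, 1], by simp [det_fin_two]⟩
  have hup : ∀ t, φ (up t) = xG hF (D.simple i) t := fun t => hu _ t rfl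
  have hlo : ∀ t, φ (lo t) = xG hF (D.neg (D.simple i)) t := fun t => hl _ t rfl
  have hweyl : (SL2Data.weyl : SpecialLinearGroup (Fin 2) F) = up 1 * lo (-1) * up 1 := by
    apply Subtype.ext
    show (SL2Data.weyl (F := F)).1 = (up (1 : F)).1 * (lo (-1)).1 * (up (1 : F)).1
    ext a b
    fin_cases a <;> fin_cases b <;>
      simp [up, lo, SL2Data.upper, SL2Data.weyl, Matrix.mul_apply, Fin.sum_univ_two]
  have gen : ∀ (M : Submonoid (SpecialLinearGroup (Fin 2) F)), (∀ t, up t ∈ M) →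
      (∀ t, lo t ∈ M) → ∀ g, g ∈ M := by
    intro M h1 h2 g
    have hg : g ∈ Submonoid.closure (Set.range (SL2Data.upper (F := F)) ∪ {SL2Data.weyl}) := by
      rw [SL2Data.closure_generators]; exact Submonoid.mem_top _
    refine (Submonoid.closure_le (S := M)).2 ?_ hg
    rintro x (⟨b, rfl⟩ | rfl)
    · exact h1 b
    · rw [hweyl]; exact M.mul_mem (M.mul_mem (h1 1) (h2 _)) (h1 1)
  have hN : ∀ (g : SpecialLinearGroup (Fin 2) F) (t : F), t ≠ 0 →
      (g : Matrix (Fin 2) (Fin 2) F) = !![0, t; -t⁻¹, 0] → φ g = nG hF (D.simple i) t := by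
    intro g t ht hg
    have : g = up t * lo (-t⁻¹) * up t := by
      apply Subtype.ext
      rw [hg]
      show _ = (up t).1 * (lo (-t⁻¹)).1 * (up t).1
      ext a b
      fin_cases a <;> fin_cases b <;>
        simp [up, lo, SL2Data.upper, Matrix.mul_apply, Fin.sum_univ_two, ht]
    rw [this, map_mul, map_mul, hup, hlo, nG]
  refine ⟨φ, fun g => ?_, hu, hl, hN, fun g t hg => ?_, fun n κ hn hn2 g => ?_⟩
  · exact gen ((D.group F).toSubmonoid.comap φ) (fun t => by
      show φ (up t) ∈ D.group F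
      rw [hup]; exact xG_mem_group hF _ _) (fun t => by
      show φ (lo t) ∈ D.group F
      rw [hlo]; exact xG_mem_group hF _ _) g
  · let a : SpecialLinearGroup (Fin 2) F := ⟨!![0, (t : F); -(t : F)⁻¹, 0], by simp [det_fin_two]⟩
    let b : SpecialLinearGroup (Fin 2) F := ⟨!![0, -1; -(-1 : F)⁻¹, 0], by simp [det_fin_two]⟩
    have : g = a * b := by
      apply Subtype.ext
      rw [hg]
      show _ = a.1 * b.1
      ext x y
      fin_cases x <;> fin_cases y <;> simp [a, b, Matrix.mul_apply, Fin.sum_univ_two]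
    rw [this, map_mul, hN a (t : F) t.ne_zero rfl, hN b (-1) (neg_ne_zero.2 one_ne_zero) rfl,
      ← hG_eq_torus hF (hF.simple_lt i i.2)]
    rfl
  · have hn' : ∀ s : F,
        n * xG hF (D.neg (D.simple i)) s * n⁻¹ = xG hF (D.simple i) ((κ : F)⁻¹ * s) := by
      intro s
      have h := hn ((κ : F)⁻¹ * s)
      rw [← mul_assoc, mul_inv_cancel₀ κ.ne_zero, one_mul] at h
      rw [← h, inv_eq_of_mul_eq_one_right hn2,
        show n * (n * xG hF (D.simple i) ((κ : F)⁻¹ * s) * n) * n =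
          n * n * xG hF (D.simple i) ((κ : F)⁻¹ * s) * (n * n) by group, hn2]
      group
    refine gen
      (MonoidHom.eqLocusM ((MulAut.conj n).toMonoidHom.comp φ) (φ.comp (swapAut κ))) ?_ ?_ g
    · intro t
      show n * φ (up t) * n⁻¹ = φ (swapAut κ (up t))
      rw [hup, hn, hl (swapAut κ (up t)) ((κ : F) * t) (by
        show !![(up t).1 1 1, (κ : F)⁻¹ * (up t).1 1 0; (κ : F) * (up t).1 0 1, (up t).1 0 0] = _
        simp [up, SL2Data.upper])]
    · intro t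
      show n * φ (lo t) * n⁻¹ = φ (swapAut κ (lo t))
      rw [hlo, hn', hu (swapAut κ (lo t)) ((κ : F)⁻¹ * t) (by
        show !![(lo t).1 1 1, (κ : F)⁻¹ * (lo t).1 1 0; (κ : F) * (lo t).1 0 1, (lo t).1 0 0] = _
        simp [lo])]

/-- If the scalar on an inverted fundamental root is a square the Weyl group component drops. -/
theorem step_square [Fintype F] (hodd : Odd (Fintype.card F)) (i : Fin D.rank) {n : GL D.Idx F}
    {π : Equiv.Perm (Fin D.nroots)} (hnm : n ∈ D.monomialSubgroup F) (hπ : IsMon hF n π)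
    (hn2 : n * n = 1) {κ : Fˣ}
    (hκ : ∀ s : F, n * xG hF (D.simple i) s * n⁻¹ = xG hF (D.neg (D.simple i)) ((κ : F) * s))
    (hsq : IsSquare (κ : F)) :
    ∃ n' ∈ D.monomialSubgroup F, IsMon hF n' (wPerm hF i * π) ∧ n' * n' = 1 ∧ Cj n n' := by
  obtain ⟨y, hy⟩ := hsq
  have hy0 : y ≠ 0 := fun h => κ.ne_zero (by rw [hy, h, mul_zero])
  set k := D.simple i with hk
  have hklt : k < D.nroots := hF.simple_lt i i.2
  obtain ⟨φ, hG, hu, hl, hN, hT, hswap⟩ := exists_simpleHom hF i (F := F)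
  let lo : F → SpecialLinearGroup (Fin 2) F := fun t => ⟨!![1, 0; t, 1], by simp [det_fin_two]⟩
  let wm : SpecialLinearGroup (Fin 2) F :=
    ⟨!![0, y⁻¹; -(y⁻¹)⁻¹, 0], by simp [det_fin_two, hy0]⟩
  -- `x_{-k}(-y)` conjugates `n` into the smaller cell
  have hid : lo (-y) * swapAut κ (lo y) = wm * lo y := by
    apply Subtype.ext
    show (lo (-y)).1 * !![(lo y).1 1 1, (κ : F)⁻¹ * (lo y).1 1 0; (κ : F) * (lo y).1 0 1,
      (lo y).1 0 0] = wm.1 * (lo y).1
    have hyk : (κ : F)⁻¹ * y = y⁻¹ := by rw [hy, mul_inv, mul_assoc, inv_mul_cancel₀ hy0, mul_one]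
    ext a b
    fin_cases a <;> fin_cases b <;>
      simp [lo, wm, Matrix.mul_apply, Fin.sum_univ_two, hyk, hy0]
  have h0 := hswap n κ hκ hn2 (lo y)
  have hnx : xG hF (D.neg k) y * n = n * xG hF k ((κ : F)⁻¹ * y) := by
    have h := hκ ((κ : F)⁻¹ * y)
    rw [← mul_assoc, mul_inv_cancel₀ κ.ne_zero, one_mul] at h
    rw [← h, inv_mul_cancel_right]
  have hconj : Cj n (nG hF k y⁻¹ * n * xG hF k ((κ : F)⁻¹ * y)) := by
    refine ⟨φ (lo (-y)), hG _, ?_⟩
    have hinv : (φ (lo (-y)))⁻¹ = φ (lo y) := inv_eq_of_mul_eq_one_right (by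
      rw [← map_mul, show lo (-y) * lo y = 1 from Subtype.ext (by
        show (lo (-y)).1 * (lo y).1 = 1
        ext a b
        fin_cases a <;> fin_cases b <;> simp [lo, Matrix.mul_apply, Fin.sum_univ_two]), map_one])
    rw [hinv, show φ (lo (-y)) * n * φ (lo y) = φ (lo (-y)) * (n * φ (lo y) * n⁻¹) * n by group, h0,
      ← map_mul, hid, map_mul, hN wm y⁻¹ (inv_ne_zero hy0) rfl, hl (lo y) y rfl, mul_assoc, hnx,
      ← mul_assoc]
  set n₀ := nG hF k y⁻¹ * n with hn₀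
  have hnG : nG hF k y⁻¹ ∈ D.monomialSubgroup F ∧ IsMon hF (nG hF k y⁻¹) (wPerm hF i) := by
    rw [show y⁻¹ = ((Units.mk0 y⁻¹ (inv_ne_zero hy0) : Fˣ) : F) from rfl, hk,
      nG_eq_torus_mul hF i.2]
    refine ⟨Subgroup.mul_mem _ ((mem_monomial_iff hF).2 ⟨[], _, by simp [nWord]; rfl⟩)
      (nS_mem hF i), ?_⟩
    have := isMon_mul hF (isMon_torus hF (coH (D.simple i) (Units.mk0 y⁻¹ (inv_ne_zero hy0))))
      (isMon_nS hF i (F := F))
    rwa [one_mul] at this
  obtain ⟨n', h1, h2, h3, h4⟩ := cell hF hodd (g := n₀ * xG hF k ((κ : F)⁻¹ * y))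
    (b := 1) (b' := xG hF k ((κ : F)⁻¹ * y)) (n₀ := n₀) (π := wPerm hF i * π)
    (Subgroup.mul_mem _ hnG.1 hnm) (isMon_mul hF hnG.2 hπ) (Subgroup.one_mem _)
    (Subgroup.mem_sup_left (mem_posUnipotent_of hF hklt (hF.simple_pos i i.2) _))
    (by rw [one_mul]) (hconj.sq hn2)
  exact ⟨n', h1, h2, h3, hconj.trans h4⟩

/-- An involution inverting a fundamental root can be multiplied by a torus element of any
prescribed class of squares. -/
theorem step_flip [Fintype F] (hodd : Odd (Fintype.card F)) (i : Fin D.rank) {n : GL D.Idx F}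
    (hn2 : n * n = 1) {κ : Fˣ}
    (hκ : ∀ s : F, n * xG hF (D.simple i) s * n⁻¹ = xG hF (D.neg (D.simple i)) ((κ : F) * s))
    (ν : Fˣ) : Cj n (torusHom (coH (D.simple i) ν) * n) := by
  obtain ⟨φ, hG, -, -, -, hT, hswap⟩ := exists_simpleHom hF i (F := F)
  have hchar : ringChar F ≠ 2 := fun h => by
    have := FiniteField.even_card_iff_char_two.1 h
    rw [Nat.odd_iff] at hodd
    omega
  obtain ⟨x, y, hxy⟩ : ∃ x y : F, x ^ 2 - (κ : F) * y ^ 2 = (ν : F) := by
    obtain ⟨x, y, h⟩ := FiniteField.exists_root_sum_quadratic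
      (f := Polynomial.X ^ 2 - Polynomial.C (ν : F))
      (g := -Polynomial.C (κ : F) * Polynomial.X ^ 2)
      (by rw [Polynomial.degree_X_pow_sub_C (by norm_num)]; rfl)
      (by
        rw [neg_mul, Polynomial.degree_neg, Polynomial.degree_C_mul_X_pow 2 κ.ne_zero]; rfl)
      (by rw [Nat.odd_iff] at hodd; exact hodd)
    refine ⟨x, y, ?_⟩
    simp only [Polynomial.eval_sub, Polynomial.eval_pow, Polynomial.eval_X, Polynomial.eval_C,
      Polynomial.eval_mul, Polynomial.eval_neg] at h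
    linear_combination h
  let M : SpecialLinearGroup (Fin 2) F :=
    ⟨!![x, y; (κ : F) * y / (ν : F), x / (ν : F)], by
      rw [det_fin_two_of, show x * (x / (ν : F)) - y * ((κ : F) * y / (ν : F)) =
        (x ^ 2 - (κ : F) * y ^ 2) / (ν : F) by ring, hxy, div_self ν.ne_zero]⟩
  let dg : SpecialLinearGroup (Fin 2) F :=
    ⟨!![(ν : F), 0; 0, (ν : F)⁻¹], by simp [det_fin_two]⟩
  have hid : M * (swapAut κ M)⁻¹ = dg := by
    rw [mul_inv_eq_iff_eq_mul]
    apply Subtype.ext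
    show M.1 = dg.1 * !![M.1 1 1, (κ : F)⁻¹ * M.1 1 0; (κ : F) * M.1 0 1, M.1 0 0]
    ext a b
    fin_cases a <;> fin_cases b <;> simp [M, dg, Matrix.mul_apply, Fin.sum_univ_two] <;> field_simp
  refine ⟨φ M, hG M, ?_⟩
  rw [← hT dg ν rfl, ← hid, map_mul, map_inv, ← hswap n κ hκ hn2 M]
  group

end InvolTorus

end Cfsg.Agent.Chev
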