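import Cfsg.Agent.Chev.Poincare

/-!
Polynomial identities checked on coefficient lists, and the factorisation of `∑ q ^ N(w)`.
-/

set_option autoImplicit false

namespace Cfsg.Agent.Chev

open Cfsg.Lie

universe u

/-- Value of a coefficient list at `q`. -/
def peval (q : ℤ) : List ℤ → ℤ
  | [] => 0
  | a :: l => a + q * peval q l

/-- Sum of coefficient lists. -/
def padd : List ℤ → List ℤ → List ℤ
  | [], b => b
  | a :: as, [] => a :: as
  | a :: as, b :: bs => (a + b) :: padd as bs

/-- Multiple of a coefficient list. -/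
def pscale (c : ℤ) (l : List ℤ) : List ℤ := l.map (c * ·)

/-- Product of coefficient lists. -/
def pmul : List ℤ → List ℤ → List ℤ
  | [], _ => []
  | a :: as, b => padd (pscale a b) (0 :: pmul as b)

/-- The monomial of degree `d`. -/
def pmon : ℕ → List ℤ
  | 0 => [1]
  | d + 1 => 0 :: pmon d

/-- A sum of monomials. -/
def psum (ds : List ℕ) : List ℤ := ds.foldr (fun d acc => padd (pmon d) acc) []

/-- A product. -/
def pprod (ls : List (List ℤ)) : List ℤ := ls.foldr pmul [1]

/-- Equality of polynomials. -/
noncomputable def chkEq (a b : List ℤ) : Bool := (padd a (pscale (-1) b)).all fun x => zbeq x 0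

theorem peval_padd (q : ℤ) : ∀ a b : List ℤ, peval q (padd a b) = peval q a + peval q b
  | [], b => by simp [padd, peval]
  | a :: as, [] => by simp [padd, peval]
  | a :: as, b :: bs => by simp only [padd, peval, peval_padd q as bs]; ring

theorem peval_pscale (q c : ℤ) : ∀ l : List ℤ, peval q (pscale c l) = c * peval q l
  | [] => by simp [pscale, peval]
  | a :: l => by
    have := peval_pscale q c l
    simp only [pscale, List.map_cons, peval] at this ⊢
    rw [this]; ring

theorem peval_pmul (q : ℤ) : ∀ a b : List ℤ, peval q (pmul a b) = peval q a * peval q b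
  | [], b => by simp [pmul, peval]
  | a :: as, b => by
    simp only [pmul, peval_padd, peval_pscale, peval, peval_pmul q as b]; ring

theorem peval_pmon (q : ℤ) : ∀ d : ℕ, peval q (pmon d) = q ^ d
  | 0 => by simp [pmon, peval]
  | d + 1 => by simp only [pmon, peval, peval_pmon q d, pow_succ]; ring

theorem peval_psum (q : ℤ) : ∀ ds : List ℕ, peval q (psum ds) = (ds.map (q ^ ·)).sum
  | [] => by simp [psum, peval]
  | d :: ds => by
    have := peval_psum q ds
    simp only [psum, List.foldr_cons, peval_padd, peval_pmon, List.map_cons, List.sum_cons] at this ⊢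
    rw [this]

theorem peval_pprod (q : ℤ) : ∀ ls : List (List ℤ), peval q (pprod ls) = (ls.map (peval q)).prod
  | [] => by simp [pprod, peval]
  | l :: ls => by
    have := peval_pprod q ls
    simp only [pprod, List.foldr_cons, peval_pmul, List.map_cons, List.prod_cons] at this ⊢
    rw [this]

theorem peval_eq_zero (q : ℤ) : ∀ l : List ℤ, (∀ x ∈ l, x = 0) → peval q l = 0
  | [], _ => rfl
  | a :: l, h => by
    rw [peval, h a (List.mem_cons_self ..),
      peval_eq_zero q l fun x hx => h x (List.mem_cons_of_mem _ hx)]
    ring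

theorem peval_eq_of_chkEq (q : ℤ) {a b : List ℤ} (h : chkEq a b = true) :
    peval q a = peval q b := by
  simp only [chkEq, List.all_eq_true, zbeq_iff] at h
  have := peval_eq_zero q _ h
  rw [peval_padd, peval_pscale] at this
  linarith

/-- The check that `(q - 1)^l ∏ P = ∏ (q^d - 1)`. -/
noncomputable def chkFactor (degs : List (List ℕ)) (l : ℕ) (ds : List ℕ) : Bool :=
  chkEq (pmul (pprod (degs.map psum)) (pprod (List.replicate l [-1, 1])))
    (pprod (ds.map fun d => padd (pmon d) [-1]))

theorem factor_of_chk {degs : List (List ℕ)} {l : ℕ} {ds : List ℕ}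
    (h : chkFactor degs l ds = true) {q : ℕ} (hq : 1 ≤ q) :
    (degs.map fun e => (e.map (q ^ ·)).sum).prod * (q - 1) ^ l =
      (ds.map fun d => q ^ d - 1).prod := by
  have := peval_eq_of_chkEq (q : ℤ) h
  rw [peval_pmul, peval_pprod, peval_pprod, peval_pprod, List.map_map, List.map_map,
    List.map_replicate, List.prod_replicate] at this
  have e1 : (peval (q : ℤ) ∘ psum) = fun e => (((e.map (q ^ ·)).sum : ℕ) : ℤ) := by
    funext e
    rw [Function.comp_apply, peval_psum, Nat.cast_list_sum, List.map_map]
    congr 1
  have e2 : (peval (q : ℤ) ∘ fun d => padd (pmon d) [-1]) = fun d => ((q ^ d - 1 : ℕ) : ℤ) := by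
    funext d
    rw [Function.comp_apply, peval_padd, peval_pmon, Nat.cast_sub (Nat.one_le_pow _ _ hq)]
    simp [peval, sub_eq_add_neg]
  have e3 : peval (q : ℤ) [-1, 1] = ((q - 1 : ℕ) : ℤ) := by
    rw [Nat.cast_sub hq]; simp [peval]; ring
  rw [e1, e2, e3] at this
  have := this
  rw [← Nat.cast_inj (R := ℤ)]
  push_cast [Nat.cast_list_prod, List.map_map]
  simpa [Function.comp_def, Nat.cast_list_prod] using this

end Cfsg.Agent.Chev
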