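import Cfsg.Agent.Chev.CentralizerTorus
import Cfsg.Agent.Chev.Poly

/-!
The sum over the Weyl elements fixing a diagonal involution, by the cosets of a standard
parabolic subgroup fixing it; certificates on bit vectors and coordinate functionals.
-/

set_option autoImplicit false
set_option maxHeartbeats 4000000

namespace Cfsg.Agent.Chev

open Cfsg.Lie

universe u

namespace StabCount

open CentTorus

variable (D : ChevalleyDatum) (C : Cert)

/-- The parity of a character of the involution with bit vector `m`. -/
noncomputable def parN (m r : ℕ) : Bool :=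
  List.rec (motive := fun _ => Bool) false
    (fun j _ ih => xor (and (m.testBit j) (Nat.beq (Int.emod (C.cA j r) 2).natAbs 1)) ih)
    (List.range D.rank)

/-- A fundamental reflection on bit vectors. -/
noncomputable def stepN (i m : ℕ) : ℕ := cond (parN D C m (D.simple i)) (m ^^^ 2 ^ i) m

/-- The torus parameters of a bit vector. -/
def zN {F : Type u} [Field F] (m : ℕ) : Fin D.rank → Fˣ :=
  fun j => if m.testBit j then -1 else 1

/-- The negative roots with their parity, support bound and coordinates. -/
noncomputable def brow (rows : List (List ℤ)) (m r : ℕ) : Bool × List ℤ :=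
  (parN D C m r, rows.getD r [])

/-- An integer has allowed absolute value for the parity. -/
noncomputable def okVal (A₀ A₁ : List ℕ) (b : Bool) (a : ℤ) : Bool :=
  (cond b A₁ A₀).contains a.natAbs

/-- The extensions of a prefix passing the test of the roots supported on it. -/
noncomputable def cands (A₀ A₁ : List ℕ) (br : List (Bool × List ℤ)) (sb : List Bool) :
    ℕ → List (List ℤ)
  | 0 => [[]]
  | n + 1 => ((cands A₀ A₁ br sb n).flatMap fun l =>
      (cond (sb.getD n false) A₁ A₀).flatMap fun (a : ℕ) =>
        cond (Nat.beq a 0) [l ++ [0]] [l ++ [(a : ℤ)], l ++ [-(a : ℤ)]]).filter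
        fun l => br.all fun p =>
          cond ((p.2.drop (n + 1)).all fun x => zbeq x 0) (okVal A₀ A₁ p.1 (dotL p.2 l)) true

/-- The number of negative roots of trivial parity on which a functional is positive. -/
noncomputable def degZ (br : List (Bool × List ℤ)) (l : List ℤ) : ℕ :=
  (br.filter fun p => !p.1 && zpos (dotL p.2 l)).length

/-- The certificate: the allowed absolute values, the rows, the parities of the fundamental roots,
the functionals of the cosets with their words and degrees. -/
structure Data where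
  m : ℕ
  k : ℕ
  A₀ : List ℕ
  A₁ : List ℕ
  bits : List Bool
  sb : List Bool
  pts : List (List ℤ)
  words : List (List ℕ)
  deg : List ℕ

/-- The rows with their recorded parities. -/
def Data.br (E : Data) (rows : List (List ℤ)) : List (Bool × List ℤ) := E.bits.zip rows

/-- The check of the certificate. -/
noncomputable def chkStab (rows : List (List ℤ)) (E : Data) : Bool :=
  Nat.blt E.k D.rank &&
  Nat.beq E.bits.length (half D) &&
  allBelow (fun r => E.bits.getD r false == parN D C E.m r) (half D) &&
  allBelow (fun i => E.sb.getD i false == parN D C E.m (D.simple i)) D.rank &&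
  allBelow (fun i => cond (Nat.beq i E.k) true (Nat.beq (stepN D C i E.m) E.m)) D.rank &&
  allBelow (fun r => okVal E.A₀ E.A₁ (E.bits.getD r false) ((rows.getD r []).getD E.k 0) &&
    cond (zbeq ((rows.getD r []).getD E.k 0) 0) (!E.bits.getD r false) true) (half D) &&
  ((cands E.A₀ E.A₁ (E.br rows) E.sb D.rank).all fun l => E.pts.any fun p => eqv D p l) &&
  chkNodup D E.pts &&
  Nat.beq E.words.length E.pts.length &&
  Nat.beq E.deg.length E.pts.length &&
  allBelow (fun idx => (fun w : List ℕ =>
    w.all (fun i => Nat.blt i D.rank) &&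
    Nat.beq (List.foldr (fun i x => stepN D C i x) E.m w) E.m &&
    eqv D (E.pts.getD idx []) (List.foldr (fun i x => stepL D C i x)
      ((List.range D.rank).map fun j => cond (Nat.beq j E.k) 1 0) w) &&
    Nat.beq (E.pts.getD idx []).length D.rank &&
    Nat.beq (E.deg.getD idx 0) (degZ (E.br rows) (E.pts.getD idx []))) (E.words.getD idx []))
    E.pts.length

variable {D C} (h : Checks D C)
include h

theorem chiU_zN {F : Type u} [Field F] (m : ℕ) {r : ℕ} (hr : r < D.nroots) :
    chiU (zN D m : Fin D.rank → Fˣ) r = if parN D C m r then -1 else 1 := by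
  have key : ∀ (L : List ℕ) (f : ℕ → Fˣ), (∀ j ∈ L, j < D.rank ∧
      f j = if m.testBit j then -1 else 1) →
      (L.map fun j => f j ^ D.cartan j r).prod = if List.rec (motive := fun _ => Bool) false
        (fun j _ ih => xor (and (m.testBit j) (Nat.beq (Int.emod (C.cA j r) 2).natAbs 1)) ih) L
        then -1 else 1 := by
    intro L f
    induction L with
    | nil => simp
    | cons j L ih =>
      intro hL
      obtain ⟨hj, hfj⟩ := hL j (List.mem_cons_self ..)
      rw [List.map_cons, List.prod_cons, ih fun x hx => hL x (List.mem_cons_of_mem _ hx), hfj]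
      set rest : Bool := List.rec (motive := fun _ => Bool) false
        (fun j _ ih => xor (and (m.testBit j) (Nat.beq (Int.emod (C.cA j r) 2).natAbs 1)) ih) L
      show _ = if xor (and (m.testBit j) (Nat.beq (Int.emod (C.cA j r) 2).natAbs 1)) rest then _ else _
      rw [← cartan_eq h hj hr]
      cases m.testBit j with
      | false => simp
      | true =>
        rcases Int.even_or_odd (D.cartan j r) with p | p
        · have e : Nat.beq (Int.emod (D.cartan j r) 2).natAbs 1 = false := by
            rw [nbeq_false_iff, show Int.emod (D.cartan j r) 2 = D.cartan j r % 2 from rfl,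
              Int.even_iff.1 p]
            decide
          simp [e, Even.neg_one_zpow p]
        · have e : Nat.beq (Int.emod (D.cartan j r) 2).natAbs 1 = true := by
            rw [nbeq_iff, show Int.emod (D.cartan j r) 2 = D.cartan j r % 2 from rfl,
              Int.odd_iff.1 p]
            rfl
          rw [Bool.true_and, e, if_pos rfl, Odd.neg_one_zpow p]
          cases rest <;> simp
  have hprod : chiU (zN D m : Fin D.rank → Fˣ) r =
      ((List.range D.rank).map fun j => (if m.testBit j then (-1 : Fˣ) else 1) ^ D.cartan j r).prod := by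
    rw [chiU, ← List.prod_ofFn]
    congr 1
    refine List.ext_getElem (by simp) fun n h1 h2 => by simp [zN]
  rw [hprod, key _ _ fun j hj => ⟨List.mem_range.1 hj, rfl⟩]
  rfl

theorem zN_stepN {F : Type u} [Field F] (hF : Facts.{u} D) (i : Fin D.rank) (m : ℕ) :
    (zN D (stepN D C i m) : Fin D.rank → Fˣ) =
      zN D m * Pi.mulSingle i (chiU (zN D m : Fin D.rank → Fˣ) (D.simple i))⁻¹ := by
  rw [chiU_zN h m (hF.simple_lt i i.2)]
  funext j
  rw [stepN]
  cases hp : parN D C m (D.simple i) with
  | false => simp
  | true =>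
    simp only [cond_true, if_true, inv_neg, inv_one, Pi.mul_apply, zN, Nat.testBit_xor,
      Nat.testBit_two_pow]
    by_cases e : j = i
    · subst e
      rw [Pi.mulSingle_eq_same]
      cases m.testBit j <;> simp
    · rw [Pi.mulSingle_eq_of_ne e, mul_one, decide_eq_false (fun e' => e (Fin.ext e'.symm))]
      simp

theorem chiU_stepN {F : Type u} [Field F] (hF : Facts.{u} D) (i : Fin D.rank) (m : ℕ)
    (r : Fin D.nroots) :
    chiU (zN D (stepN D C i m) : Fin D.rank → Fˣ) (wPerm hF i r : ℕ) = chiU (zN D m) (r : ℕ) := by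
  rw [zN_stepN h hF]
  exact chiU_refl hF i.2 _ r.2

theorem chiU_word {F : Type u} [Field F] (hF : Facts.{u} D) (m : ℕ) :
    ∀ (w : List (Fin D.rank)) (r : Fin D.nroots),
      chiU (zN D ((w.map Fin.val).foldr (fun i x => stepN D C i x) m) : Fin D.rank → Fˣ)
        (pWord hF w r : ℕ) = chiU (zN D m) (r : ℕ)
  | [], _ => rfl
  | i :: w, r => by
    rw [List.map_cons, List.foldr_cons, pWord_cons, Equiv.Perm.mul_apply, chiU_stepN h hF,
      chiU_word hF m w r]

omit h in
theorem dotL_range : ∀ (a b : List ℤ),
    dotL a b = ∑ j ∈ Finset.range a.length, a.getD j 0 * b.getD j 0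
  | [], b => by simp [dotL]
  | x :: a, [] => by
    show (0 : ℤ) = _
    simp
  | x :: a, y :: b => by
    rw [dotL_cons, dotL_range a b, List.length_cons, Finset.sum_range_succ']
    simp [add_comm]

variable {F : Type u} [Field F] (hF : Facts.{u} D) {rows : List (List ℤ)}
  (hrows : chkRows D C rows = true)
include hrows

omit hF in
theorem row_eq {r : ℕ} (hr : r < half D) :
    (rows.getD r []).length = D.rank ∧
      ∀ j < D.rank, (rows.getD r []).getD j 0 = coef D r j := by
  have hN := (base_split h).2.1
  simp only [chkRows, Bool.and_eq_true, allBelow_iff, nbeq_iff, zbeq_iff] at hrows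
  exact ⟨(hrows.2 r hr).1, fun j hj => by
    rw [(hrows.2 r hr).2 j hj, coef_eq h hj (by omega)]⟩

omit hF in
theorem dotL_row {r : ℕ} (hr : r < half D) (l : List ℤ) :
    dotL (rows.getD r []) l = lamF (vecOf D l) r := by
  rw [dotL_range, (row_eq h hrows hr).1, lamF, Finset.sum_range]
  exact Finset.sum_congr rfl fun j _ => by rw [(row_eq h hrows hr).2 j j.2]; rfl

/-- Completeness of the search. -/
theorem mem_cands {A₀ A₁ : List ℕ} {bits sb : List Bool} (hbl : bits.length = half D)
    (v : Fin D.rank → ℤ)
    (hv : ∀ r < half D, okVal A₀ A₁ (bits.getD r false) (lamF v r) = true)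
    (hs : ∀ i : Fin D.rank, okVal A₀ A₁ (sb.getD i false) (v i) = true) :
    ∀ n ≤ D.rank, (List.ofFn v).take n ∈ cands A₀ A₁ (bits.zip rows) sb n := by
  intro n
  induction n with
  | zero => intro _; simp [cands]
  | succ n ih =>
    intro hn
    rw [cands, List.mem_filter, List.mem_flatMap]
    refine ⟨⟨_, ih (by omega), ?_⟩, ?_⟩
    · have hval := hs ⟨n, hn⟩
      rw [okVal, List.contains_iff_mem] at hval
      rw [List.mem_flatMap]
      refine ⟨_, hval, ?_⟩
      have ht : (List.ofFn v).take (n + 1) = (List.ofFn v).take n ++ [v ⟨n, hn⟩] := by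
        rw [List.take_succ_eq_append_getElem (by simpa using hn)]
        simp
      by_cases ha : (v ⟨n, hn⟩).natAbs = 0
      · rw [nbeq_iff.2 ha, cond_true, ht, Int.natAbs_eq_zero.1 ha]
        exact List.mem_singleton.2 rfl
      rw [nbeq_false_iff.2 ha, cond_false]
      simp only [ht, List.mem_cons, List.not_mem_nil, or_false, List.append_cancel_left_eq,
        List.cons.injEq, and_true]
      exact Int.natAbs_eq _
    · simp only [List.all_eq_true]
      rintro ⟨b, row⟩ hp
      obtain ⟨r, hr, e⟩ := List.mem_iff_getElem.1 hp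
      rw [List.getElem_zip, Prod.mk.injEq] at e
      have hr' : r < half D := by simp at hr; omega
      have hb : b = bits.getD r false := by
        rw [← e.1, List.getD_eq_getElem _ _ (by omega)]
      have hrow : row = rows.getD r [] := by
        rw [← e.2, List.getD_eq_getElem _ _ (by simp at hr; omega)]
      cases hc : (row.drop (n + 1)).all fun x => zbeq x 0
      · rfl
      simp only [cond_true]
      rw [hb, hrow, dotL_row h hrows hr']
      convert hv r hr' using 2
      refine Finset.sum_congr rfl fun j _ => ?_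
      by_cases hj : (j : ℕ) < n + 1
      · simp [vecOf, List.getD_eq_getElem?_getD, List.getElem?_take, hj]
      · rw [List.all_eq_true] at hc
        have h0 : coef D r j = 0 := by
          rw [← (row_eq h hrows hr').2 j j.2, ← hrow]
          refine zbeq_iff.1 (hc _ ?_)
          rw [List.mem_iff_getElem]
          have hlen : row.length = D.rank := hrow ▸ (row_eq h hrows hr').1
          refine ⟨j - (n + 1), by rw [List.length_drop]; omega, ?_⟩
          rw [List.getElem_drop, List.getD_eq_getElem _ _ (by omega)]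
          congr 1
          omega
        rw [h0]; simp

/-- The sum over the stabiliser by the cosets of the parabolic subgroup. -/
theorem sum_stab {E : Data} (hE : chkStab D C rows E = true) (hodd : (-1 : Fˣ) ≠ 1) (q : ℕ) :
    ∑ π ∈ stabSet hF (zN D E.m : Fin D.rank → Fˣ), q ^ invCardZ (zN D E.m : Fin D.rank → Fˣ) π =
      (E.deg.map (q ^ ·)).sum *
        poin hF (Finset.univ.filter fun i : Fin D.rank => (i : ℕ) ≠ E.k) q := by
  classical
  simp only [chkStab, Bool.and_eq_true, allBelow_iff, force_eq, nblt_iff, nbeq_iff,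
    List.all_eq_true, List.any_eq_true, eqv_iff, beq_iff_eq] at hE
  obtain ⟨⟨⟨⟨⟨⟨⟨⟨⟨⟨hk, hbl⟩, hbits⟩, hsb⟩, hK⟩, hval⟩, hcands⟩, hnd⟩, hwl⟩, hdl⟩, hpts⟩ := hE
  have hN := (base_split h).2.1
  set k : Fin D.rank := ⟨E.k, hk⟩ with hkdef
  set K : Finset (Fin D.rank) := (Finset.univ : Finset (Fin D.rank)).erase k with hKdef
  have hKeq : (Finset.univ.filter fun i : Fin D.rank => (i : ℕ) ≠ E.k) = K := by
    ext i
    simp [hKdef, hkdef, Fin.ext_iff]
  rw [hKeq]
  set z : Fin D.rank → Fˣ := zN D E.m with hz
  have hz1 : ∀ r < D.nroots, (chiU z r = 1 ↔ parN D C E.m r = false) := fun r hr => by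
    rw [hz, chiU_zN h E.m hr]
    cases parN D C E.m r <;> simp [hodd]
  -- parities of negative roots and their negatives
  have hpar : ∀ r : Fin D.nroots, (r : ℕ) < half D →
      parN D C E.m (negF hF r : ℕ) = parN D C E.m r := fun r _ => by
    have hn : chiU z (negF hF r : ℕ) = (chiU z (r : ℕ))⁻¹ := chiU_neg hF z r.2
    rw [hz, chiU_zN h E.m (negF hF r).2, chiU_zN h E.m r.2] at hn
    revert hn
    cases parN D C E.m (negF hF r : ℕ) <;> cases parN D C E.m (r : ℕ) <;> simp [hodd, hodd.symm]
  have hall : ∀ r : Fin D.nroots,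
      okVal E.A₀ E.A₁ (parN D C E.m r) (coef D r E.k) = true ∧
        (coef D r E.k = 0 → parN D C E.m r = false) := by
    have hneg : ∀ r : Fin D.nroots, (r : ℕ) < half D →
        okVal E.A₀ E.A₁ (parN D C E.m r) (coef D r E.k) = true ∧
          (coef D r E.k = 0 → parN D C E.m r = false) := fun r hr => by
      obtain ⟨h1, h2⟩ := hval r hr
      rw [(row_eq h hrows hr).2 E.k hk, hbits r hr] at h1 h2
      refine ⟨h1, fun e => ?_⟩
      rw [zbeq_iff.2 e, cond_true, Bool.not_eq_true'] at h2
      exact h2
    intro r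
    by_cases hr : (r : ℕ) < half D
    · exact hneg r hr
    · have hr' : (negF hF r : ℕ) < half D :=
        (neg_lt_half_iff hF r.2).2 (not_lt.1 hr)
      obtain ⟨h1, h2⟩ := hneg _ hr'
      have hp := hpar _ hr'
      rw [negF_negF] at hp
      have hc : coef D (negF hF r : ℕ) E.k = -coef D r E.k := hF.coef_neg r r.2 E.k hk
      rw [← hp, hc] at h1 h2
      refine ⟨?_, fun e => h2 (by rw [e, neg_zero])⟩
      simpa [okVal] using h1
  have hKstab : ∀ v ∈ wJ hF K, ∀ r : Fin D.nroots, chiU z (v r : ℕ) = chiU z (r : ℕ) := by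
    intro v hv
    obtain ⟨w, hw, rfl⟩ := exists_pWord_J hF hv
    intro r
    have hfix : (w.map Fin.val).foldr (fun i x => stepN D C i x) E.m = E.m := by
      induction w with
      | nil => rfl
      | cons i w ih =>
        simp only [List.mem_cons, forall_eq_or_imp] at hw
        rw [List.map_cons, List.foldr_cons, ih hw.2 (pWord_mem_J hF hw.2)]
        have hi := hK i i.2
        rw [nbeq_false_iff.2 (fun e => (Finset.mem_erase.1 hw.1).1 (Fin.ext e))] at hi
        simpa using hi
    have := chiU_word h hF E.m w r (F := F)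
    rwa [hfix] at this
  -- the functional of a coset
  set S := stabSet hF z with hS
  set T := (wJ hF K : Set (Equiv.Perm (Fin D.nroots))).toFinite.toFinset with hT
  set Λ := (E.pts.map (vecOf D)).toFinset.image
    fun v => fun r : Fin D.nroots => lamF v (r : ℕ) with hΛ
  have hmaps : ∀ π ∈ S, cosetFun k π ∈ Λ := by
    intro π hπ
    obtain ⟨hπW, hπz⟩ := (mem_stabSet hF z).1 hπ
    obtain ⟨w, hw⟩ := exists_pWord hF (Subgroup.inv_mem _ hπW)
    set v : Fin D.rank → ℤ := fun i => coef D (π⁻¹ (sRoot hF i) : Fin D.nroots) E.k with hv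
    have hvr : ∀ r : Fin D.nroots, lamF v (r : ℕ) = coef D (π⁻¹ r : Fin D.nroots) E.k := by
      intro r
      rw [← hw, show E.k = ((k : Fin D.rank) : ℕ) from rfl, coef_pWord hF w r k, hw]
      rfl
    have hpz : ∀ r : Fin D.nroots, parN D C E.m (π⁻¹ r : Fin D.nroots) = parN D C E.m r := by
      intro r
      have e := hπz (π⁻¹ r)
      rw [app_inv, hz, chiU_zN h E.m r.2, chiU_zN h E.m (π⁻¹ r).2] at e
      revert e
      cases parN D C E.m (π⁻¹ r : Fin D.nroots) <;> cases parN D C E.m (r : ℕ) <;>
        simp [hodd, hodd.symm]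
    have hmem := mem_cands h hrows (A₀ := E.A₀) (A₁ := E.A₁) (sb := E.sb) hbl v
      (fun r hr => by
        have e := (hall (π⁻¹ ⟨r, by omega⟩)).1
        rw [hpz, ← hvr] at e
        rw [hbits r hr]
        exact e)
      (fun i => by
        have e := (hall (π⁻¹ (sRoot hF i))).1
        rw [hpz] at e
        rw [hsb i i.2]
        exact e) D.rank le_rfl
    obtain ⟨p, hp, e⟩ := hcands _ hmem
    have hvec : vecOf D ((List.ofFn v).take D.rank) = v := by
      funext j
      simp [vecOf, List.getD_eq_getElem?_getD, List.getElem?_take]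
    refine Finset.mem_image.2 ⟨v, List.mem_toFinset.2 ?_, funext fun r => hvr r⟩
    rw [← hvec, ← e]
    exact List.mem_map_of_mem hp
  have hone : vecOf D ((List.range D.rank).map fun j => cond (Nat.beq j E.k) (1 : ℤ) 0) =
      Pi.single k 1 := by
    funext j
    simp only [vecOf, List.getD_eq_getElem?_getD, List.getElem?_map, List.getElem?_range j.2,
      Option.map_some, Option.getD_some]
    by_cases e : (j : ℕ) = E.k
    · rw [nbeq_iff.2 e, cond_true, show j = k from Fin.ext e, Pi.single_eq_same]
    · rw [nbeq_false_iff.2 e, cond_false, Pi.single_eq_of_ne (fun e' => e (congrArg Fin.val e'))]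
  have hreach : ∀ idx < E.pts.length, ∃ π ∈ S,
      cosetFun k π = fun r : Fin D.nroots => lamF (vecOf D (E.pts.getD idx [])) (r : ℕ) := by
    intro idx hidx
    obtain ⟨⟨⟨⟨hw, hstab⟩, hpt⟩, -⟩, -⟩ := hpts idx hidx
    obtain ⟨w, hwm⟩ : ∃ w : List (Fin D.rank), w.map Fin.val = E.words.getD idx [] :=
      ⟨(E.words.getD idx []).pmap (fun i hi => (⟨i, hi⟩ : Fin D.rank)) hw, by
        rw [List.map_pmap]; simp⟩
    rw [← hwm] at hstab hpt
    refine ⟨pWord hF w, (mem_stabSet hF z).2 ⟨pWord_mem hF w, fun r => ?_⟩, ?_⟩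
    · have := chiU_word h hF E.m w r (F := F)
      rwa [hstab] at this
    · rw [hpt]
      clear hwm hstab hpt
      induction w with
      | nil => rw [List.map_nil, List.foldr_nil, hone]; exact cosetFun_one k
      | cons i w ih =>
        rw [List.map_cons, List.foldr_cons, vecOf_stepL h, pWord_cons]
        exact cosetFun_step hF ih
  have hfib : ∀ f ∈ Λ, ∑ π ∈ S with cosetFun k π = f, q ^ invCardZ z π =
      q ^ (Finset.univ.filter fun r : Fin D.nroots =>
        (r : ℕ) < half D ∧ chiU z (r : ℕ) = 1 ∧ 0 < f r).card * poin hF K q := by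
    intro f hf
    obtain ⟨v, hv, rfl⟩ := Finset.mem_image.1 hf
    obtain ⟨l, hl, rfl⟩ := List.mem_map.1 (List.mem_toFinset.1 hv)
    obtain ⟨idx, hidx, rfl⟩ := List.mem_iff_getElem.1 hl
    obtain ⟨π₀, hπ₀, e₀⟩ := hreach idx hidx
    rw [List.getD_eq_getElem _ _ hidx] at e₀
    obtain ⟨hπ₀W, hπ₀z⟩ := (mem_stabSet hF z).1 hπ₀
    rw [← wJ_univ hF] at hπ₀W
    obtain ⟨u, hu, hcu, hmin⟩ := exists_minimal hF (k := k) hπ₀W
    have hq₀ := (cosetFun_eq_iff hF hu hπ₀W).1 hcu
    have huz : ∀ r : Fin D.nroots, chiU z (u r : ℕ) = chiU z (r : ℕ) := by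
      intro r
      have e1 := hπ₀z ((u⁻¹ * π₀)⁻¹ r)
      rw [show π₀ ((u⁻¹ * π₀)⁻¹ r) = u r by
        rw [mul_inv_rev, inv_inv, Equiv.Perm.mul_apply, app_inv]] at e1
      rw [e1]
      exact (hKstab _ (Subgroup.inv_mem _ hq₀) r)
    rw [poin, ← hT, Finset.mul_sum]
    refine Finset.sum_bij' (fun π _ => u⁻¹ * π) (fun τ _ => u * τ) ?_ ?_ ?_ ?_ ?_
    · intro π hπ
      simp only [hT, Finset.mem_filter, Set.Finite.mem_toFinset, SetLike.mem_coe] at hπ ⊢
      have hπW : π ∈ wJ hF Finset.univ := by
        rw [wJ_univ]; exact ((mem_stabSet hF z).1 hπ.1).1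
      exact (cosetFun_eq_iff hF hu hπW).1 (hcu.trans (e₀.trans hπ.2.symm))
    · intro τ hτ
      simp only [hT, Finset.mem_filter, Set.Finite.mem_toFinset, SetLike.mem_coe] at hτ ⊢
      have huτ : u * τ ∈ wJ hF Finset.univ :=
        Subgroup.mul_mem _ hu (wJ_mono hF (Finset.erase_subset k Finset.univ) hτ)
      refine ⟨(mem_stabSet hF z).2 ⟨wJ_univ hF ▸ huτ, fun r => ?_⟩, ?_⟩
      · rw [Equiv.Perm.mul_apply, huz, hKstab τ hτ]
      · rw [← e₀, ← hcu]
        exact ((cosetFun_eq_iff hF hu huτ).2 (by rwa [inv_mul_cancel_left])).symm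
    · intro π _; exact mul_inv_cancel_left u π
    · intro τ _; exact inv_mul_cancel_left u τ
    · intro π hπ
      simp only [Finset.mem_filter] at hπ
      have hπW : π ∈ wJ hF Finset.univ := by
        rw [wJ_univ]; exact ((mem_stabSet hF z).1 hπ.1).1
      have hv' := (cosetFun_eq_iff hF hu hπW).1 (hcu.trans (e₀.trans hπ.2.symm))
      set τ := u⁻¹ * π with hτ
      have hπe : π = u * τ := by rw [hτ, mul_inv_cancel_left]
      have hπz := ((mem_stabSet hF z).1 hπ.1).2
      rw [← pow_add]
      congr 1
      have hsplit := invCard_split hF hu hmin hv'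
      rw [hcu, e₀, ← hπe, invCard_eq] at hsplit
      have hc1 := Finset.card_filter_add_card_filter_not (s := invSet π)
        (fun r : Fin D.nroots => coef D r E.k ≠ 0)
      have hkK : k ∉ K := Finset.notMem_erase k Finset.univ
      have hbij : ∀ (P : Fin D.nroots → Prop) [DecidablePred P],
          (∀ r, P (π r) ↔ P r) →
          ((invSet π).filter fun r : Fin D.nroots => coef D r E.k ≠ 0 ∧ P r).card =
          (Finset.univ.filter fun r : Fin D.nroots => (r : ℕ) < half D ∧ P r ∧
            0 < lamF (vecOf D E.pts[idx]) (r : ℕ)).card := by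
        intro P _ hP
        refine Finset.card_bij (fun r _ => π r) ?_ (fun a _ b _ e => π.injective e) ?_
        · intro r hr
          simp only [invSet, Finset.mem_filter, Finset.mem_univ, true_and] at hr ⊢
          refine ⟨hr.1.2, (hP r).2 hr.2.2, ?_⟩
          rw [← congrFun e₀ (π r), ← hcu]
          show 0 < coef D (u⁻¹ (π r) : Fin D.nroots) E.k
          rw [hπe, Equiv.Perm.mul_apply, inv_app,
            show E.k = ((k : Fin D.rank) : ℕ) from rfl, coef_of_not_mem hF hv' r hkK]
          exact lt_of_le_of_ne (coef_nonneg hF r.2 hr.1.1) (Ne.symm hr.2.1)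
        · intro s hs
          simp only [Finset.mem_filter, Finset.mem_univ, true_and] at hs
          refine ⟨π⁻¹ s, ?_, app_inv π s⟩
          have hpos : 0 < coef D (π⁻¹ s : Fin D.nroots) E.k := by
            rw [show E.k = ((k : Fin D.rank) : ℕ) from rfl, hπe, mul_inv_rev,
              Equiv.Perm.mul_apply, coef_of_not_mem hF (Subgroup.inv_mem _ hv') _ hkK]
            have := hs.2.2
            rw [← congrFun e₀ s, ← hcu] at this
            exact this
          simp only [invSet, Finset.mem_filter, Finset.mem_univ, true_and]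
          refine ⟨⟨(pos_iff_exists_coef hF (π⁻¹ s).2).2 ⟨k, k.2, hpos⟩, by
            rw [app_inv]; exact hs.1⟩, hpos.ne', ?_⟩
          rw [← hP, app_inv]
          exact hs.2.1
      have b1 := hbij (fun _ => True) (fun _ => Iff.rfl)
      simp only [and_true, true_and] at b1
      have b2 := hbij (fun r => chiU z (r : ℕ) = 1) (fun r => by rw [hπz r])
      rw [posNegCount] at hsplit
      rw [b1] at hc1
      rw [invCardZ, Nat.card_eq_fintype_card, Fintype.card_subtype]
      have hc2 := Finset.card_filter_add_card_filter_not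
        (s := (invSet π).filter fun r : Fin D.nroots => chiU z (r : ℕ) = 1)
        (fun r : Fin D.nroots => coef D r E.k ≠ 0)
      have e1 : ((invSet π).filter fun r : Fin D.nroots => chiU z (r : ℕ) = 1).filter
          (fun r : Fin D.nroots => coef D r E.k ≠ 0) =
          (invSet π).filter fun r : Fin D.nroots => coef D r E.k ≠ 0 ∧ chiU z (r : ℕ) = 1 := by
        ext r; simp only [Finset.mem_filter]; exact ⟨fun h' => ⟨h'.1.1, h'.2, h'.1.2⟩, fun h' => ⟨⟨h'.1, h'.2.2⟩, h'.2.1⟩⟩
      have e2 : ((invSet π).filter fun r : Fin D.nroots => chiU z (r : ℕ) = 1).filter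
          (fun r : Fin D.nroots => ¬ coef D r E.k ≠ 0) =
          (invSet π).filter fun r : Fin D.nroots => ¬ coef D r E.k ≠ 0 := by
        ext r
        simp only [Finset.mem_filter, not_not]
        exact ⟨fun h' => ⟨h'.1.1, h'.2⟩,
          fun h' => ⟨⟨h'.1, (hz1 r r.2).2 ((hall r).2 h'.2)⟩, h'.2⟩⟩
      have e3 : (Finset.univ.filter fun r : Fin D.nroots =>
          half D ≤ (r : ℕ) ∧ ((π r : ℕ) < half D ∧ chiU z (r : ℕ) = 1)) =
          (invSet π).filter fun r : Fin D.nroots => chiU z (r : ℕ) = 1 := by
        ext r; simp [invSet, and_assoc]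
      rw [e1, e2, b2] at hc2
      rw [e3]
      beta_reduce at hsplit hc1 hc2 ⊢
      omega
  rw [← Finset.sum_fiberwise_of_maps_to hmaps, Finset.sum_congr rfl hfib, ← Finset.sum_mul, hΛ,
    Finset.sum_image (fun a _ b _ e => lamF_injective hF (congrFun e)),
    List.sum_toFinset _ (nodup_of_chk hnd), List.map_map]
  congr 2
  refine List.ext_getElem (by simp [hdl]) fun idx h1 h2 => ?_
  simp only [List.getElem_map, Function.comp_apply]
  simp only [List.length_map] at h1
  congr 1
  obtain ⟨-, hdeg⟩ := hpts idx h1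
  rw [List.getD_eq_getElem _ _ (hdl ▸ h1), List.getD_eq_getElem _ _ h1] at hdeg
  rw [hdeg, degZ]
  have hlen : (E.br rows).length = half D := by
    have : rows.length = half D := by
      simp only [chkRows, Bool.and_eq_true, nbeq_iff] at hrows
      exact hrows.1
    simp [Data.br, hbl, this]
  have hlist : E.br rows = (List.range (half D)).map fun r => (E.bits.getD r false, rows.getD r []) := by
    refine List.ext_getElem (by simp [hlen]) fun n a b => ?_
    simp only [Data.br, List.length_zip] at a
    simp [Data.br, List.getD_eq_getElem?_getD, List.getElem?_eq_getElem (show n < E.bits.length by omega),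
      List.getElem?_eq_getElem (show n < rows.length by omega)]
  rw [hlist, List.filter_map]
  simp only [List.length_map]
  rw [
    ← List.toFinset_card_of_nodup (List.nodup_range.filter _)]
  refine Finset.card_bij (fun r _ => (r : ℕ)) ?_ (fun a _ b _ e => Fin.ext e) ?_
  · intro r hr
    simp only [Finset.mem_filter, Finset.mem_univ, true_and] at hr
    simp only [List.mem_toFinset, List.mem_filter, List.mem_range, Function.comp_apply,
      Bool.and_eq_true, Bool.not_eq_true', zpos_iff, hbits _ hr.1, dotL_row h hrows hr.1]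
    exact ⟨hr.1, (hz1 r r.2).1 hr.2.1, hr.2.2⟩
  · intro s hs
    simp only [List.mem_toFinset, List.mem_filter, List.mem_range, Function.comp_apply,
      Bool.and_eq_true, Bool.not_eq_true', zpos_iff] at hs
    refine ⟨⟨s, by omega⟩, ?_, rfl⟩
    simp only [Finset.mem_filter, Finset.mem_univ, true_and]
    rw [hbits s hs.1, dotL_row h hrows hs.1] at hs
    exact ⟨hs.1, (hz1 s (by omega)).2 hs.2.1, hs.2.2⟩

end StabCount

end Cfsg.Agent.Chev
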