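import Cfsg.Agent.Chev.InvolClass
import Cfsg.Agent.Chev.StabCount
import Cfsg.Agent.Chev.WeylCard

/-!
Two classes of involutions in odd characteristic and the orders of their centralisers, from
certificates on bit vectors.
-/

set_option autoImplicit false
set_option maxHeartbeats 1000000

namespace Cfsg.Agent.Chev

open Cfsg.Lie

universe u

namespace InvolTwo

open InvolTorus StabCount CentTorus

variable (D : ChevalleyDatum) (C : Cert)

/-- Every nonzero bit vector is led to one of two by a word of reflections. -/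
noncomputable def chkOrbit (mA mB : ℕ) (ws : List (List ℕ)) : Bool :=
  allBelow (fun x => cond (Nat.beq x 0) true
    ((fun w : List ℕ => w.all (fun i => Nat.blt i D.rank) &&
      (Nat.beq (w.foldr (fun i y => stepN D C i y) x) mA ||
        Nat.beq (w.foldr (fun i y => stepN D C i y) x) mB)) (ws.getD x []))) (2 ^ D.rank)

/-- The number of negative roots of trivial parity. -/
def fixCount (E : Data) : ℕ := (E.bits.filter fun b => !b).length

variable {D C} (h : Checks D C) {F : Type u} [Field F] (hF : Facts.{u} D)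
include h hF

theorem cj_word (x : ℕ) : ∀ w : List (Fin D.rank),
    Cj (torusHom (zN D x) : GL D.Idx F)
      (torusHom (zN D ((w.map Fin.val).foldr (fun i y => stepN D C i y) x)))
  | [] => Cj.refl _
  | i :: w => by
    refine (cj_word x w).trans ⟨nS hF (i : ℕ), nG_mem_group hF _ _, ?_⟩
    rw [nS_conj_torus hF i.2, mul_inv_cancel_right, List.map_cons, List.foldr_cons,
      zN_stepN h hF i]

variable [Fintype F]

theorem neg_one_ne (hodd : Odd (Fintype.card F)) : (-1 : Fˣ) ≠ 1 := fun e => by
  have he := congrArg Units.val e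
  rw [Units.val_neg, Units.val_one] at he
  refine Ring.neg_one_ne_one_of_char_ne_two (fun hc => ?_) he
  have := FiniteField.even_card_iff_char_two.1 hc
  rw [Nat.odd_iff] at hodd
  omega

variable (hinj : Function.Injective (torusHom : (Fin D.rank → Fˣ) →* GL D.Idx F))
  (hodd : Odd (Fintype.card F))
include hinj hodd

theorem torus_mem (m : ℕ) : (torusHom (zN D m) : GL D.Idx F) ∈ D.group F :=
  borel_le_group hF (Subgroup.mem_sup_right (torusHom_mem hF _))

theorem orderOf_zN {m : ℕ} (hm : ∃ j : Fin D.rank, m.testBit j = true) :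
    orderOf (⟨torusHom (zN D m), torus_mem h hF hinj hodd m⟩ : ↥(D.group F)) = 2 := by
  obtain ⟨j, hj⟩ := hm
  have : Fact (Nat.Prime 2) := ⟨Nat.prime_two⟩
  refine orderOf_eq_prime (Subtype.ext ?_) fun e => ?_
  · show (torusHom (zN D m) : GL D.Idx F) ^ 2 = 1
    rw [← map_pow, show (zN D m : Fin D.rank → Fˣ) ^ 2 = 1 from funext fun i => by
      simp only [Pi.pow_apply, zN, Pi.one_apply]
      split <;> simp, map_one]
  · have e' : (torusHom (zN D m) : GL D.Idx F) = torusHom 1 := by
      rw [map_one]; exact congrArg Subtype.val e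
    have he := congrFun (hinj e') j
    rw [zN, hj, if_pos rfl] at he
    exact neg_one_ne h hF hodd he

theorem conj_cases (hadj : InvolClass.Adjacent D) {mA mB : ℕ} {ws : List (List ℕ)}
    (hws : chkOrbit D C mA mB ws = true) (u : ↥(D.group F)) (hu : orderOf u = 2) :
    IsConj u ⟨torusHom (zN D mA), torus_mem h hF hinj hodd mA⟩ ∨
      IsConj u ⟨torusHom (zN D mB), torus_mem h hF hinj hodd mB⟩ := by
  classical
  simp only [chkOrbit, allBelow_iff, Bool.and_eq_true, Bool.or_eq_true, List.all_eq_true,
    nblt_iff, nbeq_iff] at hws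
  have h1 : u ^ 2 = 1 := hu ▸ pow_orderOf_eq_one u
  obtain ⟨c, hc⟩ := InvolClass.exists_torus hF hinj hadj hodd u.2
    (congrArg Subtype.val ((sq u).symm.trans h1 : u * u = 1))
  have hcc : c * c = 1 := hinj (by
    rw [map_mul, map_one]
    exact hc.sq (congrArg Subtype.val ((sq u).symm.trans h1 : u * u = 1)))
  set x : ℕ := Nat.ofBits (fun j : Fin D.rank => decide (c j = -1)) with hx
  have hcx : c = zN D x := funext fun j => by
    have e := congrFun hcc j
    rw [Pi.mul_apply, Pi.one_apply, ← sq, Units.ext_iff, Units.val_pow_eq_pow_val, Units.val_one,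
      sq_eq_one_iff] at e
    have hb : x.testBit j = decide (c j = -1) := by
      rw [hx, Nat.testBit_ofBits, dif_pos j.2]
    rw [zN, hb]
    rcases e with e | e
    · have e' : c j = 1 := Units.ext e
      rw [e', decide_eq_false (Ne.symm (neg_one_ne h hF hodd)), if_neg (by simp)]
    · have e' : c j = -1 := Units.ext (by simpa using e)
      simp [e']
  have hx0 : x ≠ 0 := fun e => by
    refine hc.ne_one (fun e' => ?_) ?_
    · rw [show u = 1 from Subtype.ext e', orderOf_one] at hu
      norm_num at hu
    · rw [hcx, e, show (zN D 0 : Fin D.rank → Fˣ) = 1 from funext fun j => by simp [zN], map_one]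
  have hxl : x < 2 ^ D.rank := Nat.ofBits_lt_two_pow _
  have hw := hws x hxl
  rw [nbeq_false_iff.2 hx0] at hw
  simp only [cond_false, Bool.and_eq_true, List.all_eq_true, nblt_iff, Bool.or_eq_true,
    nbeq_iff] at hw
  obtain ⟨w, hwm⟩ : ∃ w : List (Fin D.rank), w.map Fin.val = ws.getD x [] :=
    ⟨(ws.getD x []).pmap (fun i hi => (⟨i, hi⟩ : Fin D.rank)) hw.1, by rw [List.map_pmap]; simp⟩
  have hcj : Cj (u : GL D.Idx F) _ := (hcx ▸ hc).trans (cj_word h hF x w)
  rw [hwm] at hcj
  rcases hw.2 with e | e <;> rw [e] at hcj <;> obtain ⟨g, hg, hgu⟩ := hcj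
  · exact Or.inl (isConj_iff.2 ⟨⟨g, hg⟩, Subtype.ext hgu⟩)
  · exact Or.inr (isConj_iff.2 ⟨⟨g, hg⟩, Subtype.ext hgu⟩)

/-- The order of the centraliser of a certified involution. -/
theorem card_cent {rows : List (List ℤ)} (hrows : chkRows D C rows = true) {E : Data}
    (hE : chkStab D C rows E = true) {Ls : List Level} (hc : chkChain D C rows Ls = true)
    (hkeys : allBelow (fun i => (Ls.map Level.k).contains i == !Nat.beq i E.k) D.rank = true)
    {ds : List ℕ} (hf : chkFactor (E.deg :: Ls.map Level.deg) D.rank ds = true) :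
    Nat.card ↥(Subgroup.centralizer
        ({⟨torusHom (zN D E.m), torus_mem h hF hinj hodd E.m⟩} : Set ↥(D.group F))) =
      Fintype.card F ^ fixCount E * (ds.map fun e => Fintype.card F ^ e - 1).prod := by
  classical
  set T : GL D.Idx F := torusHom (zN D E.m) with hT
  have hne := neg_one_ne h hF hodd
  have e1 : Subgroup.centralizer ({⟨T, torus_mem h hF hinj hodd E.m⟩} : Set ↥(D.group F)) =
      (D.group F ⊓ Subgroup.centralizer {T}).subgroupOf (D.group F) := by
    ext x
    rw [Subgroup.mem_subgroupOf, Subgroup.mem_inf, Subgroup.mem_centralizer_singleton_iff,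
      Subgroup.mem_centralizer_singleton_iff]
    exact ⟨fun e => ⟨x.2, congrArg Subtype.val e⟩, fun e => Subtype.ext e.2⟩
  have hkeq : (Finset.univ.filter fun i : Fin D.rank => (i : ℕ) ≠ E.k) =
      setJ D (Ls.map Level.k) := by
    simp only [allBelow_iff, beq_iff_eq] at hkeys
    ext i
    simp only [setJ, Finset.mem_filter, Finset.mem_univ, true_and]
    have := hkeys i i.2
    rw [← List.contains_iff_mem, this, Bool.not_eq_true', nbeq_false_iff]
  have hcnt : Nat.card {r : Fin D.nroots //
      half D ≤ (r : ℕ) ∧ (True ∧ chiU (zN D E.m : Fin D.rank → Fˣ) (r : ℕ) = 1)} = fixCount E := by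
    simp only [chkStab, Bool.and_eq_true, allBelow_iff, nblt_iff, nbeq_iff, beq_iff_eq] at hE
    have hbl := hE.1.1.1.1.1.1.1.1.1.2
    have hbits := hE.1.1.1.1.1.1.1.1.2
    have hN := (base_split h).2.1
    have hlist : E.bits = (List.range (half D)).map fun r => parN D C E.m r := by
      refine List.ext_getElem (by simp [hbl]) fun n a b => ?_
      simp only [List.getElem_map, List.getElem_range]
      rw [← hbits n (by omega), List.getD_eq_getElem _ _ a]
    rw [fixCount, hlist, List.filter_map, List.length_map,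
      ← List.toFinset_card_of_nodup (List.nodup_range.filter _), Nat.card_eq_fintype_card,
      Fintype.card_subtype]
    have hz1 : ∀ r < D.nroots, (chiU (zN D E.m : Fin D.rank → Fˣ) r = 1 ↔
        parN D C E.m r = false) := fun r hr => by
      rw [chiU_zN h E.m hr]
      cases parN D C E.m r <;> simp [hne]
    have hneg : ∀ r : Fin D.nroots, chiU (zN D E.m : Fin D.rank → Fˣ) (negF hF r : ℕ) = 1 ↔
        chiU (zN D E.m : Fin D.rank → Fˣ) (r : ℕ) = 1 := fun r => by
      rw [show (negF hF r : ℕ) = D.neg r from rfl, chiU_neg hF _ r.2, inv_eq_one]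
    refine Finset.card_bij (fun r _ => (negF hF r : ℕ)) ?_ ?_ ?_
    · intro r hr
      simp only [Finset.mem_filter, Finset.mem_univ, true_and] at hr
      have hlt : (negF hF r : ℕ) < half D := (neg_lt_half_iff hF r.2).2 hr.1
      simp only [List.mem_toFinset, List.mem_filter, List.mem_range, Function.comp_apply,
        Bool.not_eq_true']
      exact ⟨hlt, (hz1 _ (negF hF r).2).1 ((hneg r).2 hr.2)⟩
    · intro a _ b _ e
      rw [← negF_negF hF a, show negF hF a = negF hF b from Fin.ext e, negF_negF]
    · intro s hs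
      simp only [List.mem_toFinset, List.mem_filter, List.mem_range, Function.comp_apply,
        Bool.not_eq_true'] at hs
      refine ⟨negF hF ⟨s, by omega⟩, ?_, by rw [negF_negF]⟩
      simp only [Finset.mem_filter, Finset.mem_univ, true_and]
      exact ⟨(pos_negF_iff hF _).2 hs.1, (hneg _).2 ((hz1 s (by omega)).2 hs.2)⟩
  rw [e1, Nat.card_congr (Subgroup.subgroupOfEquivOfLe inf_le_left).toEquiv,
    card_centralizer hF _ hinj, sum_stab h hF hrows hE hne, hkeq,
    (poin_chain h hF hrows _ Ls hc).1, hcnt, ← factor_of_chk hf (Fintype.card_pos (α := F)),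
    List.map_cons, List.prod_cons, List.map_map, Function.comp_def]
  ring

omit h hF hinj hodd [Fintype F] in
theorem card_centralizer_conj {G : Type*} [Group G] {s t : G} (hst : IsConj s t) :
    Nat.card ↥(Subgroup.centralizer ({s} : Set G)) =
      Nat.card ↥(Subgroup.centralizer ({t} : Set G)) := by
  obtain ⟨c, rfl⟩ := isConj_iff.1 hst
  refine Nat.card_congr ((MulAut.conj c).toEquiv.subtypeEquiv fun g => ?_)
  show g ∈ Subgroup.centralizer ({s} : Set G) ↔ c * g * c⁻¹ ∈ _
  rw [Subgroup.mem_centralizer_singleton_iff, Subgroup.mem_centralizer_singleton_iff]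
  constructor
  · intro e
    rw [show c * g * c⁻¹ * (c * s * c⁻¹) = c * (g * s) * c⁻¹ by group, e]
    group
  · intro e
    calc g * s = c⁻¹ * (c * g * c⁻¹ * (c * s * c⁻¹)) * c := by group
      _ = c⁻¹ * (c * s * c⁻¹ * (c * g * c⁻¹)) * c := by rw [e]
      _ = s * g := by group

end InvolTwo

end Cfsg.Agent.Chev
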