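import Cfsg.Agent.Chev.InvolTwo
import Cfsg.Agent.Chev.WeylAll
import Cfsg.Agent.Chev.FieldFixed

/-! Certificates for the two classes of involutions of `chevE8` in odd characteristic; computed
from the frozen tables and checked by the kernel. -/

set_option autoImplicit false
set_option maxRecDepth 100000

namespace Cfsg.Agent.Chev

namespace InvolTwo

open Cfsg.Lie
open scoped MatrixGroups

universe u

/-- The certificate of the stabiliser of the involution `6`. -/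
def e8Stab6 : StabCount.Data where
  m := 6
  k := 0
  A₀ := [0, 2]
  A₁ := [1]
  bits := [false, false, false, false, false, false, false, false, false, false, false, false, false, false, true, true, true, true, true, true, true, true, true, true, true, true, true, true, true, true, true, true, true, true, true, true, true, true, true, true, true, true, true, true, true, true, true, true, true, true, true, true, true, true, true, true, true, true, true, true, true, true, true, true, true, true, true, true, true, true, true, true, true, true, true, true, true, true, false, false, false, false, false, false, false, false, false, false, false, false, false, false, false, false, false, false, false, false, false, false, false, false, false, false, false, false, false, false, false, false, false, false, false,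 false, false, false, false, false, false, false]
  sb := [true, false, false, false, false, false, false, false]
  pts := [[.ofNat (nat_lit 1), .ofNat (nat_lit 0), .ofNat (nat_lit 0), .ofNat (nat_lit 0), .ofNat (nat_lit 0), .ofNat (nat_lit 0), .ofNat (nat_lit 0), .ofNat (nat_lit 0)], [.negSucc (nat_lit 0), .ofNat (nat_lit 0), .ofNat (nat_lit 0), .ofNat (nat_lit 0), .ofNat (nat_lit 0), .ofNat (nat_lit 0), .ofNat (nat_lit 0), .ofNat (nat_lit 2)], [.negSucc (nat_lit 0), .ofNat (nat_lit 0), .ofNat (nat_lit 0), .ofNat (nat_lit 0), .ofNat (nat_lit 0), .ofNat (nat_lit 0), .ofNat (nat_lit 2), .negSucc (nat_lit 1)], [.negSucc (nat_lit 0), .ofNat (nat_lit 0), .ofNat (nat_lit 0), .ofNat (nat_lit 0), .ofNat (nat_lit 0), .ofNat (nat_lit 2), .negSucc (nat_lit 1), .ofNat (nat_lit 0)], [.negSucc (nat_lit 0), .ofNat (nat_lit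 0), .ofNat (nat_lit 0), .ofNat (nat_lit 0), .ofNat (nat_lit 2), .negSucc (nat_lit 1), .ofNat (nat_lit 0), .ofNat (nat_lit 0)], [.negSucc (nat_lit 0), .ofNat (nat_lit 0), .ofNat (nat_lit 0), .ofNat (nat_lit 2), .negSucc (nat_lit 1), .ofNat (nat_lit 0), .ofNat (nat_lit 0), .ofNat (nat_lit 0)], [.negSucc (nat_lit 0), .ofNat (nat_lit 2), .ofNat (nat_lit 2), .negSucc (nat_lit 1), .ofNat (nat_lit 0), .ofNat (nat_lit 0), .ofNat (nat_lit 0), .ofNat (nat_lit 0)], [.negSucc (nat_lit 0), .negSucc (nat_lit 1), .ofNat (nat_lit 2), .ofNat (nat_lit 0), .ofNat (nat_lit 0), .ofNat (nat_lit 0), .ofNat (nat_lit 0), .ofNat (nat_lit 0)], [.ofNat (nat_lit 1), .ofNat (nat_lit 2), .negSucc (nat_lit 1), .ofNat (nat_lit 0), .ofNat (nat_lit 0), .ofNat (nat_lit 0), .ofNat (nat_lit 0), .ofNat (nat_lit 0)], [.ofNat (nat_lit 1), .negSucc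 (nat_lit 1), .negSucc (nat_lit 1), .ofNat (nat_lit 2), .ofNat (nat_lit 0), .ofNat (nat_lit 0), .ofNat (nat_lit 0), .ofNat (nat_lit 0)], [.ofNat (nat_lit 1), .ofNat (nat_lit 0), .ofNat (nat_lit 0), .negSucc (nat_lit 1), .ofNat (nat_lit 2), .ofNat (nat_lit 0), .ofNat (nat_lit 0), .ofNat (nat_lit 0)], [.ofNat (nat_lit 1), .ofNat (nat_lit 0), .ofNat (nat_lit 0), .ofNat (nat_lit 0), .negSucc (nat_lit 1), .ofNat (nat_lit 2), .ofNat (nat_lit 0), .ofNat (nat_lit 0)], [.ofNat (nat_lit 1), .ofNat (nat_lit 0), .ofNat (nat_lit 0), .ofNat (nat_lit 0), .ofNat (nat_lit 0), .negSucc (nat_lit 1), .ofNat (nat_lit 2), .ofNat (nat_lit 0)], [.ofNat (nat_lit 1), .ofNat (nat_lit 0), .ofNat (nat_lit 0), .ofNat (nat_lit 0), .ofNat (nat_lit 0), .ofNat (nat_lit 0), .negSucc (nat_lit 1), .ofNat (nat_lit 2)], [.ofNat (nat_lit 1), .ofNat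 (nat_lit 0), .ofNat (nat_lit 0), .ofNat (nat_lit 0), .ofNat (nat_lit 0), .ofNat (nat_lit 0), .ofNat (nat_lit 0), .negSucc (nat_lit 1)], [.negSucc (nat_lit 0), .ofNat (nat_lit 0), .ofNat (nat_lit 0), .ofNat (nat_lit 0), .ofNat (nat_lit 0), .ofNat (nat_lit 0), .ofNat (nat_lit 0), .ofNat (nat_lit 0)]]
  words := [[], [0, 2, 3, 4, 5, 1, 3, 4, 2, 3, 0, 2, 1, 3, 4, 5, 6, 5, 4, 3, 2, 1, 3, 4, 5, 0, 2, 3, 4, 1, 3, 2, 0], [7, 0, 2, 3, 4, 5, 1, 3, 4, 2, 3, 0, 2, 1, 3, 4, 5, 6, 5, 4, 3, 2, 1, 3, 4, 5, 0, 2, 3, 4, 1, 3, 2, 0], [6, 7, 0, 2, 3, 4, 5, 1, 3, 4, 2, 3, 0, 2, 1, 3, 4, 5, 6, 5, 4, 3, 2, 1, 3, 4, 5, 0, 2, 3, 4, 1, 3, 2, 0], [5, 6, 7, 0, 2, 3, 4, 5, 1, 3, 4, 2, 3, 0, 2, 1, 3, 4, 5, 6, 5, 4, 3, 2, 1, 3, 4, 5, 0, 2, 3, 4, 1, 3, 2, 0], [4, 5, 6, 7, 0, 2, 3, 4, 5, 1, 3, 4, 2, 3, 0, 2, 1, 3, 4, 5, 6, 5, 4, 3, 2, 1,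 3, 4, 5, 0, 2, 3, 4, 1, 3, 2, 0], [3, 4, 5, 6, 7, 0, 2, 3, 4, 5, 1, 3, 4, 2, 3, 0, 2, 1, 3, 4, 5, 6, 5, 4, 3, 2, 1, 3, 4, 5, 0, 2, 3, 4, 1, 3, 2, 0], [1, 3, 4, 5, 6, 7, 0, 2, 3, 4, 5, 1, 3, 4, 2, 3, 0, 2, 1, 3, 4, 5, 6, 5, 4, 3, 2, 1, 3, 4, 5, 0, 2, 3, 4, 1, 3, 2, 0], [2, 3, 4, 5, 6, 7, 0, 2, 3, 4, 5, 1, 3, 4, 2, 3, 0, 2, 1, 3, 4, 5, 6, 5, 4, 3, 2, 1, 3, 4, 5, 0, 2, 3, 4, 1, 3, 2, 0], [2, 1, 3, 4, 5, 6, 7, 0, 2, 3, 4, 5, 1, 3, 4, 2, 3, 0, 2, 1, 3, 4, 5, 6, 5, 4, 3, 2, 1, 3, 4, 5, 0, 2, 3, 4, 1, 3, 2, 0], [3, 2, 1, 3, 4, 5, 6, 7, 0, 2, 3, 4, 5, 1, 3, 4, 2, 3, 0, 2, 1, 3, 4, 5, 6, 5, 4, 3, 2, 1, 3, 4, 5, 0, 2, 3, 4, 1, 3, 2, 0], [4, 3, 2, 1, 3, 4, 5, 6, 7, 0, 2, 3, 4, 5, 1, 3, 4, 2, 3, 0, 2, 1, 3, 4, 5, 6, 5, 4, 3, 2, 1, 3, 4, 5, 0, 2, 3, 4, 1, 3, 2, 0], [5, 4, 3, 2, 1, 3, 4, 5, 6, 7, 0, 2, 3, 4, 5, 1, 3, 4,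 2, 3, 0, 2, 1, 3, 4, 5, 6, 5, 4, 3, 2, 1, 3, 4, 5, 0, 2, 3, 4, 1, 3, 2, 0], [6, 5, 4, 3, 2, 1, 3, 4, 5, 6, 7, 0, 2, 3, 4, 5, 1, 3, 4, 2, 3, 0, 2, 1, 3, 4, 5, 6, 5, 4, 3, 2, 1, 3, 4, 5, 0, 2, 3, 4, 1, 3, 2, 0], [7, 6, 5, 4, 3, 2, 1, 3, 4, 5, 6, 7, 0, 2, 3, 4, 5, 1, 3, 4, 2, 3, 0, 2, 1, 3, 4, 5, 6, 5, 4, 3, 2, 1, 3, 4, 5, 0, 2, 3, 4, 1, 3, 2, 0], [0, 2, 3, 4, 5, 1, 3, 4, 2, 3, 0, 2, 1, 3, 4, 5, 6, 7, 5, 4, 3, 2, 1, 3, 4, 5, 6, 0, 2, 3, 4, 5, 1, 3, 4, 2, 3, 0, 2, 1, 3, 4, 5, 6, 7, 0, 2, 3, 4, 5, 1, 3, 4, 2, 3, 0, 2, 1, 3, 4, 5, 6, 5, 4, 3, 2, 1, 3, 4, 5, 0, 2, 3, 4, 1, 3, 2, 0]]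
  deg := [0, 1, 2, 3, 4, 5, 6, 7, 7, 8, 9, 10, 11, 12, 13, 14]

/-- Orbit level 0 of the parabolic subgroup below `6`. -/
def e8Stab6Level0 : Level where
  k := 1
  pts := [[.ofNat (nat_lit 0), .ofNat (nat_lit 1), .ofNat (nat_lit 0), .ofNat (nat_lit 0), .ofNat (nat_lit 0), .ofNat (nat_lit 0), .ofNat (nat_lit 0), .ofNat (nat_lit 0)], [.ofNat (nat_lit 0), .negSucc (nat_lit 0), .ofNat (nat_lit 0), .ofNat (nat_lit 1), .ofNat (nat_lit 0), .ofNat (nat_lit 0), .ofNat (nat_lit 0), .ofNat (nat_lit 0)], [.ofNat (nat_lit 0), .ofNat (nat_lit 0), .ofNat (nat_lit 1), .negSucc (nat_lit 0), .ofNat (nat_lit 1), .ofNat (nat_lit 0), .ofNat (nat_lit 0), .ofNat (nat_lit 0)], [.ofNat (nat_lit 0), .ofNat (nat_lit 0), .ofNat (nat_lit 1), .ofNat (nat_lit 0), .negSucc (nat_lit 0), .ofNat (nat_lit 1), .ofNat (nat_lit 0), .ofNat (nat_lit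 0)], [.ofNat (nat_lit 1), .ofNat (nat_lit 0), .negSucc (nat_lit 0), .ofNat (nat_lit 0), .ofNat (nat_lit 1), .ofNat (nat_lit 0), .ofNat (nat_lit 0), .ofNat (nat_lit 0)], [.ofNat (nat_lit 0), .ofNat (nat_lit 0), .ofNat (nat_lit 1), .ofNat (nat_lit 0), .ofNat (nat_lit 0), .negSucc (nat_lit 0), .ofNat (nat_lit 1), .ofNat (nat_lit 0)], [.ofNat (nat_lit 1), .ofNat (nat_lit 0), .negSucc (nat_lit 0), .ofNat (nat_lit 1), .negSucc (nat_lit 0), .ofNat (nat_lit 1), .ofNat (nat_lit 0), .ofNat (nat_lit 0)], [.ofNat (nat_lit 0), .ofNat (nat_lit 0), .ofNat (nat_lit 1), .ofNat (nat_lit 0), .ofNat (nat_lit 0), .ofNat (nat_lit 0), .negSucc (nat_lit 0), .ofNat (nat_lit 1)], [.ofNat (nat_lit 1), .ofNat (nat_lit 0), .negSucc (nat_lit 0), .ofNat (nat_lit 1), .ofNat (nat_lit 0), .negSucc (nat_lit 0), .ofNat (nat_lit 1), .ofNat (nat_lit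 0)], [.ofNat (nat_lit 1), .ofNat (nat_lit 1), .ofNat (nat_lit 0), .negSucc (nat_lit 0), .ofNat (nat_lit 0), .ofNat (nat_lit 1), .ofNat (nat_lit 0), .ofNat (nat_lit 0)], [.ofNat (nat_lit 0), .ofNat (nat_lit 0), .ofNat (nat_lit 1), .ofNat (nat_lit 0), .ofNat (nat_lit 0), .ofNat (nat_lit 0), .ofNat (nat_lit 0), .negSucc (nat_lit 0)], [.ofNat (nat_lit 1), .ofNat (nat_lit 0), .negSucc (nat_lit 0), .ofNat (nat_lit 1), .ofNat (nat_lit 0), .ofNat (nat_lit 0), .negSucc (nat_lit 0), .ofNat (nat_lit 1)], [.ofNat (nat_lit 1), .ofNat (nat_lit 1), .ofNat (nat_lit 0), .negSucc (nat_lit 0), .ofNat (nat_lit 1), .negSucc (nat_lit 0), .ofNat (nat_lit 1), .ofNat (nat_lit 0)], [.ofNat (nat_lit 1), .negSucc (nat_lit 0), .ofNat (nat_lit 0), .ofNat (nat_lit 0), .ofNat (nat_lit 0), .ofNat (nat_lit 1), .ofNat (nat_lit 0), .ofNat (nat_lit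 0)], [.ofNat (nat_lit 1), .ofNat (nat_lit 0), .negSucc (nat_lit 0), .ofNat (nat_lit 1), .ofNat (nat_lit 0), .ofNat (nat_lit 0), .ofNat (nat_lit 0), .negSucc (nat_lit 0)], [.ofNat (nat_lit 1), .ofNat (nat_lit 1), .ofNat (nat_lit 0), .negSucc (nat_lit 0), .ofNat (nat_lit 1), .ofNat (nat_lit 0), .negSucc (nat_lit 0), .ofNat (nat_lit 1)], [.ofNat (nat_lit 1), .negSucc (nat_lit 0), .ofNat (nat_lit 0), .ofNat (nat_lit 0), .ofNat (nat_lit 1), .negSucc (nat_lit 0), .ofNat (nat_lit 1), .ofNat (nat_lit 0)], [.ofNat (nat_lit 1), .ofNat (nat_lit 1), .ofNat (nat_lit 0), .ofNat (nat_lit 0), .negSucc (nat_lit 0), .ofNat (nat_lit 0), .ofNat (nat_lit 1), .ofNat (nat_lit 0)], [.ofNat (nat_lit 1), .ofNat (nat_lit 1), .ofNat (nat_lit 0), .negSucc (nat_lit 0), .ofNat (nat_lit 1), .ofNat (nat_lit 0), .ofNat (nat_lit 0), .negSucc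 (nat_lit 0)], [.ofNat (nat_lit 1), .negSucc (nat_lit 0), .ofNat (nat_lit 0), .ofNat (nat_lit 0), .ofNat (nat_lit 1), .ofNat (nat_lit 0), .negSucc (nat_lit 0), .ofNat (nat_lit 1)], [.ofNat (nat_lit 1), .ofNat (nat_lit 1), .ofNat (nat_lit 0), .ofNat (nat_lit 0), .negSucc (nat_lit 0), .ofNat (nat_lit 1), .negSucc (nat_lit 0), .ofNat (nat_lit 1)], [.ofNat (nat_lit 1), .negSucc (nat_lit 0), .ofNat (nat_lit 0), .ofNat (nat_lit 1), .negSucc (nat_lit 0), .ofNat (nat_lit 0), .ofNat (nat_lit 1), .ofNat (nat_lit 0)], [.ofNat (nat_lit 1), .negSucc (nat_lit 0), .ofNat (nat_lit 0), .ofNat (nat_lit 0), .ofNat (nat_lit 1), .ofNat (nat_lit 0), .ofNat (nat_lit 0), .negSucc (nat_lit 0)], [.ofNat (nat_lit 1), .ofNat (nat_lit 1), .ofNat (nat_lit 0), .ofNat (nat_lit 0), .negSucc (nat_lit 0), .ofNat (nat_lit 1), .ofNat (nat_lit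 0), .negSucc (nat_lit 0)], [.ofNat (nat_lit 1), .negSucc (nat_lit 0), .ofNat (nat_lit 0), .ofNat (nat_lit 1), .negSucc (nat_lit 0), .ofNat (nat_lit 1), .negSucc (nat_lit 0), .ofNat (nat_lit 1)], [.ofNat (nat_lit 1), .ofNat (nat_lit 1), .ofNat (nat_lit 0), .ofNat (nat_lit 0), .ofNat (nat_lit 0), .negSucc (nat_lit 0), .ofNat (nat_lit 0), .ofNat (nat_lit 1)], [.ofNat (nat_lit 1), .ofNat (nat_lit 0), .ofNat (nat_lit 1), .negSucc (nat_lit 0), .ofNat (nat_lit 0), .ofNat (nat_lit 0), .ofNat (nat_lit 1), .ofNat (nat_lit 0)], [.ofNat (nat_lit 1), .negSucc (nat_lit 0), .ofNat (nat_lit 0), .ofNat (nat_lit 1), .negSucc (nat_lit 0), .ofNat (nat_lit 1), .ofNat (nat_lit 0), .negSucc (nat_lit 0)], [.ofNat (nat_lit 1), .ofNat (nat_lit 1), .ofNat (nat_lit 0), .ofNat (nat_lit 0), .ofNat (nat_lit 0), .negSucc (nat_lit 0), .ofNat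 (nat_lit 1), .negSucc (nat_lit 0)], [.ofNat (nat_lit 1), .negSucc (nat_lit 0), .ofNat (nat_lit 0), .ofNat (nat_lit 1), .ofNat (nat_lit 0), .negSucc (nat_lit 0), .ofNat (nat_lit 0), .ofNat (nat_lit 1)], [.ofNat (nat_lit 1), .ofNat (nat_lit 0), .ofNat (nat_lit 1), .negSucc (nat_lit 0), .ofNat (nat_lit 0), .ofNat (nat_lit 1), .negSucc (nat_lit 0), .ofNat (nat_lit 1)], [.ofNat (nat_lit 2), .ofNat (nat_lit 0), .negSucc (nat_lit 0), .ofNat (nat_lit 0), .ofNat (nat_lit 0), .ofNat (nat_lit 0), .ofNat (nat_lit 1), .ofNat (nat_lit 0)], [.ofNat (nat_lit 1), .negSucc (nat_lit 0), .ofNat (nat_lit 0), .ofNat (nat_lit 1), .ofNat (nat_lit 0), .negSucc (nat_lit 0), .ofNat (nat_lit 1), .negSucc (nat_lit 0)], [.ofNat (nat_lit 1), .ofNat (nat_lit 0), .ofNat (nat_lit 1), .negSucc (nat_lit 0), .ofNat (nat_lit 0), .ofNat (nat_lit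 1), .ofNat (nat_lit 0), .negSucc (nat_lit 0)], [.ofNat (nat_lit 1), .ofNat (nat_lit 1), .ofNat (nat_lit 0), .ofNat (nat_lit 0), .ofNat (nat_lit 0), .ofNat (nat_lit 0), .negSucc (nat_lit 0), .ofNat (nat_lit 0)], [.ofNat (nat_lit 1), .ofNat (nat_lit 0), .ofNat (nat_lit 1), .negSucc (nat_lit 0), .ofNat (nat_lit 1), .negSucc (nat_lit 0), .ofNat (nat_lit 0), .ofNat (nat_lit 1)], [.ofNat (nat_lit 2), .ofNat (nat_lit 0), .negSucc (nat_lit 0), .ofNat (nat_lit 0), .ofNat (nat_lit 0), .ofNat (nat_lit 1), .negSucc (nat_lit 0), .ofNat (nat_lit 1)], [.ofNat (nat_lit 1), .negSucc (nat_lit 0), .ofNat (nat_lit 0), .ofNat (nat_lit 1), .ofNat (nat_lit 0), .ofNat (nat_lit 0), .negSucc (nat_lit 0), .ofNat (nat_lit 0)], [.ofNat (nat_lit 1), .ofNat (nat_lit 0), .ofNat (nat_lit 1), .negSucc (nat_lit 0), .ofNat (nat_lit 1), .negSucc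 (nat_lit 0), .ofNat (nat_lit 1), .negSucc (nat_lit 0)], [.ofNat (nat_lit 2), .ofNat (nat_lit 0), .negSucc (nat_lit 0), .ofNat (nat_lit 0), .ofNat (nat_lit 0), .ofNat (nat_lit 1), .ofNat (nat_lit 0), .negSucc (nat_lit 0)], [.ofNat (nat_lit 1), .ofNat (nat_lit 0), .ofNat (nat_lit 1), .ofNat (nat_lit 0), .negSucc (nat_lit 0), .ofNat (nat_lit 0), .ofNat (nat_lit 0), .ofNat (nat_lit 1)], [.ofNat (nat_lit 2), .ofNat (nat_lit 0), .negSucc (nat_lit 0), .ofNat (nat_lit 0), .ofNat (nat_lit 1), .negSucc (nat_lit 0), .ofNat (nat_lit 0), .ofNat (nat_lit 1)], [.ofNat (nat_lit 1), .ofNat (nat_lit 0), .ofNat (nat_lit 1), .negSucc (nat_lit 0), .ofNat (nat_lit 1), .ofNat (nat_lit 0), .negSucc (nat_lit 0), .ofNat (nat_lit 0)], [.ofNat (nat_lit 1), .ofNat (nat_lit 0), .ofNat (nat_lit 1), .ofNat (nat_lit 0), .negSucc (nat_lit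 0), .ofNat (nat_lit 0), .ofNat (nat_lit 1), .negSucc (nat_lit 0)], [.ofNat (nat_lit 2), .ofNat (nat_lit 0), .negSucc (nat_lit 0), .ofNat (nat_lit 0), .ofNat (nat_lit 1), .negSucc (nat_lit 0), .ofNat (nat_lit 1), .negSucc (nat_lit 0)], [.ofNat (nat_lit 2), .ofNat (nat_lit 0), .negSucc (nat_lit 0), .ofNat (nat_lit 1), .negSucc (nat_lit 0), .ofNat (nat_lit 0), .ofNat (nat_lit 0), .ofNat (nat_lit 1)], [.ofNat (nat_lit 1), .ofNat (nat_lit 0), .ofNat (nat_lit 1), .ofNat (nat_lit 0), .negSucc (nat_lit 0), .ofNat (nat_lit 1), .negSucc (nat_lit 0), .ofNat (nat_lit 0)], [.ofNat (nat_lit 2), .ofNat (nat_lit 0), .negSucc (nat_lit 0), .ofNat (nat_lit 0), .ofNat (nat_lit 1), .ofNat (nat_lit 0), .negSucc (nat_lit 0), .ofNat (nat_lit 0)], [.ofNat (nat_lit 2), .ofNat (nat_lit 0), .negSucc (nat_lit 0), .ofNat (nat_lit 1),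 .negSucc (nat_lit 0), .ofNat (nat_lit 0), .ofNat (nat_lit 1), .negSucc (nat_lit 0)], [.ofNat (nat_lit 2), .ofNat (nat_lit 1), .ofNat (nat_lit 0), .negSucc (nat_lit 0), .ofNat (nat_lit 0), .ofNat (nat_lit 0), .ofNat (nat_lit 0), .ofNat (nat_lit 1)], [.ofNat (nat_lit 1), .ofNat (nat_lit 0), .ofNat (nat_lit 1), .ofNat (nat_lit 0), .ofNat (nat_lit 0), .negSucc (nat_lit 0), .ofNat (nat_lit 0), .ofNat (nat_lit 0)], [.ofNat (nat_lit 2), .ofNat (nat_lit 0), .negSucc (nat_lit 0), .ofNat (nat_lit 1), .negSucc (nat_lit 0), .ofNat (nat_lit 1), .negSucc (nat_lit 0), .ofNat (nat_lit 0)], [.ofNat (nat_lit 2), .ofNat (nat_lit 1), .ofNat (nat_lit 0), .negSucc (nat_lit 0), .ofNat (nat_lit 0), .ofNat (nat_lit 0), .ofNat (nat_lit 1), .negSucc (nat_lit 0)], [.ofNat (nat_lit 2), .negSucc (nat_lit 0), .ofNat (nat_lit 0), .ofNat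 (nat_lit 0), .ofNat (nat_lit 0), .ofNat (nat_lit 0), .ofNat (nat_lit 0), .ofNat (nat_lit 1)], [.ofNat (nat_lit 2), .ofNat (nat_lit 0), .negSucc (nat_lit 0), .ofNat (nat_lit 1), .ofNat (nat_lit 0), .negSucc (nat_lit 0), .ofNat (nat_lit 0), .ofNat (nat_lit 0)], [.ofNat (nat_lit 2), .ofNat (nat_lit 1), .ofNat (nat_lit 0), .negSucc (nat_lit 0), .ofNat (nat_lit 0), .ofNat (nat_lit 1), .negSucc (nat_lit 0), .ofNat (nat_lit 0)], [.ofNat (nat_lit 2), .negSucc (nat_lit 0), .ofNat (nat_lit 0), .ofNat (nat_lit 0), .ofNat (nat_lit 0), .ofNat (nat_lit 0), .ofNat (nat_lit 1), .negSucc (nat_lit 0)], [.ofNat (nat_lit 2), .ofNat (nat_lit 1), .ofNat (nat_lit 0), .negSucc (nat_lit 0), .ofNat (nat_lit 1), .negSucc (nat_lit 0), .ofNat (nat_lit 0), .ofNat (nat_lit 0)], [.ofNat (nat_lit 2), .negSucc (nat_lit 0), .ofNat (nat_lit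 0), .ofNat (nat_lit 0), .ofNat (nat_lit 0), .ofNat (nat_lit 1), .negSucc (nat_lit 0), .ofNat (nat_lit 0)], [.ofNat (nat_lit 2), .negSucc (nat_lit 0), .ofNat (nat_lit 0), .ofNat (nat_lit 0), .ofNat (nat_lit 1), .negSucc (nat_lit 0), .ofNat (nat_lit 0), .ofNat (nat_lit 0)], [.ofNat (nat_lit 2), .ofNat (nat_lit 1), .ofNat (nat_lit 0), .ofNat (nat_lit 0), .negSucc (nat_lit 0), .ofNat (nat_lit 0), .ofNat (nat_lit 0), .ofNat (nat_lit 0)], [.ofNat (nat_lit 2), .negSucc (nat_lit 0), .ofNat (nat_lit 0), .ofNat (nat_lit 1), .negSucc (nat_lit 0), .ofNat (nat_lit 0), .ofNat (nat_lit 0), .ofNat (nat_lit 0)], [.ofNat (nat_lit 2), .ofNat (nat_lit 0), .ofNat (nat_lit 1), .negSucc (nat_lit 0), .ofNat (nat_lit 0), .ofNat (nat_lit 0), .ofNat (nat_lit 0), .ofNat (nat_lit 0)], [.ofNat (nat_lit 3), .ofNat (nat_lit 0), .negSucc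 (nat_lit 0), .ofNat (nat_lit 0), .ofNat (nat_lit 0), .ofNat (nat_lit 0), .ofNat (nat_lit 0), .ofNat (nat_lit 0)]]
  par := [(0, 1), (1, 3), (2, 4), (2, 2), (3, 5), (3, 2), (5, 6), (5, 2), (6, 3), (7, 7), (7, 2), (8, 3), (9, 1), (10, 2), (11, 3), (12, 1), (12, 4), (14, 3), (15, 1), (15, 4), (16, 4), (18, 1), (18, 4), (19, 4), (20, 5), (21, 3), (22, 4), (23, 5), (24, 5), (24, 3), (26, 2), (27, 5), (27, 3), (28, 6), (29, 3), (30, 2), (32, 6), (32, 3), (33, 2), (35, 4), (35, 2), (37, 3), (38, 4), (38, 2), (40, 2), (42, 4), (42, 2), (43, 2), (45, 3), (46, 5), (46, 2), (48, 3), (49, 1), (50, 2), (51, 3), (52, 1), (54, 3), (55, 1), (57, 1), (57, 4), (59, 4), (61, 3), (62, 2)]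
  succ := [[1, 0, 0, 0, 0, 0, 0], [0, 1, 1, 1, 1, 2, 1], [2, 2, 2, 2, 3, 1, 4], [3, 3, 3, 5, 2, 3, 6], [4, 4, 4, 4, 6, 4, 2], [5, 5, 7, 3, 5, 5, 8], [6, 6, 6, 8, 4, 9, 3], [7, 10, 5, 7, 7, 7, 11], [8, 8, 11, 6, 8, 12, 5], [13, 9, 9, 12, 9, 6, 9], [10, 7, 10, 10, 10, 10, 14], [11, 14, 8, 11, 11, 15, 7], [16, 12, 15, 9, 17, 8, 12], [9, 13, 13, 16, 13, 13, 13], [14, 11, 14, 14, 14, 18, 10], [19, 18, 12, 15, 20, 11, 15], [12, 16, 19, 13, 21, 16, 16], [21, 17, 20, 17, 12, 17, 17], [22, 15, 18, 18, 23, 14, 18], [15, 22, 16, 19, 24, 19, 19], [24, 23, 17, 25, 15, 20, 20], [17, 21, 24, 21, 16, 26, 21], [18, 19, 22, 22, 27, 22, 22], [27, 20, 23, 28, 18, 23, 23], [20, 27, 21, 29, 19, 30, 24], [29, 28, 25, 20, 25, 25, 25], [26, 26, 30, 26, 26, 21, 31], [23, 24, 27, 32, 22, 33, 27], [32, 25, 34, 23, 28, 28, 28], [25,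 32, 29, 24, 29, 35, 29], [30, 33, 26, 35, 30, 24, 36], [31, 31, 36, 31, 31, 31, 26], [28, 29, 37, 27, 32, 38, 32], [33, 30, 33, 38, 33, 27, 39], [37, 34, 28, 34, 34, 34, 34], [35, 38, 35, 30, 40, 29, 41], [36, 39, 31, 41, 36, 36, 30], [34, 37, 32, 37, 37, 42, 37], [38, 35, 42, 33, 43, 32, 44], [39, 36, 39, 44, 39, 39, 33], [40, 43, 40, 40, 35, 40, 45], [41, 44, 41, 36, 45, 41, 35], [42, 42, 38, 42, 46, 37, 47], [43, 40, 46, 43, 38, 43, 48], [44, 41, 47, 39, 48, 44, 38], [45, 48, 45, 45, 41, 49, 40], [46, 46, 43, 50, 42, 46, 51], [47, 47, 44, 47, 51, 47, 42], [48, 45, 51, 48, 44, 52, 43], [53, 52, 49, 49, 49, 45, 49], [50, 50, 50, 46, 50, 50, 54], [51, 51, 48, 54, 47, 55, 46], [56, 49, 55, 52, 52, 48, 52], [49, 56, 53, 53, 53, 53, 53], [54, 54, 54, 51, 54, 57, 50], [58, 55, 52, 57, 55, 51, 55], [52, 53, 58,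 56, 56, 56, 56], [59, 57, 57, 55, 60, 54, 57], [55, 58, 56, 59, 58, 58, 58], [57, 59, 59, 58, 61, 59, 59], [61, 60, 60, 60, 57, 60, 60], [60, 61, 61, 61, 59, 62, 61], [62, 62, 62, 62, 62, 61, 63], [63, 63, 63, 63, 63, 63, 62]]
  deg := [0, 1, 2, 3, 3, 4, 4, 5, 5, 5, 6, 6, 6, 6, 7, 7, 7, 7, 8, 8, 8, 8, 9, 9, 9, 9, 9, 10, 10, 10, 10, 10, 11, 11, 11, 11, 11, 12, 12, 12, 12, 12, 13, 13, 13, 13, 14, 14, 14, 14, 15, 15, 15, 15, 16, 16, 16, 17, 17, 18, 18, 19, 20, 21]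

/-- Orbit level 1 of the parabolic subgroup below `6`. -/
def e8Stab6Level1 : Level where
  k := 7
  pts := [[.ofNat (nat_lit 0), .ofNat (nat_lit 0), .ofNat (nat_lit 0), .ofNat (nat_lit 0), .ofNat (nat_lit 0), .ofNat (nat_lit 0), .ofNat (nat_lit 0), .ofNat (nat_lit 1)], [.ofNat (nat_lit 0), .ofNat (nat_lit 0), .ofNat (nat_lit 0), .ofNat (nat_lit 0), .ofNat (nat_lit 0), .ofNat (nat_lit 0), .ofNat (nat_lit 1), .negSucc (nat_lit 0)], [.ofNat (nat_lit 0), .ofNat (nat_lit 0), .ofNat (nat_lit 0), .ofNat (nat_lit 0), .ofNat (nat_lit 0), .ofNat (nat_lit 1), .negSucc (nat_lit 0), .ofNat (nat_lit 0)], [.ofNat (nat_lit 0), .ofNat (nat_lit 0), .ofNat (nat_lit 0), .ofNat (nat_lit 0), .ofNat (nat_lit 1), .negSucc (nat_lit 0), .ofNat (nat_lit 0), .ofNat (nat_lit 0)], [.ofNat (nat_lit 0), .ofNat (nat_lit 0), .ofNat (nat_lit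 0), .ofNat (nat_lit 1), .negSucc (nat_lit 0), .ofNat (nat_lit 0), .ofNat (nat_lit 0), .ofNat (nat_lit 0)], [.ofNat (nat_lit 0), .ofNat (nat_lit 1), .ofNat (nat_lit 1), .negSucc (nat_lit 0), .ofNat (nat_lit 0), .ofNat (nat_lit 0), .ofNat (nat_lit 0), .ofNat (nat_lit 0)], [.ofNat (nat_lit 1), .ofNat (nat_lit 1), .negSucc (nat_lit 0), .ofNat (nat_lit 0), .ofNat (nat_lit 0), .ofNat (nat_lit 0), .ofNat (nat_lit 0), .ofNat (nat_lit 0)]]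
  par := [(0, 7), (1, 6), (2, 5), (3, 4), (4, 3), (5, 2)]
  succ := [[1, 0, 0, 0, 0, 0], [0, 2, 1, 1, 1, 1], [2, 1, 3, 2, 2, 2], [3, 3, 2, 4, 3, 3], [4, 4, 4, 3, 5, 4], [5, 5, 5, 5, 4, 6], [6, 6, 6, 6, 6, 5]]
  deg := [0, 1, 2, 3, 4, 5, 6]

/-- Orbit level 2 of the parabolic subgroup below `6`. -/
def e8Stab6Level2 : Level where
  k := 6
  pts := [[.ofNat (nat_lit 0), .ofNat (nat_lit 0), .ofNat (nat_lit 0), .ofNat (nat_lit 0), .ofNat (nat_lit 0), .ofNat (nat_lit 0), .ofNat (nat_lit 1), .ofNat (nat_lit 0)], [.ofNat (nat_lit 0), .ofNat (nat_lit 0), .ofNat (nat_lit 0), .ofNat (nat_lit 0), .ofNat (nat_lit 0), .ofNat (nat_lit 1), .negSucc (nat_lit 0), .ofNat (nat_lit 1)], [.ofNat (nat_lit 0), .ofNat (nat_lit 0), .ofNat (nat_lit 0), .ofNat (nat_lit 0), .ofNat (nat_lit 1), .negSucc (nat_lit 0), .ofNat (nat_lit 0),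 .ofNat (nat_lit 1)], [.ofNat (nat_lit 0), .ofNat (nat_lit 0), .ofNat (nat_lit 0), .ofNat (nat_lit 1), .negSucc (nat_lit 0), .ofNat (nat_lit 0), .ofNat (nat_lit 0), .ofNat (nat_lit 1)], [.ofNat (nat_lit 0), .ofNat (nat_lit 1), .ofNat (nat_lit 1), .negSucc (nat_lit 0), .ofNat (nat_lit 0), .ofNat (nat_lit 0), .ofNat (nat_lit 0), .ofNat (nat_lit 1)], [.ofNat (nat_lit 1), .ofNat (nat_lit 1), .negSucc (nat_lit 0), .ofNat (nat_lit 0), .ofNat (nat_lit 0), .ofNat (nat_lit 0), .ofNat (nat_lit 0), .ofNat (nat_lit 1)]]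
  par := [(0, 6), (1, 5), (2, 4), (3, 3), (4, 2)]
  succ := [[1, 0, 0, 0, 0], [0, 2, 1, 1, 1], [2, 1, 3, 2, 2], [3, 3, 2, 4, 3], [4, 4, 4, 3, 5], [5, 5, 5, 5, 4]]
  deg := [0, 1, 2, 3, 4, 5]

/-- Orbit level 3 of the parabolic subgroup below `6`. -/
def e8Stab6Level3 : Level where
  k := 5
  pts := [[.ofNat (nat_lit 0), .ofNat (nat_lit 0), .ofNat (nat_lit 0), .ofNat (nat_lit 0), .ofNat (nat_lit 0), .ofNat (nat_lit 1), .ofNat (nat_lit 0), .ofNat (nat_lit 0)], [.ofNat (nat_lit 0), .ofNat (nat_lit 0), .ofNat (nat_lit 0), .ofNat (nat_lit 0), .ofNat (nat_lit 1), .negSucc (nat_lit 0), .ofNat (nat_lit 1), .ofNat (nat_lit 0)], [.ofNat (nat_lit 0), .ofNat (nat_lit 0), .ofNat (nat_lit 0), .ofNat (nat_lit 1), .negSucc (nat_lit 0), .ofNat (nat_lit 0), .ofNat (nat_lit 1), .ofNat (nat_lit 0)], [.ofNat (nat_lit 0), .ofNat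 (nat_lit 1), .ofNat (nat_lit 1), .negSucc (nat_lit 0), .ofNat (nat_lit 0), .ofNat (nat_lit 0), .ofNat (nat_lit 1), .ofNat (nat_lit 0)], [.ofNat (nat_lit 1), .ofNat (nat_lit 1), .negSucc (nat_lit 0), .ofNat (nat_lit 0), .ofNat (nat_lit 0), .ofNat (nat_lit 0), .ofNat (nat_lit 1), .ofNat (nat_lit 0)]]
  par := [(0, 5), (1, 4), (2, 3), (3, 2)]
  succ := [[1, 0, 0, 0], [0, 2, 1, 1], [2, 1, 3, 2], [3, 3, 2, 4], [4, 4, 4, 3]]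
  deg := [0, 1, 2, 3, 4]

/-- Orbit level 4 of the parabolic subgroup below `6`. -/
def e8Stab6Level4 : Level where
  k := 4
  pts := [[.ofNat (nat_lit 0), .ofNat (nat_lit 0), .ofNat (nat_lit 0), .ofNat (nat_lit 0), .ofNat (nat_lit 1), .ofNat (nat_lit 0), .ofNat (nat_lit 0), .ofNat (nat_lit 0)], [.ofNat (nat_lit 0), .ofNat (nat_lit 0), .ofNat (nat_lit 0), .ofNat (nat_lit 1), .negSucc (nat_lit 0), .ofNat (nat_lit 1), .ofNat (nat_lit 0), .ofNat (nat_lit 0)], [.ofNat (nat_lit 0), .ofNat (nat_lit 1), .ofNat (nat_lit 1), .negSucc (nat_lit 0), .ofNat (nat_lit 0), .ofNat (nat_lit 1), .ofNat (nat_lit 0), .ofNat (nat_lit 0)], [.ofNat (nat_lit 1), .ofNat (nat_lit 1), .negSucc (nat_lit 0), .ofNat (nat_lit 0), .ofNat (nat_lit 0), .ofNat (nat_lit 1), .ofNat (nat_lit 0), .ofNat (nat_lit 0)]]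
  par := [(0, 4), (1, 3), (2, 2)]
  succ := [[1, 0, 0], [0, 2, 1], [2, 1, 3], [3, 3, 2]]
  deg := [0, 1, 2, 3]

/-- Orbit level 5 of the parabolic subgroup below `6`. -/
def e8Stab6Level5 : Level where
  k := 3
  pts := [[.ofNat (nat_lit 0), .ofNat (nat_lit 0), .ofNat (nat_lit 0), .ofNat (nat_lit 1), .ofNat (nat_lit 0), .ofNat (nat_lit 0), .ofNat (nat_lit 0), .ofNat (nat_lit 0)], [.ofNat (nat_lit 0), .ofNat (nat_lit 1), .ofNat (nat_lit 1), .negSucc (nat_lit 0), .ofNat (nat_lit 1), .ofNat (nat_lit 0), .ofNat (nat_lit 0), .ofNat (nat_lit 0)], [.ofNat (nat_lit 1), .ofNat (nat_lit 1), .negSucc (nat_lit 0), .ofNat (nat_lit 0), .ofNat (nat_lit 1), .ofNat (nat_lit 0), .ofNat (nat_lit 0), .ofNat (nat_lit 0)]]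
  par := [(0, 3), (1, 2)]
  succ := [[1, 0], [0, 2], [2, 1]]
  deg := [0, 1, 2]

/-- Orbit level 6 of the parabolic subgroup below `6`. -/
def e8Stab6Level6 : Level where
  k := 2
  pts := [[.ofNat (nat_lit 0), .ofNat (nat_lit 0), .ofNat (nat_lit 1), .ofNat (nat_lit 0), .ofNat (nat_lit 0), .ofNat (nat_lit 0), .ofNat (nat_lit 0), .ofNat (nat_lit 0)], [.ofNat (nat_lit 1), .ofNat (nat_lit 0), .negSucc (nat_lit 0), .ofNat (nat_lit 1), .ofNat (nat_lit 0), .ofNat (nat_lit 0), .ofNat (nat_lit 0), .ofNat (nat_lit 0)]]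
  par := [(0, 2)]
  succ := [[1], [0]]
  deg := [0, 1]

/-- The chain of the parabolic subgroup below `6`. -/
def e8Stab6Levels : List Level := [e8Stab6Level0, e8Stab6Level1, e8Stab6Level2, e8Stab6Level3, e8Stab6Level4, e8Stab6Level5, e8Stab6Level6]

/-- The certificate of the stabiliser of the involution `82`. -/
def e8Stab82 : StabCount.Data where
  m := 82
  k := 7
  A₀ := [0, 2]
  A₁ := [1]
  bits := [false, true, true, true, true, true, true, true, true, true, true, true, true, false, true, true, true, true, true, true, false, true, true, true, true, false, true, true, true, false, true, true, false, true, false, false, true, true, true, false, true, true, false, true, false, false, true, true, false, true, false, false, true, false, false, false, true, true, false, true, false, false, true, false, false,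 false, true, false, false, false, false, true, false, false, false, false, false, false, true, true, false, true, false, false, true, false, false, false, true, false, false, false, false, true, false, false, false, false, false, true, false, false, false, false, false, true, false, false, false, false, true, false, false, false, true, false, false, true, false, true]
  sb := [false, false, false, false, false, false, false, true]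
  pts := [[.ofNat (nat_lit 0), .ofNat (nat_lit 0), .ofNat (nat_lit 0), .ofNat (nat_lit 0), .ofNat (nat_lit 0), .ofNat (nat_lit 0), .ofNat (nat_lit 0), .ofNat (nat_lit 1)], [.ofNat (nat_lit 0), .ofNat (nat_lit 0), .ofNat (nat_lit 0), .ofNat (nat_lit 0), .ofNat (nat_lit 0), .ofNat (nat_lit 0), .ofNat (nat_lit 0), .negSucc (nat_lit 0)]]
  words := [[], [7, 6, 5, 4, 3, 2, 1, 3, 4, 5, 6, 0, 2, 3, 4, 5, 1, 3, 4, 2, 3, 0, 2, 1, 3, 4, 5, 6, 7, 6, 5, 4, 3, 2, 1, 3, 4, 5, 6, 0, 2, 3, 4, 5, 1, 3, 4, 2, 3, 0, 2, 1, 3, 4, 5, 6, 7]]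
  deg := [0, 1]

/-- Orbit level 0 of the parabolic subgroup below `82`. -/
def e8Stab82Level0 : Level where
  k := 6
  pts := [[.ofNat (nat_lit 0), .ofNat (nat_lit 0), .ofNat (nat_lit 0), .ofNat (nat_lit 0), .ofNat (nat_lit 0), .ofNat (nat_lit 0), .ofNat (nat_lit 1), .ofNat (nat_lit 0)], [.ofNat (nat_lit 0), .ofNat (nat_lit 0), .ofNat (nat_lit 0), .ofNat (nat_lit 0), .ofNat (nat_lit 0), .ofNat (nat_lit 1), .negSucc (nat_lit 0), .ofNat (nat_lit 1)], [.ofNat (nat_lit 0), .ofNat (nat_lit 0), .ofNat (nat_lit 0), .ofNat (nat_lit 0), .ofNat (nat_lit 1), .negSucc (nat_lit 0), .ofNat (nat_lit 0), .ofNat (nat_lit 1)], [.ofNat (nat_lit 0), .ofNat (nat_lit 0), .ofNat (nat_lit 0), .ofNat (nat_lit 1), .negSucc (nat_lit 0), .ofNat (nat_lit 0), .ofNat (nat_lit 0), .ofNat (nat_lit 1)], [.ofNat (nat_lit 0), .ofNat (nat_lit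 1), .ofNat (nat_lit 1), .negSucc (nat_lit 0), .ofNat (nat_lit 0), .ofNat (nat_lit 0), .ofNat (nat_lit 0), .ofNat (nat_lit 1)], [.ofNat (nat_lit 0), .negSucc (nat_lit 0), .ofNat (nat_lit 1), .ofNat (nat_lit 0), .ofNat (nat_lit 0), .ofNat (nat_lit 0), .ofNat (nat_lit 0), .ofNat (nat_lit 1)], [.ofNat (nat_lit 1), .ofNat (nat_lit 1), .negSucc (nat_lit 0), .ofNat (nat_lit 0), .ofNat (nat_lit 0), .ofNat (nat_lit 0), .ofNat (nat_lit 0), .ofNat (nat_lit 1)], [.ofNat (nat_lit 1), .negSucc (nat_lit 0), .negSucc (nat_lit 0), .ofNat (nat_lit 1), .ofNat (nat_lit 0), .ofNat (nat_lit 0), .ofNat (nat_lit 0), .ofNat (nat_lit 1)], [.negSucc (nat_lit 0), .ofNat (nat_lit 1), .ofNat (nat_lit 0), .ofNat (nat_lit 0), .ofNat (nat_lit 0), .ofNat (nat_lit 0), .ofNat (nat_lit 0), .ofNat (nat_lit 1)], [.ofNat (nat_lit 1), .ofNat (nat_lit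 0), .ofNat (nat_lit 0), .negSucc (nat_lit 0), .ofNat (nat_lit 1), .ofNat (nat_lit 0), .ofNat (nat_lit 0), .ofNat (nat_lit 1)], [.negSucc (nat_lit 0), .negSucc (nat_lit 0), .ofNat (nat_lit 0), .ofNat (nat_lit 1), .ofNat (nat_lit 0), .ofNat (nat_lit 0), .ofNat (nat_lit 0), .ofNat (nat_lit 1)], [.ofNat (nat_lit 1), .ofNat (nat_lit 0), .ofNat (nat_lit 0), .ofNat (nat_lit 0), .negSucc (nat_lit 0), .ofNat (nat_lit 1), .ofNat (nat_lit 0), .ofNat (nat_lit 1)], [.negSucc (nat_lit 0), .ofNat (nat_lit 0), .ofNat (nat_lit 1), .negSucc (nat_lit 0), .ofNat (nat_lit 1), .ofNat (nat_lit 0), .ofNat (nat_lit 0), .ofNat (nat_lit 1)], [.ofNat (nat_lit 1), .ofNat (nat_lit 0), .ofNat (nat_lit 0), .ofNat (nat_lit 0), .ofNat (nat_lit 0), .negSucc (nat_lit 0), .ofNat (nat_lit 1), .ofNat (nat_lit 1)], [.negSucc (nat_lit 0), .ofNat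 (nat_lit 0), .ofNat (nat_lit 1), .ofNat (nat_lit 0), .negSucc (nat_lit 0), .ofNat (nat_lit 1), .ofNat (nat_lit 0), .ofNat (nat_lit 1)], [.ofNat (nat_lit 0), .ofNat (nat_lit 0), .negSucc (nat_lit 0), .ofNat (nat_lit 0), .ofNat (nat_lit 1), .ofNat (nat_lit 0), .ofNat (nat_lit 0), .ofNat (nat_lit 1)], [.ofNat (nat_lit 1), .ofNat (nat_lit 0), .ofNat (nat_lit 0), .ofNat (nat_lit 0), .ofNat (nat_lit 0), .ofNat (nat_lit 0), .negSucc (nat_lit 0), .ofNat (nat_lit 2)], [.negSucc (nat_lit 0), .ofNat (nat_lit 0), .ofNat (nat_lit 1), .ofNat (nat_lit 0), .ofNat (nat_lit 0), .negSucc (nat_lit 0), .ofNat (nat_lit 1), .ofNat (nat_lit 1)], [.ofNat (nat_lit 0), .ofNat (nat_lit 0), .negSucc (nat_lit 0), .ofNat (nat_lit 1), .negSucc (nat_lit 0), .ofNat (nat_lit 1), .ofNat (nat_lit 0), .ofNat (nat_lit 1)], [.negSucc (nat_lit 0),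 .ofNat (nat_lit 0), .ofNat (nat_lit 1), .ofNat (nat_lit 0), .ofNat (nat_lit 0), .ofNat (nat_lit 0), .negSucc (nat_lit 0), .ofNat (nat_lit 2)], [.ofNat (nat_lit 0), .ofNat (nat_lit 0), .negSucc (nat_lit 0), .ofNat (nat_lit 1), .ofNat (nat_lit 0), .negSucc (nat_lit 0), .ofNat (nat_lit 1), .ofNat (nat_lit 1)], [.ofNat (nat_lit 0), .ofNat (nat_lit 1), .ofNat (nat_lit 0), .negSucc (nat_lit 0), .ofNat (nat_lit 0), .ofNat (nat_lit 1), .ofNat (nat_lit 0), .ofNat (nat_lit 1)], [.ofNat (nat_lit 0), .ofNat (nat_lit 0), .negSucc (nat_lit 0), .ofNat (nat_lit 1), .ofNat (nat_lit 0), .ofNat (nat_lit 0), .negSucc (nat_lit 0), .ofNat (nat_lit 2)], [.ofNat (nat_lit 0), .ofNat (nat_lit 1), .ofNat (nat_lit 0), .negSucc (nat_lit 0), .ofNat (nat_lit 1), .negSucc (nat_lit 0), .ofNat (nat_lit 1), .ofNat (nat_lit 1)], [.ofNat (nat_lit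 0), .negSucc (nat_lit 0), .ofNat (nat_lit 0), .ofNat (nat_lit 0), .ofNat (nat_lit 0), .ofNat (nat_lit 1), .ofNat (nat_lit 0), .ofNat (nat_lit 1)], [.ofNat (nat_lit 0), .ofNat (nat_lit 1), .ofNat (nat_lit 0), .negSucc (nat_lit 0), .ofNat (nat_lit 1), .ofNat (nat_lit 0), .negSucc (nat_lit 0), .ofNat (nat_lit 2)], [.ofNat (nat_lit 0), .ofNat (nat_lit 1), .ofNat (nat_lit 0), .ofNat (nat_lit 0), .negSucc (nat_lit 0), .ofNat (nat_lit 0), .ofNat (nat_lit 1), .ofNat (nat_lit 1)], [.ofNat (nat_lit 0), .negSucc (nat_lit 0), .ofNat (nat_lit 0), .ofNat (nat_lit 0), .ofNat (nat_lit 1), .negSucc (nat_lit 0), .ofNat (nat_lit 1), .ofNat (nat_lit 1)], [.ofNat (nat_lit 0), .ofNat (nat_lit 1), .ofNat (nat_lit 0), .ofNat (nat_lit 0), .negSucc (nat_lit 0), .ofNat (nat_lit 1), .negSucc (nat_lit 0), .ofNat (nat_lit 2)], [.ofNat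 (nat_lit 0), .negSucc (nat_lit 0), .ofNat (nat_lit 0), .ofNat (nat_lit 0), .ofNat (nat_lit 1), .ofNat (nat_lit 0), .negSucc (nat_lit 0), .ofNat (nat_lit 2)], [.ofNat (nat_lit 0), .negSucc (nat_lit 0), .ofNat (nat_lit 0), .ofNat (nat_lit 1), .negSucc (nat_lit 0), .ofNat (nat_lit 0), .ofNat (nat_lit 1), .ofNat (nat_lit 1)], [.ofNat (nat_lit 0), .ofNat (nat_lit 1), .ofNat (nat_lit 0), .ofNat (nat_lit 0), .ofNat (nat_lit 0), .negSucc (nat_lit 0), .ofNat (nat_lit 0), .ofNat (nat_lit 2)], [.ofNat (nat_lit 0), .negSucc (nat_lit 0), .ofNat (nat_lit 0), .ofNat (nat_lit 1), .negSucc (nat_lit 0), .ofNat (nat_lit 1), .negSucc (nat_lit 0), .ofNat (nat_lit 2)], [.ofNat (nat_lit 0), .ofNat (nat_lit 0), .ofNat (nat_lit 1), .negSucc (nat_lit 0), .ofNat (nat_lit 0), .ofNat (nat_lit 0), .ofNat (nat_lit 1), .ofNat (nat_lit 1)],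 [.ofNat (nat_lit 0), .negSucc (nat_lit 0), .ofNat (nat_lit 0), .ofNat (nat_lit 1), .ofNat (nat_lit 0), .negSucc (nat_lit 0), .ofNat (nat_lit 0), .ofNat (nat_lit 2)], [.ofNat (nat_lit 0), .ofNat (nat_lit 0), .ofNat (nat_lit 1), .negSucc (nat_lit 0), .ofNat (nat_lit 0), .ofNat (nat_lit 1), .negSucc (nat_lit 0), .ofNat (nat_lit 2)], [.ofNat (nat_lit 1), .ofNat (nat_lit 0), .negSucc (nat_lit 0), .ofNat (nat_lit 0), .ofNat (nat_lit 0), .ofNat (nat_lit 0), .ofNat (nat_lit 1), .ofNat (nat_lit 1)], [.ofNat (nat_lit 0), .ofNat (nat_lit 0), .ofNat (nat_lit 1), .negSucc (nat_lit 0), .ofNat (nat_lit 1), .negSucc (nat_lit 0), .ofNat (nat_lit 0), .ofNat (nat_lit 2)], [.ofNat (nat_lit 1), .ofNat (nat_lit 0), .negSucc (nat_lit 0), .ofNat (nat_lit 0), .ofNat (nat_lit 0), .ofNat (nat_lit 1), .negSucc (nat_lit 0), .ofNat (nat_lit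 2)], [.negSucc (nat_lit 0), .ofNat (nat_lit 0), .ofNat (nat_lit 0), .ofNat (nat_lit 0), .ofNat (nat_lit 0), .ofNat (nat_lit 0), .ofNat (nat_lit 1), .ofNat (nat_lit 1)], [.ofNat (nat_lit 0), .ofNat (nat_lit 0), .ofNat (nat_lit 1), .ofNat (nat_lit 0), .negSucc (nat_lit 0), .ofNat (nat_lit 0), .ofNat (nat_lit 0), .ofNat (nat_lit 2)], [.ofNat (nat_lit 1), .ofNat (nat_lit 0), .negSucc (nat_lit 0), .ofNat (nat_lit 0), .ofNat (nat_lit 1), .negSucc (nat_lit 0), .ofNat (nat_lit 0), .ofNat (nat_lit 2)], [.negSucc (nat_lit 0), .ofNat (nat_lit 0), .ofNat (nat_lit 0), .ofNat (nat_lit 0), .ofNat (nat_lit 0), .ofNat (nat_lit 1), .negSucc (nat_lit 0), .ofNat (nat_lit 2)], [.ofNat (nat_lit 1), .ofNat (nat_lit 0), .negSucc (nat_lit 0), .ofNat (nat_lit 1), .negSucc (nat_lit 0), .ofNat (nat_lit 0), .ofNat (nat_lit 0), .ofNat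 (nat_lit 2)], [.negSucc (nat_lit 0), .ofNat (nat_lit 0), .ofNat (nat_lit 0), .ofNat (nat_lit 0), .ofNat (nat_lit 1), .negSucc (nat_lit 0), .ofNat (nat_lit 0), .ofNat (nat_lit 2)], [.ofNat (nat_lit 1), .ofNat (nat_lit 1), .ofNat (nat_lit 0), .negSucc (nat_lit 0), .ofNat (nat_lit 0), .ofNat (nat_lit 0), .ofNat (nat_lit 0), .ofNat (nat_lit 2)], [.negSucc (nat_lit 0), .ofNat (nat_lit 0), .ofNat (nat_lit 0), .ofNat (nat_lit 1), .negSucc (nat_lit 0), .ofNat (nat_lit 0), .ofNat (nat_lit 0), .ofNat (nat_lit 2)], [.ofNat (nat_lit 1), .negSucc (nat_lit 0), .ofNat (nat_lit 0), .ofNat (nat_lit 0), .ofNat (nat_lit 0), .ofNat (nat_lit 0), .ofNat (nat_lit 0), .ofNat (nat_lit 2)], [.negSucc (nat_lit 0), .ofNat (nat_lit 1), .ofNat (nat_lit 1), .negSucc (nat_lit 0), .ofNat (nat_lit 0), .ofNat (nat_lit 0), .ofNat (nat_lit 0),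 .ofNat (nat_lit 2)], [.negSucc (nat_lit 0), .negSucc (nat_lit 0), .ofNat (nat_lit 1), .ofNat (nat_lit 0), .ofNat (nat_lit 0), .ofNat (nat_lit 0), .ofNat (nat_lit 0), .ofNat (nat_lit 2)], [.ofNat (nat_lit 0), .ofNat (nat_lit 1), .negSucc (nat_lit 0), .ofNat (nat_lit 0), .ofNat (nat_lit 0), .ofNat (nat_lit 0), .ofNat (nat_lit 0), .ofNat (nat_lit 2)], [.ofNat (nat_lit 0), .negSucc (nat_lit 0), .negSucc (nat_lit 0), .ofNat (nat_lit 1), .ofNat (nat_lit 0), .ofNat (nat_lit 0), .ofNat (nat_lit 0), .ofNat (nat_lit 2)], [.ofNat (nat_lit 0), .ofNat (nat_lit 0), .ofNat (nat_lit 0), .negSucc (nat_lit 0), .ofNat (nat_lit 1), .ofNat (nat_lit 0), .ofNat (nat_lit 0), .ofNat (nat_lit 2)], [.ofNat (nat_lit 0), .ofNat (nat_lit 0), .ofNat (nat_lit 0), .ofNat (nat_lit 0), .negSucc (nat_lit 0), .ofNat (nat_lit 1), .ofNat (nat_lit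 0), .ofNat (nat_lit 2)], [.ofNat (nat_lit 0), .ofNat (nat_lit 0), .ofNat (nat_lit 0), .ofNat (nat_lit 0), .ofNat (nat_lit 0), .negSucc (nat_lit 0), .ofNat (nat_lit 1), .ofNat (nat_lit 2)], [.ofNat (nat_lit 0), .ofNat (nat_lit 0), .ofNat (nat_lit 0), .ofNat (nat_lit 0), .ofNat (nat_lit 0), .ofNat (nat_lit 0), .negSucc (nat_lit 0), .ofNat (nat_lit 3)]]
  par := [(0, 6), (1, 5), (2, 4), (3, 3), (4, 1), (4, 2), (5, 2), (6, 0), (7, 3), (7, 0), (9, 4), (9, 0), (11, 5), (11, 0), (12, 2), (13, 6), (13, 0), (14, 2), (16, 0), (17, 2), (18, 3), (19, 2), (20, 3), (21, 1), (22, 3), (23, 4), (23, 1), (25, 4), (25, 1), (26, 1), (28, 5), (28, 1), (30, 3), (31, 1), (32, 3), (33, 2), (34, 3), (35, 2), (36, 0), (37, 4), (37, 2), (38, 0), (40, 2), (41, 0), (43, 3), (43, 0), (45, 1), (45, 0), (47, 0), (48, 2), (49, 2), (51, 3),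 (52, 4), (53, 5), (54, 6)]
  succ := [[1, 0, 0, 0, 0, 0, 0], [0, 2, 1, 1, 1, 1, 1], [2, 1, 3, 2, 2, 2, 2], [3, 3, 2, 4, 3, 3, 3], [4, 4, 4, 3, 5, 6, 4], [5, 5, 5, 5, 4, 7, 5], [6, 6, 6, 6, 7, 4, 8], [7, 7, 7, 9, 6, 5, 10], [8, 8, 8, 8, 10, 8, 6], [9, 9, 11, 7, 9, 9, 12], [10, 10, 10, 12, 8, 10, 7], [11, 13, 9, 11, 11, 11, 14], [12, 12, 14, 10, 12, 15, 9], [16, 11, 13, 13, 13, 13, 17], [14, 17, 12, 14, 14, 18, 11], [15, 15, 18, 15, 15, 12, 15], [13, 16, 16, 16, 16, 16, 19], [19, 14, 17, 17, 17, 20, 13], [18, 20, 15, 21, 18, 14, 18], [17, 19, 19, 19, 19, 22, 16], [22, 18, 20, 23, 20, 17, 20], [21, 23, 21, 18, 24, 21, 21], [20, 22, 22, 25, 22, 19, 22], [25, 21, 26, 20, 27, 23, 23], [24, 27, 24, 24, 21, 24, 24], [23, 25, 28, 22, 29, 25, 25], [28, 26, 23, 26, 30, 26, 26], [29, 24, 30, 27, 23, 27, 27], [26, 31,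 25, 28, 32, 28, 28], [27, 29, 32, 29, 25, 29, 29], [32, 30, 27, 33, 26, 30, 30], [31, 28, 31, 31, 34, 31, 31], [30, 34, 29, 35, 28, 32, 32], [35, 33, 33, 30, 33, 36, 33], [34, 32, 34, 37, 31, 34, 34], [33, 37, 35, 32, 35, 38, 35], [38, 36, 36, 36, 36, 33, 39], [37, 35, 40, 34, 37, 41, 37], [36, 41, 38, 38, 38, 35, 42], [42, 39, 39, 39, 39, 39, 36], [40, 40, 37, 40, 40, 43, 40], [41, 38, 43, 41, 41, 37, 44], [39, 44, 42, 42, 42, 42, 38], [43, 43, 41, 45, 43, 40, 46], [44, 42, 46, 44, 44, 44, 41], [45, 45, 45, 43, 47, 45, 48], [46, 46, 44, 48, 46, 46, 43], [47, 47, 47, 47, 45, 47, 49], [48, 48, 48, 46, 49, 50, 45], [49, 49, 49, 49, 48, 51, 47], [50, 50, 50, 50, 51, 48, 50], [51, 51, 51, 52, 50, 49, 51], [52, 52, 53, 51, 52, 52, 52], [53, 54, 52, 53, 53, 53, 53], [55, 53, 54, 54, 54, 54, 54], [54, 55, 55, 55,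 55, 55, 55]]
  deg := [0, 1, 2, 3, 4, 5, 5, 6, 6, 7, 7, 8, 8, 9, 9, 9, 10, 10, 10, 11, 11, 11, 12, 12, 12, 13, 13, 13, 14, 14, 14, 15, 15, 15, 16, 16, 16, 17, 17, 17, 18, 18, 18, 19, 19, 20, 20, 21, 21, 22, 22, 23, 24, 25, 26, 27]

/-- Orbit level 1 of the parabolic subgroup below `82`. -/
def e8Stab82Level1 : Level where
  k := 5
  pts := [[.ofNat (nat_lit 0), .ofNat (nat_lit 0), .ofNat (nat_lit 0), .ofNat (nat_lit 0), .ofNat (nat_lit 0), .ofNat (nat_lit 1), .ofNat (nat_lit 0), .ofNat (nat_lit 0)], [.ofNat (nat_lit 0), .ofNat (nat_lit 0), .ofNat (nat_lit 0), .ofNat (nat_lit 0), .ofNat (nat_lit 1), .negSucc (nat_lit 0), .ofNat (nat_lit 1), .ofNat (nat_lit 0)], [.ofNat (nat_lit 0), .ofNat (nat_lit 0), .ofNat (nat_lit 0), .ofNat (nat_lit 1), .negSucc (nat_lit 0), .ofNat (nat_lit 0), .ofNat (nat_lit 1), .ofNat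 (nat_lit 0)], [.ofNat (nat_lit 0), .ofNat (nat_lit 1), .ofNat (nat_lit 1), .negSucc (nat_lit 0), .ofNat (nat_lit 0), .ofNat (nat_lit 0), .ofNat (nat_lit 1), .ofNat (nat_lit 0)], [.ofNat (nat_lit 0), .negSucc (nat_lit 0), .ofNat (nat_lit 1), .ofNat (nat_lit 0), .ofNat (nat_lit 0), .ofNat (nat_lit 0), .ofNat (nat_lit 1), .ofNat (nat_lit 0)], [.ofNat (nat_lit 1), .ofNat (nat_lit 1), .negSucc (nat_lit 0), .ofNat (nat_lit 0), .ofNat (nat_lit 0), .ofNat (nat_lit 0), .ofNat (nat_lit 1), .ofNat (nat_lit 0)], [.ofNat (nat_lit 1), .negSucc (nat_lit 0), .negSucc (nat_lit 0), .ofNat (nat_lit 1), .ofNat (nat_lit 0), .ofNat (nat_lit 0), .ofNat (nat_lit 1), .ofNat (nat_lit 0)], [.negSucc (nat_lit 0), .ofNat (nat_lit 1), .ofNat (nat_lit 0), .ofNat (nat_lit 0), .ofNat (nat_lit 0), .ofNat (nat_lit 0), .ofNat (nat_lit 1), .ofNat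 (nat_lit 0)], [.ofNat (nat_lit 1), .ofNat (nat_lit 0), .ofNat (nat_lit 0), .negSucc (nat_lit 0), .ofNat (nat_lit 1), .ofNat (nat_lit 0), .ofNat (nat_lit 1), .ofNat (nat_lit 0)], [.negSucc (nat_lit 0), .negSucc (nat_lit 0), .ofNat (nat_lit 0), .ofNat (nat_lit 1), .ofNat (nat_lit 0), .ofNat (nat_lit 0), .ofNat (nat_lit 1), .ofNat (nat_lit 0)], [.ofNat (nat_lit 1), .ofNat (nat_lit 0), .ofNat (nat_lit 0), .ofNat (nat_lit 0), .negSucc (nat_lit 0), .ofNat (nat_lit 1), .ofNat (nat_lit 1), .ofNat (nat_lit 0)], [.negSucc (nat_lit 0), .ofNat (nat_lit 0), .ofNat (nat_lit 1), .negSucc (nat_lit 0), .ofNat (nat_lit 1), .ofNat (nat_lit 0), .ofNat (nat_lit 1), .ofNat (nat_lit 0)], [.ofNat (nat_lit 1), .ofNat (nat_lit 0), .ofNat (nat_lit 0), .ofNat (nat_lit 0), .ofNat (nat_lit 0), .negSucc (nat_lit 0), .ofNat (nat_lit 2),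 .ofNat (nat_lit 0)], [.negSucc (nat_lit 0), .ofNat (nat_lit 0), .ofNat (nat_lit 1), .ofNat (nat_lit 0), .negSucc (nat_lit 0), .ofNat (nat_lit 1), .ofNat (nat_lit 1), .ofNat (nat_lit 0)], [.ofNat (nat_lit 0), .ofNat (nat_lit 0), .negSucc (nat_lit 0), .ofNat (nat_lit 0), .ofNat (nat_lit 1), .ofNat (nat_lit 0), .ofNat (nat_lit 1), .ofNat (nat_lit 0)], [.negSucc (nat_lit 0), .ofNat (nat_lit 0), .ofNat (nat_lit 1), .ofNat (nat_lit 0), .ofNat (nat_lit 0), .negSucc (nat_lit 0), .ofNat (nat_lit 2), .ofNat (nat_lit 0)], [.ofNat (nat_lit 0), .ofNat (nat_lit 0), .negSucc (nat_lit 0), .ofNat (nat_lit 1), .negSucc (nat_lit 0), .ofNat (nat_lit 1), .ofNat (nat_lit 1), .ofNat (nat_lit 0)], [.ofNat (nat_lit 0), .ofNat (nat_lit 0), .negSucc (nat_lit 0), .ofNat (nat_lit 1), .ofNat (nat_lit 0), .negSucc (nat_lit 0), .ofNat (nat_lit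 2), .ofNat (nat_lit 0)], [.ofNat (nat_lit 0), .ofNat (nat_lit 1), .ofNat (nat_lit 0), .negSucc (nat_lit 0), .ofNat (nat_lit 0), .ofNat (nat_lit 1), .ofNat (nat_lit 1), .ofNat (nat_lit 0)], [.ofNat (nat_lit 0), .ofNat (nat_lit 1), .ofNat (nat_lit 0), .negSucc (nat_lit 0), .ofNat (nat_lit 1), .negSucc (nat_lit 0), .ofNat (nat_lit 2), .ofNat (nat_lit 0)], [.ofNat (nat_lit 0), .negSucc (nat_lit 0), .ofNat (nat_lit 0), .ofNat (nat_lit 0), .ofNat (nat_lit 0), .ofNat (nat_lit 1), .ofNat (nat_lit 1), .ofNat (nat_lit 0)], [.ofNat (nat_lit 0), .ofNat (nat_lit 1), .ofNat (nat_lit 0), .ofNat (nat_lit 0), .negSucc (nat_lit 0), .ofNat (nat_lit 0), .ofNat (nat_lit 2), .ofNat (nat_lit 0)], [.ofNat (nat_lit 0), .negSucc (nat_lit 0), .ofNat (nat_lit 0), .ofNat (nat_lit 0), .ofNat (nat_lit 1), .negSucc (nat_lit 0), .ofNat (nat_lit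 2), .ofNat (nat_lit 0)], [.ofNat (nat_lit 0), .negSucc (nat_lit 0), .ofNat (nat_lit 0), .ofNat (nat_lit 1), .negSucc (nat_lit 0), .ofNat (nat_lit 0), .ofNat (nat_lit 2), .ofNat (nat_lit 0)], [.ofNat (nat_lit 0), .ofNat (nat_lit 0), .ofNat (nat_lit 1), .negSucc (nat_lit 0), .ofNat (nat_lit 0), .ofNat (nat_lit 0), .ofNat (nat_lit 2), .ofNat (nat_lit 0)], [.ofNat (nat_lit 1), .ofNat (nat_lit 0), .negSucc (nat_lit 0), .ofNat (nat_lit 0), .ofNat (nat_lit 0), .ofNat (nat_lit 0), .ofNat (nat_lit 2), .ofNat (nat_lit 0)], [.negSucc (nat_lit 0), .ofNat (nat_lit 0), .ofNat (nat_lit 0), .ofNat (nat_lit 0), .ofNat (nat_lit 0), .ofNat (nat_lit 0), .ofNat (nat_lit 2), .ofNat (nat_lit 0)]]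
  par := [(0, 5), (1, 4), (2, 3), (3, 1), (3, 2), (4, 2), (5, 0), (6, 3), (6, 0), (8, 4), (8, 0), (10, 5), (10, 0), (11, 2), (12, 0), (13, 2), (15, 2), (16, 3), (17, 3), (18, 1), (19, 4), (19, 1), (21, 1), (23, 3), (24, 2), (25, 0)]
  succ := [[1, 0, 0, 0, 0, 0], [0, 2, 1, 1, 1, 1], [2, 1, 3, 2, 2, 2], [3, 3, 2, 4, 5, 3], [4, 4, 4, 3, 6, 4], [5, 5, 5, 6, 3, 7], [6, 6, 8, 5, 4, 9], [7, 7, 7, 9, 7, 5], [8, 10, 6, 8, 8, 11], [9, 9, 11, 7, 9, 6], [12, 8, 10, 10, 10, 13], [11, 13, 9, 11, 14, 8], [10, 12, 12, 12, 12, 15], [15, 11, 13, 13, 16, 10], [14, 16, 14, 14, 11, 14], [13, 15, 15, 15, 17, 12], [17, 14, 18, 16, 13, 16], [16, 17, 19, 17, 15, 17], [19, 18, 16, 20, 18, 18], [18, 21, 17, 22, 19, 19], [22, 20, 20, 18, 20, 20], [21, 19, 21, 23, 21, 21], [20, 23, 22, 19, 22, 22], [23, 22, 24, 21, 23, 23], [24, 24,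 23, 24, 25, 24], [25, 25, 25, 25, 24, 26], [26, 26, 26, 26, 26, 25]]
  deg := [0, 1, 2, 3, 4, 4, 5, 5, 6, 6, 7, 7, 8, 8, 8, 9, 9, 10, 10, 11, 11, 12, 12, 13, 14, 15, 16]

/-- Orbit level 2 of the parabolic subgroup below `82`. -/
def e8Stab82Level2 : Level where
  k := 4
  pts := [[.ofNat (nat_lit 0), .ofNat (nat_lit 0), .ofNat (nat_lit 0), .ofNat (nat_lit 0), .ofNat (nat_lit 1), .ofNat (nat_lit 0), .ofNat (nat_lit 0), .ofNat (nat_lit 0)], [.ofNat (nat_lit 0), .ofNat (nat_lit 0), .ofNat (nat_lit 0), .ofNat (nat_lit 1), .negSucc (nat_lit 0), .ofNat (nat_lit 1), .ofNat (nat_lit 0), .ofNat (nat_lit 0)], [.ofNat (nat_lit 0), .ofNat (nat_lit 1), .ofNat (nat_lit 1), .negSucc (nat_lit 0), .ofNat (nat_lit 0), .ofNat (nat_lit 1), .ofNat (nat_lit 0), .ofNat (nat_lit 0)], [.ofNat (nat_lit 0), .negSucc (nat_lit 0), .ofNat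 (nat_lit 1), .ofNat (nat_lit 0), .ofNat (nat_lit 0), .ofNat (nat_lit 1), .ofNat (nat_lit 0), .ofNat (nat_lit 0)], [.ofNat (nat_lit 1), .ofNat (nat_lit 1), .negSucc (nat_lit 0), .ofNat (nat_lit 0), .ofNat (nat_lit 0), .ofNat (nat_lit 1), .ofNat (nat_lit 0), .ofNat (nat_lit 0)], [.ofNat (nat_lit 1), .negSucc (nat_lit 0), .negSucc (nat_lit 0), .ofNat (nat_lit 1), .ofNat (nat_lit 0), .ofNat (nat_lit 1), .ofNat (nat_lit 0), .ofNat (nat_lit 0)], [.negSucc (nat_lit 0), .ofNat (nat_lit 1), .ofNat (nat_lit 0), .ofNat (nat_lit 0), .ofNat (nat_lit 0), .ofNat (nat_lit 1), .ofNat (nat_lit 0), .ofNat (nat_lit 0)], [.ofNat (nat_lit 1), .ofNat (nat_lit 0), .ofNat (nat_lit 0), .negSucc (nat_lit 0), .ofNat (nat_lit 1), .ofNat (nat_lit 1), .ofNat (nat_lit 0), .ofNat (nat_lit 0)], [.negSucc (nat_lit 0), .negSucc (nat_lit 0),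 .ofNat (nat_lit 0), .ofNat (nat_lit 1), .ofNat (nat_lit 0), .ofNat (nat_lit 1), .ofNat (nat_lit 0), .ofNat (nat_lit 0)], [.ofNat (nat_lit 1), .ofNat (nat_lit 0), .ofNat (nat_lit 0), .ofNat (nat_lit 0), .negSucc (nat_lit 0), .ofNat (nat_lit 2), .ofNat (nat_lit 0), .ofNat (nat_lit 0)], [.negSucc (nat_lit 0), .ofNat (nat_lit 0), .ofNat (nat_lit 1), .negSucc (nat_lit 0), .ofNat (nat_lit 1), .ofNat (nat_lit 1), .ofNat (nat_lit 0), .ofNat (nat_lit 0)], [.negSucc (nat_lit 0), .ofNat (nat_lit 0), .ofNat (nat_lit 1), .ofNat (nat_lit 0), .negSucc (nat_lit 0), .ofNat (nat_lit 2), .ofNat (nat_lit 0), .ofNat (nat_lit 0)], [.ofNat (nat_lit 0), .ofNat (nat_lit 0), .negSucc (nat_lit 0), .ofNat (nat_lit 0), .ofNat (nat_lit 1), .ofNat (nat_lit 1), .ofNat (nat_lit 0), .ofNat (nat_lit 0)], [.ofNat (nat_lit 0), .ofNat (nat_lit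 0), .negSucc (nat_lit 0), .ofNat (nat_lit 1), .negSucc (nat_lit 0), .ofNat (nat_lit 2), .ofNat (nat_lit 0), .ofNat (nat_lit 0)], [.ofNat (nat_lit 0), .ofNat (nat_lit 1), .ofNat (nat_lit 0), .negSucc (nat_lit 0), .ofNat (nat_lit 0), .ofNat (nat_lit 2), .ofNat (nat_lit 0), .ofNat (nat_lit 0)], [.ofNat (nat_lit 0), .negSucc (nat_lit 0), .ofNat (nat_lit 0), .ofNat (nat_lit 0), .ofNat (nat_lit 0), .ofNat (nat_lit 2), .ofNat (nat_lit 0), .ofNat (nat_lit 0)]]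
  par := [(0, 4), (1, 3), (2, 1), (2, 2), (3, 2), (4, 0), (5, 3), (5, 0), (7, 4), (7, 0), (9, 0), (10, 2), (11, 2), (13, 3), (14, 1)]
  succ := [[1, 0, 0, 0, 0], [0, 2, 1, 1, 1], [2, 1, 3, 4, 2], [3, 3, 2, 5, 3], [4, 4, 5, 2, 6], [5, 7, 4, 3, 8], [6, 6, 8, 6, 4], [9, 5, 7, 7, 10], [8, 10, 6, 8, 5], [7, 9, 9, 9, 11], [11, 8, 10, 12, 7], [10, 11, 11, 13, 9], [13, 12, 12, 10, 12], [12, 14, 13, 11, 13], [14, 13, 15, 14, 14], [15, 15, 14, 15, 15]]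
  deg := [0, 1, 2, 3, 3, 4, 4, 5, 5, 6, 6, 7, 7, 8, 9, 10]

/-- Orbit level 3 of the parabolic subgroup below `82`. -/
def e8Stab82Level3 : Level where
  k := 3
  pts := [[.ofNat (nat_lit 0), .ofNat (nat_lit 0), .ofNat (nat_lit 0), .ofNat (nat_lit 1), .ofNat (nat_lit 0), .ofNat (nat_lit 0), .ofNat (nat_lit 0), .ofNat (nat_lit 0)], [.ofNat (nat_lit 0), .ofNat (nat_lit 1), .ofNat (nat_lit 1), .negSucc (nat_lit 0), .ofNat (nat_lit 1), .ofNat (nat_lit 0), .ofNat (nat_lit 0), .ofNat (nat_lit 0)], [.ofNat (nat_lit 0), .negSucc (nat_lit 0), .ofNat (nat_lit 1), .ofNat (nat_lit 0), .ofNat (nat_lit 1), .ofNat (nat_lit 0), .ofNat (nat_lit 0), .ofNat (nat_lit 0)], [.ofNat (nat_lit 1), .ofNat (nat_lit 1), .negSucc (nat_lit 0), .ofNat (nat_lit 0), .ofNat (nat_lit 1), .ofNat (nat_lit 0), .ofNat (nat_lit 0), .ofNat (nat_lit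 0)], [.ofNat (nat_lit 1), .negSucc (nat_lit 0), .negSucc (nat_lit 0), .ofNat (nat_lit 1), .ofNat (nat_lit 1), .ofNat (nat_lit 0), .ofNat (nat_lit 0), .ofNat (nat_lit 0)], [.negSucc (nat_lit 0), .ofNat (nat_lit 1), .ofNat (nat_lit 0), .ofNat (nat_lit 0), .ofNat (nat_lit 1), .ofNat (nat_lit 0), .ofNat (nat_lit 0), .ofNat (nat_lit 0)], [.ofNat (nat_lit 1), .ofNat (nat_lit 0), .ofNat (nat_lit 0), .negSucc (nat_lit 0), .ofNat (nat_lit 2), .ofNat (nat_lit 0), .ofNat (nat_lit 0), .ofNat (nat_lit 0)], [.negSucc (nat_lit 0), .negSucc (nat_lit 0), .ofNat (nat_lit 0), .ofNat (nat_lit 1), .ofNat (nat_lit 1), .ofNat (nat_lit 0), .ofNat (nat_lit 0), .ofNat (nat_lit 0)], [.negSucc (nat_lit 0), .ofNat (nat_lit 0), .ofNat (nat_lit 1), .negSucc (nat_lit 0), .ofNat (nat_lit 2), .ofNat (nat_lit 0), .ofNat (nat_lit 0), .ofNat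 (nat_lit 0)], [.ofNat (nat_lit 0), .ofNat (nat_lit 0), .negSucc (nat_lit 0), .ofNat (nat_lit 0), .ofNat (nat_lit 2), .ofNat (nat_lit 0), .ofNat (nat_lit 0), .ofNat (nat_lit 0)]]
  par := [(0, 3), (1, 1), (1, 2), (2, 2), (3, 0), (4, 3), (4, 0), (6, 0), (8, 2)]
  succ := [[1, 0, 0, 0], [0, 2, 3, 1], [2, 1, 4, 2], [3, 4, 1, 5], [6, 3, 2, 7], [5, 7, 5, 3], [4, 6, 6, 8], [8, 5, 7, 4], [7, 8, 9, 6], [9, 9, 8, 9]]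
  deg := [0, 1, 2, 2, 3, 3, 4, 4, 5, 6]

/-- Orbit level 4 of the parabolic subgroup below `82`. -/
def e8Stab82Level4 : Level where
  k := 1
  pts := [[.ofNat (nat_lit 0), .ofNat (nat_lit 1), .ofNat (nat_lit 0), .ofNat (nat_lit 0), .ofNat (nat_lit 0), .ofNat (nat_lit 0), .ofNat (nat_lit 0), .ofNat (nat_lit 0)], [.ofNat (nat_lit 0), .negSucc (nat_lit 0), .ofNat (nat_lit 0), .ofNat (nat_lit 1), .ofNat (nat_lit 0), .ofNat (nat_lit 0), .ofNat (nat_lit 0), .ofNat (nat_lit 0)]]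
  par := [(0, 1)]
  succ := [[1, 0, 0], [0, 1, 1]]
  deg := [0, 1]

/-- Orbit level 5 of the parabolic subgroup below `82`. -/
def e8Stab82Level5 : Level where
  k := 2
  pts := [[.ofNat (nat_lit 0), .ofNat (nat_lit 0), .ofNat (nat_lit 1), .ofNat (nat_lit 0), .ofNat (nat_lit 0), .ofNat (nat_lit 0), .ofNat (nat_lit 0), .ofNat (nat_lit 0)], [.ofNat (nat_lit 1), .ofNat (nat_lit 0), .negSucc (nat_lit 0), .ofNat (nat_lit 1), .ofNat (nat_lit 0), .ofNat (nat_lit 0), .ofNat (nat_lit 0), .ofNat (nat_lit 0)], [.negSucc (nat_lit 0), .ofNat (nat_lit 0), .ofNat (nat_lit 0), .ofNat (nat_lit 1), .ofNat (nat_lit 0), .ofNat (nat_lit 0), .ofNat (nat_lit 0), .ofNat (nat_lit 0)]]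
  par := [(0, 2), (1, 0)]
  succ := [[1, 0], [0, 2], [2, 1]]
  deg := [0, 1, 2]

/-- Orbit level 6 of the parabolic subgroup below `82`. -/
def e8Stab82Level6 : Level where
  k := 0
  pts := [[.ofNat (nat_lit 1), .ofNat (nat_lit 0), .ofNat (nat_lit 0), .ofNat (nat_lit 0), .ofNat (nat_lit 0), .ofNat (nat_lit 0), .ofNat (nat_lit 0), .ofNat (nat_lit 0)], [.negSucc (nat_lit 0), .ofNat (nat_lit 0), .ofNat (nat_lit 1), .ofNat (nat_lit 0), .ofNat (nat_lit 0), .ofNat (nat_lit 0), .ofNat (nat_lit 0), .ofNat (nat_lit 0)]]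
  par := [(0, 0)]
  succ := [[1], [0]]
  deg := [0, 1]

/-- The chain of the parabolic subgroup below `82`. -/
def e8Stab82Levels : List Level := [e8Stab82Level0, e8Stab82Level1, e8Stab82Level2, e8Stab82Level3, e8Stab82Level4, e8Stab82Level5, e8Stab82Level6]

/-- Words leading every bit vector to one of the two. -/
def e8OrbitWords : List (List ℕ) := [[], [7, 6, 5, 4, 3, 1, 2, 0, 3, 2, 4, 3, 1, 5, 4, 3, 2, 6, 5, 4, 3, 1, 7, 6, 5, 4, 3, 2], [7, 6, 5, 4, 3, 1, 2, 0, 3, 2, 4, 3, 1, 5, 4, 3, 2, 0, 6, 5, 4, 3, 2, 7, 6, 5, 4, 3], [0, 2], [7, 6, 5, 4, 3, 1, 2, 0, 3, 2, 4, 3, 1, 5, 4, 3, 2, 0, 6, 5, 4, 3, 1, 7, 6, 5, 4, 3], [7, 6, 5, 4, 3, 1, 2, 0, 3, 2, 4, 3, 1, 5, 4, 3, 2, 6, 5, 4, 3, 1, 7, 6, 5, 4, 3], [], [0], [7, 6, 5, 4, 3, 1, 2, 0, 3, 2, 4, 3, 1, 5, 4, 3, 2, 0, 6, 5, 4, 3, 1, 2, 7, 6, 5, 4], [0, 2, 3, 1],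 [7, 6, 5, 4, 3, 1, 2, 0, 3, 2, 4, 3, 1, 5, 4, 3, 2, 0, 6, 5, 4, 3, 2, 7, 6, 5, 4], [0, 2, 3], [7, 6, 5, 4, 3, 1, 2, 0, 3, 2, 4, 3, 1, 5, 4, 3, 2, 0, 6, 5, 4, 3, 1, 7, 6, 5, 4], [7, 6, 5, 4, 3, 1, 2, 0, 3, 2, 4, 3, 1, 5, 4, 3, 2, 6, 5, 4, 3, 1, 7, 6, 5, 4], [7, 6, 5, 4, 3, 1, 2, 0, 3, 2, 4, 3, 1, 5, 4, 3, 2, 0, 6, 5, 4, 3, 7, 6, 5, 4], [7, 6, 5, 4, 3, 1, 2, 0, 3, 2, 4, 3, 1, 5, 4, 3, 2, 6, 5, 4, 3, 7, 6, 5, 4], [7, 6, 5, 4, 3, 1, 2, 0, 3, 2, 4, 3, 1, 5, 4, 3, 2, 0, 6, 5, 4, 3, 1, 2, 3, 7, 6, 5], [0, 2, 3, 1, 4, 3], [0, 2, 3, 1, 4, 3, 2, 0, 5, 4, 3, 1, 2, 3, 4, 5], [7, 6, 5, 4, 3, 1, 2, 0, 3, 2, 4, 3, 1, 5, 4, 3, 6, 5, 4, 7, 6, 5], [0, 2, 3, 1, 4, 3, 2, 0], [0, 2, 3, 1, 4, 3, 2], [7, 6, 5, 4, 3, 1, 2, 0, 3, 2, 4, 3, 1, 5, 4, 3, 2, 0, 6, 5, 4, 7, 6, 5], [7, 6, 5, 4, 3, 1, 2, 0, 3, 2, 4, 3, 1, 5, 4, 3, 2, 6,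 5, 4, 7, 6, 5], [7, 6, 5, 4, 3, 1, 2, 0, 3, 2, 4, 3, 1, 5, 4, 3, 2, 0, 6, 5, 4, 3, 1, 2, 7, 6, 5], [0, 2, 3, 1, 4], [7, 6, 5, 4, 3, 1, 2, 0, 3, 2, 4, 3, 1, 5, 4, 3, 2, 0, 6, 5, 4, 3, 2, 7, 6, 5], [0, 2, 3, 4], [7, 6, 5, 4, 3, 1, 2, 0, 3, 2, 4, 3, 1, 5, 4, 3, 2, 0, 6, 5, 4, 3, 1, 7, 6, 5], [7, 6, 5, 4, 3, 1, 2, 0, 3, 2, 4, 3, 1, 5, 4, 3, 2, 6, 5, 4, 3, 1, 7, 6, 5], [7, 6, 5, 4, 3, 1, 2, 0, 3, 2, 4, 3, 1, 5, 4, 3, 2, 0, 6, 5, 4, 3, 7, 6, 5], [7, 6, 5, 4, 3, 1, 2, 0, 3, 2, 4, 3, 1, 5, 4, 3, 2, 6, 5, 4, 3, 7, 6, 5], [7, 6, 5, 4, 3, 1, 2, 0, 3, 2, 4, 3, 1, 5, 4, 3, 2, 0, 6, 5, 4, 3, 1, 2, 3, 4, 7, 6], [0, 2, 3, 1, 4, 3, 5, 4], [0, 2, 3, 1, 4, 3, 2, 0, 5, 4, 3, 1, 2, 3], [7, 6, 5, 4, 3, 1, 2, 0, 3, 2, 4, 3, 1, 5, 4, 3, 6, 5, 7, 6], [0, 2, 3, 1, 4, 3, 2, 0, 5, 4], [0, 2, 3, 1, 4, 3, 2, 5, 4], [7, 6, 5, 4, 3, 1,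 2, 0, 3, 2, 4, 3, 1, 5, 4, 3, 2, 0, 6, 5, 7, 6], [7, 6, 5, 4, 3, 1, 2, 0, 3, 2, 4, 3, 1, 5, 4, 3, 2, 6, 5, 7, 6], [0, 2, 3, 1, 4, 3, 2, 0, 5, 4, 3, 2], [7, 6, 5, 4, 3, 1, 2, 0, 3, 2, 4, 3, 5, 4, 6, 5, 7, 6], [0, 2, 3, 1, 4, 3, 2, 0, 5, 4, 3, 1, 2], [7, 6, 5, 4, 3, 1, 2, 0, 3, 2, 4, 3, 1, 5, 4, 6, 5, 7, 6], [0, 2, 3, 1, 4, 3, 2, 0, 5, 4, 3], [0, 2, 3, 1, 4, 3, 2, 5, 4, 3], [0, 2, 3, 1, 4, 3, 2, 0, 5, 4, 3, 1], [0, 2, 3, 1, 4, 3, 2, 5, 4, 3, 1], [7, 6, 5, 4, 3, 1, 2, 0, 3, 2, 4, 3, 1, 5, 4, 3, 2, 0, 6, 5, 4, 3, 1, 2, 3, 7, 6], [0, 2, 3, 1, 4, 3, 5], [0, 2, 3, 1, 4, 3, 2, 0, 5, 4, 3, 1, 2, 3, 4], [7, 6, 5, 4, 3, 1, 2, 0, 3, 2, 4, 3, 1, 5, 4, 3, 6, 5, 4, 7, 6], [0, 2, 3, 1, 4, 3, 2, 0, 5], [0, 2, 3, 1, 4, 3, 2, 5], [7, 6, 5, 4, 3, 1, 2, 0, 3, 2, 4, 3, 1, 5, 4, 3, 2, 0, 6, 5, 4, 7, 6], [7, 6, 5, 4, 3, 1, 2, 0,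 3, 2, 4, 3, 1, 5, 4, 3, 2, 6, 5, 4, 7, 6], [7, 6, 5, 4, 3, 1, 2, 0, 3, 2, 4, 3, 1, 5, 4, 3, 2, 0, 6, 5, 4, 3, 1, 2, 7, 6], [0, 2, 3, 1, 4, 5], [7, 6, 5, 4, 3, 1, 2, 0, 3, 2, 4, 3, 1, 5, 4, 3, 2, 0, 6, 5, 4, 3, 2, 7, 6], [0, 2, 3, 4, 5], [7, 6, 5, 4, 3, 1, 2, 0, 3, 2, 4, 3, 1, 5, 4, 3, 2, 0, 6, 5, 4, 3, 1, 7, 6], [7, 6, 5, 4, 3, 1, 2, 0, 3, 2, 4, 3, 1, 5, 4, 3, 2, 6, 5, 4, 3, 1, 7, 6], [7, 6, 5, 4, 3, 1, 2, 0, 3, 2, 4, 3, 1, 5, 4, 3, 2, 0, 6, 5, 4, 3, 7, 6], [7, 6, 5, 4, 3, 1, 2, 0, 3, 2, 4, 3, 1, 5, 4, 3, 2, 6, 5, 4, 3, 7, 6], [7, 6, 5, 4, 3, 1, 2, 0, 3, 2, 4, 3, 1, 5, 4, 3, 2, 0, 6, 5, 4, 3, 1, 2, 3, 4, 5, 7], [0, 2, 3, 1, 4, 3, 5, 4, 6, 5], [0, 2, 3, 1, 4, 3, 2, 0, 5, 4, 3, 1, 2, 3, 6, 5], [7, 6, 5, 4, 3, 1, 2, 0, 3, 2, 4, 3, 1, 5, 4, 3, 6, 7], [0, 2, 3, 1, 4, 3, 2, 0, 5, 4, 6, 5], [0, 2, 3, 1, 4, 3, 2,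 5, 4, 6, 5], [7, 6, 5, 4, 3, 1, 2, 0, 3, 2, 4, 3, 1, 5, 4, 3, 2, 0, 6, 7], [7, 6, 5, 4, 3, 1, 2, 0, 3, 2, 4, 3, 1, 5, 4, 3, 2, 6, 7], [0, 2, 3, 1, 4, 3, 2, 0, 5, 4, 3, 2, 6, 5], [7, 6, 5, 4, 3, 1, 2, 0, 3, 2, 4, 3, 5, 4, 6, 7], [0, 2, 3, 1, 4, 3, 2, 0, 5, 4, 3, 1, 2, 6, 5], [7, 6, 5, 4, 3, 1, 2, 0, 3, 2, 4, 3, 1, 5, 4, 6, 7], [0, 2, 3, 1, 4, 3, 2, 0, 5, 4, 3, 6, 5], [0, 2, 3, 1, 4, 3, 2, 5, 4, 3, 6, 5], [0, 2, 3, 1, 4, 3, 2, 0, 5, 4, 3, 1, 6, 5], [0, 2, 3, 1, 4, 3, 2, 5, 4, 3, 1, 6, 5], [0, 2, 3, 1, 4, 3, 2, 0, 5, 4, 3, 2, 6, 5, 4, 3], [7, 6, 5, 4, 3, 1, 2, 0, 3, 2, 4, 5, 6, 7], [], [0, 2, 3, 1, 4, 3, 2, 5, 4, 3, 1, 6, 5, 4, 3, 2], [7, 6, 5, 4, 3, 1, 2, 3, 4, 5, 6, 7], [7, 6, 5, 4, 3, 1, 2, 0, 3, 4, 5, 6, 7], [0, 2, 3, 1, 4, 3, 2, 0, 5, 4, 3, 1, 6, 5, 4, 3], [0, 2, 3, 1, 4, 3, 2, 5, 4, 3, 1, 6, 5, 4, 3],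 [0, 2, 3, 1, 4, 3, 2, 0, 5, 4, 3, 2, 6, 5, 4], [7, 6, 5, 4, 3, 1, 2, 0, 3, 2, 4, 3, 5, 6, 7], [0, 2, 3, 1, 4, 3, 2, 0, 5, 4, 3, 1, 2, 6, 5, 4], [7, 6, 5, 4, 3, 1, 2, 0, 3, 2, 4, 3, 1, 5, 6, 7], [0, 2, 3, 1, 4, 3, 2, 0, 5, 4, 3, 6, 5, 4], [0, 2, 3, 1, 4, 3, 2, 5, 4, 3, 6, 5, 4], [0, 2, 3, 1, 4, 3, 2, 0, 5, 4, 3, 1, 6, 5, 4], [0, 2, 3, 1, 4, 3, 2, 5, 4, 3, 1, 6, 5, 4], [7, 6, 5, 4, 3, 1, 2, 0, 3, 2, 4, 3, 1, 5, 4, 3, 2, 0, 6, 5, 4, 3, 1, 2, 3, 4, 7], [0, 2, 3, 1, 4, 3, 5, 4, 6], [0, 2, 3, 1, 4, 3, 2, 0, 5, 4, 3, 1, 2, 3, 6], [7, 6, 5, 4, 3, 1, 2, 0, 3, 2, 4, 3, 1, 5, 4, 3, 6, 5, 7], [0, 2, 3, 1, 4, 3, 2, 0, 5, 4, 6], [0, 2, 3, 1, 4, 3, 2, 5, 4, 6], [7, 6, 5, 4, 3, 1, 2, 0, 3, 2, 4, 3, 1, 5, 4, 3, 2, 0, 6, 5, 7], [7, 6, 5, 4, 3, 1, 2, 0, 3, 2, 4, 3, 1, 5, 4, 3, 2, 6, 5, 7], [0, 2, 3, 1, 4, 3, 2, 0, 5, 4, 3,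 2, 6], [7, 6, 5, 4, 3, 1, 2, 0, 3, 2, 4, 3, 5, 4, 6, 5, 7], [0, 2, 3, 1, 4, 3, 2, 0, 5, 4, 3, 1, 2, 6], [7, 6, 5, 4, 3, 1, 2, 0, 3, 2, 4, 3, 1, 5, 4, 6, 5, 7], [0, 2, 3, 1, 4, 3, 2, 0, 5, 4, 3, 6], [0, 2, 3, 1, 4, 3, 2, 5, 4, 3, 6], [0, 2, 3, 1, 4, 3, 2, 0, 5, 4, 3, 1, 6], [0, 2, 3, 1, 4, 3, 2, 5, 4, 3, 1, 6], [7, 6, 5, 4, 3, 1, 2, 0, 3, 2, 4, 3, 1, 5, 4, 3, 2, 0, 6, 5, 4, 3, 1, 2, 3, 7], [0, 2, 3, 1, 4, 3, 5, 6], [0, 2, 3, 1, 4, 3, 2, 0, 5, 4, 3, 1, 2, 3, 4, 6], [7, 6, 5, 4, 3, 1, 2, 0, 3, 2, 4, 3, 1, 5, 4, 3, 6, 5, 4, 7], [0, 2, 3, 1, 4, 3, 2, 0, 5, 6], [0, 2, 3, 1, 4, 3, 2, 5, 6], [7, 6, 5, 4, 3, 1, 2, 0, 3, 2, 4, 3, 1, 5, 4, 3, 2, 0, 6, 5, 4, 7], [7, 6, 5, 4, 3, 1, 2, 0, 3, 2, 4, 3, 1, 5, 4, 3, 2, 6, 5, 4, 7], [7, 6, 5, 4, 3, 1, 2, 0, 3, 2, 4, 3, 1, 5, 4, 3, 2, 0, 6, 5, 4, 3, 1, 2, 7], [0, 2, 3, 1, 4,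 5, 6], [7, 6, 5, 4, 3, 1, 2, 0, 3, 2, 4, 3, 1, 5, 4, 3, 2, 0, 6, 5, 4, 3, 2, 7], [0, 2, 3, 4, 5, 6], [7, 6, 5, 4, 3, 1, 2, 0, 3, 2, 4, 3, 1, 5, 4, 3, 2, 0, 6, 5, 4, 3, 1, 7], [7, 6, 5, 4, 3, 1, 2, 0, 3, 2, 4, 3, 1, 5, 4, 3, 2, 6, 5, 4, 3, 1, 7], [7, 6, 5, 4, 3, 1, 2, 0, 3, 2, 4, 3, 1, 5, 4, 3, 2, 0, 6, 5, 4, 3, 7], [7, 6, 5, 4, 3, 1, 2, 0, 3, 2, 4, 3, 1, 5, 4, 3, 2, 6, 5, 4, 3, 7], [7, 6, 5, 4, 3, 1, 2, 0, 3, 2, 4, 3, 1, 5, 4, 3, 2, 0, 6, 5, 4, 3, 1, 2, 3, 4, 5, 6], [0, 2, 3, 1, 4, 3, 5, 4, 6, 5, 7, 6], [0, 2, 3, 1, 4, 3, 2, 0, 5, 4, 3, 1, 2, 3, 6, 5, 7, 6], [7, 6, 5, 4, 3, 1, 2, 0, 3, 2, 4, 3, 1, 5, 4, 3], [0, 2, 3, 1, 4, 3, 2, 0, 5, 4, 6, 5, 7, 6], [0, 2, 3, 1, 4, 3, 2, 5, 4, 6, 5, 7, 6], [7, 6, 5, 4, 3, 1, 2, 0, 3, 2, 4, 3, 1, 5, 4, 3, 2, 0], [7, 6, 5, 4, 3, 1, 2, 0, 3, 2, 4, 3, 1, 5, 4, 3, 2], [0, 2,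 3, 1, 4, 3, 2, 0, 5, 4, 3, 2, 6, 5, 7, 6], [7, 6, 5, 4, 3, 1, 2, 0, 3, 2, 4, 3, 5, 4], [0, 2, 3, 1, 4, 3, 2, 0, 5, 4, 3, 1, 2, 6, 5, 7, 6], [7, 6, 5, 4, 3, 1, 2, 0, 3, 2, 4, 3, 1, 5, 4], [0, 2, 3, 1, 4, 3, 2, 0, 5, 4, 3, 6, 5, 7, 6], [0, 2, 3, 1, 4, 3, 2, 5, 4, 3, 6, 5, 7, 6], [0, 2, 3, 1, 4, 3, 2, 0, 5, 4, 3, 1, 6, 5, 7, 6], [0, 2, 3, 1, 4, 3, 2, 5, 4, 3, 1, 6, 5, 7, 6], [0, 2, 3, 1, 4, 3, 2, 0, 5, 4, 3, 2, 6, 5, 4, 3, 7, 6], [7, 6, 5, 4, 3, 1, 2, 0, 3, 2, 4, 5], [7, 6], [0, 2, 3, 1, 4, 3, 2, 5, 4, 3, 1, 6, 5, 4, 3, 2, 7, 6], [7, 6, 5, 4, 3, 1, 2, 3, 4, 5], [7, 6, 5, 4, 3, 1, 2, 0, 3, 4, 5], [0, 2, 3, 1, 4, 3, 2, 0, 5, 4, 3, 1, 6, 5, 4, 3, 7, 6], [0, 2, 3, 1, 4, 3, 2, 5, 4, 3, 1, 6, 5, 4, 3, 7, 6], [0, 2, 3, 1, 4, 3, 2, 0, 5, 4, 3, 2, 6, 5, 4, 7, 6], [7, 6, 5, 4, 3, 1, 2, 0, 3, 2, 4, 3, 5], [0, 2, 3, 1,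 4, 3, 2, 0, 5, 4, 3, 1, 2, 6, 5, 4, 7, 6], [7, 6, 5, 4, 3, 1, 2, 0, 3, 2, 4, 3, 1, 5], [0, 2, 3, 1, 4, 3, 2, 0, 5, 4, 3, 6, 5, 4, 7, 6], [0, 2, 3, 1, 4, 3, 2, 5, 4, 3, 6, 5, 4, 7, 6], [0, 2, 3, 1, 4, 3, 2, 0, 5, 4, 3, 1, 6, 5, 4, 7, 6], [0, 2, 3, 1, 4, 3, 2, 5, 4, 3, 1, 6, 5, 4, 7, 6], [0, 2, 3, 1, 4, 3, 2, 0, 5, 4, 3, 2, 6, 5, 4, 3, 7, 6, 5, 4], [7, 6, 5, 4, 3, 1, 2, 0, 3, 2], [7, 6, 5, 4], [0, 2, 3, 1, 4, 3, 2, 5, 4, 3, 1, 6, 5, 4, 3, 2, 7, 6, 5, 4], [7, 6, 5, 4, 3, 1, 2, 3], [7, 6, 5, 4, 3, 1, 2, 0, 3], [0, 2, 3, 1, 4, 3, 2, 0, 5, 4, 3, 1, 6, 5, 4, 3, 7, 6, 5, 4], [0, 2, 3, 1, 4, 3, 2, 5, 4, 3, 1, 6, 5, 4, 3, 7, 6, 5, 4], [7, 6, 5, 4, 3, 1], [0, 2, 3, 1, 4, 3, 2, 5, 4, 3, 1, 6, 5, 4, 3, 2, 7, 6, 5, 4, 3, 1], [7, 6, 5, 4, 3], [0, 2, 3, 1, 4, 3, 2, 5, 4, 3, 1, 6, 5, 4, 3, 2, 7, 6, 5, 4, 3], [7, 6, 5, 4,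 3, 1, 2], [7, 6, 5, 4, 3, 1, 2, 0], [7, 6, 5, 4, 3, 2], [7, 6, 5, 4, 3, 2, 0], [0, 2, 3, 1, 4, 3, 2, 0, 5, 4, 3, 2, 6, 5, 4, 3, 7, 6, 5], [7, 6, 5, 4, 3, 1, 2, 0, 3, 2, 4], [7, 6, 5], [0, 2, 3, 1, 4, 3, 2, 5, 4, 3, 1, 6, 5, 4, 3, 2, 7, 6, 5], [7, 6, 5, 4, 3, 1, 2, 3, 4], [7, 6, 5, 4, 3, 1, 2, 0, 3, 4], [0, 2, 3, 1, 4, 3, 2, 0, 5, 4, 3, 1, 6, 5, 4, 3, 7, 6, 5], [0, 2, 3, 1, 4, 3, 2, 5, 4, 3, 1, 6, 5, 4, 3, 7, 6, 5], [0, 2, 3, 1, 4, 3, 2, 0, 5, 4, 3, 2, 6, 5, 4, 7, 6, 5], [7, 6, 5, 4, 3, 1, 2, 0, 3, 2, 4, 3], [0, 2, 3, 1, 4, 3, 2, 0, 5, 4, 3, 1, 2, 6, 5, 4, 7, 6, 5], [7, 6, 5, 4, 3, 1, 2, 0, 3, 2, 4, 3, 1], [0, 2, 3, 1, 4, 3, 2, 0, 5, 4, 3, 6, 5, 4, 7, 6, 5], [0, 2, 3, 1, 4, 3, 2, 5, 4, 3, 6, 5, 4, 7, 6, 5], [0, 2, 3, 1, 4, 3, 2, 0, 5, 4, 3, 1, 6, 5, 4, 7, 6, 5], [0, 2, 3, 1, 4, 3, 2, 5, 4, 3, 1, 6, 5, 4, 7,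 6, 5], [7, 6, 5, 4, 3, 1, 2, 0, 3, 2, 4, 3, 1, 5, 4, 3, 2, 0, 6, 5, 4, 3, 1, 2, 3, 4, 5], [0, 2, 3, 1, 4, 3, 5, 4, 6, 5, 7], [0, 2, 3, 1, 4, 3, 2, 0, 5, 4, 3, 1, 2, 3, 6, 5, 7], [7, 6, 5, 4, 3, 1, 2, 0, 3, 2, 4, 3, 1, 5, 4, 3, 6], [0, 2, 3, 1, 4, 3, 2, 0, 5, 4, 6, 5, 7], [0, 2, 3, 1, 4, 3, 2, 5, 4, 6, 5, 7], [7, 6, 5, 4, 3, 1, 2, 0, 3, 2, 4, 3, 1, 5, 4, 3, 2, 0, 6], [7, 6, 5, 4, 3, 1, 2, 0, 3, 2, 4, 3, 1, 5, 4, 3, 2, 6], [0, 2, 3, 1, 4, 3, 2, 0, 5, 4, 3, 2, 6, 5, 7], [7, 6, 5, 4, 3, 1, 2, 0, 3, 2, 4, 3, 5, 4, 6], [0, 2, 3, 1, 4, 3, 2, 0, 5, 4, 3, 1, 2, 6, 5, 7], [7, 6, 5, 4, 3, 1, 2, 0, 3, 2, 4, 3, 1, 5, 4, 6], [0, 2, 3, 1, 4, 3, 2, 0, 5, 4, 3, 6, 5, 7], [0, 2, 3, 1, 4, 3, 2, 5, 4, 3, 6, 5, 7], [0, 2, 3, 1, 4, 3, 2, 0, 5, 4, 3, 1, 6, 5, 7], [0, 2, 3, 1, 4, 3, 2, 5, 4, 3, 1, 6, 5, 7], [0, 2, 3, 1, 4, 3, 2,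 0, 5, 4, 3, 2, 6, 5, 4, 3, 7], [7, 6, 5, 4, 3, 1, 2, 0, 3, 2, 4, 5, 6], [7], [0, 2, 3, 1, 4, 3, 2, 5, 4, 3, 1, 6, 5, 4, 3, 2, 7], [7, 6, 5, 4, 3, 1, 2, 3, 4, 5, 6], [7, 6, 5, 4, 3, 1, 2, 0, 3, 4, 5, 6], [0, 2, 3, 1, 4, 3, 2, 0, 5, 4, 3, 1, 6, 5, 4, 3, 7], [0, 2, 3, 1, 4, 3, 2, 5, 4, 3, 1, 6, 5, 4, 3, 7], [0, 2, 3, 1, 4, 3, 2, 0, 5, 4, 3, 2, 6, 5, 4, 7], [7, 6, 5, 4, 3, 1, 2, 0, 3, 2, 4, 3, 5, 6], [0, 2, 3, 1, 4, 3, 2, 0, 5, 4, 3, 1, 2, 6, 5, 4, 7], [7, 6, 5, 4, 3, 1, 2, 0, 3, 2, 4, 3, 1, 5, 6], [0, 2, 3, 1, 4, 3, 2, 0, 5, 4, 3, 6, 5, 4, 7], [0, 2, 3, 1, 4, 3, 2, 5, 4, 3, 6, 5, 4, 7], [0, 2, 3, 1, 4, 3, 2, 0, 5, 4, 3, 1, 6, 5, 4, 7], [0, 2, 3, 1, 4, 3, 2, 5, 4, 3, 1, 6, 5, 4, 7], [7, 6, 5, 4, 3, 1, 2, 0, 3, 2, 4, 3, 1, 5, 4, 3, 2, 0, 6, 5, 4, 3, 1, 2, 3, 4], [0, 2, 3, 1, 4, 3, 5, 4, 6, 7], [0, 2, 3, 1, 4,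 3, 2, 0, 5, 4, 3, 1, 2, 3, 6, 7], [7, 6, 5, 4, 3, 1, 2, 0, 3, 2, 4, 3, 1, 5, 4, 3, 6, 5], [0, 2, 3, 1, 4, 3, 2, 0, 5, 4, 6, 7], [0, 2, 3, 1, 4, 3, 2, 5, 4, 6, 7], [7, 6, 5, 4, 3, 1, 2, 0, 3, 2, 4, 3, 1, 5, 4, 3, 2, 0, 6, 5], [7, 6, 5, 4, 3, 1, 2, 0, 3, 2, 4, 3, 1, 5, 4, 3, 2, 6, 5], [0, 2, 3, 1, 4, 3, 2, 0, 5, 4, 3, 2, 6, 7], [7, 6, 5, 4, 3, 1, 2, 0, 3, 2, 4, 3, 5, 4, 6, 5], [0, 2, 3, 1, 4, 3, 2, 0, 5, 4, 3, 1, 2, 6, 7], [7, 6, 5, 4, 3, 1, 2, 0, 3, 2, 4, 3, 1, 5, 4, 6, 5], [0, 2, 3, 1, 4, 3, 2, 0, 5, 4, 3, 6, 7], [0, 2, 3, 1, 4, 3, 2, 5, 4, 3, 6, 7], [0, 2, 3, 1, 4, 3, 2, 0, 5, 4, 3, 1, 6, 7], [0, 2, 3, 1, 4, 3, 2, 5, 4, 3, 1, 6, 7], [7, 6, 5, 4, 3, 1, 2, 0, 3, 2, 4, 3, 1, 5, 4, 3, 2, 0, 6, 5, 4, 3, 1, 2, 3], [0, 2, 3, 1, 4, 3, 5, 6, 7], [0, 2, 3, 1, 4, 3, 2, 0, 5, 4, 3, 1, 2, 3, 4, 6, 7], [7, 6, 5, 4, 3,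 1, 2, 0, 3, 2, 4, 3, 1, 5, 4, 3, 6, 5, 4], [0, 2, 3, 1, 4, 3, 2, 0, 5, 6, 7], [0, 2, 3, 1, 4, 3, 2, 5, 6, 7], [7, 6, 5, 4, 3, 1, 2, 0, 3, 2, 4, 3, 1, 5, 4, 3, 2, 0, 6, 5, 4], [7, 6, 5, 4, 3, 1, 2, 0, 3, 2, 4, 3, 1, 5, 4, 3, 2, 6, 5, 4], [7, 6, 5, 4, 3, 1, 2, 0, 3, 2, 4, 3, 1, 5, 4, 3, 2, 0, 6, 5, 4, 3, 1, 2], [0, 2, 3, 1, 4, 5, 6, 7], [7, 6, 5, 4, 3, 1, 2, 0, 3, 2, 4, 3, 1, 5, 4, 3, 2, 0, 6, 5, 4, 3, 2], [0, 2, 3, 4, 5, 6, 7], [7, 6, 5, 4, 3, 1, 2, 0, 3, 2, 4, 3, 1, 5, 4, 3, 2, 0, 6, 5, 4, 3, 1], [7, 6, 5, 4, 3, 1, 2, 0, 3, 2, 4, 3, 1, 5, 4, 3, 2, 6, 5, 4, 3, 1], [7, 6, 5, 4, 3, 1, 2, 0, 3, 2, 4, 3, 1, 5, 4, 3, 2, 0, 6, 5, 4, 3], [7, 6, 5, 4, 3, 1, 2, 0, 3, 2, 4, 3, 1, 5, 4, 3, 2, 6, 5, 4, 3]]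

theorem e8_orbit : chkOrbit chevE8 e8Cert 6 82 e8OrbitWords = true := by decide +kernel

theorem e8_adjacent : InvolClass.Adjacent chevE8 := by
  unfold InvolClass.Adjacent InvolClass.OrthPair
  decide +kernel

theorem e8_inj {F : Type u} [Field F] [Fintype F] :
    Function.Injective (torusHom : (Fin chevE8.rank → Fˣ) →* GL chevE8.Idx F) :=
  torusHom_injective_of_card facts_chevE8 (by
    simpa [Fin.prod_univ_succ] using e8_card_diagonal F)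

theorem e8Stab6_ok : StabCount.chkStab chevE8 e8Cert e8Rows e8Stab6 = true := by decide +kernel

theorem e8Stab6_chain : chkChain chevE8 e8Cert e8Rows e8Stab6Levels = true := by decide +kernel

theorem e8Stab6_keys : allBelow (fun i => (e8Stab6Levels.map Level.k).contains i == !Nat.beq i e8Stab6.k)
    chevE8.rank = true := by decide +kernel

theorem e8Stab6_factor : chkFactor (e8Stab6.deg :: e8Stab6Levels.map Level.deg) chevE8.rank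
    [2, 4, 6, 8, 8, 10, 12, 14] = true := by decide +kernel

theorem e8Stab6_count : fixCount e8Stab6 = 56 := by decide +kernel

theorem e8Stab82_ok : StabCount.chkStab chevE8 e8Cert e8Rows e8Stab82 = true := by decide +kernel

theorem e8Stab82_chain : chkChain chevE8 e8Cert e8Rows e8Stab82Levels = true := by decide +kernel

theorem e8Stab82_keys : allBelow (fun i => (e8Stab82Levels.map Level.k).contains i == !Nat.beq i e8Stab82.k)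
    chevE8.rank = true := by decide +kernel

theorem e8Stab82_factor : chkFactor (e8Stab82.deg :: e8Stab82Levels.map Level.deg) chevE8.rank
    [2, 2, 6, 8, 10, 12, 14, 18] = true := by decide +kernel

theorem e8Stab82_count : fixCount e8Stab82 = 64 := by decide +kernel

theorem e8_card_ne {q : ℕ} (hq : 1 < q) :
    q ^ 56 * (([2, 4, 6, 8, 8, 10, 12, 14] : List ℕ).map fun e => q ^ e - 1).prod ≠
      q ^ 64 * (([2, 2, 6, 8, 10, 12, 14, 18] : List ℕ).map fun e => q ^ e - 1).prod := by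
  simp only [List.map_cons, List.map_nil, List.prod_cons, List.prod_nil, mul_one]
  have hp : ∀ n, 1 ≤ n → 0 < q ^ n - 1 := fun n hn => by
    have := Nat.one_lt_pow (n := n) (by omega) hq; omega
  have hlt : (q ^ 4 - 1) * (q ^ 8 - 1) < q ^ 8 * ((q ^ 2 - 1) * (q ^ 18 - 1)) := by
    have h1 : q ^ 4 - 1 < q ^ 8 := by
      have : q ^ 4 < q ^ 8 := Nat.pow_lt_pow_right hq (by norm_num)
      omega
    have h2 : q ^ 8 - 1 ≤ (q ^ 2 - 1) * (q ^ 18 - 1) := by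
      have : q ^ 8 ≤ q ^ 18 := Nat.pow_le_pow_right (by omega) (by norm_num)
      have := Nat.le_mul_of_pos_left (q ^ 18 - 1) (hp 2 (by norm_num))
      omega
    exact Nat.mul_lt_mul_of_lt_of_le h1 h2 (Nat.mul_pos (hp 2 (by norm_num)) (hp 18 (by norm_num)))
  refine ne_of_lt ?_
  set c := q ^ 56 * ((q ^ 2 - 1) * (q ^ 6 - 1) * (q ^ 8 - 1) * (q ^ 10 - 1) * (q ^ 12 - 1) * (q ^ 14 - 1))
    with hc
  calc _ = c * ((q ^ 4 - 1) * (q ^ 8 - 1)) := by rw [hc]; ring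
    _ < c * (q ^ 8 * ((q ^ 2 - 1) * (q ^ 18 - 1))) := Nat.mul_lt_mul_of_pos_left hlt (by
        rw [hc]
        have := hp 2 (by norm_num); have := hp 6 (by norm_num); have := hp 8 (by norm_num)
        have := hp 10 (by norm_num); have := hp 12 (by norm_num); have := hp 14 (by norm_num)
        have : 0 < q := by omega
        positivity)
    _ = _ := by rw [hc]; ring

end InvolTwo

end Cfsg.Agent.Chev
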