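import Cfsg.Agent.Chev.InvolTwo
import Cfsg.Agent.Chev.WeylAll
import Cfsg.Agent.Chev.FieldFixed

/-! Certificates for the two classes of involutions of `chevF4` in odd characteristic; computed
from the frozen tables and checked by the kernel. -/

set_option autoImplicit false
set_option maxRecDepth 100000

namespace Cfsg.Agent.Chev

namespace InvolTwo

open Cfsg.Lie
open scoped MatrixGroups

universe u

/-- The certificate of the stabiliser of the involution `2`. -/
def f4Stab2 : StabCount.Data where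
  m := 2
  k := 0
  A₀ := [0, 1, 2]
  A₁ := [1]
  bits := [false, false, false, false, false, false, false, true, true, true, true, true, true, true, true, false, false, false, false, false, false, false, false, false]
  sb := [true, false, false, false]
  pts := [[.ofNat (nat_lit 1), .ofNat (nat_lit 0), .ofNat (nat_lit 0), .ofNat (nat_lit 0)], [.negSucc (nat_lit 0), .ofNat (nat_lit 0), .ofNat (nat_lit 0), .ofNat (nat_lit 1)], [.negSucc (nat_lit 0), .ofNat (nat_lit 0), .ofNat (nat_lit 1), .negSucc (nat_lit 0)], [.negSucc (nat_lit 0), .ofNat (nat_lit 2), .negSucc (nat_lit 0), .ofNat (nat_lit 0)], [.ofNat (nat_lit 1), .negSucc (nat_lit 1), .ofNat (nat_lit 1), .ofNat (nat_lit 0)], [.ofNat (nat_lit 1), .ofNat (nat_lit 0), .negSucc (nat_lit 0), .ofNat (nat_lit 1)], [.ofNat (nat_lit 1), .ofNat (nat_lit 0), .ofNat (nat_lit 0), .negSucc (nat_lit 0)], [.negSucc (nat_lit 0), .ofNat (nat_lit 0), .ofNat (nat_lit 0), .ofNat (nat_lit 0)]]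
  words := [[], [0, 1, 2, 1, 0], [3, 0, 1, 2, 1, 0], [2, 3, 0, 1, 2, 1, 0], [1, 2, 3, 0, 1, 2, 1, 0], [2, 1, 2, 3, 0, 1, 2, 1, 0], [3, 2, 1, 2, 3, 0, 1, 2, 1, 0], [0, 1, 2, 3, 1, 2, 0, 1, 2, 3, 0, 1, 2, 1, 0]]
  deg := [0, 1, 2, 3, 4, 5, 6, 7]

/-- Orbit level 0 of the parabolic subgroup below `2`. -/
def f4Stab2Level0 : Level where
  k := 1
  pts := [[.ofNat (nat_lit 0), .ofNat (nat_lit 1), .ofNat (nat_lit 0), .ofNat (nat_lit 0)], [.ofNat (nat_lit 1), .negSucc (nat_lit 0), .ofNat (nat_lit 1), .ofNat (nat_lit 0)], [.ofNat (nat_lit 1), .ofNat (nat_lit 1), .negSucc (nat_lit 0), .ofNat (nat_lit 1)], [.ofNat (nat_lit 2), .negSucc (nat_lit 0), .ofNat (nat_lit 0), .ofNat (nat_lit 1)], [.ofNat (nat_lit 1), .ofNat (nat_lit 1), .ofNat (nat_lit 0), .negSucc (nat_lit 0)], [.ofNat (nat_lit 2), .negSucc (nat_lit 0), .ofNat (nat_lit 1), .negSucc (nat_lit 0)], [.ofNat (nat_lit 2), .ofNat (nat_lit 1), .negSucc (nat_lit 0), .ofNat (nat_lit 0)], [.ofNat (nat_lit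 3), .negSucc (nat_lit 0), .ofNat (nat_lit 0), .ofNat (nat_lit 0)]]
  par := [(0, 1), (1, 2), (2, 1), (2, 3), (3, 3), (5, 2), (6, 1)]
  succ := [[1, 0, 0], [0, 2, 1], [3, 1, 4], [2, 3, 5], [5, 4, 2], [4, 6, 3], [7, 5, 6], [6, 7, 7]]
  deg := [0, 1, 2, 3, 3, 4, 5, 6]

/-- Orbit level 1 of the parabolic subgroup below `2`. -/
def f4Stab2Level1 : Level where
  k := 2
  pts := [[.ofNat (nat_lit 0), .ofNat (nat_lit 0), .ofNat (nat_lit 1), .ofNat (nat_lit 0)], [.ofNat (nat_lit 0), .ofNat (nat_lit 2), .negSucc (nat_lit 0), .ofNat (nat_lit 1)], [.ofNat (nat_lit 0), .ofNat (nat_lit 2), .ofNat (nat_lit 0), .negSucc (nat_lit 0)]]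
  par := [(0, 2), (1, 3)]
  succ := [[1, 0], [0, 2], [2, 1]]
  deg := [0, 1, 2]

/-- Orbit level 2 of the parabolic subgroup below `2`. -/
def f4Stab2Level2 : Level where
  k := 3
  pts := [[.ofNat (nat_lit 0), .ofNat (nat_lit 0), .ofNat (nat_lit 0), .ofNat (nat_lit 1)], [.ofNat (nat_lit 0), .ofNat (nat_lit 0), .ofNat (nat_lit 1), .negSucc (nat_lit 0)]]
  par := [(0, 3)]
  succ := [[1], [0]]
  deg := [0, 1]

/-- The chain of the parabolic subgroup below `2`. -/
def f4Stab2Levels : List Level := [f4Stab2Level0, f4Stab2Level1, f4Stab2Level2]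

/-- The certificate of the stabiliser of the involution `5`. -/
def f4Stab5 : StabCount.Data where
  m := 5
  k := 3
  A₀ := [0, 2]
  A₁ := [1, 2]
  bits := [false, true, true, true, true, true, false, true, true, true, false, true, false, false, false, true, true, false, true, false, false, true, false, true]
  sb := [false, false, false, true]
  pts := [[.ofNat (nat_lit 0), .ofNat (nat_lit 0), .ofNat (nat_lit 0), .ofNat (nat_lit 1)], [.ofNat (nat_lit 0), .ofNat (nat_lit 0), .ofNat (nat_lit 0), .negSucc (nat_lit 0)]]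
  words := [[], [3, 2, 1, 2, 0, 1, 2, 3, 2, 1, 2, 0, 1, 2, 3]]
  deg := [0, 1]

/-- Orbit level 0 of the parabolic subgroup below `5`. -/
def f4Stab5Level0 : Level where
  k := 0
  pts := [[.ofNat (nat_lit 1), .ofNat (nat_lit 0), .ofNat (nat_lit 0), .ofNat (nat_lit 0)], [.negSucc (nat_lit 0), .ofNat (nat_lit 1), .ofNat (nat_lit 0), .ofNat (nat_lit 0)], [.ofNat (nat_lit 0), .negSucc (nat_lit 0), .ofNat (nat_lit 1), .ofNat (nat_lit 0)], [.ofNat (nat_lit 0), .ofNat (nat_lit 1), .negSucc (nat_lit 0), .ofNat (nat_lit 1)], [.ofNat (nat_lit 1), .negSucc (nat_lit 0), .ofNat (nat_lit 0), .ofNat (nat_lit 1)], [.negSucc (nat_lit 0), .ofNat (nat_lit 0), .ofNat (nat_lit 0), .ofNat (nat_lit 1)]]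
  par := [(0, 0), (1, 1), (2, 2), (3, 1), (4, 0)]
  succ := [[1, 0, 0], [0, 2, 1], [2, 1, 3], [3, 4, 2], [5, 3, 4], [4, 5, 5]]
  deg := [0, 1, 2, 3, 4, 5]

/-- Orbit level 1 of the parabolic subgroup below `5`. -/
def f4Stab5Level1 : Level where
  k := 1
  pts := [[.ofNat (nat_lit 0), .ofNat (nat_lit 1), .ofNat (nat_lit 0), .ofNat (nat_lit 0)], [.ofNat (nat_lit 1), .negSucc (nat_lit 0), .ofNat (nat_lit 1), .ofNat (nat_lit 0)], [.ofNat (nat_lit 1), .ofNat (nat_lit 1), .negSucc (nat_lit 0), .ofNat (nat_lit 1)], [.ofNat (nat_lit 2), .negSucc (nat_lit 0), .ofNat (nat_lit 0), .ofNat (nat_lit 1)]]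
  par := [(0, 1), (1, 2), (2, 1)]
  succ := [[1, 0], [0, 2], [3, 1], [2, 3]]
  deg := [0, 1, 2, 3]

/-- Orbit level 2 of the parabolic subgroup below `5`. -/
def f4Stab5Level2 : Level where
  k := 2
  pts := [[.ofNat (nat_lit 0), .ofNat (nat_lit 0), .ofNat (nat_lit 1), .ofNat (nat_lit 0)], [.ofNat (nat_lit 0), .ofNat (nat_lit 2), .negSucc (nat_lit 0), .ofNat (nat_lit 1)]]
  par := [(0, 2)]
  succ := [[1], [0]]
  deg := [0, 1]

/-- The chain of the parabolic subgroup below `5`. -/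
def f4Stab5Levels : List Level := [f4Stab5Level0, f4Stab5Level1, f4Stab5Level2]

/-- Words leading every bit vector to one of the two. -/
def f4OrbitWords : List (List ℕ) := [[], [0, 1], [], [0], [3, 2, 1, 0, 2, 1, 3], [], [3, 2, 1, 0, 2, 3], [3, 2, 1, 2, 3], [3, 2, 1, 0, 2, 1, 2], [3, 2], [3, 2, 1, 0], [3, 2, 1], [3, 2, 1, 0, 2, 1], [3], [3, 2, 1, 0, 2], [3, 2, 1, 2]]

theorem f4_orbit : chkOrbit chevF4 f4Cert 2 5 f4OrbitWords = true := by decide +kernel

theorem f4_adjacent : InvolClass.Adjacent chevF4 := by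
  unfold InvolClass.Adjacent InvolClass.OrthPair
  decide +kernel

theorem f4_inj {F : Type u} [Field F] [Fintype F] :
    Function.Injective (torusHom : (Fin chevF4.rank → Fˣ) →* GL chevF4.Idx F) :=
  torusHom_injective_of_card facts_chevF4 (by
    simpa [Fin.prod_univ_succ] using f4_card_diagonal F)

theorem f4Stab2_ok : StabCount.chkStab chevF4 f4Cert f4Rows f4Stab2 = true := by decide +kernel

theorem f4Stab2_chain : chkChain chevF4 f4Cert f4Rows f4Stab2Levels = true := by decide +kernel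

theorem f4Stab2_keys : allBelow (fun i => (f4Stab2Levels.map Level.k).contains i == !Nat.beq i f4Stab2.k)
    chevF4.rank = true := by decide +kernel

theorem f4Stab2_factor : chkFactor (f4Stab2.deg :: f4Stab2Levels.map Level.deg) chevF4.rank
    [2, 4, 6, 8] = true := by decide +kernel

theorem f4Stab2_count : fixCount f4Stab2 = 16 := by decide +kernel

theorem f4Stab5_ok : StabCount.chkStab chevF4 f4Cert f4Rows f4Stab5 = true := by decide +kernel

theorem f4Stab5_chain : chkChain chevF4 f4Cert f4Rows f4Stab5Levels = true := by decide +kernel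

theorem f4Stab5_keys : allBelow (fun i => (f4Stab5Levels.map Level.k).contains i == !Nat.beq i f4Stab5.k)
    chevF4.rank = true := by decide +kernel

theorem f4Stab5_factor : chkFactor (f4Stab5.deg :: f4Stab5Levels.map Level.deg) chevF4.rank
    [2, 2, 4, 6] = true := by decide +kernel

theorem f4Stab5_count : fixCount f4Stab5 = 10 := by decide +kernel

theorem f4_card_ne {q : ℕ} (hq : 1 < q) :
    q ^ 16 * (([2, 4, 6, 8] : List ℕ).map fun e => q ^ e - 1).prod ≠
      q ^ 10 * (([2, 2, 4, 6] : List ℕ).map fun e => q ^ e - 1).prod := by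
  simp only [List.map_cons, List.map_nil, List.prod_cons, List.prod_nil, mul_one]
  have h2 : 0 < q ^ 2 - 1 := by have := Nat.one_lt_pow (n := 2) (by norm_num) hq; omega
  have h4 : 0 < q ^ 4 - 1 := by have := Nat.one_lt_pow (n := 4) (by norm_num) hq; omega
  have h6 : 0 < q ^ 6 - 1 := by have := Nat.one_lt_pow (n := 6) (by norm_num) hq; omega
  have h8 : q ^ 2 - 1 < q ^ 6 * (q ^ 8 - 1) := by
    have : q ^ 2 < q ^ 6 := Nat.pow_lt_pow_right hq (by norm_num)
    have : q ^ 6 ≤ q ^ 6 * (q ^ 8 - 1) :=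
      Nat.le_mul_of_pos_right _ (by have := Nat.one_lt_pow (n := 8) (by norm_num) hq; omega)
    omega
  refine ne_of_gt ?_
  calc q ^ 10 * ((q ^ 2 - 1) * ((q ^ 2 - 1) * ((q ^ 4 - 1) * (q ^ 6 - 1))))
      = q ^ 10 * ((q ^ 2 - 1) * (q ^ 4 - 1) * (q ^ 6 - 1)) * (q ^ 2 - 1) := by ring
    _ < q ^ 10 * ((q ^ 2 - 1) * (q ^ 4 - 1) * (q ^ 6 - 1)) * (q ^ 6 * (q ^ 8 - 1)) :=
        Nat.mul_lt_mul_of_pos_left h8 (by positivity)
    _ = _ := by ring

end InvolTwo

end Cfsg.Agent.Chev
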