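import Cfsg.Agent.AlgGroup.Lang
import Cfsg.Agent.Chev.Functorial

/-!
Lang's theorem for the group of a Chevalley datum over an algebraically closed field.
-/

set_option autoImplicit false

namespace Cfsg.Agent.Chev

open Cfsg.Lie
open scoped MatrixGroups

universe u

variable {D : ChevalleyDatum} {k : Type u} [Field k]

/-- The matrix of `x_r(T)` with polynomial entries. -/
noncomputable def xPoly (D : ChevalleyDatum) (k : Type u) [Field k] (r : Fin D.nroots) :
    Matrix D.Idx D.Idx (Polynomial k) :=
  Matrix.of fun row col =>
    match col with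
    | Sum.inl i =>
      (match row with
       | Sum.inl i' => if i' = i then 1 else 0
       | Sum.inr u => if u = r then
          - (((D.cartanSR.getD i.val #[]).getD r.val 0 : ℤ) : Polynomial k) * Polynomial.X else 0)
    | Sum.inr s =>
      if s = r then (match row with | Sum.inr u => if u = r then 1 else 0 | Sum.inl _ => 0)
      else if s.val = D.negIdx.getD r.val 0 then
        (match row with
         | Sum.inl i => (((D.coroot.getD r.val #[]).getD i.val 0 : ℤ) : Polynomial k) * Polynomial.X
         | Sum.inr u => if u = s then 1 else if u = r then -(Polynomial.X ^ 2) else 0)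
      else
        (match row with
         | Sum.inl _ => 0
         | Sum.inr u => (if u = s then 1 else 0) +
             ((D.chainCoeff r.val s.val u.val).map fun km =>
               ((km.2 : ℤ) : Polynomial k) * Polynomial.X ^ km.1).sum)

theorem x_eq_map_xPoly (r : Fin D.nroots) (t : k) :
    D.x k r t = (xPoly D k r).map (Polynomial.eval t) := by
  rw [ChevalleyDatum.x, dif_pos r.2]
  ext a b
  simp only [Matrix.map_apply, ChevalleyDatum.xMat, xPoly, Matrix.of_apply, Fin.eta]
  rcases b with j | s <;> rcases a with j' | w <;> dsimp only <;> (try split_ifs) <;>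
    simp [Polynomial.eval_listSum, List.map_map, Function.comp_def]

variable (hF : Facts.{u} D)
include hF

/-- The group of a datum as a family of one-parameter subgroups. -/
noncomputable def rootFam : AlgGroup.Fam k D.Idx (Fin D.nroots) where
  X r t := xG hF r t
  P r := xPoly D k r
  val r t := by rw [xG_val, x_eq_map_xPoly]
  zero r := (xG_eq_one_iff hF r.2).2 rfl
  inv r t := xG_inv hF r t

theorem rootFam_group : (rootFam hF (k := k)).group = D.group k := by
  rw [AlgGroup.Fam.group, ChevalleyDatum.group]
  congr 1
  ext g
  constructor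
  · rintro ⟨r, t, rfl⟩
    exact ⟨r, t, by show D.x k r t = _; rw [ChevalleyDatum.x, dif_pos r.2]⟩
  · rintro ⟨r, t, h⟩
    exact ⟨r, t, Units.ext (h.trans (by
      show _ = D.x k r t; rw [ChevalleyDatum.x, dif_pos r.2]))⟩

/-- Lang's theorem: an element of the group over an algebraically closed field is `g⁻¹ σ(g)`,
where `σ` is the `q`-th power map. -/
theorem exists_lang [IsAlgClosed k] {q : ℕ} (hq : 2 ≤ q) (σ : k →+* k)
    (hσ : ∀ t, σ t = t ^ q) {x : GL D.Idx k} (hx : x ∈ D.group k) :
    ∃ g ∈ D.group k, gmap D σ g = g * x := by
  rw [← rootFam_group hF] at hx ⊢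
  exact (rootFam hF).lang hq σ hσ (fun r t => gmap_xG hF hF σ r t) hx

end Cfsg.Agent.Chev
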