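import Cfsg.Agent.Chev.LiftKernel

/-!
Over a finite field the relations (R3) follow from (R1) and (R2).
-/

set_option autoImplicit false

namespace Cfsg.Agent.Chev

open Cfsg.Lie
open scoped MatrixGroups

universe u v

theorem exists_square_add_one_nonsquare {F : Type u} [Field F] [Finite F]
    (h : ∃ ν : F, ¬ IsSquare ν) : ∃ y : F, y ≠ 0 ∧ ¬ IsSquare (1 + y ^ 2) := by
  classical
  have := Fintype.ofFinite F
  obtain ⟨ν, hν⟩ := h
  have hchar : ringChar F ≠ 2 := fun e => hν (FiniteField.isSquare_of_char_two e ν)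
  open Polynomial in
  obtain ⟨a, b, hab⟩ : ∃ a b : F, (X ^ 2 : F[X]).eval a + (X ^ 2 - C ν : F[X]).eval b = 0 :=
    FiniteField.exists_root_sum_quadratic (Polynomial.degree_X_pow 2)
      (Polynomial.degree_X_pow_sub_C (by decide) _) (FiniteField.odd_card_of_char_ne_two hchar)
  simp only [Polynomial.eval_pow, Polynomial.eval_X, Polynomial.eval_sub, Polynomial.eval_C] at hab
  have hab' : a ^ 2 + b ^ 2 = ν := by linear_combination hab
  have ha : a ≠ 0 := by
    rintro rfl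
    exact hν ⟨b, by rw [← hab']; ring⟩
  have hb : b ≠ 0 := by
    rintro rfl
    exact hν ⟨a, by rw [← hab']; ring⟩
  refine ⟨b / a, div_ne_zero hb ha, ?_⟩
  rintro ⟨r, hr⟩
  refine hν ⟨r * a, ?_⟩
  rw [← hab']
  have : a ^ 2 + b ^ 2 = a ^ 2 * (1 + (b / a) ^ 2) := by field_simp
  rw [this, hr]
  ring

namespace Lift

variable {D : ChevalleyDatum} {hF : Facts.{u} D} {F : Type u} [Field F] {H : Type v} [Group H]
  (L : Lift hF F H) (hE : Extra D) (i : Fin D.rank)

theorem tor_h_simple_conj (hE : Extra D) {t : F} (ht : t ≠ 0) (b : F) :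
    L.h (D.simple i) t * L.n (D.simple i) b * (L.h (D.simple i) t)⁻¹ =
      L.n (D.simple i) (t ^ 2 * b) := by
  have hk := hF.simple_lt i i.2
  have hθ : L.θ (L.h (D.simple i) t) = torusHom (coH (D.simple i) (Units.mk0 t ht)) := by
    rw [L.θ_h]
    exact hG_simple hF i.2 (Units.mk0 t ht)
  rw [L.tor_conj_n hE (L.h_mem_tor i ht) hθ hk]
  congr 1
  rw [coH_simple hF i.2, chiU_mulSingle i.2, hF.cartan_self i i.2]
  simp [zpow_ofNat]

include hE in
theorem n_X_conj {p : F} (hp : p ≠ 0) (u : F) :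
    L.n (D.simple i) p * L.X (D.simple i) u =
        L.X (D.neg (D.simple i)) (-(p⁻¹ ^ 2 * u)) * L.n (D.simple i) p ∧
      L.n (D.simple i) p * L.X (D.neg (D.simple i)) u =
        L.X (D.simple i) (-(p ^ 2 * u)) * L.n (D.simple i) p := by
  have hk := hF.simple_lt i i.2
  have hτ := L.h_mem_tor i hp
  have hθ : L.θ (L.h (D.simple i) p) = torusHom (coH (D.simple i) (Units.mk0 p hp)) := by
    rw [L.θ_h]
    exact hG_simple hF i.2 (Units.mk0 p hp)
  have hχ : (chiU (coH (D := D) (D.simple i) (Units.mk0 p hp)) (D.simple i) : F) = p ^ 2 := by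
    rw [coH_simple hF i.2, chiU_mulSingle i.2, hF.cartan_self i i.2]
    simp [zpow_ofNat]
  have key : ∀ r, r < D.nroots → ∀ v, L.h (D.simple i) p * L.X r v =
      L.X r ((chiU (coH (D := D) (D.simple i) (Units.mk0 p hp)) r : F) * v) *
        L.h (D.simple i) p := fun r hr v =>
    mul_inv_eq_iff_eq_mul.1 (L.conj_of_mon_one (L.mon_tor hE hτ) hθ hr v)
  have hη := (etaN_spec hF i.2).2.1
  rw [L.n_eq_h_mul i p, mul_assoc, mul_assoc]
  constructor
  · rw [L.n_one_conj_X hE i hk, hF.refl_simple i i.2, hη, ← mul_assoc, key _ (neg_lt hF hk),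
      chiU_neg hF _ hk, Units.val_inv_eq_inv_val, hχ, mul_assoc]
    congr 2
    push_cast
    rw [inv_pow]; ring
  · rw [L.n_one_conj_X hE i (neg_lt hF hk), hF.refl_neg i i.2 _ hk, hF.refl_simple i i.2,
      neg_neg_root hF hk, (etaN_spec hF i.2).2.2.2.1 _ hk, hη, ← mul_assoc, key _ hk, hχ, mul_assoc]
    congr 2
    push_cast
    ring

include hE in
/-- Steinberg's relation. -/
theorem h_steinberg {a : F} (ha : a ≠ 0) (ha1 : 1 + a ≠ 0) :
    L.h (D.simple i) ((1 + a) / a) * (L.h (D.simple i) a⁻¹)⁻¹ * L.h (D.simple i) (1 + a)⁻¹ = 1 := by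
  set k := D.simple i with hkdef
  have hk : k < D.nroots := hF.simple_lt i i.2
  have hk' := neg_lt hF hk
  set b : F := -1 - a with hb
  have hb0 : b ≠ 0 := fun e => ha1 (by rw [hb] at e; linear_combination -e)
  have hneg : ∀ t : F, t ≠ 0 →
      L.X (D.neg k) t = L.X k t⁻¹ * L.n k (-t⁻¹) * L.X k t⁻¹ := by
    intro t ht
    rw [Lift.n, inv_neg, inv_inv, neg_neg, ← mul_assoc, ← mul_assoc, L.add _ hk, add_neg_cancel,
      L.X_zero hk, one_mul, mul_assoc, L.add _ hk, neg_add_cancel, L.X_zero hk, mul_one]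
  set p : F := -a⁻¹ with hp
  set q : F := -b⁻¹ with hq
  have hp0 : p ≠ 0 := neg_ne_zero.2 (inv_ne_zero ha)
  have hq0 : q ≠ 0 := neg_ne_zero.2 (inv_ne_zero hb0)
  have hba : b / a ≠ 0 := div_ne_zero hb0 ha
  have hab : a + b = -1 := by rw [hb]; ring
  have hnX : L.n k p * L.X k (a⁻¹ + b⁻¹) = L.X (D.neg k) (a / b) * L.n k p := by
    rw [(L.n_X_conj hE i hp0 _).1]
    congr 2
    rw [hp, inv_neg, inv_inv, show -((-a) ^ 2 * (a⁻¹ + b⁻¹)) = -(a * (a + b) / b) by field_simp; ring,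
      hab]
    ring
  have hpush : L.X k (b / a) * (L.n k p * L.n k q) = L.n k p * L.n k q * L.X k (a / b) := by
    rw [mul_assoc (L.n k p) (L.n k q), (L.n_X_conj hE i hq0 _).1, ← mul_assoc (L.n k p),
      (L.n_X_conj hE i hp0 _).2, mul_assoc]
    congr 2
    rw [hp, hq]
    field_simp
  have e : L.X (D.neg k) a * L.X (D.neg k) b = L.X (D.neg k) (-1) := by
    rw [L.add _ hk']; congr 1
  rw [hneg a ha, hneg b hb0, hneg (-1) (by norm_num)] at e
  rw [← hp, ← hq] at e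
  have e1 : L.X k a⁻¹ * L.n k p * L.X k a⁻¹ * (L.X k b⁻¹ * L.n k q * L.X k b⁻¹) =
      L.X k (-1) * (L.n k (-(b / a)) * L.n k p * L.n k q) * L.X k (-1) := by
    calc L.X k a⁻¹ * L.n k p * L.X k a⁻¹ * (L.X k b⁻¹ * L.n k q * L.X k b⁻¹)
        = L.X k a⁻¹ * (L.n k p * L.X k (a⁻¹ + b⁻¹)) * (L.n k q * L.X k b⁻¹) := by
          rw [← L.add _ hk a⁻¹ b⁻¹]; group
      _ = L.X k a⁻¹ * (L.X (D.neg k) (a / b) * L.n k p) * (L.n k q * L.X k b⁻¹) := by rw [hnX]
      _ = L.X k a⁻¹ * L.X k (b / a) * L.n k (-(b / a)) *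
            (L.X k (b / a) * (L.n k p * L.n k q)) * L.X k b⁻¹ := by
          rw [hneg (a / b) (div_ne_zero ha hb0), inv_div]; group
      _ = (L.X k a⁻¹ * L.X k (b / a)) * (L.n k (-(b / a)) * L.n k p * L.n k q) *
            (L.X k (a / b) * L.X k b⁻¹) := by rw [hpush]; group
      _ = _ := by
          rw [L.add _ hk, L.add _ hk]
          congr 3
          · rw [show a⁻¹ + b / a = (1 + b) / a by ring, show (1 : F) + b = -a by linear_combination hab,
              neg_div, div_self ha]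
          · rw [show a / b + b⁻¹ = (a + 1) / b by ring, show a + 1 = -b by linear_combination hab,
              neg_div, div_self hb0]
  rw [e1, inv_neg, inv_one, neg_neg, mul_left_inj, mul_right_inj] at e
  have hs : -(b / a) = (1 + a) / a := by rw [hb]; ring
  have hw : q = (1 + a)⁻¹ := by rw [hq, hb, ← inv_neg]; congr 1; ring
  rw [L.h_inv, h, ← hw, show L.n k ((1 + a) / a) * L.n k (-1) * (L.n k 1 * L.n k (-a⁻¹)) =
    L.n k ((1 + a) / a) * (L.n k (-1) * L.n k 1) * L.n k p by rw [← hp]; group,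
    ← L.n_inv hk 1, inv_mul_cancel, mul_one, ← hs, h, ← mul_assoc, e, ← L.n_inv hk (1 : F), mul_inv_cancel]

include hE in
theorem h_mul_simple [Finite F] {t u : F} (ht : t ≠ 0) (hu : u ≠ 0) :
    L.h (D.simple i) t * L.h (D.simple i) u = L.h (D.simple i) (t * u) := by
  classical
  set k := D.simple i with hkdef
  have hk : k < D.nroots := hF.simple_lt i i.2
  obtain ⟨g, hg⟩ := IsCyclic.exists_generator (α := Fˣ)
  have hcomm : ∀ a b : F, a ≠ 0 → b ≠ 0 → Commute (L.h k a) (L.h k b) := by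
    have hgen : ∀ a : F, a ≠ 0 → ∃ (m : ℤ) (z : H), z ∈ Subgroup.center H ∧
        L.h k a = L.h k (g : F) ^ m * z := by
      intro a ha
      obtain ⟨m, hm⟩ := hg (Units.mk0 a ha)
      refine ⟨m, (L.h k (g : F) ^ m)⁻¹ * L.h k a, L.ker_le_center hE ?_, by group⟩
      rw [MonoidHom.mem_ker, map_mul, map_inv, map_zpow, L.θ_h, L.θ_h, hG_simple hF i.2 g,
        show hG hF k a = torusHom (coH k (Units.mk0 a ha)) from hG_simple hF i.2 (Units.mk0 a ha),
        ← hm, ← map_zpow, ← map_zpow, inv_mul_cancel]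
    intro a b ha hb
    obtain ⟨m, z, hz, ea⟩ := hgen a ha
    obtain ⟨m', z', hz', eb⟩ := hgen b hb
    rw [ea, eb]
    have c1 : ∀ x, Commute z x := fun x => (Subgroup.mem_center_iff.1 hz x).symm
    have c2 : ∀ x, Commute z' x := fun x => (Subgroup.mem_center_iff.1 hz' x).symm
    exact ((Commute.zpow_zpow_self _ m m').mul_right ((c2 _).symm)).mul_left (c1 _)
  have hsq : ∀ s a : F, s ≠ 0 → a ≠ 0 → IsSquare s → L.h k a * L.h k s = L.h k (a * s) := by
    intro s a hs ha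
    rintro ⟨r, hr⟩
    have hr0 : r ≠ 0 := by rintro rfl; exact hs (by simpa using hr)
    have h1 : L.h k r * L.h k a * (L.h k r)⁻¹ = L.h k (s * a) * (L.h k s)⁻¹ := by
      rw [show L.h k a = L.n k a * L.n k (-1) from rfl, L.h_inv i s,
        show L.h k r * (L.n k a * L.n k (-1)) * (L.h k r)⁻¹ =
        (L.h k r * L.n k a * (L.h k r)⁻¹) * (L.h k r * L.n k (-1) * (L.h k r)⁻¹) by group,
        L.tor_h_simple_conj i hE hr0, L.tor_h_simple_conj i hE hr0,
        show L.h k (s * a) = L.n k (s * a) * L.n k (-1) from rfl,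
        show L.n k (s * a) * L.n k (-1) * (L.n k 1 * L.n k (-s)) =
          L.n k (s * a) * (L.n k (-1) * L.n k 1) * L.n k (-s) by group,
        ← L.n_inv hk 1, inv_mul_cancel, mul_one]
      congr 2 <;> rw [hr] <;> ring
    rw [(hcomm r a hr0 ha).eq, mul_inv_cancel_right, eq_mul_inv_iff_mul_eq, mul_comm s a] at h1
    exact h1
  by_cases hts : IsSquare u
  · exact hsq u t hu ht hts
  by_cases htt : IsSquare t
  · rw [(hcomm t u ht hu).eq, mul_comm t u]
    exact hsq t u ht hu htt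
  obtain ⟨y, hy, hy1⟩ := exists_square_add_one_nonsquare ⟨u, hts⟩
  have hy10 : (1 + y ^ 2) ≠ 0 := fun e => hy1 (by rw [e]; exact IsSquare.zero)
  set s : F := (1 + y ^ 2) / y ^ 2 with hs
  set w : F := (1 + y ^ 2)⁻¹ with hw
  have hs0 : s ≠ 0 := div_ne_zero hy10 (pow_ne_zero 2 hy)
  have hw0 : w ≠ 0 := inv_ne_zero hy10
  have hsn : ¬ IsSquare s := by
    rintro ⟨r, hr⟩
    refine hy1 ⟨r * y, ?_⟩
    rw [show (1 + y ^ 2) = s * y ^ 2 by rw [hs]; field_simp, hr]
    ring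
  have hwn : ¬ IsSquare w := by
    rintro ⟨r, hr⟩
    refine hy1 ⟨r⁻¹, ?_⟩
    rw [← mul_inv, ← hr, hw, inv_inv]
  have hsw : L.h k s * L.h k w = L.h k (s * w) := by
    have e := L.h_steinberg hE i (pow_ne_zero 2 hy) hy10
    rw [← hs, ← hw, mul_assoc, ((hcomm w _ hw0 (inv_ne_zero (pow_ne_zero 2 hy))).symm.inv_left).eq,
      ← mul_assoc, mul_inv_eq_one] at e
    rw [e]
    congr 1
    rw [hs, hw]
    field_simp
  have hodd : ∀ a : F, a ≠ 0 → ¬ IsSquare a → ∃ m : ℤ, ((g : F) ^ (2 * m + 1)) = a := by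
    intro a ha hns
    obtain ⟨m, hm⟩ := hg (Units.mk0 a ha)
    have hm' : (g : F) ^ m = a := by
      rw [← Units.val_zpow_eq_zpow_val]; exact congrArg Units.val hm
    rcases Int.even_or_odd m with ⟨j, hj⟩ | ⟨j, hj⟩
    · exact absurd ⟨(g : F) ^ j, by rw [← zpow_add₀ (Units.ne_zero g), ← hj, hm']⟩ hns
    · exact ⟨j, by rw [← hj, hm']⟩
  have hdiv : ∀ a b : F, a ≠ 0 → b ≠ 0 → ¬ IsSquare a → ¬ IsSquare b → IsSquare (a / b) := by
    intro a b ha hb hna hnb
    obtain ⟨m, rfl⟩ := hodd a ha hna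
    obtain ⟨m', rfl⟩ := hodd b hb hnb
    exact ⟨(g : F) ^ (m - m'), by
      rw [← zpow_add₀ (Units.ne_zero g), ← zpow_sub₀ (Units.ne_zero g)]; congr 1; ring⟩
  have ha := hdiv t s ht hs0 htt hsn
  have hb := hdiv u w hu hw0 hts hwn
  set α := t / s with hα
  set β := u / w with hβ
  have hα0 : α ≠ 0 := div_ne_zero ht hs0
  have hβ0 : β ≠ 0 := div_ne_zero hu hw0
  have et : t = s * α := by rw [hα]; field_simp
  have eu : u = w * β := by rw [hβ]; field_simp
  rw [et, eu, ← hsq α s hα0 hs0 ha, ← hsq β w hβ0 hw0 hb,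
    show L.h k s * L.h k α * (L.h k w * L.h k β) =
      L.h k s * (L.h k α * L.h k w) * L.h k β by group, (hcomm α w hα0 hw0).eq,
    show L.h k s * (L.h k w * L.h k α) * L.h k β =
      L.h k s * L.h k w * (L.h k α * L.h k β) by group,
    hsq β α hβ0 hα0 hb, hsw,
    hsq (α * β) (s * w) (mul_ne_zero hα0 hβ0) (mul_ne_zero hs0 hw0) (ha.mul hb)]
  congr 1
  ring

include hE in
theorem h_mul [Finite F] : ∀ r, r < D.nroots → ∀ t u : F, t ≠ 0 → u ≠ 0 →
    L.h r t * L.h r u = L.h r (t * u) := by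
  refine hF.root_induction _ (fun i hi t u ht hu => L.h_mul_simple hE ⟨i, hi⟩ ht hu)
    (fun i hi r hr ih t u ht hu => ?_)
  set η : F := ((etaN hF i r : ℤ) : F) with hη
  have hη2 : η * η = 1 := etaN_cast_sq hF hi hr
  have hη0 : η ≠ 0 := left_ne_zero_of_mul_eq_one hη2
  set n1 := L.n (D.simple i) 1 with hn1
  have hconj : ∀ a : F, n1 * L.n r a * n1⁻¹ = L.n (D.reflectRoot i r) (η * a) := fun a => by
    rw [mul_inv_eq_iff_eq_mul]
    exact L.n_one_conj_n hE ⟨i, hi⟩ hr a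
  have key : ∀ a : F, a ≠ 0 → L.h (D.reflectRoot i r) a = n1 * L.h r a * n1⁻¹ := by
    intro a ha
    have h1 : L.h r a = L.h r (η * a) * (L.h r η)⁻¹ := by
      rw [eq_mul_inv_iff_mul_eq, ih a η ha hη0, mul_comm]
    rw [h1, h, h, h, mul_inv_rev, L.n_inv hr (-1), L.n_inv hr η, neg_neg,
      show L.n r (η * a) * L.n r (-1) * (L.n r 1 * L.n r (-η)) =
        L.n r (η * a) * (L.n r (-1) * L.n r 1) * L.n r (-η) by group,
      ← L.n_inv hr 1, inv_mul_cancel, mul_one,
      show n1 * (L.n r (η * a) * L.n r (-η)) * n1⁻¹ =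
        (n1 * L.n r (η * a) * n1⁻¹) * (n1 * L.n r (-η) * n1⁻¹) by group, hconj, hconj,
      mul_neg, ← mul_assoc η, hη2, one_mul]
  rw [key t ht, key u hu, key _ (mul_ne_zero ht hu), ← ih t u ht hu]
  group

end Lift

end Cfsg.Agent.Chev
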