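import Cfsg.Agent.Chev.Lift
import Cfsg.Agent.Chev.Fast

/-!
The lifted monomial elements permute the lifted root subgroups.
-/

set_option autoImplicit false
set_option maxHeartbeats 1000000

namespace Cfsg.Agent.Chev

open Cfsg.Lie
open scoped MatrixGroups

universe u v

namespace Lift

variable {D : ChevalleyDatum} {hF : Facts.{u} D} {F : Type u} [Field F] {H : Type v} [Group H]
  (L : Lift hF F H)

theorem n_conj_mem {S : ℕ → Prop} {k : ℕ} (hk : k < D.nroots)
    (h₁ : ∀ s, s < D.nroots → S s → s ≠ k ∧ s ≠ D.neg k ∧ ∀ c ∈ D.commTerms k s, S c.1)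
    (h₂ : ∀ s, s < D.nroots → S s → s ≠ D.neg k ∧ s ≠ k ∧ ∀ c ∈ D.commTerms (D.neg k) s, S c.1)
    (a : F) {g : H} (hg : g ∈ L.sub S) : L.n k a * g * (L.n k a)⁻¹ ∈ L.sub S := by
  have hk' := neg_lt hF hk
  have h₂' : ∀ s, s < D.nroots → S s →
      s ≠ D.neg k ∧ s ≠ D.neg (D.neg k) ∧ ∀ c ∈ D.commTerms (D.neg k) s, S c.1 := by
    rw [neg_neg_root hF hk]; exact h₂
  have e1 := L.X_conj_mem hk h₁ (-a) hg
  have e2 := L.X_conj_mem hk' h₂' (- -a⁻¹) e1
  have e3 := L.X_conj_mem hk h₁ (-a) e2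
  simp only [neg_neg] at e3
  rw [n, mul_inv_rev, mul_inv_rev, L.X_inv hk, L.X_inv hk']
  convert e3 using 1
  simp only [neg_neg, mul_assoc]

theorem injOn_adjoin_neg {i : ℕ} (hi : i < D.rank) :
    L.InjOn (fun s => (half D ≤ s ∧ s ≠ D.simple i) ∨ s = D.neg (D.simple i)) := by
  have hk := hF.simple_lt i hi
  have hkp := hF.simple_pos i hi
  intro g hg e
  obtain ⟨t, g', hg', rfl⟩ := L.split (S := fun s => half D ≤ s ∧ s ≠ D.simple i)
    (neg_lt hF hk) (fun s hs hSs => ⟨by have := (neg_lt_half_iff hF hk).2 hkp; omega,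
      by rw [neg_neg_root hF hk]; exact hSs.2,
      fun c hc => hF.comm_neg_simple i hi s hs hSs.1 hSs.2 c hc⟩)
    (fun s _ h => h) hg
  rw [map_mul, L.θ_X] at e
  have hU : L.θ g' ∈ D.borelSubgroup F := L.map_sub_le _
    (fun r hr hS t => Subgroup.mem_sup_left (mem_posUnipotent_of hF hr hS.1 t)) hg'
  have h1 : xG hF (D.neg (D.simple i)) t = 1 := by
    refine (Subgroup.mem_bot).1 ((borel_inf_negUnipotent hF (F := F)).le ⟨?_,
      mem_negUnipotent_of hF (neg_lt hF hk) ((neg_lt_half_iff hF hk).2 hkp) t⟩)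
    rw [eq_inv_of_mul_eq_one_left e]
    exact Subgroup.inv_mem _ hU
  rw [h1, one_mul] at e
  obtain rfl := (xG_eq_one_iff hF (neg_lt hF hk)).1 h1
  rw [L.X_zero (neg_lt hF hk), one_mul]
  exact L.injOn_mono L.injOn_pos (fun r _ h => h.1) g' hg' e

/-- Conjugating the commutator expression of a root. -/
theorem special {g : H} {p q k p' q' : ℕ} {T : ℕ → Prop} (hp : p < D.nroots) (hq : q < D.nroots)
    (hqp : q ≠ p) (hqn : q ≠ D.neg p) (hp' : p' < D.nroots) (hq' : q' < D.nroots)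
    (hqp' : q' ≠ p') (hqn' : q' ≠ D.neg p')
    (hgp : ∀ t, ∃ t', g * L.X p t * g⁻¹ = L.X p' t')
    (hgq : ∀ t, ∃ t', g * L.X q t * g⁻¹ = L.X q' t')
    (hterms : ∀ c ∈ D.commTerms p q, c.1 ≠ k → ∀ w, g * L.X c.1 w * g⁻¹ ∈ L.sub T)
    (hterms' : ∀ c ∈ D.commTerms p' q', T c.1)
    {c₀ : ℕ × ℤ × ℕ × ℕ} (hfil : ((D.commTerms p q).filter fun c => Nat.beq c.1 k) = [c₀])
    (hC : c₀.2.1.natAbs = 1) (hab : c₀.2.2.1 = 1 ∨ c₀.2.2.2 = 1) (x : F) :
    g * L.X k x * g⁻¹ ∈ L.sub T := by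
  set M := (L.sub T).comap (MulAut.conj g).toMonoidHom with hM
  have memM : ∀ y, y ∈ M ↔ g * y * g⁻¹ ∈ L.sub T := fun y => Iff.rfl
  suffices h : L.X k x ∈ M from (memM _).1 h
  have hword : ∀ t w : F, ((D.commWord F p q t w).map fun z => L.X z.1 z.2).prod ∈ M := by
    intro t w
    rw [← L.comm p q hp hq hqp hqn t w, memM]
    obtain ⟨t', et⟩ := hgp t
    obtain ⟨w', ew⟩ := hgq w
    rw [show g * ((L.X q w)⁻¹ * (L.X p t)⁻¹ * L.X q w * L.X p t) * g⁻¹ =
      (g * L.X q w * g⁻¹)⁻¹ * (g * L.X p t * g⁻¹)⁻¹ * (g * L.X q w * g⁻¹) * (g * L.X p t * g⁻¹)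
      by group, et, ew, L.comm p' q' hp' hq' hqp' hqn' t' w']
    refine L.word_mem _ fun z hz => ?_
    obtain ⟨c, hc, rfl⟩ := List.mem_map.1 hz
    exact L.X_mem_sub (hF.comm_lt p' q' hp' hq' c hc) (hterms' c hc) _
  have key : ∀ (l : List (ℕ × ℤ × ℕ × ℕ)) (f : ℕ × ℤ × ℕ × ℕ → F),
      (∀ c ∈ l, c.1 = k ∨ ∀ w, L.X c.1 w ∈ M) →
      ((l.map fun c => (c.1, f c)).map fun z => L.X z.1 z.2).prod ∈ M →
      ∀ c₁, (l.filter fun c => Nat.beq c.1 k) = [c₁] → L.X k (f c₁) ∈ M := by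
    intro l f
    induction l with
    | nil => intro _ _ c₁ h; simp at h
    | cons c l ih =>
      intro hl hw c₁ hc₁
      rw [List.map_cons, List.map_cons, List.prod_cons] at hw
      obtain ⟨h0, hl⟩ := List.forall_mem_cons.1 hl
      by_cases hck : c.1 = k
      · rw [List.filter_cons_of_pos (by simp [hck])] at hc₁
        simp only [List.cons.injEq] at hc₁
        obtain ⟨rfl, hnil⟩ := hc₁
        have hrest : ((l.map fun c => (c.1, f c)).map fun z => L.X z.1 z.2).prod ∈ M := by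
          refine L.word_mem _ fun z hz => ?_
          obtain ⟨c', hc', rfl⟩ := List.mem_map.1 hz
          rcases hl c' hc' with h' | h'
          · have : c' ∈ l.filter fun c => Nat.beq c.1 k :=
              List.mem_filter.2 ⟨hc', nbeq_iff.2 h'⟩
            rw [hnil] at this
            simp at this
          · exact h' _
        rw [hck] at hw
        exact (Subgroup.mul_mem_cancel_right M hrest).1 hw
      · rw [List.filter_cons_of_neg (by simpa [nbeq_iff] using hck)] at hc₁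
        exact ih hl ((Subgroup.mul_mem_cancel_left M (h0.resolve_left hck _)).1 hw) c₁ hc₁
  have hall : ∀ c ∈ D.commTerms p q, c.1 = k ∨ ∀ w, L.X c.1 w ∈ M := fun c hc => by
    by_cases h : c.1 = k
    · exact Or.inl h
    · exact Or.inr fun w => (memM _).2 (hterms c hc h w)
  set C : F := (c₀.2.1 : F) with hCdef
  have hC2 : C * C = 1 := by
    rcases Int.natAbs_eq c₀.2.1 with e | e <;> rw [hCdef, e, hC] <;> simp
  rcases hab with h | h
  · have := key _ _ hall (hword (-(C * x)) 1) c₀ hfil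
    rwa [h, pow_one, one_pow, mul_one, neg_neg, ← mul_assoc, ← hCdef, hC2, one_mul] at this
  · set e : F := C * (-(1 : F)) ^ c₀.2.2.1 with he
    have he2 : e * e = 1 := by
      rw [he, mul_mul_mul_comm, hC2, one_mul, ← pow_add, ← two_mul, pow_mul, neg_one_sq, one_pow]
    have := key _ _ hall (hword 1 (e * x)) c₀ hfil
    rwa [h, pow_one, ← hCdef, ← he, ← mul_assoc, he2, one_mul] at this

theorem isMon_θ_n (i : Fin D.rank) {a : F} (ha : a ≠ 0) :
    IsMon hF (L.θ (L.n (D.simple i) a)) (wPerm hF i) := by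
  rw [L.θ_n, show a = ((Units.mk0 a ha : Fˣ) : F) from rfl, nG_eq_torus_mul hF i.2]
  have := isMon_mul hF (isMon_torus hF (coH (D.simple i) (Units.mk0 a ha))) (isMon_nS hF i (F := F))
  rwa [one_mul] at this

theorem mon_n (hE : Extra D) (i : Fin D.rank) {a : F} (ha : a ≠ 0) :
    L.Mon (L.n (D.simple i) a) (wPerm hF i) := by
  set k := D.simple i with hkdef
  have hk : k < D.nroots := hF.simple_lt i i.2
  have hkp : half D ≤ k := hF.simple_pos i i.2
  have hk' := neg_lt hF hk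
  have hkn : D.neg k < half D := (neg_lt_half_iff hF hk).2 hkp
  -- roots other than `±k`
  have other : ∀ b : F, b ≠ 0 → ∀ r : Fin D.nroots, (r : ℕ) ≠ k → (r : ℕ) ≠ D.neg k → ∀ u,
      ∃ v, L.n k b * L.X r u * (L.n k b)⁻¹ = L.X (wPerm hF i r) v := by
    intro b hb r h1 h2 u
    rcases Nat.lt_or_ge (r : ℕ) (half D) with hr | hr
    · have hinj : L.InjOn (fun s => s < half D ∧ s ≠ D.neg k) :=
        L.injOn_mono (L.injOn_neg hE) fun s _ h => h.1
      refine L.mon_of_mem hinj (L.isMon_θ_n i hb) rfl ⟨?_, ?_⟩ (L.n_conj_mem hk ?_ ?_ b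
        (L.X_mem_sub r.2 ⟨hr, h2⟩ u))
      · have hpos := hF.refl_pos i i.2 _ (neg_lt hF r.2) ((half_le_neg_iff hF r.2).2 hr)
          (fun e => h2 (by rw [hkdef, ← e, neg_neg_root hF r.2]))
        rw [hF.refl_neg i i.2 r r.2] at hpos
        have := (half_le_neg_iff hF (hF.refl_lt i i.2 r r.2)).1 hpos
        rwa [wPerm_val]
      · rw [wPerm_val]
        intro e
        refine h1 ?_
        rw [← hF.refl_refl i i.2 r r.2, e, hF.refl_neg i i.2 k hk, hF.refl_simple i i.2,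
          neg_neg_root hF hk]
      · rintro s hs ⟨hsh, hsk⟩
        exact ⟨by omega, hsk, fun c hc => hE.neg_simple i i.2 s hsh hsk c hc⟩
      · rintro s hs ⟨hsh, hsk⟩
        refine ⟨hsk, by omega, fun c hc => ?_⟩
        have := hE.neg_order (D.neg k) s hkn hsh hsk c hc
        omega
    · have hinj : L.InjOn (fun s => half D ≤ s ∧ s ≠ k) :=
        L.injOn_mono L.injOn_pos fun s _ h => h.1
      refine L.mon_of_mem hinj (L.isMon_θ_n i hb) rfl ⟨?_, ?_⟩ (L.n_conj_mem hk ?_ ?_ b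
        (L.X_mem_sub r.2 ⟨hr, h1⟩ u))
      · rw [wPerm_val]; exact hF.refl_pos i i.2 r r.2 hr h1
      · rw [wPerm_val]
        intro e
        refine h2 ?_
        rw [← hF.refl_refl i i.2 r r.2, e, hkdef, hF.refl_simple i i.2]
      · rintro s hs ⟨hsh, hsk⟩
        refine ⟨hsk, by omega, fun c hc => ?_⟩
        have := hF.comm_pos k s hk hs hkp hsh c hc
        omega
      · rintro s hs ⟨hsh, hsk⟩
        exact ⟨by omega, hsk, fun c hc => hF.comm_neg_simple i i.2 s hs hsh hsk c hc⟩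
  obtain ⟨p, q, hp, hq, hqp, hqn, hp1, hp2, hq1, hq2, hpos, hpos', c₀, hfil, hC, hab⟩ :=
    hE.special i i.2
  -- the root `k`
  have atK : ∀ b : F, b ≠ 0 → ∀ u, ∃ v, L.n k b * L.X k u * (L.n k b)⁻¹ = L.X (D.neg k) v := by
    intro b hb u
    refine L.mon_of_mem (r := sRoot hF i) (r' := negF hF (sRoot hF i))
      (L.injOn_adjoin_neg i.2) (L.isMon_θ_n i hb) (wPerm_sRoot hF i) (Or.inr rfl) ?_
    refine L.special (p' := D.reflectRoot i p) (q' := D.reflectRoot i q) hp hq hqp hqn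
      (hF.refl_lt i i.2 p hp) (hF.refl_lt i i.2 q hq) (fun e => hqp ?_) (fun e => hqn ?_)
      (other b hb ⟨p, hp⟩ hp1 hp2) (other b hb ⟨q, hq⟩ hq1 hq2) (fun c hc hck w => ?_)
      hpos' hfil hC hab u
    · rw [← hF.refl_refl i i.2 q hq, e, hF.refl_refl i i.2 p hp]
    · rw [← hF.refl_refl i i.2 q hq, e, ← hF.refl_neg i i.2 p hp,
        hF.refl_refl i i.2 _ (neg_lt hF hp)]
    · have hcn := hF.comm_lt p q hp hq c hc
      have hc' := hpos c hc
      obtain ⟨v, hv⟩ := other b hb ⟨c.1, hcn⟩ hck (Nat.ne_of_gt (hkn.trans_le hc')) w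
      rw [hv]
      refine L.X_mem_sub (wPerm hF i ⟨c.1, hcn⟩).2 (Or.inl ⟨?_, ?_⟩) v
      · rw [wPerm_val]; exact hF.refl_pos i i.2 _ hcn hc' hck
      · rw [wPerm_val]
        intro e
        have : c.1 = D.neg k := by rw [← hF.refl_refl i i.2 _ hcn, e, hkdef, hF.refl_simple i i.2]
        omega
  -- pairs
  have pair : ∀ b c : F, b ≠ 0 → c ≠ 0 → ∀ u, ∃ v,
      L.n k b * L.n k c * L.X k u * (L.n k b * L.n k c)⁻¹ = L.X k v := by
    intro b c hb hc u
    have two : ∀ r : Fin D.nroots, (r : ℕ) ≠ k → (r : ℕ) ≠ D.neg k → ∀ u, ∃ v,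
        L.n k b * L.n k c * L.X r u * (L.n k b * L.n k c)⁻¹ = L.X r v := by
      intro r h1 h2 u
      obtain ⟨v, hv⟩ := other c hc r h1 h2 u
      obtain ⟨w, hw⟩ := other b hb (wPerm hF i r)
        (by
          rw [wPerm_val]; intro e
          exact h2 (by rw [← hF.refl_refl i i.2 r r.2, e, hkdef, hF.refl_simple i i.2]))
        (by
          rw [wPerm_val]; intro e
          exact h1 (by rw [← hF.refl_refl i i.2 r r.2, e, hF.refl_neg i i.2 k hk,
            hF.refl_simple i i.2, neg_neg_root hF hk])) v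
      refine ⟨w, ?_⟩
      rw [show L.n k b * L.n k c * L.X r u * (L.n k b * L.n k c)⁻¹ =
        L.n k b * (L.n k c * L.X r u * (L.n k c)⁻¹) * (L.n k b)⁻¹ by group, hv, hw,
        ← Equiv.Perm.mul_apply, wPerm_sq, Equiv.Perm.one_apply]
    have hmon : IsMon hF (L.θ (L.n k b * L.n k c)) 1 := by
      rw [map_mul, ← wPerm_sq hF i]
      exact isMon_mul hF (L.isMon_θ_n i hb) (L.isMon_θ_n i hc)
    refine L.mon_of_mem (r := sRoot hF i) (r' := sRoot hF i) L.injOn_pos hmon rfl hkp ?_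
    refine L.special (p' := p) (q' := q) hp hq hqp hqn hp hq hqp hqn
      (two ⟨p, hp⟩ hp1 hp2) (two ⟨q, hq⟩ hq1 hq2) (fun d hd hdk w => ?_) hpos hfil hC hab u
    have hdn := hF.comm_lt p q hp hq d hd
    obtain ⟨v, hv⟩ := two ⟨d.1, hdn⟩ hdk (Nat.ne_of_gt (hkn.trans_le (hpos d hd))) w
    rw [hv]
    exact L.X_mem_sub hdn (hpos d hd) v
  intro r u
  by_cases h1 : (r : ℕ) = k
  · obtain ⟨v, hv⟩ := atK a ha u
    obtain rfl : r = sRoot hF i := Fin.ext h1
    exact ⟨v, by rw [wPerm_sRoot]; exact hv⟩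
  by_cases h2 : (r : ℕ) = D.neg k
  swap
  · exact other a ha r h1 h2 u
  obtain rfl : r = negF hF (sRoot hF i) := Fin.ext h2
  obtain ⟨v, hv⟩ := atK 1 one_ne_zero (-u)
  have hve : v = u := by
    have h3 := congrArg L.θ hv
    rw [map_mul, map_mul, map_inv, L.θ_n, L.θ_X, L.θ_X] at h3
    have h4 : nS hF (i : ℕ) * xG hF k (-u) * (nS hF (i : ℕ))⁻¹ = xG hF (D.neg k) u := by
      rw [nS_conj_x hF i.2 hk, mul_inv_cancel_right, hkdef, hF.refl_simple i i.2,
        (etaN_spec hF i.2).2.1]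
      simp
    rw [show nG hF k (1 : F) = nS hF (i : ℕ) from rfl, h4] at h3
    exact ((xG_inj hF hk' h3)).symm
  obtain ⟨w, hw⟩ := pair a 1 ha one_ne_zero (-u)
  refine ⟨w, ?_⟩
  rw [wPerm_negF, wPerm_sRoot, negF_negF]
  show L.n k a * L.X (D.neg k) u * (L.n k a)⁻¹ = L.X k w
  rw [hve] at hv
  rw [← hw, ← hv, mul_inv_rev]
  group

end Lift

end Cfsg.Agent.Chev
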