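import Cfsg.Agent.Chev.LiftKernel
import Cfsg.Agent.Chev.Simplicity

/-!
Perfectness of lifts of the Chevalley group.
-/

set_option autoImplicit false

namespace Cfsg.Agent.Chev

open Cfsg.Lie
open scoped MatrixGroups commutatorElement

universe u v

namespace Lift

variable {D : ChevalleyDatum} {hF : Facts.{u} D} {F : Type u} [Field F] {H : Type v} [Group H]
  (L : Lift hF F H)

theorem comm_word_mem {r s : ℕ} (hr : r < D.nroots) (hs : s < D.nroots) (hsr : s ≠ r)
    (hsn : s ≠ D.neg r) (t u : F) :
    ((D.commWord F r s t u).map fun p => L.X p.1 p.2).prod ∈ commutator H := by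
  rw [← L.comm r s hr hs hsr hsn t u,
    show (L.X s u)⁻¹ * (L.X r t)⁻¹ * L.X s u * L.X r t = ⁅(L.X s u)⁻¹, (L.X r t)⁻¹⁆ by
      rw [commutatorElement_def, inv_inv, inv_inv], commutator_def]
  exact Subgroup.commutator_mem_commutator (Subgroup.mem_top _) (Subgroup.mem_top _)

theorem perfect_sound (hE : Extra D) {a : Bool} (ha : a = true → ∃ x : F, x ≠ 0 ∧ x ≠ 1) :
    ∀ (l : List PStep) (known : List ℕ), chkPerfect D a known l = true →
      (∀ r ∈ known, r < D.nroots ∧ ∀ t : F, L.X r t ∈ commutator H) →
      ∀ i < D.rank, ∀ t : F, L.X (D.simple i) t ∈ commutator H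
  | [], known, hc, hk, i, hi => by
    simp only [chkPerfect, allBelow_iff, List.contains_iff_mem] at hc
    exact (hk _ (hc i hi)).2
  | st :: l, known, hc, hk, i, hi => by
    simp only [chkPerfect, Bool.and_eq_true] at hc
    obtain ⟨hst, hrest⟩ := hc
    refine perfect_sound hE ha l _ hrest (List.forall_mem_cons.2 ⟨?_, hk⟩) i hi
    cases st with
    | torus r j =>
      simp only [Bool.and_eq_true, nblt_iff, nbeq_iff] at hst
      obtain ⟨⟨⟨hat, hr⟩, hj⟩, hA⟩ := hst
      refine ⟨hr, fun t => ?_⟩
      obtain ⟨x, hx0, hx1⟩ := ha hat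
      set c : Fin D.rank → Fˣ := Pi.mulSingle ⟨j, hj⟩ (Units.mk0 x hx0) with hc
      have hchi : (chiU c r : F) ≠ 1 := by
        rw [hc, chiU_mulSingle hj, Units.val_zpow_eq_zpow_val, Units.val_mk0]
        rcases Int.natAbs_eq (D.cartan j r) with e | e <;> rw [e, hA]
        · simpa using hx1
        · simpa [inv_eq_one] using hx1
      set s := t / ((chiU c r : F) - 1) with hs
      have hts : t = (chiU c r : F) * s + -s := by
        rw [hs]; field_simp [sub_ne_zero.2 hchi]; ring
      set τ := L.h (D.simple j) x with hτ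
      have hτm : τ ∈ L.tor := L.h_mem_tor ⟨j, hj⟩ hx0
      have hθτ : L.θ τ = torusHom c := by
        rw [hτ, L.θ_h, show x = ((Units.mk0 x hx0 : Fˣ) : F) from rfl, hG_simple hF hj,
          coH_simple hF hj, hc]
      have e : L.X r t = ⁅τ, L.X r s⁆ := by
        rw [commutatorElement_def, L.conj_of_mon_one (L.mon_tor hE hτm) hθτ hr, L.X_inv hr,
          L.add r hr, ← hts]
      rw [show (PStep.torus r j).root D = r from rfl, e, commutator_def]
      exact Subgroup.commutator_mem_commutator (Subgroup.mem_top _) (Subgroup.mem_top _)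
    | comm p q k =>
      simp only [Bool.and_eq_true, nblt_iff, Bool.not_eq_true', nbeq_false_iff, beq_iff_eq,
        List.all_eq_true, Bool.or_eq_true, nbeq_iff, List.contains_iff_mem] at hst
      obtain ⟨⟨⟨⟨⟨hp, hq⟩, hqp⟩, hqn⟩, hfil⟩, hall⟩ := hst
      rcases hL : (D.commTerms p q).filter fun c => Nat.beq c.1 k with _ | ⟨c₀, L'⟩
      · simp [hL] at hfil
      simp only [hL, List.map_cons, List.cons.injEq, Prod.mk.injEq, List.map_eq_nil_iff] at hfil
      obtain ⟨⟨hm, hj⟩, rfl⟩ := hfil
      have hc₀ : c₀ ∈ (D.commTerms p q).filter fun c => Nat.beq c.1 k := hL ▸ List.mem_cons_self ..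
      rw [List.mem_filter, nbeq_iff] at hc₀
      refine ⟨hc₀.2 ▸ hF.comm_lt p q hp hq c₀ hc₀.1, fun t => ?_⟩
      set M := commutator H with hMdef
      have key : ∀ (L' : List (ℕ × ℤ × ℕ × ℕ)) (v : F), (∀ c ∈ L', c.1 = k ∨ c.1 ∈ known) →
          ((L'.map fun c => (c.1, (c.2.1 : F) * (-(1 : F)) ^ c.2.2.1 * v ^ c.2.2.2)).map
            fun z => L.X z.1 z.2).prod ∈ M →
          ∀ c₀, (L'.filter fun c => Nat.beq c.1 k) = [c₀] →
            L.X k ((c₀.2.1 : F) * (-(1 : F)) ^ c₀.2.2.1 * v ^ c₀.2.2.2) ∈ M := by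
        intro L'
        induction L' with
        | nil => intro v _ _ c₀ h; simp at h
        | cons c L' ih =>
          intro v hL hw c₀ hc₀
          rw [List.map_cons, List.map_cons, List.prod_cons] at hw
          obtain ⟨h0, hL⟩ := List.forall_mem_cons.1 hL
          by_cases hck : c.1 = k
          · rw [List.filter_cons_of_pos (by simp [hck])] at hc₀
            simp only [List.cons.injEq] at hc₀
            obtain ⟨rfl, hnil⟩ := hc₀
            have hrest : ((L'.map fun c =>
                (c.1, (c.2.1 : F) * (-(1 : F)) ^ c.2.2.1 * v ^ c.2.2.2)).map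
                  fun z => L.X z.1 z.2).prod ∈ M := by
              refine L.word_mem _ fun z hz => ?_
              obtain ⟨c', hc', rfl⟩ := List.mem_map.1 hz
              rcases hL c' hc' with h' | h'
              · have : c' ∈ L'.filter fun c => Nat.beq c.1 k :=
                  List.mem_filter.2 ⟨hc', nbeq_iff.2 h'⟩
                rw [hnil] at this
                simp at this
              · exact (hk _ h').2 _
            rw [hck] at hw
            exact (Subgroup.mul_mem_cancel_right M hrest).1 hw
          · rw [List.filter_cons_of_neg (by simpa [nbeq_iff] using hck)] at hc₀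
            exact ih v hL ((Subgroup.mul_mem_cancel_left M
              ((hk _ (h0.resolve_left hck)).2 _)).1 hw) c₀ hc₀
      set e : F := (c₀.2.1 : F) * (-(1 : F)) ^ c₀.2.2.1 with he
      have hee : e * e = 1 := by
        rw [he, mul_mul_mul_comm, ← pow_add, ← two_mul, pow_mul, neg_one_sq, one_pow, mul_one]
        rcases Int.natAbs_eq c₀.2.1 with e' | e' <;> rw [e', hm] <;> simp
      have := key (D.commTerms p q) (e * t) hall
        (L.comm_word_mem hp hq hqp hqn 1 (e * t)) c₀ hL
      rw [hj, pow_one, ← mul_assoc, hee, one_mul] at this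
      exact this
    | refl j r =>
      simp only [Bool.and_eq_true, nblt_iff, List.contains_iff_mem] at hst
      obtain ⟨⟨hj, hr⟩, hkr⟩ := hst
      refine ⟨hF.refl_lt j hj r hr, fun t => ?_⟩
      set e : F := ((etaN hF j r : ℤ) : F) with he
      have hee : e * e = 1 := etaN_cast_sq hF hj hr
      have h1 := (inferInstance : (commutator H).Normal).conj_mem _ ((hk r hkr).2 (e * t))
        (L.n (D.simple j) 1)
      rw [show L.n (D.simple j) 1 * L.X r (e * t) = _ from L.n_one_conj_X hE ⟨j, hj⟩ hr _,
        mul_inv_cancel_right, ← he, ← mul_assoc, hee, one_mul] at h1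
      exact h1

include L in
theorem commutator_eq_top (hE : Extra D) {a : Bool} (ha : a = true → ∃ x : F, x ≠ 0 ∧ x ≠ 1)
    {l : List PStep} (hc : chkPerfect D a [] l = true) : commutator H = ⊤ := by
  have hs := L.perfect_sound hE ha l [] hc (by simp)
  have hall : ∀ r < D.nroots, ∀ t : F, L.X r t ∈ commutator H :=
    hF.root_induction (fun r => ∀ t : F, L.X r t ∈ commutator H) hs fun i hi r hr ih t => by
      set e : F := ((etaN hF i r : ℤ) : F) with he
      have hee : e * e = 1 := etaN_cast_sq hF hi hr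
      have h1 := (inferInstance : (commutator H).Normal).conj_mem _ (ih (e * t))
        (L.n (D.simple i) 1)
      rw [show L.n (D.simple i) 1 * L.X r (e * t) = _ from L.n_one_conj_X hE ⟨i, hi⟩ hr _,
        mul_inv_cancel_right, ← he, ← mul_assoc, hee, one_mul] at h1
      exact h1
  rw [eq_top_iff, ← L.gen, Subgroup.closure_le]
  rintro _ ⟨r, t, hr, rfl⟩
  exact hall r hr t

end Lift

end Cfsg.Agent.Chev
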