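import Cfsg.Agent.Chev.GroupCard
import Cfsg.Agent.Chev.Parabolic

/-!
Minimal coset representatives in the Weyl group, the orders of the parabolic subgroups and the
alternating sum of their indices.
-/

set_option autoImplicit false

namespace Cfsg.Agent.Chev

open Cfsg.Lie
open scoped MatrixGroups

universe u

section Weyl

variable {D : ChevalleyDatum} (hF : Facts.{u} D)
include hF

/-- `π` keeps the fundamental roots of `J` positive. -/
def IsMin (J : Finset (Fin D.rank)) (π : Equiv.Perm (Fin D.nroots)) : Prop :=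
  π ∈ weyl hF ∧ ∀ j ∈ J, half D ≤ (π (sRoot hF j) : ℕ)

theorem pos_of_isMin {J : Finset (Fin D.rank)} {u : Equiv.Perm (Fin D.nroots)}
    (hu : IsMin hF J u) {r : Fin D.nroots} (hr0 : ∀ j, j ∉ J → coef D r j = 0)
    (hrp : half D ≤ (r : ℕ)) : half D ≤ (u r : ℕ) := by
  obtain ⟨w, hwu⟩ := exists_pWord hF hu.1
  have hmin := hu.2
  rw [← hwu] at hmin ⊢
  by_contra hneg
  obtain ⟨j, hj, hpos⟩ := (pos_iff_exists_coef hF (neg_lt hF (pWord hF w r).2)).1
    ((pos_negF_iff hF (pWord hF w r)).2 (not_le.1 hneg))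
  rw [hF.coef_neg _ (pWord hF w r).2 j hj] at hpos
  have hnn : 0 ≤ coef D (pWord hF w r : ℕ) j := by
    rw [show j = ((⟨j, hj⟩ : Fin D.rank) : ℕ) from rfl, coef_pWord hF w r ⟨j, hj⟩]
    refine Finset.sum_nonneg fun l _ => ?_
    by_cases hl : l ∈ J
    · exact mul_nonneg (coef_nonneg hF r.2 hrp)
        (coef_nonneg hF (pWord hF w (sRoot hF l)).2 (hmin l hl))
    · rw [hr0 l hl, zero_mul]
  omega

theorem invCard_min_split {J : Finset (Fin D.rank)} {u v : Equiv.Perm (Fin D.nroots)}
    (hu : IsMin hF J u) (hv : v ∈ wJ hF J) : invCard (u * v) = invCard u + invCard v := by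
  classical
  rw [invCard_eq, invCard_eq, invCard_eq,
    ← Finset.card_filter_add_card_filter_not (s := invSet (u * v)) (fun r => half D ≤ (v r : ℕ))]
  have hout : ∀ s : Fin D.nroots, half D ≤ (s : ℕ) → (u s : ℕ) < half D →
      ∃ j, j ∉ J ∧ 0 < coef D s j := fun s h1 h2 => by
    by_contra hne
    refine absurd (pos_of_isMin hF hu (fun j hj => le_antisymm ?_ (coef_nonneg hF s.2 h1)) h1)
      (not_le.2 h2)
    exact not_lt.1 fun hc => hne ⟨j, hj, hc⟩
  congr 1
  · refine Finset.card_bij (fun r _ => v r) ?_ (fun a _ b _ e => v.injective e) ?_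
    · intro r hr
      simp only [invSet, Finset.mem_filter, Finset.mem_univ, true_and] at hr ⊢
      exact ⟨hr.2, by simpa using hr.1.2⟩
    · intro s hs
      simp only [invSet, Finset.mem_filter, Finset.mem_univ, true_and] at hs
      refine ⟨v⁻¹ s, ?_, by simp⟩
      obtain ⟨j, hj, hc⟩ := hout s hs.1 hs.2
      simp only [invSet, Finset.mem_filter, Finset.mem_univ, true_and]
      refine ⟨⟨(pos_iff_exists_coef hF (v⁻¹ s).2).2 ⟨j, j.2, ?_⟩, by simpa using hs.2⟩,
        by simpa using hs.1⟩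
      rwa [coef_of_not_mem hF (Subgroup.inv_mem _ hv) s hj]
  · refine congrArg Finset.card (Finset.ext fun r => ?_)
    rw [Finset.mem_filter, invSet, invSet, Finset.mem_filter, Finset.mem_filter, not_le,
      Equiv.Perm.mul_apply]
    simp only [Finset.mem_univ, true_and]
    refine ⟨fun h => ⟨h.1.1, h.2⟩, fun h => ⟨⟨h.1, ?_⟩, h.2⟩⟩
    have hpos : half D ≤ (u (negF hF (v r)) : ℕ) := pos_of_isMin hF hu
      (fun j hj => by
        rw [coef_negF, coef_of_not_mem hF hv r hj,
          coef_eq_zero_of_inverted hF hv h.1 h.2 hj, neg_zero])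
      ((pos_negF_iff hF (v r)).2 h.2)
    rw [weyl_negF hF hu.1] at hpos
    exact (pos_negF_iff hF (u (v r))).1 hpos

omit hF in
theorem invCard_pos_of_inverted {π : Equiv.Perm (Fin D.nroots)} {r : Fin D.nroots}
    (h1 : half D ≤ (r : ℕ)) (h2 : (π r : ℕ) < half D) : 0 < invCard π := by
  rw [invCard_eq]
  exact Finset.card_pos.2 ⟨r, by simp [invSet, h1, h2]⟩

theorem exists_min {J : Finset (Fin D.rank)} : ∀ (n : ℕ) {π : Equiv.Perm (Fin D.nroots)},
    invCard π = n → π ∈ weyl hF → ∃ u, IsMin hF J u ∧ u⁻¹ * π ∈ wJ hF J := by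
  intro n
  induction n using Nat.strong_induction_on with
  | _ n ih =>
    intro π hn hπ
    by_cases h : ∀ j ∈ J, half D ≤ (π (sRoot hF j) : ℕ)
    · exact ⟨π, ⟨hπ, h⟩, by rw [inv_mul_cancel]; exact Subgroup.one_mem _⟩
    obtain ⟨j, hj, hneg⟩ : ∃ j ∈ J, (π (sRoot hF j) : ℕ) < half D := by
      simpa [not_le] using h
    have hsW : wPerm hF j ∈ weyl hF := Subgroup.subset_closure ⟨j, rfl⟩
    have hsJ : wPerm hF j ∈ wJ hF ({j} : Finset (Fin D.rank)) :=
      Subgroup.subset_closure ⟨j, by simp, rfl⟩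
    have hmin : IsMin hF {j} (π * wPerm hF j) := by
      refine ⟨Subgroup.mul_mem _ hπ hsW, fun i hi => ?_⟩
      rw [Finset.mem_singleton.1 hi, Equiv.Perm.mul_apply, wPerm_sRoot, weyl_negF hF hπ]
      exact (pos_negF_iff hF (π (sRoot hF j))).2 hneg
    have he := invCard_min_split hF hmin hsJ
    rw [mul_assoc, wPerm_sq, mul_one, hn] at he
    have hpos : 0 < invCard (wPerm hF j) := invCard_pos_of_inverted
      (r := sRoot hF j) (hF.simple_pos j j.2)
      (by rw [wPerm_sRoot]; exact (neg_lt_half_iff hF (sRoot hF j).2).2 (hF.simple_pos j j.2))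
    obtain ⟨u, hu, huπ⟩ := ih _ (by omega) rfl hmin.1
    refine ⟨u, hu, ?_⟩
    rw [show u⁻¹ * π = u⁻¹ * (π * wPerm hF j) * wPerm hF j by
      rw [mul_assoc, mul_assoc, wPerm_sq, mul_one]]
    exact Subgroup.mul_mem _ huπ (Subgroup.subset_closure ⟨j, hj, rfl⟩)

theorem isMin_unique {J : Finset (Fin D.rank)} {u u' : Equiv.Perm (Fin D.nroots)}
    (hu : IsMin hF J u) (hu' : IsMin hF J u') (h : u⁻¹ * u' ∈ wJ hF J) : u = u' := by
  have h1 := invCard_min_split hF hu h
  have h2 := invCard_min_split hF hu' (Subgroup.inv_mem _ h)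
  rw [mul_inv_cancel_left] at h1
  rw [mul_inv_rev, inv_inv, mul_inv_cancel_left] at h2
  have h0 : u⁻¹ * u' = 1 := eq_one_of_pos hF (wJ_le hF J h) fun i => not_lt.1 fun hi => by
    have := invCard_pos_of_inverted (hF.simple_pos i i.2) hi
    omega
  exact inv_mul_eq_one.1 h0

open Classical in
/-- The minimal representatives of `W / W_J`. -/
noncomputable def minSet (J : Finset (Fin D.rank)) : Finset (Equiv.Perm (Fin D.nroots)) :=
  (weyl hF : Set (Equiv.Perm (Fin D.nroots))).toFinite.toFinset.filter fun u => IsMin hF J u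

theorem mem_minSet {J : Finset (Fin D.rank)} {u : Equiv.Perm (Fin D.nroots)} :
    u ∈ minSet hF J ↔ IsMin hF J u := by
  classical
  simp only [minSet, Finset.mem_filter, Set.Finite.mem_toFinset, SetLike.mem_coe]
  exact ⟨And.right, fun h => ⟨h.1, h⟩⟩

theorem poin_univ_eq (J : Finset (Fin D.rank)) (q : ℕ) :
    poin hF Finset.univ q = (∑ u ∈ minSet hF J, q ^ invCard u) * poin hF J q := by
  classical
  rw [poin, poin, Finset.sum_mul_sum, ← Finset.sum_product']
  refine (Finset.sum_bij (fun p _ => p.1 * p.2) ?_ ?_ ?_ ?_).symm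
  · rintro ⟨u, v⟩ h
    simp only [Finset.mem_product, Set.Finite.mem_toFinset, SetLike.mem_coe, mem_minSet hF,
      wJ_univ] at h ⊢
    exact Subgroup.mul_mem _ h.1.1 (wJ_le hF J h.2)
  · rintro ⟨u, v⟩ h ⟨u', v'⟩ h' e
    simp only [Finset.mem_product, Set.Finite.mem_toFinset, SetLike.mem_coe, mem_minSet hF] at h h'
    have : u = u' := isMin_unique hF h.1 h'.1 (by
      rw [show u⁻¹ * u' = v * v'⁻¹ by rw [eq_mul_inv_iff_mul_eq, mul_assoc, ← e, inv_mul_cancel_left]]
      exact Subgroup.mul_mem _ h.2 (Subgroup.inv_mem _ h'.2))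
    subst this
    simpa using e
  · intro π hπ
    simp only [Set.Finite.mem_toFinset, SetLike.mem_coe, wJ_univ] at hπ
    obtain ⟨u, hu, huπ⟩ := exists_min hF (J := J) _ rfl hπ
    refine ⟨(u, u⁻¹ * π), ?_, mul_inv_cancel_left u π⟩
    simp only [Finset.mem_product, Set.Finite.mem_toFinset, SetLike.mem_coe, mem_minSet hF]
    exact ⟨hu, huπ⟩
  · rintro ⟨u, v⟩ h
    simp only [Finset.mem_product, Set.Finite.mem_toFinset, SetLike.mem_coe, mem_minSet hF] at h
    rw [invCard_min_split hF h.1 h.2, pow_add]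

theorem alternating_sum_fun (f : Equiv.Perm (Fin D.nroots) → ℂ) {w : List (Fin D.rank)}
    (hw : ∀ r : Fin D.nroots, ((pWord hF w r : ℕ) < half D ↔ half D ≤ (r : ℕ))) :
    ∑ J ∈ (Finset.univ : Finset (Fin D.rank)).powerset,
      (-1 : ℂ) ^ J.card * ∑ u ∈ minSet hF J, f u = f (pWord hF w) := by
  classical
  set W := (weyl hF : Set (Equiv.Perm (Fin D.nroots))).toFinite.toFinset with hW
  let A : Equiv.Perm (Fin D.nroots) → Finset (Fin D.rank) := fun u =>
    Finset.univ.filter fun j => half D ≤ (u (sRoot hF j) : ℕ)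
  have e1 : ∀ J : Finset (Fin D.rank), minSet hF J = W.filter fun u => J ⊆ A u := by
    intro J
    ext u
    rw [mem_minSet hF]
    simp only [hW, Finset.mem_filter, Set.Finite.mem_toFinset, SetLike.mem_coe, IsMin, A,
      Finset.subset_iff, Finset.mem_univ, true_and]
  simp only [e1, Finset.mul_sum, Finset.sum_filter, mul_ite, mul_zero]
  rw [Finset.sum_comm]
  have e2 : ∀ u ∈ W, (∑ J ∈ (Finset.univ : Finset (Fin D.rank)).powerset,
      if J ⊆ A u then (-1 : ℂ) ^ J.card * f u else 0) = if A u = ∅ then f u else 0 := by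
    intro u _
    rw [← Finset.sum_filter, ← Finset.sum_mul]
    have : ((Finset.univ : Finset (Fin D.rank)).powerset.filter fun J => J ⊆ A u) =
        (A u).powerset := by
      ext J; simp
    rw [this]
    have h := Finset.sum_powerset_neg_one_pow_card (x := A u)
    have h' : (∑ J ∈ (A u).powerset, (-1 : ℂ) ^ J.card) = if A u = ∅ then 1 else 0 := by
      have := congrArg (fun z : ℤ => (z : ℂ)) h
      push_cast at this
      exact this
    rw [h']
    split <;> simp
  rw [Finset.sum_congr rfl e2, ← Finset.sum_filter]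
  have hkey : W.filter (fun u => A u = ∅) = {pWord hF w} := by
    ext u
    simp only [Finset.mem_filter, hW, Set.Finite.mem_toFinset, SetLike.mem_coe,
      Finset.mem_singleton, A, Finset.filter_eq_empty_iff, Finset.mem_univ, true_implies, not_le]
    constructor
    · rintro ⟨hu, hneg⟩
      have h0 : (pWord hF w)⁻¹ * u = 1 := by
        refine eq_one_of_pos hF (Subgroup.mul_mem _ (Subgroup.inv_mem _ (pWord_mem hF w)) hu)
          fun i => ?_
        have h := hw ((pWord hF w)⁻¹ (u (sRoot hF i)))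
        rw [app_inv] at h
        rw [Equiv.Perm.mul_apply]
        exact h.1 (@hneg i)
      exact (inv_mul_eq_one.1 h0).symm
    · rintro rfl
      exact ⟨pWord_mem hF w, fun {i} => (hw _).2 (hF.simple_pos i i.2)⟩
  rw [hkey, Finset.sum_singleton]

theorem invCard_longest {w : List (Fin D.rank)}
    (hw : ∀ r : Fin D.nroots, ((pWord hF w r : ℕ) < half D ↔ half D ≤ (r : ℕ))) :
    invCard (pWord hF w) = half D := by
  rw [invCard_eq]
  have : invSet (pWord hF w) = Finset.univ.filter fun r : Fin D.nroots => half D ≤ (r : ℕ) := by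
    ext r
    simp only [invSet, Finset.mem_filter, Finset.mem_univ, true_and]
    exact ⟨And.left, fun h => ⟨h, (hw r).2 h⟩⟩
  rw [this]
  have h2 := hF.nroots_even
  rw [show (Finset.univ.filter fun r : Fin D.nroots => half D ≤ (r : ℕ)).card =
      (Finset.Ico (half D) D.nroots).card from
    Finset.card_bij (fun r _ => (r : ℕ)) (fun r hr => by simp at hr; simp [hr, r.2])
      (fun a _ b _ e => Fin.ext e)
      (fun b hb => ⟨⟨b, (Finset.mem_Ico.1 hb).2⟩, by simpa using (Finset.mem_Ico.1 hb).1, rfl⟩),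
    Nat.card_Ico]
  omega

theorem alternating_sum (q : ℕ) :
    ∑ J ∈ (Finset.univ : Finset (Fin D.rank)).powerset,
      (-1 : ℂ) ^ J.card * ((∑ u ∈ minSet hF J, q ^ invCard u : ℕ) : ℂ) = (q : ℂ) ^ half D := by
  obtain ⟨w, hw⟩ := exists_longest hF
  simp only [Nat.cast_sum, Nat.cast_pow]
  rw [alternating_sum_fun hF (fun u => (q : ℂ) ^ invCard u) hw, invCard_longest hF hw]

end Weyl

section Group

variable {D : ChevalleyDatum} {F : Type u} [Field F] (hF : Facts.{u} D) (J : Set ℕ)
include hF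

theorem pWord_mem_of_nWord_mem {w : List (Fin D.rank)}
    (h : (nWord hF w : GL D.Idx F) ∈ D.parabolicSubgroup F J) :
    pWord hF w ∈ wJ hF (idxSet D J) := by
  classical
  set S' : Set ↥(D.group F) := nGrp hF '' (idxSet D J : Set (Fin D.rank)) with hS'
  have hSub : S' ⊆ (bnPair hF (F := F)).S := by
    rintro _ ⟨i, -, rfl⟩; exact ⟨i, rfl⟩
  have hmap : ((bnPair hF (F := F)).parabolic S').map (D.group F).subtype =
      D.parabolicSubgroup F J := by
    rw [BNPair.parabolic, Subgroup.map_sup, ChevalleyDatum.parabolicSubgroup,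
      MonoidHom.map_closure]
    congr 1
    · exact Subgroup.map_subgroupOf_eq_of_le (borel_le_group hF)
    · congr 1
      ext g
      constructor
      · rintro ⟨_, ⟨i, hi, rfl⟩, rfl⟩
        exact ⟨i, mem_idxSet.1 hi, i.2, nG_val hF _ 1⟩
      · rintro ⟨j, hjJ, hj, e⟩
        exact ⟨nGrp hF ⟨j, hj⟩, ⟨⟨j, hj⟩, mem_idxSet.2 hjJ, rfl⟩,
          Units.ext ((nG_val hF _ 1).trans e.symm)⟩
  rw [← hmap] at h
  obtain ⟨n, hn, e⟩ := h
  obtain ⟨n', hn', hdc⟩ := (BN.mem_parabolic_iff hSub n).1 hn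
  have hnN : n ∈ (bnPair hF (F := F)).N := by
    show (n : GL D.Idx F) ∈ D.monomialSubgroup F
    rw [show (n : GL D.Idx F) = nWord hF w from e]
    exact nWord_mem hF w
  have hn'N : n' ∈ (bnPair hF (F := F)).N :=
    (Subgroup.closure_le _).2 (hSub.trans (bnPair hF).subset) hn'
  have hB := BN.eqv_of_mem_dc (P := bnPair hF (F := F)) hn'N hnN hdc
  obtain ⟨c, hc⟩ := (mem_diagonal_iff hF).1 ((borel_inf_monomial hF (F := F)).le
    (show ((n' : GL D.Idx F)⁻¹ * (n : GL D.Idx F)) ∈
      (D.borelSubgroup F ⊓ D.monomialSubgroup F : Subgroup (GL D.Idx F)) from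
      ⟨hB, Subgroup.mul_mem _ (Subgroup.inv_mem _ hn'N) hnN⟩))
  have hn'J : monPerm hF (n' : GL D.Idx F) ∈ wJ hF (idxSet D J) := by
    clear hc hB hdc e hn'N
    induction hn' using Subgroup.closure_induction with
    | mem x hx =>
      obtain ⟨i, hi, rfl⟩ := hx
      show monPerm hF (nS hF (i : ℕ) : GL D.Idx F) ∈ _
      rw [monPerm_eq hF (isMon_nS hF i)]
      exact Subgroup.subset_closure ⟨i, hi, rfl⟩
    | one => rw [Subgroup.coe_one, monPerm_eq hF (isMon_one hF)]; exact Subgroup.one_mem _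
    | mul a b ha hb iha ihb =>
      have hN : ∀ x ∈ Subgroup.closure S', (x : GL D.Idx F) ∈ D.monomialSubgroup F := fun x hx =>
        (Subgroup.closure_le _).2 (hSub.trans (bnPair hF).subset) hx
      rw [Subgroup.coe_mul, monPerm_eq hF (isMon_mul hF (isMon_monPerm hF (hN a ha))
        (isMon_monPerm hF (hN b hb)))]
      exact Subgroup.mul_mem _ iha ihb
    | inv a ha iha =>
      have haN : (a : GL D.Idx F) ∈ D.monomialSubgroup F :=
        (Subgroup.closure_le _).2 (hSub.trans (bnPair hF).subset) ha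
      have h2 := isMon_mul hF (isMon_monPerm hF haN) (isMon_monPerm hF (Subgroup.inv_mem _ haN))
      rw [mul_inv_cancel] at h2
      rw [Subgroup.coe_inv, eq_inv_of_mul_eq_one_right (isMon_unique hF h2 (isMon_one hF))]
      exact Subgroup.inv_mem _ iha
  have h3 : IsMon hF (nWord hF w : GL D.Idx F) (monPerm hF (n' : GL D.Idx F) * 1) := by
    rw [show (nWord hF w : GL D.Idx F) = (n' : GL D.Idx F) * torusHom c by
      rw [hc, mul_inv_cancel_left]; exact e.symm]
    exact isMon_mul hF (isMon_monPerm hF hn'N) (isMon_torus hF c)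
  rw [mul_one] at h3
  rwa [← isMon_unique hF h3 (isMon_nWord hF w)]

theorem card_parabolic [Fintype F] :
    Nat.card ↥(D.parabolicSubgroup F J) =
      Fintype.card F ^ half D * Nat.card ↥(D.diagonalSubgroup F) *
        poin hF (idxSet D J) (Fintype.card F) := by
  classical
  have hword : ∀ π : ↥(wJ hF (idxSet D J)), ∃ w, (∀ i ∈ w, i ∈ idxSet D J) ∧ pWord hF w = π :=
    fun π => exists_pWord_J hF π.2
  choose word hwJ hword using hword
  have hP : ∀ π, (nWord hF (word π) : GL D.Idx F) ∈ D.parabolicSubgroup F J := fun π =>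
    Subgroup.list_prod_mem _ fun g hg => by
      obtain ⟨i, hi, rfl⟩ := List.mem_map.1 hg
      exact nS_mem_parabolic hF J (hwJ π i hi)
  have hBP : D.borelSubgroup F ≤ D.parabolicSubgroup F J := borel_le_parabolic J
  let f : (Σ π : ↥(wJ hF (idxSet D J)),
      ↥(D.borelSubgroup F) × ↥(uMinus hF (π : Equiv.Perm (Fin D.nroots)) (F := F))) →
      ↥(D.parabolicSubgroup F J) := fun p =>
    ⟨(p.2.1 : GL D.Idx F) * nWord hF (word p.1) * (p.2.2 : GL D.Idx F),
      Subgroup.mul_mem _ (Subgroup.mul_mem _ (hBP p.2.1.2) (hP _))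
        (hBP (uMinus_le_borel hF _ p.2.2.2))⟩
  have hf : Function.Bijective f := by
    constructor
    · rintro ⟨π, b, x⟩ ⟨π', b', x'⟩ e
      have e' := congrArg Subtype.val e
      simp only [f] at e'
      have hp : ∀ σ, monPerm hF (nWord hF (word σ) : GL D.Idx F) = σ := fun σ => by
        rw [monPerm_eq hF (isMon_nWord hF _), hword]
      have h := normalForm_unique hF b.2 b'.2 (nWord_mem hF (word π)) (nWord_mem hF (word π'))
        (by rw [hp]; exact x.2) (by rw [hp]; exact x'.2) e'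
      have hπ : π = π' := by
        obtain ⟨c, hc⟩ := (mem_diagonal_iff hF).1 h.1
        apply Subtype.ext
        rw [← hp π, ← hp π']
        have hn : (nWord hF (word π') : GL D.Idx F) = nWord hF (word π) * torusHom c := by
          rw [hc, mul_inv_cancel_left]
        rw [monPerm_eq hF (isMon_nWord hF _), hn,
          monPerm_eq hF (isMon_mul hF (isMon_nWord hF _) (isMon_torus hF c)), mul_one]
      subst hπ
      obtain ⟨h1, h2⟩ := h.2 rfl
      rw [Subtype.ext h1, Subtype.ext h2]
    · intro g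
      obtain ⟨b, hb, w, x, hx, e⟩ := exists_normalForm hF
        (show (g : GL D.Idx F) ∈ D.group F from
          (sup_le (borel_le_group hF) ((Subgroup.closure_le _).2 fun y ⟨j, _, hj, ey⟩ => by
            rw [show y = nG hF (D.simple j) 1 from Units.ext (ey.trans (nG_val hF _ 1).symm)]
            exact nG_mem_group hF _ _) : D.parabolicSubgroup F J ≤ D.group F) g.2)
      have hnw : (nWord hF w : GL D.Idx F) ∈ D.parabolicSubgroup F J := by
        rw [show (nWord hF w : GL D.Idx F) = b⁻¹ * (g : GL D.Idx F) * x⁻¹ by rw [e]; group]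
        exact Subgroup.mul_mem _ (Subgroup.mul_mem _ (Subgroup.inv_mem _ (hBP hb)) g.2)
          (Subgroup.inv_mem _ (hBP (uMinus_le_borel hF _ hx)))
      set π : ↥(wJ hF (idxSet D J)) := ⟨pWord hF w, pWord_mem_of_nWord_mem hF J hnw⟩
      have h2 := isMon_mul hF (isMon_nWord hF (word π))
        (isMon_monPerm hF (Subgroup.inv_mem _ (nWord_mem hF (word π) (F := F))))
      rw [mul_inv_cancel] at h2
      have hinv : IsMon hF ((nWord hF (word π) : GL D.Idx F)⁻¹) (pWord hF (word π))⁻¹ := by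
        have h := isMon_monPerm hF (Subgroup.inv_mem _ (nWord_mem hF (word π) (F := F)))
        rwa [eq_inv_of_mul_eq_one_right (isMon_unique hF h2 (isMon_one hF))] at h
      have h4 := isMon_mul hF hinv (isMon_nWord hF w (F := F))
      rw [hword π, show ((π : Equiv.Perm (Fin D.nroots)))⁻¹ * pWord hF w = 1 from
        inv_mul_cancel _] at h4
      obtain ⟨c, hc⟩ := (mem_diagonal_iff hF).1 (mem_diagonal_of_isMon_one hF
        (Subgroup.mul_mem _ (Subgroup.inv_mem _ (nWord_mem hF _)) (nWord_mem hF w)) h4)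
      obtain ⟨c', hc'⟩ := nWord_torus hF (word π) c (F := F)
      refine ⟨⟨π, ⟨b * torusHom c',
        Subgroup.mul_mem _ hb (Subgroup.mem_sup_right (torusHom_mem hF c'))⟩, ⟨x, hx⟩⟩,
        Subtype.ext ?_⟩
      show b * torusHom c' * nWord hF (word π) * x = (g : GL D.Idx F)
      rw [e, mul_assoc b, ← hc', hc, mul_inv_cancel_left]
  let : Fintype ↥(wJ hF (idxSet D J)) := Fintype.ofFinite _
  rw [← Nat.card_congr (Equiv.ofBijective f hf), Nat.card_sigma]
  have hterm : ∀ π : ↥(wJ hF (idxSet D J)),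
      Nat.card (↥(D.borelSubgroup F) × ↥(uMinus hF (π : Equiv.Perm (Fin D.nroots)) (F := F))) =
        Nat.card ↥(D.borelSubgroup F) * Fintype.card F ^ invCard (π : Equiv.Perm (Fin D.nroots)) := by
    intro π
    have hn := isMon_nWord hF (word π) (F := F)
    rw [hword π] at hn
    rw [Nat.card_prod, card_uMinus hF hn]
  rw [Finset.sum_congr rfl fun π _ => hterm π, ← Finset.mul_sum, card_borel hF,
    card_posUnipotent hF, poin]
  congr 1
  exact (Finset.sum_subtype _ (p := fun π => π ∈ wJ hF (idxSet D J))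
    (fun π => by rw [Set.Finite.mem_toFinset, SetLike.mem_coe])
    (fun π => Fintype.card F ^ invCard π)).symm

theorem index_parabolic [Fintype F] :
    ((D.parabolicSubgroup F J).subgroupOf (D.group F)).index =
      ∑ u ∈ minSet hF (idxSet D J), Fintype.card F ^ invCard u := by
  classical
  have hle : D.parabolicSubgroup F J ≤ D.group F :=
    sup_le (borel_le_group hF) ((Subgroup.closure_le _).2 fun y ⟨j, _, hj, ey⟩ => by
      rw [show y = nG hF (D.simple j) 1 from Units.ext (ey.trans (nG_val hF _ 1).symm)]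
      exact nG_mem_group hF _ _)
  have he := Subgroup.card_mul_index ((D.parabolicSubgroup F J).subgroupOf (D.group F))
  rw [Nat.card_congr (Subgroup.subgroupOfEquivOfLe hle).toEquiv, card_parabolic hF J,
    card_group hF, poin_univ_eq hF (idxSet D J)] at he
  have hpos : 0 < Fintype.card F ^ half D * Nat.card ↥(D.diagonalSubgroup F) *
      poin hF (idxSet D J) (Fintype.card F) := by
    rw [← card_parabolic hF J]; exact Nat.card_pos
  apply Nat.eq_of_mul_eq_mul_left hpos
  rw [he]
  ring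

end Group

end Cfsg.Agent.Chev
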