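import Cfsg.Agent.Chev.Basic

/-!
The elements `n_p` of the fundamental roots, their action by conjugation, and the formula for
`h_r(t)` for every root `r`.
-/

set_option autoImplicit false

namespace Cfsg.Agent.Chev

open Cfsg.Lie
open scoped MatrixGroups

universe u

theorem prod_zpow_eq {G : Type*} [CommGroup G] (t : G) {n : ℕ} (f : Fin n → ℤ) :
    ∏ k, t ^ f k = t ^ ∑ k, f k := by
  induction n with
  | zero => simp
  | succ n ih => rw [Fin.prod_univ_castSucc, Fin.sum_univ_castSucc, ih, zpow_add]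

variable {D : ChevalleyDatum} {F : Type u} [Field F] (hF : Facts.{u} D)
include hF

open Classical in
/-- The signs of `n_p`. -/
noncomputable def etaN (i : ℕ) : ℕ → ℤ :=
  if hi : i < D.rank then (hF.n_simple i hi).choose else fun _ => 1

theorem etaN_spec {i : ℕ} (hi : i < D.rank) :
    (∀ s < D.nroots, etaN hF i s = 1 ∨ etaN hF i s = -1) ∧ etaN hF i (D.simple i) = -1 ∧
    (∀ s < D.nroots, etaN hF i s * etaN hF i (D.reflectRoot i s) =
      (-1) ^ (D.cartan i s).natAbs) ∧
    (∀ s < D.nroots, etaN hF i (D.neg s) = etaN hF i s) ∧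
    (∀ (F : Type u) [Field F] (t : F), t ≠ 0 →
      D.nMat F (D.simple i) t = nShape D i (etaN hF i) t t⁻¹) ∧
    (∀ (F : Type u) [Field F] (s : ℕ), s < D.nroots → ∀ t : F,
      nShape D i (etaN hF i) (1 : F) 1 * D.x F s t =
        D.x F (D.reflectRoot i s) ((etaN hF i s : F) * t) * nShape D i (etaN hF i) (1 : F) 1) := by
  rw [etaN, dif_pos hi]
  exact (hF.n_simple i hi).choose_spec

theorem etaN_cast_sq {i s : ℕ} (hi : i < D.rank) (hs : s < D.nroots) :
    ((etaN hF i s : ℤ) : F) * ((etaN hF i s : ℤ) : F) = 1 := by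
  rcases (etaN_spec hF hi).1 s hs with e | e <;> rw [e] <;> simp

/-- The sign of `n_p` at `s`, as a unit. -/
noncomputable def etaU (i s : ℕ) (hi : i < D.rank) (hs : s < D.nroots) : Fˣ :=
  ⟨(etaN hF i s : ℤ), (etaN hF i s : ℤ), etaN_cast_sq hF hi hs, etaN_cast_sq hF hi hs⟩

/-- The representative `n_p = n_p(1)` of a fundamental reflection. -/
def nS (i : ℕ) : GL D.Idx F := nG hF (D.simple i) 1

theorem nS_val {i : ℕ} (hi : i < D.rank) :
    ((nS hF i : GL D.Idx F) : Matrix D.Idx D.Idx F) = nShape D i (etaN hF i) (1 : F) 1 := by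
  rw [nS, nG_val, (etaN_spec hF hi).2.2.2.2.1 F 1 one_ne_zero, inv_one]

theorem refl_eq_iff {i s u : ℕ} (hi : i < D.rank) (hs : s < D.nroots) (hu : u < D.nroots) :
    D.reflectRoot i s = u ↔ s = D.reflectRoot i u :=
  ⟨fun e => by rw [← e, hF.refl_refl i hi s hs], fun e => by rw [e, hF.refl_refl i hi u hu]⟩

theorem nS_conj_x {i s : ℕ} (hi : i < D.rank) (hs : s < D.nroots) (t : F) :
    nS hF i * xG hF s t = xG hF (D.reflectRoot i s) ((etaN hF i s : F) * t) * nS hF i := by
  apply Units.ext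
  rw [Units.val_mul, Units.val_mul, nS_val hF hi, xG_val, xG_val]
  exact (etaN_spec hF hi).2.2.2.2.2 F s hs t

theorem nG_inv (r : ℕ) (t : F) : (nG hF r t)⁻¹ = nG hF r (-t) := by
  simp only [nG, mul_inv_rev, xG_inv, inv_neg, neg_neg, mul_assoc]

theorem nS_conj_nG {i r : ℕ} (hi : i < D.rank) (hr : r < D.nroots) (t : F) :
    nS hF i * nG hF r t = nG hF (D.reflectRoot i r) ((etaN hF i r : F) * t) * nS hF i := by
  simp only [nG]
  rw [← mul_assoc, ← mul_assoc, nS_conj_x hF hi hr, mul_assoc _ (nS hF i),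
    nS_conj_x hF hi (neg_lt hF hr), mul_assoc, mul_assoc (xG hF (D.reflectRoot i (D.neg r)) _),
    nS_conj_x hF hi hr, hF.refl_neg i hi r hr, (etaN_spec hF hi).2.2.2.1 r hr]
  have e : (etaN hF i r : F) * -t⁻¹ = -((etaN hF i r : F) * t)⁻¹ := by
    rw [mul_neg, mul_inv, DivisionMonoid.inv_eq_of_mul _ _ (etaN_cast_sq (F := F) hF hi hr)]
  rw [e]
  simp only [mul_assoc]

theorem nShape_mul_torus {i : ℕ} (hi : i < D.rank) (η : ℕ → ℤ) (c c' : ℕ → F)
    (hcc : ∀ s < D.nroots, chi D c' (D.reflectRoot i s) = chi D c s) :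
    nShape D i η (1 : F) 1 * torus D c = torus D c' * nShape D i η (1 : F) 1 := by
  classical
  ext a b
  simp only [torus, Matrix.mul_diagonal, Matrix.diagonal_mul]
  rcases a with j' | u <;> rcases b with j | s
  · simp
  · simp [nShape]
  · simp [nShape]
  · simp only [nShape, Matrix.of_apply, Sum.elim_inr]
    by_cases e : (u : ℕ) = D.reflectRoot i s
    · rw [if_pos e, e, hcc s s.2]; ring
    · rw [if_neg e, zero_mul, mul_zero]

theorem chiU_refl {i : ℕ} (hi : i < D.rank) (c : Fin D.rank → Fˣ) {s : ℕ} (hs : s < D.nroots) :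
    chiU (c * Pi.mulSingle ⟨i, hi⟩ (chiU c (D.simple i))⁻¹) (D.reflectRoot i s) = chiU c s := by
  have hp := hF.simple_lt i hi
  generalize ha : (chiU c (D.simple i))⁻¹ = a
  simp only [chiU, Pi.mul_apply, mul_zpow, Finset.prod_mul_distrib]
  have h1 : ∏ j : Fin D.rank, (Pi.mulSingle (⟨i, hi⟩ : Fin D.rank) a j) ^
      D.cartan j (D.reflectRoot i s) = a ^ D.cartan i (D.reflectRoot i s) := by
    rw [Finset.prod_eq_single (⟨i, hi⟩ : Fin D.rank)]
    · rw [Pi.mulSingle_eq_same]
    · intro b _ hb; simp [hb]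
    · intro hn; exact absurd (Finset.mem_univ _) hn
  rw [h1, hF.cartan_refl i hi s hs i hi, hF.cartan_self i hi, ← ha, chiU,
    ← Finset.prod_inv_distrib, ← Finset.prod_zpow, ← Finset.prod_mul_distrib]
  refine Finset.prod_congr rfl fun j _ => ?_
  rw [hF.cartan_refl i hi s hs j j.2, inv_zpow, ← zpow_neg, ← zpow_mul, ← zpow_add]
  congr 1; ring

theorem nS_conj_torus {i : ℕ} (hi : i < D.rank) (c : Fin D.rank → Fˣ) :
    nS hF i * torusHom c =
      torusHom (c * Pi.mulSingle ⟨i, hi⟩ (chiU c (D.simple i))⁻¹) * nS hF i := by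
  apply Units.ext
  rw [Units.val_mul, Units.val_mul, nS_val hF hi, torusHom_val, torusHom_val]
  refine nShape_mul_torus hF hi _ _ _ fun s hs => ?_
  have e : ∀ (d : Fin D.rank → Fˣ) (s : ℕ),
      chi D (fun j => if h : j < D.rank then (d ⟨j, h⟩ : F) else 1) s = (chiU d s : F) := by
    intro d s; simp [chi, chiU]
  rw [e, e, chiU_refl hF hi c hs]

/-- The simple parameters of `h_r(t)`. -/
noncomputable def coH (r : ℕ) : Fˣ →* (Fin D.rank → Fˣ) where
  toFun t j := t ^ coef D r j
  map_one' := by funext j; simp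
  map_mul' a b := by funext j; simp [mul_zpow]

theorem coH_simple {i : ℕ} (hi : i < D.rank) (t : Fˣ) :
    coH (D.simple i) t = Pi.mulSingle ⟨i, hi⟩ t := by
  funext j
  show t ^ coef D (D.simple i) j = _
  rw [hF.coef_simple i hi j j.2]
  by_cases e : j = ⟨i, hi⟩
  · subst e; simp
  · rw [if_neg (fun e' => e (Fin.ext e')), Pi.mulSingle_eq_of_ne e, zpow_zero]

theorem coH_refl {i r : ℕ} (hi : i < D.rank) (hr : r < D.nroots) (t : Fˣ) :
    (coH (D.reflectRoot i r) t : Fin D.rank → Fˣ) =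
      coH r t * Pi.mulSingle ⟨i, hi⟩
        (chiU (coH r t : Fin D.rank → Fˣ) (D.simple i))⁻¹ := by
  funext j
  show t ^ coef D (D.reflectRoot i r) j = t ^ coef D r j * _
  rw [hF.coef_refl i hi r hr j j.2]
  by_cases e : j = ⟨i, hi⟩
  · subst e
    rw [if_pos rfl, Pi.mulSingle_eq_same]
    have : chiU (coH r t : Fin D.rank → Fˣ) (D.simple i) =
        t ^ (∑ k : Fin D.rank, coef D r k * D.cartan k (D.simple i)) := by
      rw [chiU]
      refine Eq.trans ?_ (prod_zpow_eq t _)
      refine Finset.prod_congr rfl fun k _ => ?_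
      rw [zpow_mul]; rfl
    rw [this, ← zpow_neg, ← zpow_add]
    congr 1
  · rw [if_neg (fun e' => e (Fin.ext e')), Pi.mulSingle_eq_of_ne e, mul_one, sub_zero]

theorem hG_simple {i : ℕ} (hi : i < D.rank) (t : Fˣ) :
    hG hF (D.simple i) (t : F) = torusHom (coH (D.simple i) t) := by
  classical
  rw [coH_simple hF hi]
  apply Units.ext
  obtain ⟨hsgn, -, hee, -, hN, -⟩ := etaN_spec hF hi
  rw [hG, Units.val_mul, nG_val, nG_val, hN F _ (Units.ne_zero t),
    hN F _ (neg_ne_zero.2 one_ne_zero), torusHom_val, torus]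
  ext a b
  rw [Matrix.mul_apply, Fintype.sum_sum_type, Matrix.diagonal_apply]
  rcases b with j | s
  · rcases a with j' | u
    · simp only [nShape, Matrix.of_apply, Sum.elim_inl, Sum.elim_inr, mul_zero,
        Finset.sum_const_zero, add_zero, Sum.inl.injEq, mul_sub, mul_ite, mul_one,
        Finset.sum_sub_distrib, Finset.sum_ite_eq', Finset.mem_univ, if_true]
      rw [Finset.sum_eq_single (⟨i, hi⟩ : Fin D.rank)
        (fun k _ hk => if_neg (fun e => hk (Fin.ext e)))
        (fun hn => absurd (Finset.mem_univ _) hn)]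
      simp only [if_true]
      by_cases e : (j' : ℕ) = i
      · have e' : j' = ⟨i, hi⟩ := Fin.ext e
        subst e'
        simp only [if_true, hF.cartan_self i hi]
        push_cast; ring
      · have e' : j' ≠ ⟨i, hi⟩ := fun e' => e (congrArg Fin.val e')
        simp [e, e']
    · simp [nShape]
  · rcases a with j' | u
    · simp [nShape]
    · simp only [nShape, Matrix.of_apply, Sum.elim_inl, Sum.elim_inr, mul_zero, zero_mul,
        Finset.sum_const_zero, zero_add, Sum.inr.injEq]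
      rw [Finset.sum_eq_single ⟨D.reflectRoot i s, hF.refl_lt i hi s s.2⟩
        (fun k _ hk => by
          rw [if_neg (show ¬ (k : ℕ) = D.reflectRoot i s from fun e => hk (Fin.ext e)), mul_zero])
        (fun hn => absurd (Finset.mem_univ _) hn)]
      simp only [if_true, hF.refl_refl i hi s s.2]
      by_cases e : u = s
      · subst e
        rw [if_pos rfl, if_pos rfl]
        have hA : D.cartan i (D.reflectRoot i u) = -D.cartan i u := by
          rw [hF.cartan_refl i hi u u.2 i hi, hF.cartan_self i hi]; ring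
        have hchi : chi D (fun j => if h : j < D.rank then
            ((Pi.mulSingle (⟨i, hi⟩ : Fin D.rank) t : Fin D.rank → Fˣ) ⟨j, h⟩ : F) else 1) u =
            (t : F) ^ D.cartan i u := by
          rw [chi, Finset.prod_eq_single (⟨i, hi⟩ : Fin D.rank)]
          · simp [hi]
          · intro k _ hk; simp [hk]
          · intro hn; exact absurd (Finset.mem_univ _) hn
        rw [hchi, hA, neg_neg]
        have hee' : ((etaN hF i u : ℤ) : F) * ((etaN hF i (D.reflectRoot i u) : ℤ) : F) =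
            (-1 : F) ^ (D.cartan i u).natAbs := by
          rw [← Int.cast_mul, hee u u.2]; simp
        have hsgn : ∀ z : ℤ, (t : F) ^ z.toNat * (t : F)⁻¹ ^ (-z).toNat *
            ((-1 : F) ^ (-z).toNat * (-1 : F)⁻¹ ^ z.toNat) =
              (t : F) ^ z * (-1 : F) ^ z.natAbs := by
          intro z
          rcases Int.eq_nat_or_neg z with ⟨n, rfl | rfl⟩ <;> simp
        have hsq : ((-1 : F) ^ (D.cartan i u).natAbs) * ((-1 : F) ^ (D.cartan i u).natAbs) = 1 := by
          rw [← mul_pow]; simp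
        linear_combination (((t : F) ^ (D.cartan i u).toNat * (t : F)⁻¹ ^ (-D.cartan i u).toNat *
            ((-1 : F) ^ (-D.cartan i u).toNat * (-1 : F)⁻¹ ^ (D.cartan i u).toNat)) * hee') +
          ((-1 : F) ^ (D.cartan i u).natAbs) * hsgn (D.cartan i u) +
          ((t : F) ^ D.cartan i u) * hsq
      · rw [if_neg (fun e' => e (Fin.ext e')), if_neg e, zero_mul]

/-- `h_r(t)` is the torus element given by the coroot of `r`. -/
theorem hG_eq_torus {r : ℕ} (hr : r < D.nroots) (t : Fˣ) :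
    hG hF r (t : F) = torusHom (coH r t) := by
  refine hF.root_induction (fun r => ∀ t : Fˣ, hG hF r (t : F) = torusHom (coH r t))
    (fun i hi t => hG_simple hF hi t) (fun i hi r hr ih t => ?_) r hr t
  have hh : ∀ a b : Fˣ, hG hF r (a : F) * hG hF r (b : F) = hG hF r ((a * b : Fˣ) : F) := by
    intro a b; rw [ih, ih, ih, map_mul, map_mul]
  apply mul_right_cancel (b := nS hF i)
  rw [coH_refl hF hi hr, ← nS_conj_torus hF hi, ← ih t]
  have hK : ∀ a : F, nG hF (D.reflectRoot i r) a * nS hF i =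
      nS hF i * nG hF r ((etaN hF i r : F) * a) := fun a => by
    rw [nS_conj_nG hF hi hr, ← mul_assoc, etaN_cast_sq hF hi hr, one_mul]
  rw [hG, mul_assoc, hK, ← mul_assoc, hK, mul_assoc]
  congr 1
  rcases (etaN_spec hF hi).1 r hr with e | e <;> rw [e]
  · simp [hG]
  · have h1 : nG hF r (1 : F) * nG hF r (1 : F) = (hG hF r (-1 : F))⁻¹ := by
      rw [hG, mul_inv_rev, nG_inv, neg_neg]
    have h2 : nG hF r (-(t : F)) = hG hF r (-(t : F)) * nG hF r 1 := by
      rw [hG, mul_assoc, ← nG_inv hF r (1 : F), inv_mul_cancel, mul_one]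
    simp only [Int.cast_neg, Int.cast_one, neg_one_mul, neg_neg]
    rw [h2, mul_assoc, h1, mul_inv_eq_iff_eq_mul]
    have := hh t (-1)
    simpa using this.symm

omit hF in
theorem hMat_eq {r : ℕ} (hF : Facts.{u} D) (hr : r < D.nroots) {t : F} (ht : t ≠ 0) :
    D.hMat F r t = ((torusHom (coH r (Units.mk0 t ht)) : GL D.Idx F) : Matrix D.Idx D.Idx F) := by
  rw [← hG_eq_torus hF hr, hG_val, Units.val_mk0]

omit hF in
theorem chiU_mulSingle {i : ℕ} (hi : i < D.rank) (c : Fˣ) (s : ℕ) :
    chiU (D := D) (Pi.mulSingle (⟨i, hi⟩ : Fin D.rank) c) s = c ^ D.cartan i s := by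
  rw [chiU, Finset.prod_eq_single (⟨i, hi⟩ : Fin D.rank)]
  · rw [Pi.mulSingle_eq_same]
  · intro b _ hb; simp [hb]
  · intro hn; exact absurd (Finset.mem_univ _) hn

end Cfsg.Agent.Chev
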