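import Cfsg.Agent.Chev.Parabolic
import Cfsg.Agent.Chev.GroupCard
import Cfsg.Agent.Chev.Sound

/-!
The unipotent radical of a proper parabolic subgroup contains its centralizer.
-/

set_option autoImplicit false

namespace Cfsg.Agent.Chev

open Cfsg.Lie
open scoped MatrixGroups

universe u

variable (D : ChevalleyDatum) (C : Cert)

/-- For two different nodes `i`, `k`: some positive root involving `k` is moved by the reflection
`i` in the coordinate `i`, and two of them differ by the fundamental root `i`. -/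
noncomputable def chkLinked : Bool :=
  allBelow (fun i => allBelow (fun k => Nat.beq i k ||
    (((List.range D.nroots).any fun r => Nat.ble (half D) r && !Nat.beq r (D.simple i) &&
        !zbeq (C.cR r k) 0 && !zbeq (C.cR (C.cW i r) i) (C.cR r i)) &&
      ((List.range D.nroots).any fun r => Nat.ble (half D) r && !zbeq (C.cR r k) 0 &&
        decide (C.cA i r < 0) && ((List.range D.nroots).any fun s => Nat.ble (half D) s &&
          !zbeq (C.cR s k) 0 &&
          allBelow (fun j => zbeq (C.cA j s) (C.cA j r + C.cA j (D.simple i))) D.rank))))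
    D.rank) D.rank

variable {D} {C} {F : Type u} [Field F]

section

variable (hF : Facts.{u} D)
include hF

theorem posUnipotent_le_normalizer_rootsFrom (m : ℕ) (hm : half D ≤ m) :
    D.posUnipotent F ≤
      Subgroup.normalizer (Subgroup.closure (rootsFrom hF m (F := F)) : Set (GL D.Idx F)) := by
  rw [posUnipotent_eq hF, Subgroup.closure_le]
  rintro g ⟨k, t, hk, hkn, rfl⟩
  have key : ∀ (v : F), ∀ x ∈ (rootsFrom hF m : Set (GL D.Idx F)),
      xG hF k (-v) * x * xG hF k v ∈ Subgroup.closure (rootsFrom hF m) := by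
    rintro v x ⟨s, a, hms, hs, rfl⟩
    by_cases hsk : s = k
    · subst hsk
      rw [xG_mul, xG_mul, show -v + a + v = a by ring]
      exact Subgroup.subset_closure ⟨s, a, hms, hs, rfl⟩
    have hne : s ≠ D.neg k := by
      have := (neg_lt_half_iff hF hkn).2 hk; omega
    rw [mul_assoc, xG_comm hF hkn hs hsk hne, ← mul_assoc, ← mul_assoc, xG_mul,
      neg_add_cancel, xG_zero, one_mul]
    refine Subgroup.mul_mem _ (Subgroup.subset_closure ⟨s, a, hms, hs, rfl⟩) (wordG_mem hF ?_)
    intro p hp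
    have := commWord_gt hF hkn hs hk (by omega) _ _ p hp
    exact Subgroup.subset_closure ⟨p.1, p.2, by omega, this.2.2, rfl⟩
  refine mem_normalizer_closure (fun x hx => ?_) (fun x hx => ?_)
  · have := key (-t) x hx
    rwa [neg_neg, ← xG_inv] at this
  · have := key t x hx
    rwa [← xG_inv] at this

/-- A conjugate in `U` of a positive root element has the same leading part. -/
theorem conj_lead {r : ℕ} (hr : r < D.nroots) (hp : half D ≤ r) {v : GL D.Idx F}
    (hv : v ∈ D.posUnipotent F) : ∀ a : F,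
      v * xG hF r a * v⁻¹ * (xG hF r a)⁻¹ ∈ Subgroup.closure (rootsFrom hF (r + 1)) := by
  have hN := posUnipotent_le_normalizer_rootsFrom hF (r + 1) (by omega) (F := F)
  let T : Subgroup (GL D.Idx F) :=
    { carrier := {v | v ∈ Subgroup.normalizer
        (Subgroup.closure (rootsFrom hF (r + 1) (F := F)) : Set (GL D.Idx F)) ∧ ∀ a : F,
        v * xG hF r a * v⁻¹ * (xG hF r a)⁻¹ ∈ Subgroup.closure (rootsFrom hF (r + 1))}
      one_mem' := ⟨one_mem _, fun a => by simp⟩
      mul_mem' := fun {v w} hv hw => ⟨mul_mem hv.1 hw.1, fun a => by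
        rw [show v * w * xG hF r a * (v * w)⁻¹ * (xG hF r a)⁻¹ =
          v * (w * xG hF r a * w⁻¹ * (xG hF r a)⁻¹) * v⁻¹ *
            (v * xG hF r a * v⁻¹ * (xG hF r a)⁻¹) by group]
        exact mul_mem ((Subgroup.mem_normalizer_iff.1 hv.1 _).1 (hw.2 a)) (hv.2 a)⟩
      inv_mem' := fun {v} hv => ⟨inv_mem hv.1, fun a => by
        have := (Subgroup.mem_normalizer_iff.1 (inv_mem hv.1) _).1 (inv_mem (hv.2 a))
        simpa [mul_assoc] using this⟩ }
  suffices h : D.posUnipotent F ≤ T from (h hv).2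
  rw [posUnipotent_eq hF, Subgroup.closure_le]
  rintro g ⟨k, t, hk, hkn, rfl⟩
  refine ⟨hN (mem_posUnipotent_of hF hkn hk t), fun a => ?_⟩
  by_cases hkr : k = r
  · subst hkr
    rw [xG_inv, xG_inv, xG_mul, xG_mul, xG_mul, show t + a + -t + -a = 0 by ring, xG_zero]
    exact one_mem _
  have hne : r ≠ D.neg k := by
    have := (neg_lt_half_iff hF hkn).2 hk; omega
  have e := xG_comm hF hkn hr (Ne.symm hkr) hne t a
  rw [show xG hF k t * xG hF r a * (xG hF k t)⁻¹ * (xG hF r a)⁻¹ =
    xG hF k t * xG hF r a * (xG hF r a * xG hF k t)⁻¹ by group,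
    show xG hF k t * xG hF r a =
      (xG hF r a * xG hF k t) * (wordG hF (D.commWord F k r t a))⁻¹ from
      eq_mul_inv_iff_mul_eq.2 e.symm]
  have hx : xG hF r a * xG hF k t ∈ D.posUnipotent F :=
    mul_mem (mem_posUnipotent_of hF hr hp a) (mem_posUnipotent_of hF hkn hk t)
  refine (Subgroup.mem_normalizer_iff.1 (hN hx) _).1 (inv_mem (wordG_mem hF fun p hp' => ?_))
  have := commWord_gt hF hkn hr hk hp _ _ p hp'
  exact Subgroup.subset_closure ⟨p.1, p.2, by omega, this.2.2, rfl⟩

theorem lead_zero {r : ℕ} (hr : r < D.nroots) (hp : half D ≤ r) {a : F}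
    (h : xG hF r a ∈ Subgroup.closure (rootsFrom hF (r + 1))) : a = 0 := by
  obtain ⟨t, ht⟩ := exists_prodFrom hF _ _ rfl (by omega) _ h
  have e : prodFrom hF r (fun s => if s = r then a else 0) =
      prodFrom hF r (fun s => if s = r then 0 else t s) := by
    rw [prodFrom_succ hF hr, prodFrom_succ hF hr, if_pos rfl, if_pos rfl, xG_zero, one_mul,
      prodFrom_congr hF (k := r + 1) (t' := t) (fun s h1 _ => if_neg (by omega)), ← ht]
    have : prodFrom hF (r + 1) (fun s => if s = r then a else 0) = 1 := by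
      refine Subgroup.mem_bot.1 (wordG_mem hF fun p hp => ?_)
      obtain ⟨s, hs, rfl⟩ := List.mem_map.1 hp
      rw [List.mem_range'_1] at hs
      simp [if_neg (show s ≠ r by omega), xG_zero]
    rw [this, mul_one]
  simpa using prodFrom_inj hF _ _ rfl hp e r le_rfl hr

/-- A positive root element times higher terms is a single root element only trivially. -/
theorem lead_eq {r s : ℕ} (hr : r < D.nroots) (hpr : half D ≤ r) (hs : s < D.nroots)
    (hps : half D ≤ s) {a b : F} (ha : a ≠ 0) {y : GL D.Idx F}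
    (hy : y ∈ Subgroup.closure (rootsFrom hF (r + 1))) (e : y * xG hF r a = xG hF s b) :
    r = s ∧ a = b := by
  rcases lt_trichotomy r s with h | rfl | h
  · refine absurd (lead_zero hF hr hpr ?_) ha
    rw [show xG hF r a = y⁻¹ * xG hF s b by rw [← e]; group]
    exact mul_mem (inv_mem hy) (Subgroup.subset_closure ⟨s, b, h, hs, rfl⟩)
  · refine ⟨rfl, (sub_eq_zero.1 (lead_zero hF hr hpr (a := b - a) ?_)).symm⟩
    rw [sub_eq_add_neg, ← xG_mul, ← e, ← xG_inv, mul_inv_cancel_right]
    exact hy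
  · have hmono : Subgroup.closure (rootsFrom hF (r + 1) (F := F)) ≤
        Subgroup.closure (rootsFrom hF (s + 1)) :=
      Subgroup.closure_mono fun g ⟨k, t, h1, h2, h3⟩ => ⟨k, t, by omega, h2, h3⟩
    have hb : b = 0 := lead_zero hF hs hps (by
      rw [← e]
      exact mul_mem (hmono hy) (Subgroup.subset_closure ⟨r, a, h, hr, rfl⟩))
    rw [hb, xG_zero] at e
    refine absurd (lead_zero hF hr hpr ?_) ha
    rw [show xG hF r a = y⁻¹ by rw [← mul_eq_one_iff_inv_eq.1 e]]
    exact inv_mem hy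

end

variable (h : Checks D C) (hF : Facts.{u} D) (J : Set ℕ)
include h hF

theorem weyl_eq_one_of_fix (hc : chkLinked D C = true) {π : Equiv.Perm (Fin D.nroots)}
    (hπ : π ∈ weyl hF) {k : Fin D.rank} (hk : (k : ℕ) ∉ J)
    (hfix : ∀ r : Fin D.nroots, half D ≤ (r : ℕ) → ¬ D.InRootSub J r → π r = r) : π = 1 := by
  simp only [chkLinked, allBelow_iff, Bool.or_eq_true, Bool.and_eq_true, List.any_eq_true,
    List.mem_range, nble_iff, nbeq_iff, Bool.not_eq_true', nbeq_false_iff] at hc
  have hout : ∀ r : Fin D.nroots, coef D r k ≠ 0 → ¬ D.InRootSub J r :=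
    fun r hne hin => hne (hin.2 k k.2 hk)
  refine eq_one_of_pos hF hπ fun i => ?_
  by_cases hik : i = k
  · subst hik
    rw [hfix _ (simple_split h i.2).2.1 (hout _ ?_)]
    · exact (simple_split h i.2).2.1
    · show coef D (D.simple i) i ≠ 0
      rw [hF.coef_simple i i.2 i i.2, if_pos rfl]
      exact one_ne_zero
  rcases hc i i.2 k k.2 with e | ⟨⟨r, hr, ⟨⟨hp, hrs⟩, hrk⟩, hri⟩, -⟩
  · exact absurd (Fin.ext e) hik
  set r₀ : Fin D.nroots := ⟨r, hr⟩
  set r₁ := wPerm hF i r₀ with hr₁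
  have hc0 : ∀ j : Fin D.rank, coef D r₁ j = coef D r₀ j -
      (if (j : ℕ) = i then ∑ l : Fin D.rank, coef D r₀ l * D.cartan l (D.simple i) else 0) :=
    fun j => by rw [hr₁, wPerm_val]; exact hF.coef_refl i i.2 r hr j j.2
  have hne0 : coef D r₀ k ≠ 0 := fun e => by
    have h' : C.cR r k = 0 := (coef_eq h k.2 hr).symm.trans e
    rw [h'] at hrk
    exact absurd hrk (by decide)
  have hne1 : coef D r₁ k ≠ 0 := by
    rw [hc0, if_neg fun e => hik (Fin.ext e).symm, sub_zero]; exact hne0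
  have hd : coef D r₁ i ≠ coef D r₀ i := fun e => by
    rw [hr₁, wPerm_val, (refl_split h i.2 hr).1, coef_eq h i.2 (refl_split h i.2 hr).2.1,
      coef_eq h i.2 hr] at e
    rw [show C.cR (C.cW i r₀) i = C.cR r i from e] at hri
    exact absurd hri (by rw [zbeq_iff.2 rfl]; decide)
  have hp1 : half D ≤ (r₁ : ℕ) := by
    rw [hr₁, wPerm_val]; exact hF.refl_pos i i.2 r hr hp hrs
  obtain ⟨w, rfl⟩ := exists_pWord hF hπ
  have hlin : ∀ j : Fin D.rank, (coef D r₁ i - coef D r₀ i) * coef D (pWord hF w (sRoot hF i) : ℕ) j =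
      coef D r₁ j - coef D r₀ j := fun j => by
    have e1 := coef_pWord hF w r₁ j
    have e0 := coef_pWord hF w r₀ j
    rw [hfix r₁ hp1 (hout _ hne1)] at e1
    rw [hfix r₀ hp (hout _ hne0)] at e0
    conv_rhs => rw [e1, e0]
    rw [← Finset.sum_sub_distrib, Finset.sum_eq_single i]
    · ring
    · intro l _ hl
      rw [hc0 l, if_neg fun e => hl (Fin.ext e), sub_zero, sub_self]
    · intro hn; exact absurd (Finset.mem_univ _) hn
  refine (pos_iff_exists_coef hF (Fin.is_lt _)).2 ⟨i, i.2, ?_⟩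
  have := hlin i
  rw [mul_eq_left₀ (sub_ne_zero.2 hd)] at this
  rw [this]; exact one_pos

theorem torus_eq_one_of_fix (hc : chkLinked D C = true) {c : Fin D.rank → Fˣ} {k : Fin D.rank}
    (hk : (k : ℕ) ∉ J)
    (hfix : ∀ r : Fin D.nroots, half D ≤ (r : ℕ) → ¬ D.InRootSub J r → chiU c r = 1) :
    (torusHom c : GL D.Idx F) = 1 := by
  simp only [chkLinked, allBelow_iff, Bool.or_eq_true, Bool.and_eq_true, List.any_eq_true,
    List.mem_range, nble_iff, nbeq_iff, Bool.not_eq_true', nbeq_false_iff] at hc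
  have hout : ∀ r : Fin D.nroots, coef D r k ≠ 0 → ¬ D.InRootSub J r :=
    fun r hne hin => hne (hin.2 k k.2 hk)
  have hs : ∀ i : Fin D.rank, chiU c (D.simple i) = 1 := by
    intro i
    by_cases hik : i = k
    · subst hik
      refine hfix (sRoot hF i) (simple_split h i.2).2.1 (hout _ ?_)
      show coef D (D.simple i) i ≠ 0
      rw [hF.coef_simple i i.2 i i.2, if_pos rfl]
      exact one_ne_zero
    rcases hc i i.2 k k.2 with e | ⟨-, ⟨r, hr, ⟨⟨hp, hrk⟩, -⟩, ⟨s, hs, ⟨hps, hsk⟩, hadd⟩⟩⟩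
    · exact absurd (Fin.ext e) hik
    have hnz : ∀ m (hm : m < D.nroots), zbeq (C.cR m k) 0 = false → coef D m k ≠ 0 :=
      fun m hm hb e => by
        rw [show C.cR m k = 0 from (coef_eq h k.2 hm).symm.trans e] at hb
        exact absurd hb (by decide)
    have h1 := hfix ⟨r, hr⟩ hp (hout _ (hnz r hr hrk))
    have h2 := hfix ⟨s, hs⟩ hps (hout _ (hnz s hs hsk))
    simp only [zbeq_iff] at hadd
    have h3 : chiU c s = chiU c r * chiU c (D.simple i) := by
      rw [chiU, chiU, chiU, ← Finset.prod_mul_distrib]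
      refine Finset.prod_congr rfl fun j _ => ?_
      rw [← zpow_add, cartan_eq h j.2 hs, cartan_eq h j.2 hr,
        cartan_eq h j.2 (simple_split h i.2).1, hadd j j.2]
    simp only at h1 h2
    rw [h2, h1, one_mul] at h3
    exact h3.symm
  have hall : ∀ r < D.nroots, chiU c r = 1 := by
    refine hF.root_induction (fun r => chiU c r = 1) (fun i hi => hs ⟨i, hi⟩) ?_
    intro i hi r hr e
    have : chiU c (D.reflectRoot i r) =
        chiU c r * ((chiU c (D.simple i)) ^ D.cartan i r)⁻¹ := by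
      rw [chiU, chiU, chiU, ← Finset.prod_zpow, ← Finset.prod_inv_distrib,
        ← Finset.prod_mul_distrib]
      refine Finset.prod_congr rfl fun j _ => ?_
      rw [hF.cartan_refl i hi r hr j j.2, zpow_sub, ← zpow_mul, mul_comm (D.cartan i r)]
    rw [this, e, hs ⟨i, hi⟩, one_zpow, inv_one, mul_one]
  exact (torusHom_eq_one_iff c).2 fun s => hall s s.2

variable (hk : ∃ i, i < D.rank ∧ i ∉ J) (hc : chkLinked D C = true)
include hk hc

theorem centralizer_radical_le_borel {g : GL D.Idx F} (hg : g ∈ D.group F)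
    (hcen : ∀ y ∈ D.unipotentRadical F J, g * y * g⁻¹ = y) :
    ∃ v ∈ D.posUnipotent F, g = v := by
  obtain ⟨k, hkr, hkJ⟩ := hk
  obtain ⟨b, hb, w, x, hx, rfl⟩ := exists_normalForm hF hg
  set n := (nWord hF w : GL D.Idx F) with hn
  have hmon := isMon_nWord hF w (F := F)
  have hbP : b ∈ Subgroup.normalizer (D.unipotentRadical F J : Set (GL D.Idx F)) :=
    parabolic_le_normalizer hF J (borel_le_parabolic J hb)
  obtain ⟨v, hv, c, hvc⟩ := (mem_borel_iff hF).1 (mul_mem (uMinus_le_borel hF _ hx) hb)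
  have hcen' : ∀ r : Fin D.nroots, half D ≤ (r : ℕ) → ¬ D.InRootSub J r →
      pWord hF w r = r ∧ ∃ u : F, u ≠ 0 ∧
        v * xG hF r (chiU c r : F) * v⁻¹ = xG hF r u ∧ n * xG hF r u * n⁻¹ = xG hF r 1 := by
    intro r hr hJ
    have hy : xG hF r (1 : F) ∈ D.unipotentRadical F J :=
      Subgroup.subset_closure ⟨r, 1, (hF.posRoot_iff r r.2).2 hr, hJ, rfl⟩
    set s := (pWord hF w)⁻¹ r with hs
    have hsr : pWord hF w s = r := app_inv _ _
    obtain ⟨d, hd0, hd⟩ := hmon s
    have hns : n * xG hF s d⁻¹ * n⁻¹ = xG hF r 1 := by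
      rw [hn, hd, hsr, mul_inv_cancel₀ hd0, mul_inv_cancel_right]
    have e1 : n * ((x * b) * xG hF r 1 * (x * b)⁻¹) * n⁻¹ = xG hF r 1 := by
      have := hcen _ ((Subgroup.mem_normalizer_iff.1 hbP _).1 hy)
      calc n * ((x * b) * xG hF r 1 * (x * b)⁻¹) * n⁻¹
          = b⁻¹ * ((b * n * x) * (b * xG hF r 1 * b⁻¹) * (b * n * x)⁻¹) * b := by group
        _ = xG hF r 1 := by rw [this]; group
    have e2 : x * b * xG hF r 1 * (x * b)⁻¹ = xG hF s d⁻¹ :=
      mul_left_cancel (mul_right_cancel (e1.trans hns.symm))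
    have e3 : v * xG hF r (chiU c r : F) * v⁻¹ = xG hF s d⁻¹ := by
      rw [← e2, hvc]
      have e4 := torusHom_conj hF c r.2 (1 : F)
      rw [mul_one] at e4
      calc v * xG hF r (chiU c r : F) * v⁻¹
          = v * (xG hF r (chiU c r : F) * torusHom c) * (v * torusHom c)⁻¹ := by group
        _ = v * (torusHom c * xG hF r 1) * (v * torusHom c)⁻¹ := by rw [e4]
        _ = _ := by group
    have hps : half D ≤ (s : ℕ) := by
      by_contra hneg
      have hU : v * xG hF r (chiU c r : F) * v⁻¹ ∈ D.posUnipotent F :=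
        mul_mem (mul_mem hv (mem_posUnipotent_of hF r.2 hr _)) (inv_mem hv)
      rw [e3] at hU
      have := borel_inf_upper hF (Subgroup.mem_sup_left hU)
        (negUnipotent_le_upperGroup hF (mem_negUnipotent_of hF s.2 (not_le.1 hneg) d⁻¹))
      exact inv_ne_zero hd0 ((xG_eq_one_iff hF s.2).1 this)
    obtain ⟨hrs, -⟩ := lead_eq hF r.2 hr s.2 hps (Units.ne_zero (chiU c r))
      (conj_lead hF r.2 hr hv (chiU c r : F)) (by rw [inv_mul_cancel_right]; exact e3)
    have hrs' : s = r := (Fin.ext hrs).symm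
    refine ⟨by rw [← hrs']; exact hsr.trans hrs'.symm, d⁻¹, inv_ne_zero hd0, ?_, ?_⟩
    · rw [e3, hrs']
    · rw [← hns, hrs']
  have hw1 : pWord hF w = 1 := weyl_eq_one_of_fix h hF J hc (pWord_mem hF w) (k := ⟨k, hkr⟩) hkJ
    fun r hr hJ => (hcen' r hr hJ).1
  have hgB : b * n * x ∈ D.borelSubgroup F := by
    have hnH := nWord_mem_diagonal hF w hw1 (F := F)
    exact mul_mem (mul_mem hb (Subgroup.mem_sup_right hnH)) (uMinus_le_borel hF _ hx)
  obtain ⟨v', hv', c', e⟩ := (mem_borel_iff hF).1 hgB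
  have hc1 : (torusHom c' : GL D.Idx F) = 1 := by
    refine torus_eq_one_of_fix h hF J hc (k := ⟨k, hkr⟩) hkJ fun r hr hJ => Units.ext ?_
    have hy : xG hF r (1 : F) ∈ D.unipotentRadical F J :=
      Subgroup.subset_closure ⟨r, 1, (hF.posRoot_iff r r.2).2 hr, hJ, rfl⟩
    have := hcen _ hy
    rw [e] at this
    have e4 := torusHom_conj hF c' r.2 (1 : F)
    rw [mul_one] at e4
    have e5 : v' * xG hF r (chiU c' r : F) * v'⁻¹ = xG hF r 1 := by
      calc v' * xG hF r (chiU c' r : F) * v'⁻¹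
          = v' * (xG hF r (chiU c' r : F) * torusHom c') * (v' * torusHom c')⁻¹ := by group
        _ = v' * (torusHom c' * xG hF r 1) * (v' * torusHom c')⁻¹ := by rw [e4]
        _ = (v' * torusHom c') * xG hF r 1 * (v' * torusHom c')⁻¹ := by group
        _ = _ := this
    exact (lead_eq hF r.2 hr r.2 hr (Units.ne_zero (chiU c' r))
      (conj_lead hF r.2 hr hv' (chiU c' r : F)) (by rw [inv_mul_cancel_right]; exact e5)).2
  exact ⟨v', hv', by rw [e, hc1, mul_one]⟩

/-- `C_G(U_J) ≤ U_J`. -/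
theorem centralizer_radical_le {g : GL D.Idx F} (hg : g ∈ D.group F)
    (hcen : ∀ y ∈ D.unipotentRadical F J, g * y * g⁻¹ = y) :
    g ∈ D.unipotentRadical F J := by
  obtain ⟨π, hπ, hiff⟩ := exists_longest_J hF (idxSet D J)
  obtain ⟨w, hw, hwπ⟩ := exists_pWord_J hF hπ
  have hmon := isMon_nWord hF w (F := F)
  rw [hwπ] at hmon
  set n := (nWord hF w : GL D.Idx F) with hn
  obtain ⟨v, hv, hgv⟩ := centralizer_radical_le_borel h hF J hk hc hg hcen
  have hnP : n ∈ D.parabolicSubgroup F J :=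
    Subgroup.list_prod_mem _ fun y hy => by
      obtain ⟨i, hi, rfl⟩ := List.mem_map.1 hy
      exact nS_mem_parabolic hF J (hw i hi)
  have hN := parabolic_le_normalizer hF J hnP
  have hnG : n ∈ D.group F := monomial_le_group hF (nWord_mem hF w)
  have hcen2 : ∀ y ∈ D.unipotentRadical F J, n * g * n⁻¹ * y * (n * g * n⁻¹)⁻¹ = y := by
    intro y hy
    have h1 : n⁻¹ * y * n ∈ D.unipotentRadical F J := by
      have := (Subgroup.mem_normalizer_iff.1 (inv_mem hN) y).1 hy
      rwa [inv_inv] at this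
    calc n * g * n⁻¹ * y * (n * g * n⁻¹)⁻¹ = n * (g * (n⁻¹ * y * n) * g⁻¹) * n⁻¹ := by group
      _ = y := by rw [hcen _ h1]; group
  obtain ⟨v', hv', e'⟩ := centralizer_radical_le_borel h hF J hk hc
    (mul_mem (mul_mem hnG hg) (inv_mem hnG)) hcen2
  rw [unipotentRadical_eq hF J hiff, mem_uPlus_iff hF hmon]
  exact ⟨hgv ▸ hv, e' ▸ hv'⟩

end Cfsg.Agent.Chev
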