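import Mathlib.LinearAlgebra.Matrix.SpecialLinearGroup
import Mathlib.LinearAlgebra.Matrix.Notation
import Mathlib.Tactic.LinearCombination
import Mathlib.Tactic.FieldSimp
import Mathlib.Tactic.Group
import Mathlib.Tactic.Ring
import Mathlib.Tactic.FinCases
import Mathlib.Algebra.Field.Basic
import Mathlib.Algebra.Group.Submonoid.Membership

/-!
Homomorphisms out of `SL₂` from the relations of root elements and a torus.
-/

set_option autoImplicit false

namespace Cfsg.Agent.Chev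

open Matrix

universe u v

/-- Relations of a rank-one root datum in a group. -/
structure SL2Data (F : Type u) [Field F] (G : Type v) [Group G] where
  X : F → G
  Y : F → G
  H : Fˣ →* G
  X_add : ∀ s t, X s * X t = X (s + t)
  Y_add : ∀ s t, Y s * Y t = Y (s + t)
  H_X : ∀ (a : Fˣ) (t : F), H a * X t = X ((a : F) ^ 2 * t) * H a
  H_def : ∀ a : Fˣ, H a = (X a * Y (-(a : F)⁻¹) * X a) * (X (-1) * Y 1 * X (-1))
  W_X : ∀ t : F, (X 1 * Y (-1) * X 1) * X t = Y (-t) * (X 1 * Y (-1) * X 1)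

variable {F : Type u} [Field F] {G : Type v} [Group G] (S : SL2Data F G)

namespace SL2Data

/-- The monomial element. -/
def n (t : F) : G := S.X t * S.Y (-t⁻¹) * S.X t

/-- `H` on a nonzero scalar. -/
noncomputable def h (t : F) : G := by
  classical
  exact if ht : t = 0 then 1 else S.H (Units.mk0 t ht)

theorem X_zero : S.X 0 = 1 := mul_eq_left.1 (by rw [S.X_add, add_zero] : S.X 0 * S.X 0 = S.X 0)

theorem Y_zero : S.Y 0 = 1 := mul_eq_left.1 (by rw [S.Y_add, add_zero] : S.Y 0 * S.Y 0 = S.Y 0)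

theorem h_of_ne {t : F} (ht : t ≠ 0) : S.h t = S.H (Units.mk0 t ht) := by rw [h, dif_neg ht]

theorem h_mul {s t : F} (hs : s ≠ 0) (ht : t ≠ 0) : S.h s * S.h t = S.h (s * t) := by
  rw [S.h_of_ne hs, S.h_of_ne ht, S.h_of_ne (mul_ne_zero hs ht), ← map_mul]
  congr 1
  ext; rfl

theorem h_X {a : F} (ha : a ≠ 0) (t : F) : S.h a * S.X t = S.X (a ^ 2 * t) * S.h a := by
  rw [S.h_of_ne ha, S.H_X]; rfl

theorem n_neg (t : F) : S.n (-t) = (S.n t)⁻¹ := by
  apply eq_inv_of_mul_eq_one_left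
  simp only [n, inv_neg, neg_neg]
  rw [show S.X (-t) * S.Y t⁻¹ * S.X (-t) * (S.X t * S.Y (-t⁻¹) * S.X t) =
    S.X (-t) * S.Y t⁻¹ * (S.X (-t) * S.X t) * S.Y (-t⁻¹) * S.X t by group, S.X_add, neg_add_cancel,
    X_zero, mul_one, mul_assoc (S.X (-t)), S.Y_add, add_neg_cancel, Y_zero, mul_one, S.X_add,
    neg_add_cancel, X_zero]

theorem n_eq {t : F} (ht : t ≠ 0) : S.n t = S.h t * S.n 1 := by
  rw [S.h_of_ne ht, S.H_def, Units.val_mk0]
  rw [show S.X (-1) * S.Y 1 * S.X (-1) = S.n (-1) by simp [n]]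
  rw [show S.X t * S.Y (-t⁻¹) * S.X t = S.n t from rfl, mul_assoc, n_neg, inv_mul_cancel, mul_one]

theorem n_sq : S.n 1 * S.n 1 = S.h (-1) := by
  have e : S.n (-1) = S.h (-1) * S.n 1 := S.n_eq (neg_ne_zero.2 one_ne_zero)
  rw [n_neg] at e
  have h2 : S.h (-1) * S.h (-1) = 1 := by
    rw [h_mul S (neg_ne_zero.2 one_ne_zero) (neg_ne_zero.2 one_ne_zero), neg_mul_neg, one_mul,
      h_of_ne S one_ne_zero, show Units.mk0 (1 : F) one_ne_zero = 1 from Units.ext rfl, map_one]
  have h1 : S.h (-1) * (S.n 1 * S.n 1) = 1 := by rw [← mul_assoc, ← e, inv_mul_cancel]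
  rw [← mul_right_inj (S.h (-1)), h1, h2]

theorem X_n (u : F) : S.X u * S.n 1 = S.n 1 * S.Y (-u) := by
  have h1 : ∀ t : F, S.n 1 * S.X t = S.Y (-t) * S.n 1 := fun t => by
    simp only [n, inv_one]; exact S.W_X t
  have h2 : S.n 1 * S.n 1 * S.X u = S.X u * (S.n 1 * S.n 1) := by
    rw [n_sq, h_X S (neg_ne_zero.2 one_ne_zero), neg_one_sq, one_mul]
  rw [← mul_right_inj (S.n 1)]
  calc S.n 1 * (S.X u * S.n 1) = (S.n 1 * S.X u) * S.n 1 := by rw [mul_assoc]
    _ = S.Y (-u) * (S.n 1 * S.n 1) := by rw [h1, mul_assoc]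
    _ = S.n 1 * (S.n 1 * S.Y (-u)) := ?_
  rw [← mul_assoc (S.n 1) (S.n 1)]
  have h3 : S.Y (-u) = S.n 1 * S.X u * (S.n 1)⁻¹ := by rw [h1, mul_inv_cancel_right]
  rw [h3]
  calc S.n 1 * S.X u * (S.n 1)⁻¹ * (S.n 1 * S.n 1) = S.n 1 * (S.X u * S.n 1) := by group
    _ = S.n 1 * (S.n 1 * S.n 1 * S.X u) * (S.n 1)⁻¹ := by rw [h2]; group
    _ = S.n 1 * S.n 1 * (S.n 1 * S.X u * (S.n 1)⁻¹) := by group

theorem Y_eq {v : F} : S.Y v = S.X v⁻¹ * S.n (-v⁻¹) * S.X v⁻¹ := by
  simp only [n, inv_neg, inv_inv, neg_neg]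
  rw [show S.X v⁻¹ * (S.X (-v⁻¹) * S.Y v * S.X (-v⁻¹)) * S.X v⁻¹ =
    (S.X v⁻¹ * S.X (-v⁻¹)) * S.Y v * (S.X (-v⁻¹) * S.X v⁻¹) by group, S.X_add, S.X_add,
    add_neg_cancel, neg_add_cancel, X_zero, one_mul, mul_one]

/-- The Bruhat form with the given entries. -/
noncomputable def bruhat (a b c d : F) : G := by
  classical
  exact if c = 0 then S.X (a * b) * S.h a else S.X (a / c) * S.n (-c⁻¹) * S.X (d / c)

/-- The map on `SL₂` given by the Bruhat decomposition. -/
noncomputable def toFun (g : SpecialLinearGroup (Fin 2) F) : G :=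
  S.bruhat (g.1 0 0) (g.1 0 1) (g.1 1 0) (g.1 1 1)

/-- Upper unitriangular element. -/
def upper (b : F) : SpecialLinearGroup (Fin 2) F := ⟨!![1, b; 0, 1], by simp [det_fin_two]⟩

/-- The standard monomial element. -/
def weyl : SpecialLinearGroup (Fin 2) F := ⟨!![0, 1; -1, 0], by simp [det_fin_two]⟩

theorem det_eq (g : SpecialLinearGroup (Fin 2) F) :
    g.1 0 0 * g.1 1 1 - g.1 0 1 * g.1 1 0 = 1 := by
  rw [← det_fin_two]; exact g.2

theorem toFun_upper (b : F) : S.toFun (upper b) = S.X b := by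
  simp only [toFun, bruhat, upper, cons_val', cons_val_zero, cons_val_one, empty_val', cons_val_fin_one,
    of_apply, if_true, one_mul]
  rw [h_of_ne S one_ne_zero, show Units.mk0 (1 : F) one_ne_zero = 1 from Units.ext rfl, map_one,
    mul_one]

theorem toFun_weyl : S.toFun (weyl (F := F)) = S.n 1 := by
  simp [toFun, bruhat, weyl, X_zero, n]

theorem toFun_mul_upper (g : SpecialLinearGroup (Fin 2) F) (b : F) :
    S.toFun (g * upper b) = S.toFun g * S.toFun (upper b) := by
  rw [toFun_upper]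
  have e00 : (g * upper b).1 0 0 = g.1 0 0 := by rw [SpecialLinearGroup.coe_mul]; simp [upper, Matrix.mul_apply, Fin.sum_univ_two]
  have e01 : (g * upper b).1 0 1 = g.1 0 0 * b + g.1 0 1 := by
    rw [SpecialLinearGroup.coe_mul]; simp [upper, Matrix.mul_apply, Fin.sum_univ_two]
  have e10 : (g * upper b).1 1 0 = g.1 1 0 := by rw [SpecialLinearGroup.coe_mul]; simp [upper, Matrix.mul_apply, Fin.sum_univ_two]
  have e11 : (g * upper b).1 1 1 = g.1 1 0 * b + g.1 1 1 := by
    rw [SpecialLinearGroup.coe_mul]; simp [upper, Matrix.mul_apply, Fin.sum_univ_two]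
  have hd := det_eq g
  show S.bruhat ((g * upper b).1 0 0) ((g * upper b).1 0 1) ((g * upper b).1 1 0)
    ((g * upper b).1 1 1) = S.bruhat (g.1 0 0) (g.1 0 1) (g.1 1 0) (g.1 1 1) * S.X b
  rw [e00, e01, e10, e11]
  simp only [bruhat]
  by_cases hc : g.1 1 0 = 0
  · rw [if_pos hc, if_pos hc]
    have ha : g.1 0 0 ≠ 0 := by rintro e; rw [e, hc] at hd; simp at hd
    rw [mul_assoc, h_X S ha, ← mul_assoc, S.X_add]
    congr 2; ring
  · rw [if_neg hc, if_neg hc, mul_assoc (S.X (g.1 0 0 / g.1 1 0) * S.n _), S.X_add]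
    congr 2
    field_simp
    ring

theorem toFun_mul_weyl (g : SpecialLinearGroup (Fin 2) F) :
    S.toFun (g * weyl) = S.toFun g * S.toFun weyl := by
  rw [toFun_weyl]
  have e00 : (g * weyl).1 0 0 = -g.1 0 1 := by
    rw [SpecialLinearGroup.coe_mul]; simp [weyl, Matrix.mul_apply, Fin.sum_univ_two]
  have e01 : (g * weyl).1 0 1 = g.1 0 0 := by
    rw [SpecialLinearGroup.coe_mul]; simp [weyl, Matrix.mul_apply, Fin.sum_univ_two]
  have e10 : (g * weyl).1 1 0 = -g.1 1 1 := by
    rw [SpecialLinearGroup.coe_mul]; simp [weyl, Matrix.mul_apply, Fin.sum_univ_two]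
  have e11 : (g * weyl).1 1 1 = g.1 1 0 := by
    rw [SpecialLinearGroup.coe_mul]; simp [weyl, Matrix.mul_apply, Fin.sum_univ_two]
  have hdet := det_eq g
  show S.bruhat ((g * weyl).1 0 0) ((g * weyl).1 0 1) ((g * weyl).1 1 0) ((g * weyl).1 1 1) =
    S.bruhat (g.1 0 0) (g.1 0 1) (g.1 1 0) (g.1 1 1) * S.n 1
  rw [e00, e01, e10, e11]
  simp only [bruhat]
  generalize g.1 0 0 = a, g.1 0 1 = b, g.1 1 0 = c, g.1 1 1 = d at hdet ⊢
  by_cases hc : c = 0
  · subst hc
    have hd : d ≠ 0 := by rintro rfl; simp at hdet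
    have ha : a ≠ 0 := by rintro rfl; simp at hdet
    have e : -(-d)⁻¹ = a := by
      rw [inv_neg, neg_neg]; exact inv_eq_of_mul_eq_one_left (by linear_combination hdet)
    rw [if_pos rfl, if_neg (neg_ne_zero.2 hd), zero_div, X_zero, mul_one, e, n_eq S ha, ← mul_assoc]
    congr 3
    field_simp
    linear_combination (-b) * hdet
  · by_cases hd : d = 0
    · subst hd
      have hb : b ≠ 0 := by rintro rfl; simp at hdet
      have hbc : -b = c⁻¹ :=
        (inv_eq_of_mul_eq_one_left (show -b * c = 1 by linear_combination hdet)).symm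
      rw [if_neg hc, if_pos neg_zero, zero_div, X_zero, mul_one, hbc,
        n_eq S (neg_ne_zero.2 (inv_ne_zero hc)), mul_assoc, mul_assoc, n_sq,
        h_mul S (neg_ne_zero.2 (inv_ne_zero hc)) (neg_ne_zero.2 one_ne_zero), neg_mul_neg, mul_one]
      congr 2
      field_simp
    · rw [if_neg hc, if_neg (neg_ne_zero.2 hd)]
      have hu : d / c ≠ 0 := div_ne_zero hd hc
      rw [mul_assoc _ (S.X (d / c)) (S.n 1), X_n, Y_eq S]
      rw [n_eq S (neg_ne_zero.2 (inv_ne_zero hc))]
      have hh : S.h (-c⁻¹) * S.n 1 * S.n 1 = S.h c⁻¹ := by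
        rw [mul_assoc, n_sq, h_mul S (neg_ne_zero.2 (inv_ne_zero hc)) (neg_ne_zero.2 one_ne_zero),
          neg_mul_neg, mul_one]
      simp only [inv_neg, neg_neg]
      rw [show S.X (a / c) * (S.h (-c⁻¹) * S.n 1) *
          (S.n 1 * (S.X (-(d / c)⁻¹) * S.n ((d / c)⁻¹) * S.X (-(d / c)⁻¹))) =
        S.X (a / c) * (S.h (-c⁻¹) * S.n 1 * S.n 1) * S.X (-(d / c)⁻¹) * S.n ((d / c)⁻¹) *
          S.X (-(d / c)⁻¹) by group, hh, mul_assoc (S.X (a / c)), h_X S (inv_ne_zero hc),
        ← mul_assoc, S.X_add, n_eq S (inv_ne_zero hu), n_eq S (inv_ne_zero hd)]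
      rw [show S.X (a / c + (c⁻¹) ^ 2 * -(d / c)⁻¹) * S.h c⁻¹ * (S.h (d / c)⁻¹ * S.n 1) =
        S.X (a / c + (c⁻¹) ^ 2 * -(d / c)⁻¹) * ((S.h c⁻¹ * S.h (d / c)⁻¹) * S.n 1) by group,
        h_mul S (inv_ne_zero hc) (inv_ne_zero hu)]
      congr 2
      · congr 1
        field_simp
        linear_combination (-1 : F) * hdet
      · congr 2
        field_simp
      · field_simp

theorem closure_generators :
    Submonoid.closure (Set.range (upper (F := F)) ∪ {weyl}) = ⊤ := by
  set M := Submonoid.closure (Set.range (upper (F := F)) ∪ {weyl}) with hM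
  have hX : ∀ b : F, upper b ∈ M := fun b => Submonoid.subset_closure (Or.inl ⟨b, rfl⟩)
  have hW : (weyl : SpecialLinearGroup (Fin 2) F) ∈ M := Submonoid.subset_closure (Or.inr rfl)
  let low : F → SpecialLinearGroup (Fin 2) F := fun u => ⟨!![1, 0; u, 1], by simp [det_fin_two]⟩
  have hlow : ∀ u, low u ∈ M := fun u => by
    have : low u = weyl * upper (-u) * (weyl * weyl * weyl) := by
      apply Subtype.ext
      simp only [SpecialLinearGroup.coe_mul]
      ext i j
      fin_cases i <;> fin_cases j <;>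
        simp [low, upper, weyl, Matrix.mul_apply, Fin.sum_univ_two]
    rw [this]
    exact M.mul_mem (M.mul_mem hW (hX _)) (M.mul_mem (M.mul_mem hW hW) hW)
  let mono : F → F → SpecialLinearGroup (Fin 2) F := fun t _ => upper t * low (-t⁻¹) * upper t
  have hmono : ∀ t, mono t t ∈ M := fun t => M.mul_mem (M.mul_mem (hX _) (hlow _)) (hX _)
  rw [eq_top_iff]
  intro g _
  have hd := det_eq g
  by_cases hc : g.1 1 0 = 0
  · have ha : g.1 0 0 ≠ 0 := by rintro e; rw [e, hc] at hd; simp at hd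
    have : g = upper (g.1 0 0 * g.1 0 1) * (mono (g.1 0 0) (g.1 0 0) * mono (-1) (-1)) := by
      have hd' : g.1 1 1 = (g.1 0 0)⁻¹ :=
        eq_inv_of_mul_eq_one_right (by rw [hc] at hd; linear_combination hd)
      apply Subtype.ext
      simp only [mono, SpecialLinearGroup.coe_mul]
      ext i j
      fin_cases i <;> fin_cases j <;>
        simp [low, upper, Matrix.mul_apply, Fin.sum_univ_two, hc, hd', inv_neg] <;>
        field_simp <;> ring
    rw [this]
    exact M.mul_mem (hX _) (M.mul_mem (hmono _) (hmono _))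
  · have : g = upper (g.1 0 0 / g.1 1 0) * mono (-(g.1 1 0)⁻¹) 0 * upper (g.1 1 1 / g.1 1 0) := by
      apply Subtype.ext
      simp only [mono, SpecialLinearGroup.coe_mul]
      ext i j
      fin_cases i <;> fin_cases j <;>
        simp [low, upper, Matrix.mul_apply, Fin.sum_univ_two, inv_neg] <;>
        field_simp <;> first
          | linear_combination
          | linear_combination hd
          | linear_combination (-1 : F) * hd
    rw [this]
    exact M.mul_mem (M.mul_mem (hX _)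
      (M.mul_mem (M.mul_mem (hX _) (hlow _)) (hX _))) (hX _)

/-- The homomorphism from `SL₂`. -/
noncomputable def hom : SpecialLinearGroup (Fin 2) F →* G where
  toFun := S.toFun
  map_one' := by
    rw [show (1 : SpecialLinearGroup (Fin 2) F) = upper 0 by
      apply Subtype.ext; simp [upper, Matrix.one_fin_two], toFun_upper, X_zero]
  map_mul' g h := by
    have hm : h ∈ Submonoid.closure (Set.range (upper (F := F)) ∪ {weyl}) := by
      rw [closure_generators]; exact Submonoid.mem_top _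
    induction hm using Submonoid.closure_induction generalizing g with
    | mem x hx =>
      rcases hx with ⟨b, rfl⟩ | rfl
      · exact toFun_mul_upper S g b
      · exact toFun_mul_weyl S g
    | one =>
      rw [mul_one, show (1 : SpecialLinearGroup (Fin 2) F) = upper 0 by
        apply Subtype.ext; simp [upper, Matrix.one_fin_two], toFun_upper, X_zero, mul_one]
    | mul x y _ _ hx hy => rw [← mul_assoc, hy, hx, mul_assoc, ← hy x]

theorem hom_upper (g : SpecialLinearGroup (Fin 2) F) (t : F)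
    (e : (g : Matrix (Fin 2) (Fin 2) F) = !![1, t; 0, 1]) : S.hom g = S.X t := by
  rw [show g = upper t from Subtype.ext e]
  exact toFun_upper S t

theorem hom_lower (g : SpecialLinearGroup (Fin 2) F) (t : F)
    (e : (g : Matrix (Fin 2) (Fin 2) F) = !![1, 0; t, 1]) : S.hom g = S.Y t := by
  have : g = weyl * upper (-t) * weyl⁻¹ := by
    rw [eq_mul_inv_iff_mul_eq]
    apply Subtype.ext
    rw [SpecialLinearGroup.coe_mul, SpecialLinearGroup.coe_mul, e]
    ext i j
    fin_cases i <;> fin_cases j <;> simp [upper, weyl, Matrix.mul_apply, Fin.sum_univ_two]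
  rw [this, map_mul, map_mul, map_inv]
  show S.toFun weyl * S.toFun (upper (-t)) * (S.toFun weyl)⁻¹ = S.Y t
  rw [toFun_weyl, toFun_upper, mul_inv_eq_iff_eq_mul]
  simp only [n, inv_one]
  rw [S.W_X, neg_neg]

end SL2Data

end Cfsg.Agent.Chev
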