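import Cfsg.Agent.Chev.CoxeterTorus
import Cfsg.Agent.Chev.SubCover

/-!
Self-centralising cyclic subgroups of adjoint groups with non-trivial covering: the image of a
twisted maximal torus of the covering cut out of a unimodular datum.
-/

set_option autoImplicit false

namespace Cfsg.Agent.Chev

open Cfsg.Lie
open scoped MatrixGroups

universe u

/-- Reflection of a weight, in the coordinates dual to the simple parameters. -/
def reflW (D : ChevalleyDatum) (i : Fin D.rank) (u : Fin D.rank → ℤ) : Fin D.rank → ℤ :=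
  fun l => u l - u i * D.cartan l (D.simple i)

/-- The action of a word on weights. -/
def wordW (D : ChevalleyDatum) (w : List (Fin D.rank)) (u : Fin D.rank → ℤ) : Fin D.rank → ℤ :=
  w.foldr (reflW D) u

/-- The value of a weight. -/
noncomputable def evW {D : ChevalleyDatum} {F : Type u} [Field F] (u : Fin D.rank → ℤ)
    (c : Fin D.rank → Fˣ) : Fˣ := ∏ l : Fin D.rank, c l ^ u l

/-- Certificate of a twisted torus of the covering group. -/
structure ScCert (D : ChevalleyDatum) where
  w : List (Fin D.rank)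
  r0 : ℕ
  u0 : Fin D.rank → ℤ
  phi : Fin (D.rank + 1) → ℤ
  P : Fin D.rank → Fin D.rank → ℤ
  cand : List ℕ
  bezA : Fin D.rank → ℤ
  bezB : Fin D.rank → ℤ

namespace ScCert

variable {D : ChevalleyDatum} (C : ScCert D)

/-- The orbit of the base weight. -/
def U (j : ℕ) : Fin D.rank → ℤ := (wordW D C.w)^[j] C.u0

/-- The exponent of a weight, as a polynomial in `q`. -/
def EW (u : Fin D.rank → ℤ) (j : Fin D.rank) : ℤ := ∑ l : Fin D.rank, u l * C.P l j

/-- The exponent of a root. -/
def E (s : ℕ) : Fin D.rank → ℤ := C.EW fun l => D.cartan l s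

/-- The orbit of the base root. -/
def orb (j : ℕ) : ℕ := (wStep D C.w)^[j] C.r0

/-- The difference of the exponent from the one of the base root. -/
def dE (s : ℕ) (j : Fin D.rank) : ℤ := C.E s j - C.E C.r0 j

/-- A polynomial of degree below the rank is not a multiple of the order, at any `q ≥ 2`. -/
def sepB (e : Fin D.rank → ℤ) : Bool :=
  posB (List.ofFn fun j : Fin (D.rank + 1) => C.phi j - Fin.snoc (α := fun _ => ℤ) e 0 j) &&
    posB (List.ofFn fun j : Fin (D.rank + 1) => C.phi j + Fin.snoc (α := fun _ => ℤ) e 0 j) &&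
    (posB (List.ofFn e) || posB (List.ofFn fun j => -e j))

/-- The weight whose image is the `i`-th coordinate. -/
def back (i : Fin D.rank) : Fin D.rank → ℤ :=
  wordW D C.w.reverse fun l => if l = i then 1 else 0

/-- The value of `Φ` at one. -/
def index : ℤ := ∑ j : Fin (D.rank + 1), C.phi j

/-- The conditions on a certificate. -/
structure Valid : Prop where
  r0_lt : C.r0 < D.nroots
  rank_pos : 1 < D.rank
  phi_zero : C.phi 0 = 1
  rel : ∀ i : Fin D.rank, ∑ j : Fin (D.rank + 1), C.phi j * C.U j i = 0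
  left_inv : ∀ i l : Fin D.rank,
    ∑ j : Fin D.rank, C.P i j * C.U j l = if i = l then 1 else 0
  back_eq : ∀ i l : Fin D.rank, wordW D C.w (C.back i) l = if l = i then 1 else 0
  equiv : ∀ i : Fin D.rank, ∃ k ∈ List.ofFn (C.EW (C.back i)), ∀ j : Fin (D.rank + 1),
    Fin.cons (α := fun _ => ℤ) 0 (C.EW (C.back i)) j -
      Fin.snoc (α := fun _ => ℤ) (C.P i) 0 j = k * C.phi j
  regular : ∀ s : Fin D.nroots, C.sepB (C.E s) = true
  sep : ∀ s : Fin D.nroots, (s : ℕ) ∈ C.cand ∨ C.sepB (C.dE s) = true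
  rigid : ∀ l ∈ List.sections (List.ofFn fun j : Fin D.rank =>
      C.cand.map fun c => (wStep D C.w)^[(j : ℕ)] c),
    (∀ i j : Fin D.rank, pairing D (l.getD i 0) (l.getD j 0) =
      pairing D (C.orb i) (C.orb j)) → ∀ j : Fin D.rank, l.getD j 0 = C.orb j
  inj : ∀ s t : Fin D.nroots,
    (∀ j : Fin D.rank, pairing D (C.orb j) s = pairing D (C.orb j) t) → s = t
  index_pos : 0 < C.index
  mod_one : ∀ s : Fin D.nroots, C.index ∣ ∑ j : Fin D.rank, C.E s j
  bez_a : ∀ j : Fin D.rank, ∑ i : Fin D.rank, C.bezA i * C.E (D.simple i) j =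
    if (j : ℕ) = 0 then C.index else 0
  bez_b : ∀ j : Fin D.rank, ∑ i : Fin D.rank, C.bezB i * C.E (D.simple i) j =
    if (j : ℕ) = 1 then 1 else if (j : ℕ) = 0 then -1 else 0

theorem evW_reflW {D : ChevalleyDatum} (hF : Facts.{u} D) {F : Type u} [Field F] (i : Fin D.rank)
    (v : Fin D.rank → ℤ) (c : Fin D.rank → Fˣ) : evW (reflW D i v) (reflC D i c) = evW v c := by
  have hci : chiU (reflC D i c) (D.simple i) = (chiU c (D.simple i))⁻¹ := by
    rw [reflC, chiU_mul', chiU_mulSingle', hF.cartan_self i i.2, zpow_two,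
      mul_inv_cancel_left]
  have h1 : evW (reflW D i v) (reflC D i c) =
      evW v (reflC D i c) * (chiU (reflC D i c) (D.simple i)) ^ (-v i) := by
    simp only [evW, chiU, ← Finset.prod_zpow, ← Finset.prod_mul_distrib, reflW]
    refine Finset.prod_congr rfl fun l _ => ?_
    rw [← zpow_mul, ← zpow_add]
    congr 1
    ring
  have h2 : evW v (reflC D i c) = evW v c * ((chiU c (D.simple i))⁻¹) ^ v i := by
    simp only [evW, reflC, Pi.mul_apply, mul_zpow, Finset.prod_mul_distrib]
    congr 1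
    rw [Finset.prod_eq_single i (fun l _ hl => by rw [Pi.mulSingle_eq_of_ne hl, one_zpow])
      (fun h => absurd (Finset.mem_univ _) h), Pi.mulSingle_eq_same]
  rw [h1, h2, hci, mul_assoc, ← zpow_add, add_neg_cancel, zpow_zero, mul_one]

theorem evW_wordW {D : ChevalleyDatum} (hF : Facts.{u} D) {F : Type u} [Field F] :
    ∀ (w : List (Fin D.rank)) (v : Fin D.rank → ℤ) (c : Fin D.rank → Fˣ),
      evW (wordW D w v) (wordC D w c) = evW v c := by
  intro w
  induction w with
  | nil => intro v c; rfl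
  | cons i w ih =>
    intro v c
    show evW (reflW D i (wordW D w v)) (reflC D i (wordC D w c)) = _
    rw [evW_reflW hF, ih]

variable {D' : ChevalleyDatum} {C} (hC : C.Valid) (hF : Facts.{u} D) (hE : Extra D)
  (hF' : Facts.{u} D') (S : SubDatum D D')
  (hD' : ∀ {k : Type u} [Field k],
    Function.Injective (torusHom : (Fin D'.rank → kˣ) →* GL D'.Idx k))
  {F : Type u} [Field F] [Fintype F]
include hC hF hE hF' S hD'

theorem exists_selfCentralizing (q : ℕ) (hq : Fintype.card F = q) (Φ : ℕ)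
    (hΦ : (Φ : ℤ) = evFin C.phi q) (δ : ℕ) (hδ : (δ : ℤ) = C.index) :
    ∃ H : Subgroup ↥(D.group F), IsCyclic ↥H ∧ Nat.card ↥H = Φ / Nat.gcd δ (q - 1) ∧
      Subgroup.centralizer (H : Set ↥(D.group F)) = H := by
  classical
  have hq2 : 2 ≤ q := hq ▸ Fintype.one_lt_card
  have hqz : (2 : ℤ) ≤ q := by exact_mod_cast hq2
  let k := AlgebraicClosure F
  let ι : F →+* k := algebraMap F k
  let σ : k →+* k := (FiniteField.frobeniusAlgHom F k).toRingHom
  have hσ : ∀ t : k, σ t = t ^ q := fun t => by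
    show FiniteField.frobeniusAlgHom F k t = _
    simp [hq]
  have hσι : ∀ a : F, σ (ι a) = ι a := fun a => (FiniteField.frobeniusAlgHom F k).commutes a
  have hσu : ∀ u : kˣ, Units.map σ.toMonoidHom u = u ^ q := fun u =>
    Units.ext (by simpa using hσ (u : k))
  have hrange : ∀ z : k, σ z = z → ∃ a : F, ι a = z := by
    intro z hz
    rw [hσ] at hz
    open Polynomial in
    have hroots : z ∈ ((Finset.univ.image ι).val : Multiset k) := by
      have hdeg : ((X : k[X]) ^ q - X).natDegree = q :=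
        FiniteField.X_pow_card_sub_X_natDegree_eq k hq2
      have hne : ((X : k[X]) ^ q - X) ≠ 0 := FiniteField.X_pow_card_sub_X_ne_zero k hq2
      have heq : (Finset.univ.image ι).val = ((X : k[X]) ^ q - X).roots := by
        refine Multiset.eq_of_le_of_card_le
          ((Multiset.le_iff_subset (Finset.nodup _)).2 fun x hx => ?_) ?_
        · obtain ⟨a, -, rfl⟩ := Finset.mem_image.1 hx
          rw [mem_roots hne, IsRoot.def, eval_sub, eval_pow, eval_X, ← map_pow, ← hq,
            FiniteField.pow_card, sub_self]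
        · refine le_trans (card_roots' _) ?_
          rw [hdeg, Finset.card_val, Finset.card_image_of_injective _ ι.injective,
            Finset.card_univ, hq]
      rw [heq, mem_roots hne, IsRoot.def, eval_sub, eval_pow, eval_X, hz, sub_self]
    obtain ⟨a, -, ha⟩ := Finset.mem_image.1 hroots
    exact ⟨a, ha⟩
  -- a primitive root of unity
  obtain ⟨p, hp⟩ := CharP.exists F
  obtain ⟨e, hpr, he⟩ := FiniteField.card F p
  have hqk : (q : k) = 0 := by
    rw [← map_natCast ι, ← hq, FiniteField.cast_card_eq_zero, map_zero]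
  have hN1 : ((Φ : ℤ) : k) = 1 := by
    have hm : (Φ : ℤ) = 1 + (q : ℤ) * ∑ j : Fin D.rank, C.phi j.succ * (q : ℤ) ^ (j : ℕ) := by
      rw [hΦ, evFin, Fin.sum_univ_succ, hC.phi_zero, Finset.mul_sum]
      congr 1
      exact Finset.sum_congr rfl fun j _ => by rw [Fin.val_succ, pow_succ]; ring
    show (Int.castRingHom k) (Φ : ℤ) = 1
    rw [hm, map_add, map_one, map_mul, map_natCast, hqk, zero_mul, add_zero]
  haveI hNk : NeZero (Φ : k) := ⟨by rw [← Int.cast_natCast, hN1]; exact one_ne_zero⟩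
  haveI : NeZero Φ := ⟨fun h => (NeZero.ne (Φ : k)) (by rw [h, Nat.cast_zero])⟩
  obtain ⟨μ0, hμ0⟩ := HasEnoughRootsOfUnity.exists_primitiveRoot k Φ
  set μ : kˣ := (hμ0.isUnit (NeZero.ne Φ)).unit with hμ
  have hμ0v : (μ : k) = μ0 := rfl
  have hμprim : IsPrimitiveRoot μ Φ := IsPrimitiveRoot.coe_units_iff.1 hμ0
  have hoμ : orderOf μ = Φ := hμprim.eq_orderOf.symm
  have hμΦ : μ ^ Φ = 1 := by rw [← hoμ, pow_orderOf_eq_one]
  have hdvdN : ∀ m : ℤ, μ ^ m = 1 ↔ (Φ : ℤ) ∣ m := fun m => by
    rw [← hoμ, orderOf_dvd_iff_zpow_eq_one]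
  have hsnoc : ∀ f : Fin D.rank → ℤ,
      evFin (Fin.snoc f 0 : Fin (D.rank + 1) → ℤ) q = evFin f q := by
    intro f
    rw [evFin, Fin.sum_univ_castSucc]
    simp [evFin]
  have hsep : ∀ e : Fin D.rank → ℤ, C.sepB e = true → ¬ (Φ : ℤ) ∣ evFin e q := by
    intro e he hdvd
    simp only [sepB, Bool.and_eq_true, Bool.or_eq_true] at he
    obtain ⟨⟨h1, h2⟩, h3⟩ := he
    have hadd : ∀ f g : Fin (D.rank + 1) → ℤ,
        evFin (fun j => f j + g j) q = evFin f q + evFin g q :=
      fun f g => by simp [evFin, add_mul, Finset.sum_add_distrib]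
    have hsub : ∀ f g : Fin (D.rank + 1) → ℤ,
        evFin (fun j => f j - g j) q = evFin f q - evFin g q :=
      fun f g => by simp [evFin, sub_mul, Finset.sum_sub_distrib]
    have a1 := pos_of_posB h1 hqz
    have a2 := pos_of_posB h2 hqz
    rw [evList_ofFn, hsub, hsnoc, ← hΦ] at a1
    rw [evList_ofFn, hadd, hsnoc, ← hΦ] at a2
    have hzero := Int.eq_zero_of_abs_lt_dvd hdvd (abs_lt.2 ⟨by omega, by omega⟩)
    rcases h3 with h3 | h3
    · have a3 := pos_of_posB h3 hqz
      rw [evList_ofFn, hzero] at a3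
      exact lt_irrefl _ a3
    · have a3 := pos_of_posB h3 hqz
      rw [evList_ofFn, show evFin (fun j => -e j) (q : ℤ) = -evFin e q by
        simp [evFin, Finset.sum_neg_distrib], hzero, neg_zero] at a3
      exact lt_irrefl _ a3
  set π := pWord hF C.w with hπ
  let r0F : Fin D.nroots := ⟨C.r0, hC.r0_lt⟩
  have horb : ∀ j : ℕ, ((π ^ j) r0F : ℕ) = C.orb j := fun j => pWord_pow_val hF C.w j r0F
  -- the torus of the covering group
  let cc : kˣ → Fin D.rank → kˣ := fun z l => z ^ evFin (C.P l) q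
  have hev : ∀ (z : kˣ) (v : Fin D.rank → ℤ), evW v (cc z) = z ^ evFin (C.EW v) q := by
    intro z v
    have hee : evFin (C.EW v) (q : ℤ) = ∑ l : Fin D.rank, evFin (C.P l) q * v l := by
      simp only [evFin, ScCert.EW, Finset.sum_mul]
      rw [Finset.sum_comm]
      exact Finset.sum_congr rfl fun i _ => Finset.sum_congr rfl fun j _ => by ring
    rw [hee, evW, ← zpow_sum_aux z]
    exact Finset.prod_congr rfl fun i _ => (zpow_mul z _ _).symm
  have hchi : ∀ (z : kˣ) (s : ℕ), chiU (cc z) s = z ^ evFin (C.E s) q := fun z s =>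
    hev z fun l => D.cartan l s
  have hσc : ∀ (v : Fin D.rank → ℤ) (c : Fin D.rank → kˣ),
      evW v (fun j => Units.map σ.toMonoidHom (c j)) = evW v c ^ q := by
    intro v c
    simp only [evW, hσu, ← Finset.prod_pow]
    exact Finset.prod_congr rfl fun j _ => by
      rw [← zpow_natCast (c j ^ v j), ← zpow_natCast (c j), ← zpow_mul, ← zpow_mul, mul_comm]
  have hδΦ : (∀ j, wordC D C.w (fun l => Units.map σ.toMonoidHom (cc μ l)) j = cc μ j) := by
    intro j
    set c' := wordC D C.w (fun l => Units.map σ.toMonoidHom (cc μ l))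
    have e1 : c' j = evW (wordW D C.w (C.back j)) c' := by
      rw [evW, Finset.prod_eq_single j (fun l _ hl => by rw [hC.back_eq, if_neg hl, zpow_zero])
        (fun h => absurd (Finset.mem_univ _) h), hC.back_eq, if_pos rfl, zpow_one]
    rw [e1, evW_wordW hF, hσc, hev, ← zpow_natCast, ← zpow_mul]
    obtain ⟨a, -, ha⟩ := hC.equiv j
    have h1 : evFin (Fin.cons 0 (C.EW (C.back j)) : Fin (D.rank + 1) → ℤ) q =
        q * evFin (C.EW (C.back j)) q := by
      rw [evFin, Fin.sum_univ_succ, evFin, Finset.mul_sum]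
      simp only [Fin.cons_zero, Fin.cons_succ, zero_mul, zero_add, Fin.val_succ]
      exact Finset.sum_congr rfl fun l _ => by ring
    have h2 : (q : ℤ) * evFin (C.EW (C.back j)) q - evFin (C.P j) q = a * Φ := by
      rw [← h1, ← hsnoc (C.P j), hΦ, evFin, evFin, evFin, ← Finset.sum_sub_distrib,
        Finset.mul_sum]
      refine Finset.sum_congr rfl fun l _ => ?_
      rw [← sub_mul, ha l]
      ring
    show μ ^ _ = μ ^ evFin (C.P j) q
    rw [show evFin (C.EW (C.back j)) (q : ℤ) * (q : ℕ) = evFin (C.P j) q + (Φ : ℤ) * a by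
      linear_combination h2, zpow_add, zpow_mul, zpow_natCast, hμΦ, one_zpow, mul_one]
  set n : GL D.Idx k := nWord hF C.w with hn
  have hnG : n ∈ D.group k := monomial_le_group hF (nWord_mem hF C.w)
  obtain ⟨g, hg, hgn⟩ := exists_lang hF hq2 σ hσ hnG
  set L := S.lift hF hF' k with hL
  obtain ⟨G, hG⟩ : ∃ G, L.θ G = g := by rw [← L.range_θ] at hg; exact hg
  obtain ⟨z, hz, hGz⟩ : ∃ z ∈ Subgroup.center ↥(S.cover hF hF' k),
      S.frob hF hF' σ G = G * L.W C.w * z := by
    refine ⟨(G * L.W C.w)⁻¹ * S.frob hF hF' σ G, L.ker_le_center hE ?_, by group⟩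
    rw [MonoidHom.mem_ker, map_mul, map_inv, map_mul, S.θ_frob, hG, hgn, L.θ_W, ← hn]
    group
  have hfrobconj : ∀ c : Fin D.rank → kˣ,
      S.frob hF hF' σ (G * S.tH hF hF' c * G⁻¹) =
        G * S.tH hF hF' (wordC D C.w fun l => Units.map σ.toMonoidHom (c l)) * G⁻¹ := by
    intro c
    have hz' := Subgroup.mem_center_iff.1 hz
    rw [map_mul, map_mul, map_inv, hGz, S.frob_tH,
      show ∀ (a b X : ↥(S.cover hF hF' k)), (a * b * z) * X * (a * b * z)⁻¹ =
          a * (b * X * b⁻¹) * a⁻¹ from fun a b X => by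
        rw [mul_assoc (a * b) z X, ← hz' X]; group,
      ← S.tH_W hF hF' C.w, mul_inv_cancel_right]
  have hinj := S.tH_injective hF hF' (hD' (k := k))
  -- descent to the group over the base field
  have hdown : ∀ y ∈ S.fixedImage hF hF' σ, ∃ x ∈ D.group F, gmap D ι x = y := by
    intro y hy
    obtain ⟨t, t', d, v, ht, ht', hdq, rfl⟩ := S.fixed_normalForm hF hF' σ hE hD' hy
    choose a ha using fun i => hrange _ (hdq i)
    have ha0 : ∀ i, a i ≠ 0 := fun i h => (d i).ne_zero (by rw [← ha i, h, map_zero])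
    choose b hb using fun r => hrange (if half D ≤ r ∧ r < D.nroots then t r else 0)
      (by split
          · exact ht r (by omega) (by omega)
          · exact map_zero σ)
    choose b' hb' using fun r => hrange (if half D ≤ r ∧ r < D.nroots then t' r else 0)
      (by split
          · exact ht' r (by omega) (by omega)
          · exact map_zero σ)
    refine ⟨prodFrom hF (half D) b * torusHom (fun i => Units.mk0 (a i) (ha0 i)) * nWord hF v *
      prodFrom hF (half D) b', ?_, ?_⟩
    · have hU : ∀ f : ℕ → F, prodFrom hF (half D) f ∈ D.group F := fun f =>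
        borel_le_group hF (Subgroup.mem_sup_left ((mem_posUnipotent_iff hF).2 ⟨f, rfl⟩))
      exact Subgroup.mul_mem _ (Subgroup.mul_mem _ (Subgroup.mul_mem _ (hU b)
        (borel_le_group hF (Subgroup.mem_sup_right (torusHom_mem hF _))))
        (monomial_le_group hF (nWord_mem hF v))) (hU b')
    · rw [map_mul, map_mul, map_mul, gmap_prodFrom hF hF, gmap_prodFrom hF hF, gmap_nWord hF hF,
        gmap_torusHom,
        prodFrom_congr hF (t := fun r => ι (b r)) (t' := t) fun r h1 h2 => by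
          rw [hb, if_pos ⟨h1, h2⟩],
        prodFrom_congr hF (t := fun r => ι (b' r)) (t' := t') fun r h1 h2 => by
          rw [hb', if_pos ⟨h1, h2⟩]]
      congr 4
      funext i
      exact Units.ext (by simpa using ha i)
  obtain ⟨gF, hgF, hgFι⟩ := hdown (g * torusHom (cc μ) * g⁻¹)
    ⟨G * S.tH hF hF' (cc μ) * G⁻¹, by
      show S.frob hF hF' σ _ = _
      rw [hfrobconj, funext hδΦ]
      rfl, by rw [map_mul, map_mul, map_inv, hG, S.θ_tH]⟩
  let gμ : ↥(D.group F) := ⟨gF, hgF⟩
  have hccmul : ∀ (x : kˣ) (m : ℕ), cc (x ^ m) = cc x ^ m := fun x m => by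
    funext i
    simp only [cc, Pi.pow_apply]
    rw [← zpow_natCast, ← zpow_natCast, ← zpow_mul, ← zpow_mul, mul_comm]
  have hconjpow : ∀ m : ℕ, gmap D ι (gF ^ m) = g * torusHom (cc (μ ^ m)) * g⁻¹ := fun m => by
    rw [map_pow, hgFι, conj_pow, hccmul, map_pow]
  -- the order of the image
  set d0 := Nat.gcd δ (q - 1) with hd0
  have hd0δ : (d0 : ℤ) ∣ C.index := hδ ▸ Int.natCast_dvd_natCast.2 (Nat.gcd_dvd_left _ _)
  have hd0q : (d0 : ℤ) ∣ (q : ℤ) - 1 := by
    have h := Int.natCast_dvd_natCast.2 (Nat.gcd_dvd_right δ (q - 1))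
    rwa [Nat.cast_sub (by omega), Nat.cast_one] at h
  have hmod : ∀ {m : ℕ} (f : Fin m → ℤ), (d0 : ℤ) ∣ evFin f q - ∑ j, f j := fun f => by
    rw [evFin, ← Finset.sum_sub_distrib]
    refine Finset.dvd_sum fun j _ => ?_
    rw [← mul_sub_one]
    exact dvd_mul_of_dvd_right (hd0q.trans (sub_one_dvd_pow_sub_one _ _)) _
  have hd0Φ : (d0 : ℤ) ∣ Φ := by
    have h := dvd_add (hmod C.phi) hd0δ
    rwa [ScCert.index, sub_add_cancel, ← hΦ] at h
  have hd0E : ∀ s : Fin D.nroots, (d0 : ℤ) ∣ evFin (C.E s) q := fun s => by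
    have h := dvd_add (hmod (C.E s)) (hd0δ.trans (hC.mod_one s))
    rwa [sub_add_cancel] at h
  have hd0pos : 0 < d0 := Nat.gcd_pos_of_pos_right _ (by omega)
  obtain ⟨N, hN⟩ := Int.natCast_dvd_natCast.1 hd0Φ
  have hcomb : ∀ (a : Fin D.rank → ℤ) (f : Fin D.rank → ℤ),
      (∀ j, ∑ i : Fin D.rank, a i * C.E (D.simple i) j = f j) →
      ∀ m : ℤ, (∀ s : Fin D.nroots, (Φ : ℤ) ∣ evFin (C.E s) q * m) →
        (Φ : ℤ) ∣ evFin f q * m := by
    intro a f hf m hm
    rw [show evFin f (q : ℤ) = ∑ i : Fin D.rank, a i * evFin (C.E (D.simple i)) q by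
      simp only [evFin, ← hf, Finset.sum_mul, Finset.mul_sum]
      rw [Finset.sum_comm]
      exact Finset.sum_congr rfl fun i _ => Finset.sum_congr rfl fun j _ => by ring,
      Finset.sum_mul]
    refine Finset.dvd_sum fun i _ => ?_
    rw [mul_assoc]
    exact dvd_mul_of_dvd_right (hm ⟨D.simple i, hF.simple_lt i i.2⟩) _
  have hpow : ∀ m : ℕ, gμ ^ m = 1 ↔ N ∣ m := by
    intro m
    rw [Subtype.ext_iff, SubmonoidClass.coe_pow, OneMemClass.coe_one]
    show gF ^ m = 1 ↔ _
    rw [← (gmap_injective (D := D) ι).eq_iff, hconjpow, map_one, conj_eq_one_iff,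
      torusHom_eq_one_iff]
    have hiff : ∀ s : Fin D.nroots,
        chiU (cc (μ ^ m)) (s : ℕ) = 1 ↔ (Φ : ℤ) ∣ evFin (C.E s) q * m := fun s => by
      rw [hchi, ← zpow_natCast, ← zpow_mul, hdvdN, mul_comm]
    simp only [hiff]
    constructor
    · intro h
      have ha : (Φ : ℤ) ∣ C.index * m := by
        have := hcomb C.bezA _ hC.bez_a m h
        rwa [evFin, Finset.sum_eq_single ⟨0, by have := hC.rank_pos; omega⟩ (fun b _ hb => by
          rw [if_neg (fun h => hb (Fin.ext h)), zero_mul])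
          (fun h => absurd (Finset.mem_univ _) h), if_pos rfl, pow_zero, mul_one] at this
      have hb : (Φ : ℤ) ∣ ((q : ℤ) - 1) * m := by
        have := hcomb C.bezB _ hC.bez_b m h
        rwa [evFin, Finset.sum_eq_add (⟨1, hC.rank_pos⟩ : Fin D.rank)
          ⟨0, by have := hC.rank_pos; omega⟩ (by simp [Fin.ext_iff]) (fun b _ hb => by
            rw [if_neg (fun h => hb.1 (Fin.ext h)), if_neg (fun h => hb.2 (Fin.ext h)), zero_mul])
          (fun h => absurd (Finset.mem_univ _) h) (fun h => absurd (Finset.mem_univ _) h),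
          if_pos rfl, if_neg (by simp), if_pos rfl, one_mul, pow_one, pow_zero, mul_one,
          ← sub_eq_add_neg] at this
      rw [← hδ, ← Nat.cast_mul, Int.natCast_dvd_natCast] at ha
      rw [← Nat.cast_one, ← Nat.cast_sub (by omega : 1 ≤ q), ← Nat.cast_mul,
        Int.natCast_dvd_natCast] at hb
      have h3 := Nat.dvd_gcd ha hb
      rw [Nat.gcd_mul_right, ← hd0, hN] at h3
      exact Nat.dvd_of_mul_dvd_mul_left hd0pos h3
    · intro h s
      rw [hN, Nat.cast_mul]
      exact mul_dvd_mul (hd0E s) (Int.natCast_dvd_natCast.2 h)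
  refine ⟨Subgroup.zpowers gμ, inferInstance, ?_, le_antisymm ?_ ?_⟩
  · have ho : orderOf gμ = N := Nat.dvd_antisymm (orderOf_dvd_of_pow_eq_one ((hpow N).2 dvd_rfl))
      ((hpow _).1 (pow_orderOf_eq_one gμ))
    rw [Nat.card_zpowers, ho, hN, Nat.mul_div_cancel_left _ hd0pos]
  swap
  · intro x hx
    rw [Subgroup.mem_centralizer_iff]
    intro y hy
    obtain ⟨i, rfl⟩ := Subgroup.mem_zpowers_iff.1 hx
    obtain ⟨j, rfl⟩ := Subgroup.mem_zpowers_iff.1 (SetLike.mem_coe.1 hy)
    rw [← zpow_add, ← zpow_add, add_comm]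
  intro x hx
  have hxμ : gF * (x : GL D.Idx F) = (x : GL D.Idx F) * gF :=
    congrArg Subtype.val (Subgroup.mem_centralizer_iff.1 hx gμ (Subgroup.mem_zpowers gμ))
  set X := g⁻¹ * gmap D ι (x : GL D.Idx F) * g with hX
  have hXc : torusHom (cc μ) * X = X * torusHom (cc μ) := by
    have h1 := congrArg (gmap D ι) hxμ
    rw [map_mul, map_mul, hgFι] at h1
    calc torusHom (cc μ) * X
        = g⁻¹ * ((g * torusHom (cc μ) * g⁻¹) * gmap D ι (x : GL D.Idx F)) * g := by rw [hX]; group
      _ = g⁻¹ * (gmap D ι (x : GL D.Idx F) * (g * torusHom (cc μ) * g⁻¹)) * g := by rw [h1]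
      _ = X * torusHom (cc μ) := by rw [hX]; group
  have hmon : ∀ s : Fin D.nroots, chiU (cc μ) (π s : ℕ) = chiU (cc μ) (s : ℕ) ^ q := by
    intro s
    have h1 := chiU_wordC hF C.w (fun l => Units.map σ.toMonoidHom (cc μ l)) s
    rw [funext hδΦ, ← hπ] at h1
    rw [h1]
    exact hσc (fun l => D.cartan l s) (cc μ)
  obtain ⟨d, hd⟩ := eq_torusHom_of_comm hF (c := cc μ)
    (fun s h => by
      rw [hchi, hdvdN] at h
      exact hsep _ (hC.regular s) h)
    (fun v hv => by
      set π' := pWord hF v with hπ'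
      have hcand : ∀ j : Fin D.rank, (π' ((π ^ (j : ℕ)) r0F) : ℕ) ∈
          C.cand.map fun c => (wStep D C.w)^[(j : ℕ)] c := by
        intro j
        obtain ⟨s, hs⟩ := (π ^ (j : ℕ)).surjective (π' ((π ^ (j : ℕ)) r0F))
        have hiter : ∀ (i : ℕ) (r : Fin D.nroots),
            chiU (cc μ) ((π ^ i) r : ℕ) = chiU (cc μ) (r : ℕ) ^ q ^ i := by
          intro i
          induction i with
          | zero => intro r; simp
          | succ i ih =>
            intro r
            rw [pow_succ' π, Equiv.Perm.mul_apply, hmon, ih, ← pow_mul, ← pow_succ]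
        have h1 := hv ((π ^ (j : ℕ)) r0F)
        rw [← hs, hiter, hiter, show ((r0F : Fin D.nroots) : ℕ) = C.r0 from rfl, hchi, hchi] at h1
        have hcop : (q ^ (j : ℕ)).Coprime Φ := by
          refine Nat.Coprime.pow_left _ ?_
          refine Nat.coprime_of_dvd fun r hr hrq hrN => ?_
          have hrp : r = p := (Nat.prime_dvd_prime_iff_eq hr hpr).1
            (hr.dvd_of_dvd_pow (n := (e : ℕ)) (by rw [← he, hq]; exact hrq))
          haveI : CharP k p := charP_of_injective_algebraMap ι.injective p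
          exact (NeZero.ne (Φ : k)) ((CharP.cast_eq_zero_iff k p Φ).2 (hrp ▸ hrN))
        have h2 : μ ^ evFin (C.E (s : ℕ)) q = μ ^ evFin (C.E C.r0) q := by
          have hf : ∀ z : kˣ, z ^ Φ = 1 → z ^ q ^ (j : ℕ) = 1 → z = 1 := fun z hz1 hz2 => by
            have h := pow_gcd_eq_one.2 ⟨hz2, hz1⟩
            rwa [hcop.gcd_eq_one, pow_one] at h
          have := hf (μ ^ evFin (C.E (s : ℕ)) q * (μ ^ evFin (C.E C.r0) q)⁻¹)
            (by rw [← zpow_neg, ← zpow_add, ← zpow_natCast, ← zpow_mul, mul_comm, zpow_mul,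
                  zpow_natCast, hμΦ, one_zpow])
            (by rw [mul_pow, inv_pow, h1, mul_inv_cancel])
          exact mul_inv_eq_one.1 this
        have hmem : (s : ℕ) ∈ C.cand := by
          refine (hC.sep s).resolve_right fun h => hsep _ h ?_
          rw [← hdvdN, show evFin (C.dE s) (q : ℤ) =
              evFin (C.E (s : ℕ)) q - evFin (C.E C.r0) q by
            simp only [evFin, ScCert.dE, sub_mul, Finset.sum_sub_distrib],
            zpow_sub, h2, mul_inv_cancel]
        exact List.mem_map.2 ⟨s, hmem, by rw [← pWord_pow_val hF C.w, ← hπ, hs]⟩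
      let l : List ℕ := List.ofFn fun j : Fin D.rank => (π' ((π ^ (j : ℕ)) r0F) : ℕ)
      have hl : ∀ j : Fin D.rank, l.getD j 0 = (π' ((π ^ (j : ℕ)) r0F) : ℕ) := fun j => by
        rw [List.getD_eq_getElem _ _ (by simp [l])]
        simp [l]
      have hrig := hC.rigid l (List.mem_sections.2 (List.forall₂_iff_get.2 ⟨by simp [l],
        fun i h1 h2 => by simpa [l] using hcand ⟨i, by simpa [l] using h1⟩⟩))
        (fun i j => by rw [hl, hl, ← horb, ← horb]; exact pairing_pWord hF v _ _)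
      ext1 s
      refine hC.inj _ _ fun j => ?_
      rw [← horb]
      conv_lhs => rw [show ((π ^ (j : ℕ)) r0F) = π' ((π ^ (j : ℕ)) r0F) from
        Fin.ext (by rw [horb, ← hrig j, hl])]
      exact pairing_pWord hF v _ s)
    (Subgroup.mul_mem _ (Subgroup.mul_mem _ (Subgroup.inv_mem _ hg)
      (gmap_mem_group hF hF ι x.2)) hg)
    hXc
  -- the parameter in the covering group
  obtain ⟨Y, hY, hYx⟩ := S.gmap_group_le_fixedImage hF hF' σ ι hσι x.2
  obtain ⟨c, hc, hcd⟩ := S.exists_tH hF hF' hE (y := G⁻¹ * Y * G) (c := d)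
    (by rw [map_mul, map_mul, map_inv, hG, hYx, hd])
  have hYc : Y = G * S.tH hF hF' c * G⁻¹ := by rw [← hc]; group
  have hfixc : wordC D C.w (fun l => Units.map σ.toMonoidHom (c l)) = c := by
    have h1 := hfrobconj c
    rw [← hYc, show S.frob hF hF' σ Y = Y from hY, hYc] at h1
    exact (hinj (mul_left_cancel (mul_right_cancel h1))).symm
  set ζ := evW C.u0 c with hζ
  have hUorb : ∀ j : ℕ, evW (C.U j) c = ζ ^ q ^ j := by
    intro j
    induction j with
    | zero => simp [ScCert.U, hζ]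
    | succ j ih =>
      rw [show C.U (j + 1) = wordW D C.w (C.U j) from Function.iterate_succ_apply' _ _ _]
      conv_lhs => rw [← hfixc]
      rw [evW_wordW hF, hσc, ih, ← pow_mul, ← pow_succ]
  have hζN : ζ ^ Φ = 1 := by
    have h0 : ∏ j : Fin (D.rank + 1), evW (C.U j) c ^ C.phi j = 1 := by
      have hd1 : ∀ j : Fin (D.rank + 1), evW (C.U j) c ^ C.phi j =
          ∏ l : Fin D.rank, c l ^ (C.phi j * C.U j l) := fun j => by
        rw [evW, ← Finset.prod_zpow]
        exact Finset.prod_congr rfl fun l _ => by rw [← zpow_mul, mul_comm]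
      simp only [hd1]
      rw [Finset.prod_comm]
      refine Finset.prod_eq_one fun i _ => ?_
      rw [zpow_sum_aux, hC.rel i, zpow_zero]
    simp only [hUorb, ← zpow_natCast, ← zpow_mul] at h0
    rw [zpow_sum_aux] at h0
    rw [← zpow_natCast, hΦ]
    rw [show evFin C.phi (q : ℤ) = ∑ j : Fin (D.rank + 1), ((q ^ (j : ℕ) : ℕ) : ℤ) * C.phi j from
      Finset.sum_congr rfl fun j _ => by push_cast; ring]
    exact h0
  obtain ⟨m, -, hm⟩ := hμ0.eq_pow_of_pow_eq_one
    (by rw [← Units.val_pow_eq_pow_val, hζN, Units.val_one] : (ζ : k) ^ Φ = 1)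
  refine Subgroup.mem_zpowers_iff.2 ⟨m, ?_⟩
  rw [zpow_natCast]
  apply Subtype.ext
  rw [SubmonoidClass.coe_pow]
  apply gmap_injective ι
  show gmap D ι (gF ^ m) = _
  rw [hconjpow, ← hYx, hYc, map_mul, map_mul, map_inv, hG, S.θ_tH]
  congr 3
  have hμm : μ ^ m = ζ := Units.ext (by rw [Units.val_pow_eq_pow_val, hμ0v, hm])
  funext i
  have hrec : c i = ∏ j : Fin D.rank, evW (C.U j) c ^ C.P i j := by
    have : ∀ j : Fin D.rank, evW (C.U j) c ^ C.P i j =
        ∏ l : Fin D.rank, c l ^ (C.P i j * C.U j l) := fun j => by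
      rw [evW, ← Finset.prod_zpow]
      exact Finset.prod_congr rfl fun l _ => by rw [← zpow_mul, mul_comm]
    simp only [this]
    rw [Finset.prod_comm]
    simp only [zpow_sum_aux, hC.left_inv]
    simp [Finset.prod_ite_eq]
  rw [hμm, hrec]
  simp only [hUorb, ← zpow_natCast, ← zpow_mul, zpow_sum_aux]
  show ζ ^ evFin (C.P i) q = _
  congr 1
  exact Finset.sum_congr rfl fun j _ => by push_cast; ring

end ScCert

end Cfsg.Agent.Chev
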