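import Cfsg.Agent.Chev.Cert

/-!
Meaning of the elementary checks of a certificate.
-/

set_option autoImplicit false

namespace Cfsg.Agent.Chev

open Cfsg.Lie

/-- All checks on a certificate. -/
structure Checks (D : ChevalleyDatum) (C : Cert) : Prop where
  tab : chkTab D C.T = true
  base : chkBase D C = true
  refl : ∀ i < D.rank, chkReflAll D C i = true
  steps : chkSteps D C = true
  add : chkAdd D C = true
  entries : chkAllEntries D C = true
  shape : ∀ i < D.rank, chkN D C i = true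
  conj : ∀ i < D.rank, chkConj D C i = true
  pair : ∀ r < D.nroots, ∀ s < D.nroots, chkPair D C r s = true ∧ chkOrder D C r s = true

variable {D : ChevalleyDatum} {C : Cert}

theorem pair_of_chkPairs {lo hi : ℕ} (h : chkPairs D C lo hi = true) (r : ℕ) (h₁ : lo ≤ r)
    (h₂ : r < hi) : ∀ s < D.nroots, chkPair D C r s = true ∧ chkOrder D C r s = true := by
  simp only [chkPairs, allBelow_iff, force_eq] at h
  have := h (r - lo) (by simp only [Nat.sub_eq]; omega)
  simp only [Nat.add_eq, show lo + (r - lo) = r by omega, allBelow_iff, Bool.and_eq_true] at this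
  exact this

theorem bitSign_cases (b : ℕ) : bitSign b = 1 ∨ bitSign b = -1 := by
  rw [bitSign]; cases Nat.beq b 0 <;> simp

theorem bitSign_mul_self (b : ℕ) : bitSign b * bitSign b = 1 := by
  rcases bitSign_cases b with h | h <;> rw [h] <;> rfl

theorem neg_one_pow_eq_bitSign (n : ℕ) : (-1 : ℤ) ^ n = bitSign (n % 2) := by
  rcases Nat.mod_two_eq_zero_or_one n with h | h <;> rw [h]
  · rw [Even.neg_one_pow (Nat.even_iff.2 h)]; rfl
  · rw [Odd.neg_one_pow (Nat.odd_iff.2 h)]; rfl

theorem list_range_map_sum {n : ℕ} (f : ℕ → ℤ) :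
    ((List.range n).map f).sum = ∑ k : Fin n, f k := by
  induction n with
  | zero => simp
  | succ n ih => simp [List.range_succ, Fin.sum_univ_castSucc, ih]

theorem negN_eq (r : ℕ) : negN D r = D.nroots - 1 - r := rfl

variable (h : Checks D C)
include h

theorem base_split : 0 < D.rank ∧ D.nroots = 2 * half D ∧
    (∀ s < D.nroots, chkRoot D C s = true) ∧ (∀ i < D.rank, chkSimple D C i = true) ∧
    D.chain.size ≤ D.nroots := by
  have := h.base
  simp only [chkBase, Bool.and_eq_true, allBelow_iff, nblt_iff, nbeq_iff, nble_iff] at this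
  exact ⟨this.1.1.1.1, this.1.1.1.2, this.1.2, this.2, this.1.1.2⟩

theorem root_split {s : ℕ} (hs : s < D.nroots) :
    (D.IsPosRoot s ↔ half D ≤ s) ∧ (D.IsNegRoot s ↔ s < half D) ∧
    (∀ j < D.rank, D.cartan j s = C.cA j s ∧ coef D s j = C.cR s j ∧
      C.cA j (D.nroots - 1 - s) = -C.cA j s ∧ C.cR (D.nroots - 1 - s) j = -C.cR s j ∧
      (C.car.get s >>> (8 * j)) % 256 < 16) ∧
    (List.range D.rank).foldl (fun g j => Nat.gcd (C.cR s j).natAbs g) 0 = 1 := by
  have := (base_split h).2.2.1 s hs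
  simp only [chkRoot, Bool.and_eq_true, allBelow_iff, nblt_iff, nbeq_iff, zbeq_iff,
    beq_iff_eq] at this
  obtain ⟨⟨⟨h1, h2⟩, h3⟩, h4⟩ := this
  refine ⟨?_, ?_, fun j hj => ?_, h4⟩
  · rw [← nble_iff, ← h1, decide_eq_true_iff]
  · rw [← nblt_iff, ← h2, decide_eq_true_iff]
  · obtain ⟨⟨a, b⟩, c, d, e⟩ := h3 j hj
    exact ⟨a, b, c, d, e⟩

theorem neg_eq {r : ℕ} (hr : r < D.nroots) : D.neg r = D.nroots - 1 - r :=
  (chkTab_row h.tab hr).1

theorem cartan_eq {j s : ℕ} (hj : j < D.rank) (hs : s < D.nroots) : D.cartan j s = C.cA j s :=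
  ((root_split h hs).2.2.1 j hj).1

theorem coef_eq {j s : ℕ} (hj : j < D.rank) (hs : s < D.nroots) : coef D s j = C.cR s j :=
  ((root_split h hs).2.2.1 j hj).2.1

theorem cartan_neg {j s : ℕ} (hj : j < D.rank) (hs : s < D.nroots) :
    D.cartan j (D.nroots - 1 - s) = -D.cartan j s := by
  rw [cartan_eq h hj (by omega), cartan_eq h hj hs, ((root_split h hs).2.2.1 j hj).2.2.1]

theorem coef_neg {j s : ℕ} (hj : j < D.rank) (hs : s < D.nroots) :
    coef D (D.nroots - 1 - s) j = -coef D s j := by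
  rw [coef_eq h hj (by omega), coef_eq h hj hs, ((root_split h hs).2.2.1 j hj).2.2.2.1]

theorem simple_split {i : ℕ} (hi : i < D.rank) :
    D.simple i < D.nroots ∧ half D ≤ D.simple i ∧ D.cartan i (D.simple i) = 2 ∧
    C.cW i (D.simple i) = D.nroots - 1 - D.simple i ∧ C.cEta i (D.simple i) = -1 ∧
    (∀ j < D.rank, coef D (D.simple i) j = if j = i then 1 else 0) := by
  have := (base_split h).2.2.2.1 i hi
  simp only [chkSimple, Bool.and_eq_true, allBelow_iff, nblt_iff, nble_iff, nbeq_iff,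
    zbeq_iff] at this
  obtain ⟨⟨⟨⟨⟨h1, h2⟩, h3⟩, h4⟩, h5⟩, h6⟩ := this
  refine ⟨h1, h2, by rw [cartan_eq h hi h1, h3], h4, by rw [Cert.cEta, h5]; rfl, fun j hj => ?_⟩
  rw [coef_eq h hj h1, h6 j hj]
  by_cases e : j = i
  · simp [e]
  · rw [nbeq_false_iff.2 e, if_neg e]; rfl

theorem refl_split {i s : ℕ} (hi : i < D.rank) (hs : s < D.nroots) :
    D.reflectRoot i s = C.cW i s ∧ C.cW i s < D.nroots ∧ C.cW i (C.cW i s) = s ∧
    C.cW i (D.nroots - 1 - s) = D.nroots - 1 - C.cW i s ∧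
    C.cEta i (D.nroots - 1 - s) = C.cEta i s ∧
    C.cEta i s * C.cEta i (C.cW i s) = (-1) ^ (D.cartan i s).natAbs ∧
    (half D ≤ s → s ≠ D.simple i → half D ≤ C.cW i s) ∧
    ∀ j < D.rank,
      D.cartan j (C.cW i s) = D.cartan j s - D.cartan i s * D.cartan j (D.simple i) ∧
      coef D (C.cW i s) j = coef D s j -
        (if j = i then ∑ k : Fin D.rank, coef D s k * D.cartan k (D.simple i) else 0) := by
  have := h.refl i hi
  simp only [chkReflAll, force_eq, allBelow_iff] at this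
  have := this s hs
  have hsub : ∀ a b : ℤ, Int.sub a b = a - b := fun _ _ => rfl
  simp only [chkRefl, force_eq, Bool.and_eq_true, allBelow_iff, nblt_iff, nbeq_iff, zbeq_iff,
    hsub, Int.mul_def] at this
  obtain ⟨⟨⟨⟨⟨⟨⟨h1, h2⟩, h3⟩, h4⟩, h5⟩, h6⟩, h7⟩, h8⟩ := this
  have hp := (simple_split h hi).1
  refine ⟨h1, h2, h3, h4, by rw [Cert.cEta, ← negN_eq, h5]; rfl, ?_, fun h₁ h₂ => ?_,
    fun j hj => ⟨?_, ?_⟩⟩
  · rw [cartan_eq h hi hs, neg_one_pow_eq_bitSign]
    rw [Nat.add_eq] at h6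
    rw [← show (C.cB i s + C.cB i (C.cW i s)) % 2 = (C.cA i s).natAbs % 2 from h6]
    have hb : ∀ k, C.cB i k = 0 ∨ C.cB i k = 1 := fun k => Nat.mod_two_eq_zero_or_one _
    rcases hb s with e | e <;> rcases hb (C.cW i s) with e' | e' <;>
      (rw [Cert.cEta, Cert.cEta, e, e']; rfl)
  · rw [nble_iff.2 h₁, nbeq_false_iff.2 h₂, Bool.not_false, Bool.and_true, cond_true] at h7
    exact Nat.le_of_ble_eq_true h7
  · rw [cartan_eq h hj h2, cartan_eq h hj hs, cartan_eq h hi hs, cartan_eq h hj hp]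
    exact (h8 j hj).1
  · rw [coef_eq h hj h2, coef_eq h hj hs, (h8 j hj).2]
    by_cases e : j = i
    · rw [nbeq_iff.2 e, cond_true, if_pos e, list_range_map_sum]
      congr 1
      refine Finset.sum_congr rfl fun k _ => ?_
      rw [coef_eq h k.2 hs, cartan_eq h k.2 hp]
    · rw [nbeq_false_iff.2 e, cond_false, if_neg e]

omit h in
theorem natCast_gcd_eq_zero {F : Type*} [Field F] {a b : ℕ} (ha : (a : F) = 0) (hb : (b : F) = 0) :
    (Nat.gcd a b : F) = 0 := by
  have e := Nat.gcd_eq_gcd_ab a b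
  have e' := congrArg (fun z : ℤ => (z : F)) e
  push_cast at e'
  rw [e', ha, hb, zero_mul, zero_mul, add_zero]

theorem coef_unit {F : Type*} [Field F] {r : ℕ} (hr : r < D.nroots) :
    ∃ j < D.rank, ((coef D r j : ℤ) : F) ≠ 0 := by
  by_contra hne
  push Not at hne
  have key : ∀ (l : List ℕ) (g : ℕ), (∀ j ∈ l, j < D.rank) → (g : F) = 0 →
      ((l.foldl (fun g j => Nat.gcd (C.cR r j).natAbs g) g : ℕ) : F) = 0 := by
    intro l
    induction l with
    | nil => intro g _ hg; exact hg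
    | cons j l ih =>
      intro g hl hg
      refine ih _ (fun k hk => hl k (List.mem_cons_of_mem _ hk)) (natCast_gcd_eq_zero ?_ hg)
      have hj := hl j (List.mem_cons_self ..)
      have := hne j hj
      rw [coef_eq h hj hr] at this
      rcases Int.natAbs_eq (C.cR r j) with e | e <;> rw [e] at this <;> simpa using this
  have := key (List.range D.rank) 0 (fun j hj => List.mem_range.1 hj) Nat.cast_zero
  rw [(root_split h hr).2.2.2, Nat.cast_one] at this
  exact one_ne_zero this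

end Cfsg.Agent.Chev
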