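import Cfsg.Agent.Chev.SoundShape

/-!
Conjugation by `n_p` on all root elements, and the induction over roots given by the steps.
-/

set_option autoImplicit false

namespace Cfsg.Agent.Chev

open Cfsg.Lie

variable {D : ChevalleyDatum} {C : Cert}

/-- The matrix of `n_p` read from the certificate. -/
noncomputable def shapeOne (D : ChevalleyDatum) (C : Cert) (F : Type*) [Field F] (i : ℕ) :
    Matrix D.Idx D.Idx F :=
  nShape D i (fun r => C.cEta i r) (1 : F) 1

variable (h : Checks D C)
include h

theorem refl_refl {i s : ℕ} (hi : i < D.rank) (hs : s < D.nroots) :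
    D.reflectRoot i (D.reflectRoot i s) = s :=
  (reflectRoot_eq_iff h hi (refl_lt h hi hs) hs).2 rfl

theorem cartan_self_refl {i s : ℕ} (hi : i < D.rank) (hs : s < D.nroots) :
    D.cartan i (D.reflectRoot i s) = -D.cartan i s := by
  obtain ⟨hw, -, -, -, -, -, -, hlin⟩ := refl_split h hi hs
  rw [hw, (hlin i hi).1, (simple_split h hi).2.2.1]; ring

theorem eta_mul_eta {i s : ℕ} (hi : i < D.rank) (hs : s < D.nroots) :
    C.cEta i s * C.cEta i (D.reflectRoot i s) = (-1) ^ (D.cartan i s).natAbs := by
  obtain ⟨hw, -, -, -, -, hee, -, -⟩ := refl_split h hi hs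
  rw [hw, hee]

theorem chi_ite {F : Type*} [Field F] {i : ℕ} (hi : i < D.rank) (c : F) (r : ℕ) :
    chi D (fun j => if j = i then c else 1) r = c ^ D.cartan i r := by
  rw [chi, Finset.prod_eq_single ⟨i, hi⟩]
  · simp
  · intro j _ hj
    rw [if_neg (fun e => hj (Fin.ext e)), one_zpow]
  · intro hn; exact absurd (Finset.mem_univ _) hn

theorem neg_one_zpow_eq {F : Type*} [Field F] (n : ℤ) :
    ((-1 : F)) ^ n = (((-1 : ℤ) ^ n.natAbs : ℤ) : F) := by
  rcases Int.natAbs_eq n with e | e
  · conv_lhs => rw [e]
    rw [zpow_natCast, Int.cast_pow, Int.cast_neg, Int.cast_one]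
  · conv_lhs => rw [e]
    rw [zpow_neg, zpow_natCast, ← inv_pow, inv_neg, inv_one, Int.cast_pow, Int.cast_neg,
      Int.cast_one]

/-- The torus element `h_p(-1)`. -/
theorem shapeOne_sq {F : Type*} [Field F] {i : ℕ} (hi : i < D.rank) :
    shapeOne D C F i * shapeOne D C F i =
      torus D (fun j => if j = i then (-1 : F) else 1) := by
  classical
  ext a b
  rw [torus, Matrix.diagonal_apply]
  rcases b with j | c
  · rw [shapeOne, mul_shape_inl hi]
    rcases a with j' | u
    · simp only [nShape_inl_inl, Sum.inl.injEq, Sum.elim_inl]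
      by_cases e : (j' : ℕ) = i
      · obtain rfl : j' = ⟨i, hi⟩ := Fin.ext e
        simp only [if_true, (simple_split h hi).2.2.1]
        push_cast
        ring
      · rw [if_neg e, if_neg e, if_neg (show j' ≠ ⟨i, hi⟩ from fun e' => e (congrArg Fin.val e'))]
        simp
    · simp [nShape_inr_inl]
  · rw [shapeOne, mul_shape_inr h hi]
    rcases a with j' | u
    · simp [nShape_inl_inr]
    · rw [nShape_inr_inr_one]
      simp only [refl_refl h hi c.2, Sum.inr.injEq]
      by_cases e : u = c
      · subst e
        rw [if_pos rfl, if_pos rfl, Sum.elim_inr, chi_ite h hi, neg_one_zpow_eq h,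
          ← eta_mul_eta h hi u.2]
        push_cast; ring
      · rw [if_neg (fun e' => e (Fin.ext e')), if_neg e, zero_mul]

theorem torus_mul {F : Type*} [Field F] (c d : ℕ → F) :
    torus D c * torus D d = torus D (fun j => c j * d j) := by
  rw [torus, torus, torus, Matrix.diagonal_mul_diagonal]
  congr 1
  funext a
  rcases a with j | s <;> simp [chi, ← Finset.prod_mul_distrib, mul_zpow]

theorem torus_one {F : Type*} [Field F] : torus D (fun _ => (1 : F)) = 1 := by
  rw [torus, show (Sum.elim (fun _ => (1 : F))
    fun s : Fin D.nroots => chi D (fun _ => (1 : F)) s) = fun _ => 1 by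
      funext a; rcases a with j | s <;> simp [chi]]
  exact Matrix.diagonal_one

theorem shapeOne_cancel {F : Type*} [Field F] {i : ℕ} (hi : i < D.rank)
    {X Y : Matrix D.Idx D.Idx F} (e : X * shapeOne D C F i = Y * shapeOne D C F i) : X = Y := by
  have key : shapeOne D C F i * (shapeOne D C F i *
      torus D (fun j => if j = i then (-1 : F) else 1)) = 1 := by
    rw [← mul_assoc, shapeOne_sq h hi, torus_mul h, ← torus_one h]
    congr 1
    funext j
    split <;> simp
  calc X = X * (shapeOne D C F i * (shapeOne D C F i *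
        torus D (fun j => if j = i then (-1 : F) else 1))) := by rw [key, mul_one]
    _ = Y := by rw [← mul_assoc, e, mul_assoc, key, mul_one]

/-- `n_p` conjugates `x_s(t)` to `x_{w_p s}(η t)`. -/
theorem conj_x {F : Type*} [Field F] {i s : ℕ} (hi : i < D.rank) (hs : s < D.nroots) (t : F) :
    shapeOne D C F i * D.x F s t =
      D.x F (D.reflectRoot i s) (((C.cEta i s : ℤ) : F) * t) * shapeOne D C F i := by
  by_cases hle : s ≤ D.reflectRoot i s
  · exact conj_main h hi hs hle t
  have hlt := refl_lt h hi hs
  have hr := refl_refl h hi hs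
  have hK := conj_main (F := F) h hi hlt (by rw [hr]; omega)
  rw [hr] at hK
  set e : F := ((C.cEta i (D.reflectRoot i s) : ℤ) : F) with he
  have he2 : e * e = 1 := by rw [he, ← Int.cast_mul, Cert.cEta, bitSign_mul_self, Int.cast_one]
  apply shapeOne_cancel h hi
  have e1 : D.x F s t * shapeOne D C F i =
      shapeOne D C F i * D.x F (D.reflectRoot i s) (e * t) := by
    unfold shapeOne
    rw [hK (e * t), ← mul_assoc e, he2, one_mul]
  rw [mul_assoc, e1, ← mul_assoc, shapeOne_sq h hi, torus_x h _ _ hlt, mul_assoc,
    shapeOne_sq h hi]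
  · congr 2
    have hsq : ((C.cEta i s : ℤ) : F) * ((C.cEta i s : ℤ) : F) = 1 := by
      rw [← Int.cast_mul, Cert.cEta, bitSign_mul_self, Int.cast_one]
    rw [chi_ite h hi, neg_one_zpow_eq h, cartan_self_refl h hi hs, Int.natAbs_neg,
      ← eta_mul_eta h hi hs, Int.cast_mul, ← he]
    linear_combination (((C.cEta i s : ℤ) : F) * t) * he2
  · intro j _
    split <;> simp

theorem stepI_spec {r : ℕ} (hr : r < D.nroots) (hrep : C.isRep r = false) :
    C.stepI r < D.rank ∧ C.depth (D.reflectRoot (C.stepI r) r) < C.depth r := by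
  have := h.steps
  simp only [chkSteps, Bool.and_eq_true, allBelow_iff] at this
  have := this.1.1.1 r hr
  rw [hrep, Bool.false_or, Bool.and_eq_true, nblt_iff, nblt_iff] at this
  refine ⟨this.1, ?_⟩
  rw [(refl_split h this.1 hr).1]
  exact this.2

theorem root_induction (P : ℕ → Prop) (h0 : ∀ i < D.rank, P (D.simple i))
    (hstep : ∀ i < D.rank, ∀ r < D.nroots, P r → P (D.reflectRoot i r)) :
    ∀ r < D.nroots, P r := by
  have hfollow : ∀ k r, r < D.nroots → P r → P (C.follow k r) := by
    intro k
    induction k with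
    | zero => intro r _ hP; exact hP
    | succ k ih =>
      intro r hr hP
      rw [show C.follow (k + 1) r =
        force r fun r => cond (C.isRep r) r (C.follow k (C.cW (C.stepI r) r)) from rfl, force_eq]
      cases hrep : C.isRep r with
      | true => exact hP
      | false =>
        obtain ⟨hi, -⟩ := stepI_spec h hr hrep
        obtain ⟨hw, hwlt, -⟩ := refl_split h hi hr
        exact ih _ hwlt (hw ▸ hstep _ hi r hr hP)
  have main : ∀ d r, r < D.nroots → C.depth r = d → P r := by
    intro d
    induction d using Nat.strong_induction_on with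
    | _ d ih =>
      intro r hr hd
      cases hrep : C.isRep r with
      | true =>
        have := h.steps
        simp only [chkSteps, Bool.and_eq_true, allBelow_iff, List.all_eq_true] at this
        have := this.1.1.2 r (List.mem_filter.2 ⟨List.mem_range.2 hr, hrep⟩)
        simp only [List.any_eq_true, List.mem_range, nbeq_iff] at this
        obtain ⟨i, hi, rfl⟩ := this
        exact hfollow _ _ (simple_split h hi).1 (h0 i hi)
      | false =>
        obtain ⟨hi, hlt⟩ := stepI_spec h hr hrep
        have := hstep _ hi _ (refl_lt h hi hr)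
          (ih _ (hd ▸ hlt) _ (refl_lt h hi hr) rfl)
        rwa [refl_refl h hi hr] at this
  exact fun r hr => main _ r hr rfl

theorem longest_spec : ∃ l : List ℕ, (∀ i ∈ l, i < D.rank) ∧
    ∀ r < D.nroots, half D ≤ r → l.foldr (fun i s => D.reflectRoot i s) r < half D := by
  have := h.steps
  simp only [chkSteps, Bool.and_eq_true, allBelow_iff, List.all_eq_true, nblt_iff] at this
  obtain ⟨⟨-, hl⟩, hw⟩ := this
  refine ⟨C.longest, hl, fun r hr hp => ?_⟩
  have := hw r hr
  rw [nblt_false_iff.2 hp, Bool.false_or, nblt_iff] at this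
  have key : ∀ l : List ℕ, (∀ i ∈ l, i < D.rank) →
      l.foldr (fun i s => force s fun s => C.cW i s) r = l.foldr (fun i s => D.reflectRoot i s) r ∧
      l.foldr (fun i s => D.reflectRoot i s) r < D.nroots := by
    intro l
    induction l with
    | nil => intro _; exact ⟨rfl, hr⟩
    | cons a l ih =>
      intro hl
      obtain ⟨e1, e2⟩ := ih fun i hi => hl i (List.mem_cons_of_mem _ hi)
      have ha := hl a (List.mem_cons_self ..)
      simp only [List.foldr_cons, force_eq] at e1 e2 ⊢
      exact ⟨by rw [e1, (refl_split h ha e2).1], refl_lt h ha e2⟩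
  rwa [(key _ hl).1] at this

end Cfsg.Agent.Chev
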