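import Cfsg.Agent.Chev.SoundBase

/-!
Meaning of the checks on single entries: triangularity of root elements, and weights.
-/

set_option autoImplicit false

namespace Cfsg.Agent.Chev

open Cfsg.Lie

theorem posN_def (D : ChevalleyDatum) (c : ℕ) : posN D c = cond (Nat.blt c D.rank) (half D + c)
    (cond (Nat.blt (c - D.rank) (half D)) (c - D.rank) c) := rfl

theorem posN_enc (D : ChevalleyDatum) (a : D.Idx) : posN D (enc D a) = pos D a := by
  rcases a with j | s
  · rw [posN_def, show enc D (Sum.inl j) = (j : ℕ) from rfl, nblt_iff.2 j.2, cond_true]; rfl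
  · rw [posN_def, show enc D (Sum.inr s) = D.rank + s from rfl, nblt_false_iff.2 (by omega),
      cond_false, Nat.add_sub_cancel_left, pos]
    by_cases hs : (s : ℕ) < half D
    · rw [nblt_iff.2 hs, cond_true, if_pos hs]
    · rw [nblt_false_iff.2 (by omega), cond_false, if_neg hs]

theorem cWt_def (D : ChevalleyDatum) (C : Cert) (c : ℕ) :
    C.cWt D c = cond (Nat.blt c D.rank) (bytes8 D.rank) (C.car.get (c - D.rank)) := rfl

theorem byte_bytes8 : ∀ n j : ℕ, j < n → (bytes8 n >>> (8 * j)) % 256 = 8 := by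
  intro n
  induction n with
  | zero => intro j hj; omega
  | succ n ih =>
    intro j hj
    have e : bytes8 (n + 1) = 8 + 256 * bytes8 n := rfl
    rw [Nat.shiftRight_eq_div_pow, e]
    rcases j with _ | j
    · simp [Nat.add_mul_mod_self_left]
    · rw [show 8 * (j + 1) = 8 + 8 * j by ring, pow_add, ← Nat.div_div_eq_div_mul,
        show (2 : ℕ) ^ 8 = 256 by norm_num, Nat.add_mul_div_left _ _ (by norm_num : 0 < 256)]
      have := ih j (by omega)
      rw [Nat.shiftRight_eq_div_pow] at this
      simpa using this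

/-- Bytes of a sum without carries. -/
theorem byte_add_mul (k : ℕ) (hk : k ≤ 4) : ∀ j x y : ℕ,
    (∀ i ≤ j, (x >>> (8 * i)) % 256 < 16) → (∀ i ≤ j, (y >>> (8 * i)) % 256 < 16) →
    ((x + k * y) >>> (8 * j)) % 256 = (x >>> (8 * j)) % 256 + k * ((y >>> (8 * j)) % 256) := by
  intro j
  induction j with
  | zero =>
    intro x y hx hy
    have a := hx 0 le_rfl
    have b := hy 0 le_rfl
    simp only [Nat.mul_zero, Nat.shiftRight_zero] at a b ⊢
    rw [Nat.add_mod, Nat.mul_mod, Nat.mod_eq_of_lt (show k < 256 by omega)]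
    have : k * (y % 256) ≤ 4 * (y % 256) := Nat.mul_le_mul_right _ hk
    rw [Nat.mod_eq_of_lt (show k * (y % 256) < 256 by omega), Nat.mod_eq_of_lt (by omega)]
  | succ j ih =>
    intro x y hx hy
    have a := hx 0 (Nat.zero_le _)
    have b := hy 0 (Nat.zero_le _)
    simp only [Nat.mul_zero, Nat.shiftRight_zero] at a b
    have e : ∀ z : ℕ, z >>> (8 * (j + 1)) = (z / 256) >>> (8 * j) := fun z => by
      rw [Nat.mul_succ, Nat.add_comm, Nat.shiftRight_add, Nat.shiftRight_eq_div_pow z 8]
    have hd : (x + k * y) / 256 = x / 256 + k * (y / 256) := by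
      have : k * (y % 256) ≤ 4 * (y % 256) := Nat.mul_le_mul_right _ hk
      have e1 := Nat.div_add_mod x 256
      have e2 : k * y = 256 * (k * (y / 256)) + k * (y % 256) := by
        conv_lhs => rw [← Nat.div_add_mod y 256]
        ring
      omega
    rw [e, e, e, hd]
    refine ih _ _ (fun i hi => ?_) (fun i hi => ?_)
    · have := hx (i + 1) (by omega)
      rwa [show x >>> (8 * (i + 1)) = (x / 256) >>> (8 * i) by
        rw [Nat.mul_succ, Nat.add_comm, Nat.shiftRight_add, Nat.shiftRight_eq_div_pow x 8]] at this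
    · have := hy (i + 1) (by omega)
      rwa [show y >>> (8 * (i + 1)) = (y / 256) >>> (8 * i) by
        rw [Nat.mul_succ, Nat.add_comm, Nat.shiftRight_add, Nat.shiftRight_eq_div_pow y 8]] at this

theorem colVal_eq_zero {R : Type*} [CommRing R] (t : R) (i : ℕ) (L : List (ℕ × ℕ × ℤ))
    (hL : ∀ q ∈ L, q.1 ≠ i) : colVal t i L = 0 := by
  induction L with
  | nil => rfl
  | cons q L ih =>
    rw [colVal, if_neg (hL q (List.mem_cons_self ..)), zero_add,
      ih fun q' hq' => hL q' (List.mem_cons_of_mem _ hq')]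

theorem colVal_scale {R : Type*} [CommRing R] (t z wa wb : R) (i : ℕ) (L : List (ℕ × ℕ × ℤ))
    (hL : ∀ q ∈ L, q.1 = i → wa = wb * z ^ q.2.1) :
    wa * colVal t i L = colVal (z * t) i L * wb := by
  induction L with
  | nil => simp [colVal]
  | cons q L ih =>
    rw [colVal, colVal, mul_add, add_mul, ih fun q' hq' => hL q' (List.mem_cons_of_mem _ hq')]
    congr 1
    split
    · rw [hL q (List.mem_cons_self ..) ‹_›, mul_pow]; ring
    · simp

variable {D : ChevalleyDatum} {C : Cert} (h : Checks D C)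
include h

/-- The weight of a coordinate. -/
theorem cWt_byte (a : D.Idx) {j : ℕ} (hj : j < D.rank) :
    (C.cWt D (enc D a) >>> (8 * j)) % 256 < 16 ∧
    (((C.cWt D (enc D a) >>> (8 * j)) % 256 : ℕ) : ℤ) =
      Sum.elim (fun _ => (0 : ℤ)) (fun s : Fin D.nroots => D.cartan j s) a + 8 := by
  rcases a with l | s
  · rw [cWt_def, show enc D (Sum.inl l) = (l : ℕ) from rfl, nblt_iff.2 l.2, cond_true,
      byte_bytes8 _ _ hj]
    simp
  · rw [cWt_def, show enc D (Sum.inr s) = D.rank + s from rfl, nblt_false_iff.2 (by omega),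
      cond_false, Nat.add_sub_cancel_left]
    refine ⟨((root_split h s.2).2.2.1 j hj).2.2.2.2, ?_⟩
    rw [Sum.elim_inr, cartan_eq h hj s.2, Cert.cA, Int.subNatNat_eq_coe]
    simp [Nat.mod, Nat.shiftRight_eq]
    rfl

theorem entry_split {r : ℕ} (hr : r < D.nroots) {c : ℕ} (hc : c < D.rank + D.nroots)
    {q : ℕ × ℕ × ℤ} (hq : q ∈ colOf D C.T r c) : chkEntry D C r c q = true := by
  have hrec : ∀ L : List (ℕ × ℕ × ℤ), (List.rec (motive := fun _ => Bool) true
      (fun q _ ih => and (chkEntry D C r c q) ih) L : Bool) = true →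
      ∀ q ∈ L, chkEntry D C r c q = true := by
    intro L
    induction L with
    | nil => simp
    | cons a L ih =>
      intro hL q hq
      have hL' := (Bool.and_eq_true _ _).mp hL
      rcases List.mem_cons.1 hq with rfl | hq
      · exact hL'.1
      · exact ih hL'.2 q hq
  have := h.entries
  simp only [chkAllEntries, allBelow_iff] at this
  have := this r hr
  simp only [chkEntries, allBelow_iff, Nat.add_eq] at this
  have := this c hc
  cases hb : (Nat.beq (C.T.slot r c) 0 && !Nat.beq c (D.rank + negN D r)) with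
  | false =>
    rw [hb, cond_false] at this
    exact hrec _ this q hq
  | true =>
    simp only [Bool.and_eq_true, nbeq_iff, Bool.not_eq_true', nbeq_false_iff, negN_eq] at hb
    rw [colOf_eq_addIdx hb.2 hc, hb.1, decRaw_of_zero, addIdx_nil] at hq
    simp at hq

theorem x_lower {F : Type*} [Field F] {r : ℕ} (hr : r < D.nroots) (hp : half D ≤ r) (t : F)
    (a b : D.Idx) (hab : pos D a ≤ pos D b) : D.x F r t a b = if a = b then 1 else 0 := by
  rw [x_apply h.tab F hr, colVal_eq_zero, add_zero]
  intro q hq e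
  have := entry_split h hr (enc_lt D b) hq
  simp only [chkEntry, Bool.and_eq_true, nble_iff.2 hp, cond_true, nblt_iff, e, posN_enc] at this
  omega

theorem x_upper {F : Type*} [Field F] {r : ℕ} (hr : r < D.nroots) (hp : r < half D) (t : F)
    (a b : D.Idx) (hab : pos D b ≤ pos D a) : D.x F r t a b = if a = b then 1 else 0 := by
  rw [x_apply h.tab F hr, colVal_eq_zero, add_zero]
  intro q hq e
  have := entry_split h hr (enc_lt D b) hq
  simp only [chkEntry, Bool.and_eq_true, nble_false_iff.2 hp, cond_false, nblt_iff, e,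
    posN_enc] at this
  omega

theorem entry_weight {r : ℕ} (hr : r < D.nroots) {a b : D.Idx}
    {q : ℕ × ℕ × ℤ} (hq : q ∈ colOf D C.T r (enc D b)) (e : q.1 = enc D a) {j : ℕ}
    (hj : j < D.rank) :
    Sum.elim (fun _ => (0 : ℤ)) (fun s : Fin D.nroots => D.cartan j s) a =
      Sum.elim (fun _ => (0 : ℤ)) (fun s : Fin D.nroots => D.cartan j s) b +
        (q.2.1 : ℤ) * D.cartan j r := by
  have := entry_split h hr (enc_lt D b) hq
  simp only [chkEntry, Bool.and_eq_true, nble_iff, nbeq_iff, e, Nat.add_eq, Nat.mul_eq] at this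
  obtain ⟨-, hk, heq⟩ := this
  have hr' := cWt_byte h (Sum.inr ⟨r, hr⟩ : D.Idx) hj
  have key := congrArg (fun z => (z >>> (8 * j)) % 256) heq
  have hr0 : ∀ i ≤ j, (C.car.get r >>> (8 * i)) % 256 < 16 := fun i hi =>
    ((root_split h hr).2.2.1 i (by omega)).2.2.2.2
  rw [byte_add_mul _ hk j _ _ (fun i hi => (cWt_byte h a (by omega : i < D.rank)).1)
      (fun i hi => by rw [byte_bytes8 _ _ (by omega : i < D.rank)]; norm_num),
    byte_add_mul _ hk j _ _ (fun i hi => (cWt_byte h b (by omega : i < D.rank)).1) hr0,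
    byte_bytes8 _ _ hj] at key
  have key' := congrArg (fun z : ℕ => (z : ℤ)) key
  push_cast at key'
  have e3 : (((C.car.get r >>> (8 * j)) % 256 : ℕ) : ℤ) = D.cartan j r + 8 := by
    have := hr'.2
    rwa [cWt_def, show enc D (Sum.inr ⟨r, hr⟩) = D.rank + r from rfl, nblt_false_iff.2 (by omega),
      cond_false, Nat.add_sub_cancel_left, Sum.elim_inr] at this
  push_cast at e3
  have e1 := (cWt_byte h a hj).2
  have e2 := (cWt_byte h b hj).2
  push_cast at e1 e2
  rw [e1, e2, e3] at key'
  linarith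

theorem torus_x {F : Type*} [Field F] (c : ℕ → F) (hc : ∀ j < D.rank, c j ≠ 0) {r : ℕ}
    (hr : r < D.nroots) (t : F) :
    torus D c * D.x F r t = D.x F r (chi D c r * t) * torus D c := by
  classical
  ext a b
  rw [torus, Matrix.diagonal_mul, Matrix.mul_diagonal, x_apply h.tab F hr, x_apply h.tab F hr,
    mul_add, add_mul]
  congr 1
  · by_cases e : a = b
    · subst e; simp
    · simp [e]
  · refine colVal_scale t (chi D c r) _ _ _ _ fun q hq e => ?_
    have w : ∀ a : D.Idx,
        Sum.elim (fun _ => (1 : F)) (fun s : Fin D.nroots => chi D c s) a = ∏ j : Fin D.rank,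
          c j ^ Sum.elim (fun _ => (0 : ℤ)) (fun s : Fin D.nroots => D.cartan j s) a := by
      rintro (l | s) <;> simp [chi]
    rw [w a, w b, chi, ← Finset.prod_pow, ← Finset.prod_mul_distrib]
    refine Finset.prod_congr rfl fun j _ => ?_
    rw [entry_weight h hr hq e j.2, zpow_add₀ (hc j j.2), mul_comm (q.2.1 : ℤ) _, zpow_mul,
      zpow_natCast]

end Cfsg.Agent.Chev
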