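import Cfsg.Agent.Chev.SoundEntries

/-!
Meaning of the checks on the elements `n_p`: their shape, and how they conjugate root elements.
-/

set_option autoImplicit false

namespace Cfsg.Agent.Chev

open Cfsg.Lie

variable {D : ChevalleyDatum} {C : Cert}

theorem addIdx_scale {F : Type*} [Field F] (η t : F) (i bs : ℕ) (hbs : bs ≤ 1)
    (base u wu : ℕ)
    (hη : η = ((bitSign bs : ℤ) : F)) (hw : ∀ v : ℕ, v < D.nroots → (C.cW i v = u ↔ v = wu)) :
    ∀ (K b v v' : ℕ), sameSlot D C i bs K b v v' = true → ∀ k : ℕ,
      colVal (η * t) (base + u) (addIdx base (k + 1) (decRaw K v')) =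
        ((bitSign (b % 2) : ℤ) : F) * η ^ k * ((C.cEta i wu : ℤ) : F) *
          colVal t (base + wu) (addIdx base (k + 1) (decRaw K v)) := by
  intro K
  induction K with
  | zero => intro b v v' _ k; simp [decRaw_zero, addIdx_nil, colVal]
  | succ K ih =>
    intro b v v' hs k
    have hrec : sameSlot D C i bs (K + 1) b v v' =
      cond (Nat.beq (v % 1024) 0) (Nat.beq (v' % 1024) 0)
        (and (and (Nat.blt 0 (v' % 1024)) (Nat.blt (v % 1024 - 1) D.nroots))
        (and (Nat.beq (C.cW i (v % 1024 - 1) + 1) (v' % 1024))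
        (and (Nat.ble (v / 1024 % 64) 16)
        (and (Nat.beq (v' / 1024 % 64)
          (cond (Nat.beq ((b + bs + C.cB i (v % 1024 - 1)) % 2) 0)
            (v / 1024 % 64) (16 - v / 1024 % 64)))
          (sameSlot D C i bs K (b + bs) (v / 65536) (v' / 65536)))))) := rfl
    rw [hrec] at hs
    rw [decRaw_succ, decRaw_succ]
    cases hz : Nat.beq (v % 1024) 0 with
    | true =>
      rw [hz, cond_true] at hs
      simp [hs, addIdx_nil, colVal]
    | false =>
      rw [hz, cond_false] at hs
      simp only [Bool.and_eq_true, nblt_iff, nble_iff, nbeq_iff] at hs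
      obtain ⟨⟨hv', hvn⟩, hw', hcf, hco, hnext⟩ := hs
      rw [nbeq_false_iff.2 (by omega : v' % 1024 ≠ 0), cond_false, cond_false, addIdx_cons,
        addIdx_cons, colVal, colVal, ih _ _ _ hnext (k + 1), mul_add]
      simp only
      rw [← hw', Nat.add_sub_cancel]
      congr 1
      · simp only [Nat.add_left_cancel_iff]
        simp only [hw (v % 1024 - 1) hvn]
        by_cases hv : v % 1024 - 1 = wu
        · rw [if_pos hv, if_pos hv, hco, hv, mul_pow]
          have key : Int.subNatNat (cond (Nat.beq ((b + bs + C.cB i wu) % 2) 0)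
                (v / 1024 % 64) (16 - v / 1024 % 64)) 8 =
              bitSign (b % 2) * bitSign bs * C.cEta i wu * Int.subNatNat (v / 1024 % 64) 8 := by
            have hB : C.cB i wu = 0 ∨ C.cB i wu = 1 := Nat.mod_two_eq_zero_or_one _
            rcases Nat.mod_two_eq_zero_or_one b with e | e <;> rcases hB with e₁ | e₁ <;>
              rcases Nat.le_one_iff_eq_zero_or_eq_one.1 hbs with e₂ | e₂ <;>
              simp [Cert.cEta, bitSign, e₁, e₂, Nat.add_mod, e, Int.subNatNat_eq_coe,
                show Nat.beq 1 0 = false from rfl, show Nat.beq 0 0 = true from rfl,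
                Nat.cast_sub hcf] <;> omega
          rw [key]
          generalize Int.subNatNat (v / 1024 % 64) 8 = m
          push_cast
          rw [← hη]
          have : η * η = 1 := by
            rw [hη, ← Int.cast_mul, bitSign_mul_self, Int.cast_one]
          calc _ = ((bitSign (b % 2) : ℤ) : F) * η ^ k * (η * η) * ((C.cEta i wu : ℤ) : F) *
                (m : F) * t ^ (k + 1) := by ring
            _ = _ := by rw [this]; ring
        · rw [if_neg hv, if_neg hv, mul_zero]
      · congr 1
        rw [pow_succ, hη]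
        have : ((bitSign ((b + bs) % 2) : ℤ) : F) =
            ((bitSign (b % 2) : ℤ) : F) * ((bitSign bs : ℤ) : F) := by
          rw [← Int.cast_mul]
          congr 1
          rcases Nat.mod_two_eq_zero_or_one b with e | e <;>
            rcases Nat.le_one_iff_eq_zero_or_eq_one.1 hbs with e₂ | e₂ <;>
            simp [bitSign, e₂, Nat.add_mod, e, show Nat.beq 1 0 = false from rfl,
              show Nat.beq 0 0 = true from rfl]
        have hsq : ((bitSign bs : ℤ) : F) * ((bitSign bs : ℤ) : F) = 1 := by
          rw [← Int.cast_mul, bitSign_mul_self, Int.cast_one]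
        rw [this]
        linear_combination (((bitSign (b % 2) : ℤ) : F) * ((bitSign bs : ℤ) : F) ^ k *
          ((C.cEta i wu : ℤ) : F)) * hsq

section Shape

variable {F : Type*} [Field F] {i : ℕ} {η : ℕ → ℤ}

theorem nShape_inl_inl (a b : F) (j' j : Fin D.rank) :
    nShape D i η a b (Sum.inl j') (Sum.inl j) = (if j' = j then (1 : F) else 0) -
      (if (j' : ℕ) = i then ((D.cartan j (D.simple i) : ℤ) : F) else 0) := rfl

theorem nShape_inl_inr (a b : F) (j' : Fin D.rank) (s : Fin D.nroots) :
    nShape D i η a b (Sum.inl j') (Sum.inr s) = 0 := rfl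

theorem nShape_inr_inl (a b : F) (s : Fin D.nroots) (j : Fin D.rank) :
    nShape D i η a b (Sum.inr s) (Sum.inl j) = 0 := rfl

theorem nShape_inr_inr (a b : F) (s' s : Fin D.nroots) :
    nShape D i η a b (Sum.inr s') (Sum.inr s) = if (s' : ℕ) = D.reflectRoot i s then
      ((η s : ℤ) : F) * (a ^ (-D.cartan i s).toNat * b ^ (D.cartan i s).toNat) else 0 := rfl

theorem nShape_inr_inr_one (s' s : Fin D.nroots) :
    nShape D i η (1 : F) 1 (Sum.inr s') (Sum.inr s) =
      if (s' : ℕ) = D.reflectRoot i s then ((η s : ℤ) : F) else 0 := by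
  rw [nShape_inr_inr]; simp

end Shape

variable (h : Checks D C)
include h

theorem reflectRoot_eq_iff {i s u : ℕ} (hi : i < D.rank) (hs : s < D.nroots) (hu : u < D.nroots) :
    D.reflectRoot i s = u ↔ s = D.reflectRoot i u := by
  rw [(refl_split h hi hs).1, (refl_split h hi hu).1]
  exact ⟨fun e => by rw [← e, (refl_split h hi hs).2.2.1],
    fun e => by rw [e, (refl_split h hi hu).2.2.1]⟩

theorem refl_lt {i s : ℕ} (hi : i < D.rank) (hs : s < D.nroots) : D.reflectRoot i s < D.nroots := by
  rw [(refl_split h hi hs).1]; exact (refl_split h hi hs).2.1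

theorem mulVec_shapeApp {F : Type*} [Field F] (t v : F) {i : ℕ} (hi : i < D.rank) (l : List Tm) :
    (nShape D i (fun s => C.cEta i s) t v).mulVec (tmVec D t v l) =
      tmVec D t v (shapeApp D C i l) := by
  classical
  refine mulVec_tmVec_eq _ t v _ (fun x a b hb => ?_) (fun x a hx => ?_) l
  · have hp := (simple_split h hi).1
    rcases b with j | s
    · have hj : x.row = (j : ℕ) := hb.symm
      rw [hj, nblt_iff.2 j.2, cond_true, tmsVal_cons, tmsVal_cons, tmsVal_nil, add_zero,
        ← cartan_eq h j.2 hp, hj]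
      rcases a with j' | s'
      · rw [nShape_inl_inl]
        simp only [enc, Fin.ext_iff, eq_comm (a := (j : ℕ)), eq_comm (a := i)]
        push_cast
        split <;> split <;> ring
      · rw [nShape_inr_inl, if_neg (by simp [enc]; omega), if_neg (by simp [enc]; omega)]
        ring
    · have hs : x.row = D.rank + s := hb.symm
      have hlt := s.2
      rw [nblt_false_iff.2 (by omega), cond_false, nblt_iff.2 (by omega), cond_true,
        tmsVal_cons, tmsVal_nil, add_zero, hs, Nat.add_sub_cancel_left,
        ← cartan_eq h hi s.2, ← (refl_split h hi s.2).1]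
      rcases a with j' | s'
      · rw [nShape_inl_inr, if_neg (by simp [enc]; omega), zero_mul]
      · rw [nShape_inr_inr]
        simp only [enc, Nat.add_left_cancel_iff, eq_comm (a := D.reflectRoot i s)]
        split
        · push_cast [pow_add]; ring
        · ring
  · rw [nblt_false_iff.2 (by omega), cond_false, nblt_false_iff.2 (by omega), cond_false,
      tmsVal_nil]

theorem nMat_simple {F : Type*} [Field F] {i : ℕ} (hi : i < D.rank) {t : F} (ht : t ≠ 0) :
    D.nMat F (D.simple i) t = nShape D i (fun s => C.cEta i s) t t⁻¹ := by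
  have hp := (simple_split h hi).1
  have hc := h.shape i hi
  simp only [chkN, force_eq, Bool.and_eq_true, allBelow_iff] at hc
  have hev : D.nMat F (D.simple i) t = D.wordMat F (evalW t t⁻¹
      [(D.simple i, [⟨1, 0, 1⟩]), (negN D (D.simple i), [⟨0, 1, -1⟩]),
        (D.simple i, [⟨1, 0, 1⟩])]) := by
    simp [ChevalleyDatum.nMat, ChevalleyDatum.nWord, evalW, monsVal, Mon.val, neg_eq h hp, negN_eq]
  rw [hev]
  refine matrix_ext_unit t t⁻¹ _ _ fun c hcl => ?_
  rw [mulVec_appW h.tab t t⁻¹ hc.1, mulVec_shapeApp h t t⁻¹ hi]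
  funext a
  show tmsVal t t⁻¹ _ _ = tmsVal t t⁻¹ _ _
  rw [← tmsVal_cancelTms (mul_inv_cancel₀ ht),
    ← tmsVal_cancelTms (mul_inv_cancel₀ ht) (enc D a) (shapeApp D C i _)]
  exact tmsVal_eq_of_sameTms t t⁻¹ _ (hc.2 c hcl)

/-- Rows of `n_p · M`. -/
theorem shape_mul_inr {F : Type*} [Field F] {i : ℕ} (hi : i < D.rank) (M : Matrix D.Idx D.Idx F)
    (u : Fin D.nroots) (b : D.Idx) :
    (nShape D i (fun s => C.cEta i s) (1 : F) 1 * M) (Sum.inr u) b =
      ((C.cEta i (D.reflectRoot i u) : ℤ) : F) *
        M (Sum.inr ⟨D.reflectRoot i u, refl_lt h hi u.2⟩) b := by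
  classical
  rw [Matrix.mul_apply, Fintype.sum_sum_type]
  simp only [nShape_inr_inl, zero_mul, Finset.sum_const_zero, zero_add, nShape_inr_inr_one]
  rw [Finset.sum_eq_single ⟨D.reflectRoot i u, refl_lt h hi u.2⟩]
  · rw [if_pos]
    exact ((reflectRoot_eq_iff h hi (refl_lt h hi u.2) u.2).2 rfl).symm
  · intro s _ hs
    rw [if_neg, zero_mul]
    intro e
    exact hs (Fin.ext ((reflectRoot_eq_iff h hi s.2 u.2).1 e.symm))
  · intro hn; exact absurd (Finset.mem_univ _) hn

/-- Columns of `M · n_p`. -/
theorem mul_shape_inr {F : Type*} [Field F] {i : ℕ} (hi : i < D.rank) (M : Matrix D.Idx D.Idx F)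
    (a : D.Idx) (c : Fin D.nroots) :
    (M * nShape D i (fun s => C.cEta i s) (1 : F) 1) a (Sum.inr c) =
      M a (Sum.inr ⟨D.reflectRoot i c, refl_lt h hi c.2⟩) * ((C.cEta i c : ℤ) : F) := by
  classical
  rw [Matrix.mul_apply, Fintype.sum_sum_type]
  simp only [nShape_inl_inr, mul_zero, Finset.sum_const_zero, zero_add, nShape_inr_inr_one]
  rw [Finset.sum_eq_single ⟨D.reflectRoot i c, refl_lt h hi c.2⟩]
  · rw [if_pos rfl]
  · intro s _ hs
    rw [if_neg (fun e => hs (Fin.ext e)), mul_zero]
  · intro hn; exact absurd (Finset.mem_univ _) hn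

omit h in
theorem shape_mul_inl {F : Type*} [Field F] {i : ℕ} (η : ℕ → ℤ) (M : Matrix D.Idx D.Idx F)
    (j' : Fin D.rank) (b : D.Idx) :
    (nShape D i η (1 : F) 1 * M) (Sum.inl j') b = M (Sum.inl j') b -
      if (j' : ℕ) = i then ∑ j : Fin D.rank, ((D.cartan j (D.simple i) : ℤ) : F) * M (Sum.inl j) b
      else 0 := by
  classical
  rw [Matrix.mul_apply, Fintype.sum_sum_type]
  simp only [nShape_inl_inr, zero_mul, Finset.sum_const_zero, add_zero, nShape_inl_inl, sub_mul,
    ite_mul, one_mul, Finset.sum_sub_distrib, Finset.sum_ite_eq, Finset.mem_univ, if_true]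
  by_cases e : (j' : ℕ) = i <;> simp [e]

omit h in
theorem mul_shape_inl {F : Type*} [Field F] {i : ℕ} (hi : i < D.rank) (η : ℕ → ℤ)
    (M : Matrix D.Idx D.Idx F) (a : D.Idx) (j : Fin D.rank) :
    (M * nShape D i η (1 : F) 1) a (Sum.inl j) = M a (Sum.inl j) -
      M a (Sum.inl ⟨i, hi⟩) * ((D.cartan j (D.simple i) : ℤ) : F) := by
  classical
  rw [Matrix.mul_apply, Fintype.sum_sum_type]
  simp only [nShape_inr_inl, mul_zero, Finset.sum_const_zero, add_zero, nShape_inl_inl, mul_sub,
    mul_ite, mul_one, Finset.sum_sub_distrib, Finset.sum_ite_eq', Finset.mem_univ, if_true]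
  congr 1
  rw [Finset.sum_eq_single ⟨i, hi⟩]
  · rw [if_pos rfl]
  · intro k _ hk
    rw [if_neg (fun e => hk (Fin.ext e))]
  · intro hn; exact absurd (Finset.mem_univ _) hn

omit h in
theorem x_inl_inl {F : Type*} [Field F] {r : ℕ} (hr : r < D.nroots) (t : F) (j' j : Fin D.rank) :
    D.x F r t (Sum.inl j') (Sum.inl j) = if j' = j then 1 else 0 := by
  rw [ChevalleyDatum.x, dif_pos hr]; rfl

omit h in
theorem x_inr_inl {F : Type*} [Field F] {r : ℕ} (hr : r < D.nroots) (t : F) (u : Fin D.nroots)
    (j : Fin D.rank) : D.x F r t (Sum.inr u) (Sum.inl j) =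
      if (u : ℕ) = r then -((D.cartan j r : ℤ) : F) * t else 0 := by
  rw [ChevalleyDatum.x, dif_pos hr]
  simp only [ChevalleyDatum.xMat, Matrix.of_apply, Fin.ext_iff, ChevalleyDatum.cartan]

omit h in
theorem x_col_self {F : Type*} [Field F] {r : ℕ} (hr : r < D.nroots) (t : F) (a : D.Idx) :
    D.x F r t a (Sum.inr ⟨r, hr⟩) = if a = Sum.inr ⟨r, hr⟩ then 1 else 0 := by
  rw [ChevalleyDatum.x, dif_pos hr]
  rcases a with j | u <;> simp [ChevalleyDatum.xMat]

theorem x_col_neg_inl {F : Type*} [Field F] {r : ℕ} (hr : r < D.nroots) (t : F) (j : Fin D.rank)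
    {c : Fin D.nroots} (hc : (c : ℕ) = D.nroots - 1 - r) :
    D.x F r t (Sum.inl j) (Sum.inr c) = ((coef D r j : ℤ) : F) * t := by
  have hne := (chkTab_row h.tab hr).2.1
  have hng := (chkTab_row h.tab hr).1
  rw [ChevalleyDatum.x, dif_pos hr]
  simp only [ChevalleyDatum.xMat, Matrix.of_apply]
  rw [if_neg (fun e => hne ((congrArg Fin.val e).symm.trans hc)),
    if_pos (hc.trans hng.symm)]
  rfl

theorem x_col_neg_inr {F : Type*} [Field F] {r : ℕ} (hr : r < D.nroots) (t : F)
    (u : Fin D.nroots) {c : Fin D.nroots} (hc : (c : ℕ) = D.nroots - 1 - r) :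
    D.x F r t (Sum.inr u) (Sum.inr c) =
      if (u : ℕ) = D.nroots - 1 - r then 1 else if (u : ℕ) = r then -(t ^ 2) else 0 := by
  have hne := (chkTab_row h.tab hr).2.1
  have hng := (chkTab_row h.tab hr).1
  rw [ChevalleyDatum.x, dif_pos hr]
  simp only [ChevalleyDatum.xMat, Matrix.of_apply]
  rw [if_neg (fun e => hne ((congrArg Fin.val e).symm.trans hc)),
    if_pos (hc.trans hng.symm)]
  simp only [Fin.ext_iff, hc]

theorem x_col_chain {F : Type*} [Field F] {r : ℕ} (hr : r < D.nroots) (t : F)
    (a : D.Idx) {c : Fin D.nroots} (h₂ : (c : ℕ) ≠ D.nroots - 1 - r) :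
    D.x F r t a (Sum.inr c) = (if a = Sum.inr c then 1 else 0) +
      colVal t (enc D a) (addIdx D.rank 1 (decRaw C.T.K (C.T.slot r (D.rank + c)))) := by
  rw [x_apply h.tab F hr, show enc D (Sum.inr c) = D.rank + c from rfl,
    colOf_eq_addIdx (by omega) (by have := c.2; omega)]

theorem conj_main {F : Type*} [Field F] {i s : ℕ} (hi : i < D.rank) (hs : s < D.nroots)
    (hle : s ≤ D.reflectRoot i s) (t : F) :
    nShape D i (fun r => C.cEta i r) (1 : F) 1 * D.x F s t =
      D.x F (D.reflectRoot i s) (((C.cEta i s : ℤ) : F) * t) *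
        nShape D i (fun r => C.cEta i r) (1 : F) 1 := by
  classical
  obtain ⟨hw, hwlt, hww, hwn, hen, hee, -, hlin⟩ := refl_split h hi hs
  have hwlt' := refl_lt h hi hs
  have heta : ((C.cEta i s : ℤ) : F) * ((C.cEta i s : ℤ) : F) = 1 := by
    rw [← Int.cast_mul, Cert.cEta, bitSign_mul_self, Int.cast_one]
  ext a b
  rcases b with j | c
  · rw [mul_shape_inl hi]
    rcases a with j' | u
    · rw [shape_mul_inl, x_inl_inl hs, x_inl_inl hwlt', x_inl_inl hwlt']
      simp only [x_inl_inl hs, mul_ite, mul_one, mul_zero, Finset.sum_ite_eq',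
        Finset.mem_univ, if_true]
      simp only [Fin.ext_iff]
      split_ifs <;> ring
    · rw [shape_mul_inr h hi, x_inr_inl hs, x_inr_inl hwlt', x_inr_inl hwlt']
      simp only [reflectRoot_eq_iff h hi u.2 hs]
      by_cases e : (u : ℕ) = D.reflectRoot i s
      · simp only [if_pos e]
        have e' : D.reflectRoot i u = s := (reflectRoot_eq_iff h hi u.2 hs).2 e
        rw [e', hw, (hlin j j.2).1, (hlin i hi).1, (simple_split h hi).2.2.1]
        push_cast
        ring
      · simp only [if_neg e]; ring
  · rw [mul_shape_inr h hi]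
    by_cases hcs : (c : ℕ) = s
    · have e1 : (⟨D.reflectRoot i c, refl_lt h hi c.2⟩ : Fin D.nroots) =
          ⟨D.reflectRoot i s, hwlt'⟩ := Fin.ext (by simp [hcs])
      obtain rfl : c = ⟨s, hs⟩ := Fin.ext hcs
      rcases a with j' | u
      · rw [shape_mul_inl, x_col_self hs, x_col_self hwlt']
        simp [x_col_self hs]
      · rw [shape_mul_inr h hi, x_col_self hs, x_col_self hwlt']
        simp only [Sum.inr.injEq, Fin.ext_iff, reflectRoot_eq_iff h hi u.2 hs]
        by_cases e : (u : ℕ) = D.reflectRoot i s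
        · rw [if_pos e, (reflectRoot_eq_iff h hi u.2 hs).2 e]; simp
        · rw [if_neg e]; simp
    · by_cases hcn : (c : ℕ) = D.nroots - 1 - s
      · have hwc : D.reflectRoot i c = D.nroots - 1 - D.reflectRoot i s := by
          rw [hcn, (refl_split h hi (by omega)).1, hwn, hw]
        have hec : C.cEta i c = C.cEta i s := by rw [hcn, hen]
        rw [hec]
        rcases a with j' | u
        · rw [shape_mul_inl, x_col_neg_inl h hwlt' _ j' (c := ⟨_, refl_lt h hi c.2⟩) hwc,
            x_col_neg_inl h hs t j' hcn, Finset.sum_congr rfl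
              (fun j _ => by rw [x_col_neg_inl h hs t j hcn]), hw, (hlin j' j'.2).2]
          split
          · rename_i e
            push_cast
            rw [Finset.sum_congr rfl fun j _ => (mul_assoc _ _ _).symm, ← Finset.sum_mul]
            rw [Finset.sum_congr rfl fun (j : Fin D.rank) _ =>
              mul_comm ((coef D s j : ℤ) : F) ((D.cartan j (D.simple i) : ℤ) : F)]
            linear_combination (t * ((∑ j : Fin D.rank, ((D.cartan j (D.simple i) : ℤ) : F) *
              ((coef D s j : ℤ) : F)) - ((coef D s j' : ℤ) : F))) * heta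
          · push_cast
            linear_combination (-(t * ((coef D s j' : ℤ) : F))) * heta
        · rw [shape_mul_inr h hi,
            x_col_neg_inr h hwlt' _ u (c := ⟨_, refl_lt h hi c.2⟩) hwc,
            x_col_neg_inr h hs t _ hcn]
          simp only [reflectRoot_eq_iff h hi u.2 (show D.nroots - 1 - s < D.nroots by omega),
            reflectRoot_eq_iff h hi u.2 hs,
            show D.reflectRoot i (D.nroots - 1 - s) = D.nroots - 1 - D.reflectRoot i s by
              rw [← hcn]; exact hwc]
          by_cases e1 : (u : ℕ) = D.nroots - 1 - D.reflectRoot i s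
          · rw [if_pos e1, if_pos e1, (reflectRoot_eq_iff h hi u.2 (by omega)).2
              (show (u : ℕ) = D.reflectRoot i (D.nroots - 1 - s) by rw [e1, ← hwc, hcn]), hen]
            ring
          · rw [if_neg e1, if_neg e1]
            by_cases e2 : (u : ℕ) = D.reflectRoot i s
            · rw [if_pos e2, if_pos e2, (reflectRoot_eq_iff h hi u.2 hs).2 e2]
              linear_combination (t ^ 2 * ((C.cEta i s : ℤ) : F)) * heta
            · rw [if_neg e2, if_neg e2]; simp
      · have hwc1 : D.reflectRoot i c ≠ D.nroots - 1 - D.reflectRoot i s := by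
          intro e
          apply hcn
          rw [← hw] at hwn
          rw [← hwn, ← (refl_split h hi (by omega)).1] at e
          have := congrArg (D.reflectRoot i) e
          rwa [(reflectRoot_eq_iff h hi (refl_lt h hi c.2) c.2).2 rfl,
            (reflectRoot_eq_iff h hi (refl_lt h hi (by omega)) (by omega)).2 rfl] at this
        rw [x_col_chain h hwlt' _ a (c := ⟨_, refl_lt h hi c.2⟩) hwc1]
        rcases a with j' | u
        · rw [shape_mul_inl]
          simp only [x_col_chain h hs t _ hcn, reduceCtorEq, if_false, zero_add]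
          simp [colVal_addIdx_eq_zero, enc]
        · rw [shape_mul_inr h hi, x_col_chain h hs t _ hcn]
          have hck := h.conj i hi
          simp only [chkConj, allBelow_iff, force_eq] at hck
          have := hck s hs
          rw [← hw, nble_iff.2 hle, cond_true, allBelow_iff] at this
          have := this c c.2
          simp only [chkConjCol, force_eq, Nat.add_eq] at this
          rw [nbeq_false_iff.2 hcs, nbeq_false_iff.2 (by rw [negN_eq]; exact hcn),
            Bool.or_self, cond_false, ← (refl_split h hi c.2).1] at this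
          have key : colVal (((C.cEta i s : ℤ) : F) * t) (D.rank + u) (addIdx D.rank 1
                (decRaw C.T.K (C.T.slot (D.reflectRoot i s) (D.rank + D.reflectRoot i c)))) =
              ((C.cEta i c : ℤ) : F) * ((C.cEta i (D.reflectRoot i u) : ℤ) : F) *
                colVal t (D.rank + D.reflectRoot i u)
                  (addIdx D.rank 1 (decRaw C.T.K (C.T.slot s (D.rank + c)))) := by
            by_cases hv : C.T.slot s (D.rank + c) = 0
            · rw [nbeq_iff.2 hv, cond_true, nbeq_iff] at this
              rw [hv, this, decRaw_of_zero, addIdx_nil]; simp [colVal]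
            · rw [nbeq_false_iff.2 hv, cond_false] at this
              have hwu : ∀ v : ℕ, v < D.nroots → (C.cW i v = u ↔ v = D.reflectRoot i u) := by
                intro v hvn
                rw [← (refl_split h hi hvn).1]
                exact reflectRoot_eq_iff h hi hvn u.2
              have hB : C.cB i s ≤ 1 := Nat.le_of_lt_succ (Nat.mod_lt _ (by norm_num))
              have := addIdx_scale (((C.cEta i s : ℤ) : F)) t i _ hB D.rank u _ rfl hwu _ _ _ _
                this 0
              rw [this, pow_zero, mul_one, Nat.mod_eq_of_lt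
                (show C.cB i c < 2 from Nat.mod_lt _ (by norm_num))]
              rfl
          simp only [show enc D (Sum.inr u) = D.rank + u from rfl,
            show enc D (Sum.inr (⟨D.reflectRoot i u, refl_lt h hi u.2⟩ : Fin D.nroots)) =
              D.rank + D.reflectRoot i u from rfl, Sum.inr.injEq, Fin.ext_iff] at key ⊢
          rw [key]
          have hsq : ((C.cEta i c : ℤ) : F) * ((C.cEta i c : ℤ) : F) = 1 := by
            rw [← Int.cast_mul, Cert.cEta, bitSign_mul_self, Int.cast_one]
          by_cases e : (u : ℕ) = D.reflectRoot i c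
          · rw [if_pos e, (reflectRoot_eq_iff h hi u.2 c.2).2 e, if_pos rfl]
            linear_combination (-(((C.cEta i c : ℤ) : F) * colVal t (D.rank + (c : ℕ))
              (addIdx D.rank 1 (decRaw C.T.K (C.T.slot s (D.rank + c)))))) * hsq
          · rw [if_neg e, if_neg fun e' => e ((reflectRoot_eq_iff h hi u.2 c.2).1 e')]
            linear_combination (-(((C.cEta i (D.reflectRoot i u) : ℤ) : F) * colVal t
              (D.rank + D.reflectRoot i u)
              (addIdx D.rank 1 (decRaw C.T.K (C.T.slot s (D.rank + c)))))) * hsq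

end Cfsg.Agent.Chev
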