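import Cfsg.Agent.Chev.MinCoset
import Cfsg.Prelude.Def_ParabolicCharacters

/-!
The cosets of a parabolic subgroup as a union of cells, and the restriction of the Steinberg
character to the Borel subgroup.
-/

set_option autoImplicit false
set_option maxHeartbeats 1000000

namespace Cfsg.Agent.Chev

open Cfsg.Lie
open scoped MatrixGroups

universe u

variable {D : ChevalleyDatum} {F : Type u} [Field F] (hF : Facts.{u} D)
include hF

theorem invCard_inv {π : Equiv.Perm (Fin D.nroots)} (hπ : π ∈ weyl hF) :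
    invCard π⁻¹ = invCard π := by
  classical
  rw [invCard_eq, invCard_eq]
  refine (Finset.card_bij (fun r _ => negF hF (π r)) ?_ ?_ ?_).symm
  · intro r hr
    simp only [invSet, Finset.mem_filter, Finset.mem_univ, true_and] at hr ⊢
    refine ⟨(pos_negF_iff hF (π r)).2 hr.2, ?_⟩
    rw [weyl_negF hF (Subgroup.inv_mem _ hπ), inv_app]
    exact (neg_lt_half_iff hF r.2).2 hr.1
  · intro a _ b _ e
    exact π.injective (by simpa [negF_negF] using congrArg (negF hF) e)
  · intro s hs
    simp only [invSet, Finset.mem_filter, Finset.mem_univ, true_and] at hs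
    refine ⟨negF hF (π⁻¹ s), ?_, by rw [weyl_negF hF hπ, app_inv, negF_negF]⟩
    simp only [invSet, Finset.mem_filter, Finset.mem_univ, true_and]
    refine ⟨(pos_negF_iff hF (π⁻¹ s)).2 hs.2, ?_⟩
    rw [weyl_negF hF hπ, app_inv]
    exact (neg_lt_half_iff hF s.2).2 hs.1

open Classical in
/-- A representative in `N` of a Weyl element. -/
noncomputable def repN (π : Equiv.Perm (Fin D.nroots)) : GL D.Idx F :=
  if h : π ∈ weyl hF then nWord hF (exists_pWord hF h).choose else 1

theorem repN_mem (π : Equiv.Perm (Fin D.nroots)) :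
    (repN hF π : GL D.Idx F) ∈ D.monomialSubgroup F := by
  rw [repN]
  split
  · exact nWord_mem hF _
  · exact Subgroup.one_mem _

theorem isMon_repN {π : Equiv.Perm (Fin D.nroots)} (hπ : π ∈ weyl hF) :
    IsMon hF (repN hF π : GL D.Idx F) π := by
  rw [repN, dif_pos hπ]
  have := isMon_nWord hF (exists_pWord hF hπ).choose (F := F)
  rwa [(exists_pWord hF hπ).choose_spec] at this

theorem isMon_inv {g : GL D.Idx F} {π : Equiv.Perm (Fin D.nroots)}
    (hg : g ∈ D.monomialSubgroup F) (h : IsMon hF g π) : IsMon hF g⁻¹ π⁻¹ := by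
  have h2 := isMon_mul hF h (isMon_monPerm hF (Subgroup.inv_mem _ hg))
  rw [mul_inv_cancel] at h2
  have h3 := isMon_monPerm hF (Subgroup.inv_mem _ hg)
  rwa [eq_inv_of_mul_eq_one_right (isMon_unique hF h2 (isMon_one hF))] at h3

theorem uMinus_le_posU (π : Equiv.Perm (Fin D.nroots)) :
    uMinus hF π (F := F) ≤ D.posUnipotent F := by
  refine (Subgroup.closure_le _).2 ?_
  rintro _ ⟨r, s, h1, -, rfl⟩
  exact mem_posUnipotent_of hF r.2 h1 s

/-- Moving an element of `B` past a point of a cell. -/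
theorem cell_step {π : Equiv.Perm (Fin D.nroots)} (hπ : π ∈ weyl hF) {b : GL D.Idx F}
    (hb : b ∈ D.borelSubgroup F) {y : GL D.Idx F} (hy : y ∈ uMinus hF π⁻¹) :
    ∃ y' ∈ uMinus hF π⁻¹, ∃ b' ∈ D.borelSubgroup F,
      b * (y * repN hF π) = y' * repN hF π * b' := by
  set n := (repN hF π : GL D.Idx F) with hn
  obtain ⟨v, hv, c, hvc⟩ := (mem_borel_iff hF).1
    (Subgroup.mul_mem _ hb (uMinus_le_borel hF _ hy))
  obtain ⟨p, hp, m, hm, hpm⟩ := posUnipotent_split hF π⁻¹ (Subgroup.inv_mem _ hv)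
  have hconj : n⁻¹ * p * n ∈ D.posUnipotent F := by
    have := conj_uPlus hF (isMon_inv hF (repN_mem hF π) (isMon_repN hF hπ)) hp
    rwa [inv_inv] at this
  have htor : n⁻¹ * torusHom c * n ∈ D.diagonalSubgroup F := by
    have := (diagonal_subgroupOf_normal hF (F := F)).conj_mem
      ⟨torusHom c, Subgroup.mem_sup_left (torusHom_mem hF c)⟩
      (Subgroup.mem_subgroupOf.2 (torusHom_mem hF c))
      ⟨n⁻¹, Subgroup.inv_mem _ (repN_mem hF π)⟩
    rw [Subgroup.mem_subgroupOf] at this
    simpa using this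
  refine ⟨m⁻¹, Subgroup.inv_mem _ hm, (n⁻¹ * p * n)⁻¹ * (n⁻¹ * torusHom c * n),
    Subgroup.mul_mem _ (Subgroup.mem_sup_left (Subgroup.inv_mem _ hconj))
      (Subgroup.mem_sup_right htor), ?_⟩
  rw [show b * (y * n) = (v⁻¹)⁻¹ * torusHom c * n by rw [← mul_assoc, hvc, inv_inv], hpm]
  group

/-- The condition for an element to fix a point of a cell in `G / B`. -/
def FixPt (π : Equiv.Perm (Fin D.nroots)) (b y : GL D.Idx F) : Prop :=
  ∃ b' ∈ D.borelSubgroup F, b * (y * repN hF π) = y * repN hF π * b'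

/-- The number of fixed points in a cell. -/
noncomputable def cellCount (π : Equiv.Perm (Fin D.nroots)) (b : GL D.Idx F) : ℕ :=
  Nat.card {y : ↥(uMinus hF π⁻¹ (F := F)) // FixPt hF π b y}

theorem repN_parabolic {J : Set ℕ} {π : Equiv.Perm (Fin D.nroots)}
    (hπ : π ∈ wJ hF (idxSet D J)) : (repN hF π : GL D.Idx F) ∈ D.parabolicSubgroup F J := by
  obtain ⟨w, hw, e⟩ := exists_pWord_J hF hπ
  have h2 := isMon_mul hF (isMon_inv hF (nWord_mem hF w) (isMon_nWord hF w (F := F)))
    (isMon_repN hF (wJ_le hF _ hπ))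
  rw [e, inv_mul_cancel] at h2
  have hd := mem_diagonal_of_isMon_one hF
    (Subgroup.mul_mem _ (Subgroup.inv_mem _ (nWord_mem hF w)) (repN_mem hF π)) h2
  have hnw : (nWord hF w : GL D.Idx F) ∈ D.parabolicSubgroup F J :=
    Subgroup.list_prod_mem _ fun g hg => by
      obtain ⟨i, hi, rfl⟩ := List.mem_map.1 hg
      exact nS_mem_parabolic hF J (hw i hi)
  have := Subgroup.mul_mem _ hnw (borel_le_parabolic J (Subgroup.mem_sup_right hd))
  rwa [mul_inv_cancel_left] at this

/-- The fixed points on the cosets of a parabolic subgroup, cell by cell. -/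
theorem fixed_parabolic [Fintype F] (J : Set ℕ) {b : ↥(D.group F)}
    (hb : (b : GL D.Idx F) ∈ D.borelSubgroup F) :
    Nat.card (MulAction.fixedBy (↥(D.group F) ⧸ (D.parabolicSubgroup F J).subgroupOf (D.group F)) b) =
      ∑ π ∈ minSet hF (idxSet D J), cellCount hF π (b : GL D.Idx F) := by
  classical
  set S := minSet hF (idxSet D J) with hS
  set P := (D.parabolicSubgroup F J).subgroupOf (D.group F) with hP
  have hyG : ∀ (π : ↥S) (y : ↥(uMinus hF (π : Equiv.Perm (Fin D.nroots))⁻¹ (F := F))),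
      (y : GL D.Idx F) * repN hF (π : Equiv.Perm (Fin D.nroots)) ∈ D.group F := fun π y =>
    Subgroup.mul_mem _ (borel_le_group hF (uMinus_le_borel hF _ y.2))
      (monomial_le_group hF (repN_mem hF _))
  let f : (Σ π : ↥S, ↥(uMinus hF (π : Equiv.Perm (Fin D.nroots))⁻¹ (F := F))) →
      ↥(D.group F) ⧸ P := fun p => QuotientGroup.mk ⟨_, hyG p.1 p.2⟩
  have hBP : ∀ {x : GL D.Idx F}, x ∈ D.borelSubgroup F → x ∈ D.parabolicSubgroup F J :=
    fun hx => borel_le_parabolic J hx
  have hsurj : Function.Surjective f := by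
    intro q
    obtain ⟨g, rfl⟩ := QuotientGroup.mk_surjective q
    obtain ⟨b₁, hb₁, w, x, hx, e⟩ := exists_normalForm hF g.2
    obtain ⟨π, hπ, hv⟩ := exists_min hF (J := idxSet D J) _ rfl (pWord_mem hF w)
    set v := π⁻¹ * pWord hF w
    obtain ⟨y', hy', b', hb', e'⟩ := cell_step hF hπ.1 hb₁
      (Subgroup.one_mem (uMinus hF π⁻¹))
    rw [one_mul] at e'
    refine ⟨⟨⟨π, (mem_minSet hF).2 hπ⟩, ⟨y', hy'⟩⟩, ?_⟩
    rw [QuotientGroup.eq]
    show (y' * repN hF π)⁻¹ * (g : GL D.Idx F) ∈ D.parabolicSubgroup F J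
    have h2 := isMon_mul hF (isMon_inv hF (Subgroup.mul_mem _ (repN_mem hF π) (repN_mem hF v))
      (isMon_mul hF (isMon_repN hF hπ.1) (isMon_repN hF (wJ_le hF _ hv) (F := F))))
      (isMon_nWord hF w (F := F))
    rw [mul_inv_cancel_left, inv_mul_cancel] at h2
    have hd := mem_diagonal_of_isMon_one hF (Subgroup.mul_mem _ (Subgroup.inv_mem _
      (Subgroup.mul_mem _ (repN_mem hF π) (repN_mem hF v))) (nWord_mem hF w)) h2
    set d := (repN hF π * repN hF v : GL D.Idx F)⁻¹ * nWord hF w with hdd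
    have hnw : (nWord hF w : GL D.Idx F) = repN hF π * repN hF v * d := by
      rw [hdd, mul_inv_cancel_left]
    have eg : (y' * repN hF π)⁻¹ * (g : GL D.Idx F) = b' * repN hF v * d * x := by
      rw [e, hnw, show b₁ * (repN hF π * repN hF v * d) * x =
        b₁ * repN hF π * (repN hF v * d * x) by group, e']
      group
    rw [eg]
    exact Subgroup.mul_mem _ (Subgroup.mul_mem _ (Subgroup.mul_mem _ (hBP hb')
      (repN_parabolic hF hv)) (hBP (Subgroup.mem_sup_right hd))) (hBP (uMinus_le_borel hF _ hx))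
  have hbij : Function.Bijective f := by
    refine (Nat.bijective_iff_surjective_and_card f).2 ⟨hsurj, ?_⟩
    rw [Nat.card_sigma, hP, ← Subgroup.index_eq_card, index_parabolic hF J, ← Finset.sum_coe_sort S (fun u => Fintype.card F ^ invCard u)]
    refine Finset.sum_congr rfl fun π _ => ?_
    have hπW := ((mem_minSet hF).1 π.2).1
    rw [card_uMinus hF (isMon_repN hF (Subgroup.inv_mem _ hπW)), invCard_inv hF hπW]
  have hfix : ∀ p, f p ∈ MulAction.fixedBy (↥(D.group F) ⧸ P) b ↔
      FixPt hF (p.1 : Equiv.Perm (Fin D.nroots)) (b : GL D.Idx F) (p.2 : GL D.Idx F) := by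
    rintro ⟨π, y⟩
    obtain ⟨y', hy', b', hb', e'⟩ := cell_step hF ((mem_minSet hF).1 π.2).1 hb y.2
    have hmove : b • f ⟨π, y⟩ = f ⟨π, ⟨y', hy'⟩⟩ := by
      refine QuotientGroup.eq.2 ?_
      show ((b : GL D.Idx F) * ((y : GL D.Idx F) * repN hF (π : Equiv.Perm (Fin D.nroots))))⁻¹ *
        (y' * repN hF (π : Equiv.Perm (Fin D.nroots))) ∈ D.parabolicSubgroup F J
      rw [e', mul_inv_rev, inv_mul_cancel_right]
      exact hBP (Subgroup.inv_mem _ hb')
    constructor
    · intro h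
      rw [MulAction.mem_fixedBy, hmove] at h
      obtain rfl : (⟨y', hy'⟩ : ↥(uMinus hF (π : Equiv.Perm (Fin D.nroots))⁻¹)) = y := by
        simpa using hbij.1 h
      exact ⟨b', hb', e'⟩
    · rintro ⟨b'', hb'', e''⟩
      refine QuotientGroup.eq.2 ?_
      show ((b : GL D.Idx F) * ((y : GL D.Idx F) * repN hF (π : Equiv.Perm (Fin D.nroots))))⁻¹ *
        ((y : GL D.Idx F) * repN hF (π : Equiv.Perm (Fin D.nroots))) ∈ D.parabolicSubgroup F J
      rw [e'', mul_inv_rev, inv_mul_cancel_right]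
      exact hBP (Subgroup.inv_mem _ hb'')
  rw [← Nat.card_congr ((Equiv.ofBijective f hbij).subtypeEquiv
      (p := fun p => FixPt hF (p.1 : Equiv.Perm (Fin D.nroots)) (b : GL D.Idx F) (p.2 : GL D.Idx F))
      (q := fun c => c ∈ MulAction.fixedBy (↥(D.group F) ⧸ P) b) fun p => (hfix p).symm),
    Nat.card_congr (β := Σ π : ↥S, {y : ↥(uMinus hF (π : Equiv.Perm (Fin D.nroots))⁻¹ (F := F)) //
      FixPt hF (π : Equiv.Perm (Fin D.nroots)) (b : GL D.Idx F) (y : GL D.Idx F)})
      { toFun := fun p => ⟨p.1.1, p.1.2, p.2⟩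
        invFun := fun q => ⟨⟨q.1, q.2.1⟩, q.2.2⟩
        left_inv := fun _ => rfl
        right_inv := fun _ => rfl },
    Nat.card_sigma, ← Finset.sum_coe_sort S (fun π => cellCount hF π (b : GL D.Idx F))]
  rfl

omit hF in
theorem powerset_range_eq : (Finset.range D.rank).powerset =
    (Finset.univ : Finset (Fin D.rank)).powerset.map
      ⟨Finset.map Fin.valEmbedding, Finset.map_injective Fin.valEmbedding⟩ := by
  ext J
  simp only [Finset.mem_powerset, Finset.mem_map, Function.Embedding.coeFn_mk]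
  constructor
  · intro h
    refine ⟨idxSet D ↑J, Finset.subset_univ _, ?_⟩
    ext j
    simp only [Finset.mem_map, mem_idxSet, Finset.mem_coe, Fin.valEmbedding_apply]
    exact ⟨fun ⟨i, hi, e⟩ => e ▸ hi, fun hj => ⟨⟨j, Finset.mem_range.1 (h hj)⟩, hj, rfl⟩⟩
  · rintro ⟨A, -, rfl⟩ j hj
    obtain ⟨i, -, rfl⟩ := Finset.mem_map.1 hj
    exact Finset.mem_range.2 i.2

omit hF in
theorem idxSet_map (A : Finset (Fin D.rank)) :
    idxSet D ↑(A.map Fin.valEmbedding) = A := by
  ext i
  simp only [mem_idxSet, Finset.mem_coe]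
  exact Finset.mem_map' Fin.valEmbedding

/-- On `B` the Steinberg character counts fixed points in the big cell. -/
theorem steinberg_borel [Fintype F] {w : List (Fin D.rank)}
    (hw : ∀ r : Fin D.nroots, ((pWord hF w r : ℕ) < half D ↔ half D ≤ (r : ℕ)))
    {b : ↥(D.group F)} (hb : (b : GL D.Idx F) ∈ D.borelSubgroup F) :
    D.steinbergCharacter F b = (cellCount hF (pWord hF w) (b : GL D.Idx F) : ℂ) := by
  have h1 : ∀ J : Finset ℕ, Cfsg.fixedPointCharacter (D.parabolicIn F J) b =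
      ∑ π ∈ minSet hF (idxSet D ↑J), (cellCount hF π (b : GL D.Idx F) : ℂ) := by
    intro J
    rw [← Nat.cast_sum, ← fixed_parabolic hF (↑J : Set ℕ) hb]
    rfl
  simp only [ChevalleyDatum.steinbergCharacter, h1, powerset_range_eq, Finset.sum_map,
    Function.Embedding.coeFn_mk, idxSet_map, Finset.card_map]
  exact alternating_sum_fun hF (fun π => (cellCount hF π (b : GL D.Idx F) : ℂ)) hw

end Cfsg.Agent.Chev
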