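import Cfsg.Prelude.Def_ChevStructure
import Cfsg.Agent.Chev.Eval
import Cfsg.Agent.Chev.Fast

/-!
Fast, kernel-friendly tables equivalent to the matrices `x_r(t)` of a Chevalley datum.
-/

set_option autoImplicit false

namespace Cfsg.Agent.Chev

open Cfsg.Lie

/-- Binary trie of natural numbers indexed by the bits of the index, lowest bit first. -/
inductive Tr where
  | leaf (v : ℕ)
  | node (l r : Tr)

/-- Lookup in a trie. -/
noncomputable def Tr.get (t : Tr) : ℕ → ℕ :=
  Tr.rec (motive := fun _ => ℕ → ℕ) (fun v _ => v)
    (fun _ _ fl fr n => cond (Nat.beq (Nat.mod n 2) 0) (fl (Nat.div n 2)) (fr (Nat.div n 2))) t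

/-- Raw decoding of a packed slot: a list of (root, coefficient). -/
noncomputable def decRaw (K : ℕ) : ℕ → List (ℕ × ℤ) :=
  Nat.rec (motive := fun _ => ℕ → List (ℕ × ℤ)) (fun _ => [])
    (fun _ ih v => cond (Nat.beq (Nat.mod v 1024) 0) []
      ((Nat.sub (Nat.mod v 1024) 1, Int.subNatNat (Nat.mod (Nat.div v 1024) 64) 8) ::
        ih (Nat.div v 65536))) K

theorem decRaw_zero (v : ℕ) : decRaw 0 v = [] := rfl

theorem decRaw_succ (K v : ℕ) : decRaw (K + 1) v = cond (Nat.beq (v % 1024) 0) []
    ((v % 1024 - 1, Int.subNatNat (v / 1024 % 64) 8) :: decRaw K (v / 65536)) := rfl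

theorem decRaw_of_zero (K : ℕ) : decRaw K 0 = [] := by cases K <;> rfl

/-- Turn a raw slot into (row, power of `t`, coefficient). -/
noncomputable def addIdx (base k : ℕ) (L : List (ℕ × ℤ)) : List (ℕ × ℕ × ℤ) :=
  List.rec (motive := fun _ => ℕ → List (ℕ × ℕ × ℤ)) (fun _ => [])
    (fun q _ ih k => (Nat.add base q.1, k, q.2) :: ih (Nat.succ k)) L k

theorem addIdx_nil (base k : ℕ) : addIdx base k [] = [] := rfl

theorem addIdx_cons (base k : ℕ) (q : ℕ × ℤ) (L : List (ℕ × ℤ)) :
    addIdx base k (q :: L) = (base + q.1, k, q.2) :: addIdx base (k + 1) L := rfl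

/-- Packed tables of a datum. `cols` at `r` holds one slot of `16 * K` bits for each column. -/
structure Tab where
  K : ℕ
  W : ℕ
  M : ℕ
  cols : Tr

variable (D : ChevalleyDatum) (T : Tab)

/-- The packed slot of the column `c` of `x_r`. -/
noncomputable def Tab.slot (r c : ℕ) : ℕ :=
  Nat.mod (Nat.shiftRight (T.cols.get r) (Nat.mul c T.W)) T.M

/-- The column of the negative root `-r` in `x_r(t) - 1`. -/
def negCol (r : ℕ) : List (ℕ × ℕ × ℤ) :=
  ((D.coroot.getD r #[]).toList.zipIdx.map fun q => (q.2, 1, q.1)) ++
    [(D.rank + r, 2, -1)]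

/-- The column `c` of `x_r(t) - 1` as (row, power of `t`, coefficient). -/
noncomputable def colOf (r c : ℕ) : List (ℕ × ℕ × ℤ) :=
  cond (Nat.beq c (Nat.add D.rank (Nat.sub (Nat.sub D.nroots 1) r))) (negCol D r)
    (cond (Nat.blt c (Nat.add D.rank D.nroots)) (addIdx D.rank 1 (decRaw T.K (T.slot r c))) [])

theorem colOf_def (r c : ℕ) : colOf D T r c =
    cond (Nat.beq c (D.rank + (D.nroots - 1 - r))) (negCol D r)
      (cond (Nat.blt c (D.rank + D.nroots)) (addIdx D.rank 1 (decRaw T.K (T.slot r c))) []) := rfl

/-- Chain table of the root `r` rebuilt from the packed table. -/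
noncomputable def chainRebuilt (r : ℕ) : List (ℕ × List (ℕ × ℤ)) :=
  Nat.rec (motive := fun _ => List (ℕ × List (ℕ × ℤ)) → List (ℕ × List (ℕ × ℤ))) (fun acc => acc)
    (fun m ih acc => ih
      (cond (or (Nat.beq m (Nat.sub (Nat.sub D.nroots 1) r)) (Nat.beq m r)) acc
        (cond (Nat.beq (T.slot r (Nat.add D.rank m)) 0) acc
          (List.rec (motive := fun _ => List (ℕ × List (ℕ × ℤ))) acc
            (fun a L _ => (m, a :: L) :: acc) (decRaw T.K (T.slot r (Nat.add D.rank m)))))))
    D.nroots []

theorem chainRebuilt_eq (r : ℕ) : chainRebuilt D T r =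
    (List.range D.nroots).filterMap fun s =>
      cond (s == D.nroots - 1 - r || s == r) none
        (match decRaw T.K (T.slot r (D.rank + s)) with
          | [] => none
          | L => some (s, L)) := by
  suffices H : ∀ n acc, (Nat.rec (motive := fun _ => List (ℕ × List (ℕ × ℤ)) →
      List (ℕ × List (ℕ × ℤ))) (fun acc => acc)
      (fun m ih acc => ih
        (cond (or (Nat.beq m (Nat.sub (Nat.sub D.nroots 1) r)) (Nat.beq m r)) acc
          (cond (Nat.beq (T.slot r (Nat.add D.rank m)) 0) acc
            (List.rec (motive := fun _ => List (ℕ × List (ℕ × ℤ))) acc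
              (fun a L _ => (m, a :: L) :: acc) (decRaw T.K (T.slot r (Nat.add D.rank m)))))))
      n acc : List (ℕ × List (ℕ × ℤ))) = ((List.range n).filterMap fun s =>
      cond (s == D.nroots - 1 - r || s == r) none
        (match decRaw T.K (T.slot r (D.rank + s)) with
          | [] => none
          | L => some (s, L))) ++ acc by
    simpa [chainRebuilt] using H D.nroots []
  intro n
  induction n with
  | zero => intro acc; rfl
  | succ n ih =>
    intro acc
    refine (ih _).trans ?_
    rw [List.range_succ, List.filterMap_append, List.append_assoc]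
    congr 1
    have e : ∀ a b : ℕ, Nat.beq a b = (a == b) := fun a b => by
      rw [Bool.eq_iff_iff, nbeq_iff, beq_iff_eq]
    simp only [List.filterMap_cons, List.filterMap_nil, e, Nat.sub_eq, Nat.add_eq]
    cases (n == D.nroots - 1 - r || n == r)
    · simp only [cond_false]
      by_cases h0 : T.slot r (D.rank + n) = 0
      · simp [h0, decRaw_of_zero]
      · rw [beq_eq_false_iff_ne.2 h0, cond_false]
        cases decRaw T.K (T.slot r (D.rank + n)) <;> simp
    · simp

/-- The check that the packed table of the root `r` is the one of the datum. -/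
noncomputable def chkTabRow (r : ℕ) : Bool :=
  D.negIdx.getD r 0 == D.nroots - 1 - r &&
  r != D.nroots - 1 - r &&
  decRaw T.K (T.slot r (D.rank + r)) == [] &&
  (D.coroot.getD r #[]).toList.length == D.rank &&
  (allBelow (fun i =>
    decRaw T.K (T.slot r i) ==
      cond ((D.cartanSR.getD i #[]).getD r 0 == 0) [] [(r, -((D.cartanSR.getD i #[]).getD r 0))])
    D.rank) &&
  (D.chain.getD r #[]).toList.map (fun e => (e.1, e.2.toList)) == chainRebuilt D T r

/-- The check that a packed table is the one of the datum, for the roots below `n`. -/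
noncomputable def chkTab : Bool := allBelow (chkTabRow D T) D.nroots

/-- Coordinates as natural numbers: coroots first, then roots. -/
def enc : D.Idx → ℕ
  | .inl i => i
  | .inr s => D.rank + s

theorem enc_injective : Function.Injective (enc D) := by
  rintro (i | s) (j | t) h <;> simp only [enc] at h
  · exact congrArg Sum.inl (Fin.ext h)
  · have := i.2; omega
  · have := j.2; omega
  · exact congrArg Sum.inr (Fin.ext (Nat.add_left_cancel h))

theorem enc_lt (i : D.Idx) : enc D i < D.rank + D.nroots := by
  rcases i with i | s <;> simp only [enc]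
  · have := i.2; omega
  · have := s.2; omega

theorem exists_enc {c : ℕ} (h : c < D.rank + D.nroots) : ∃ i : D.Idx, enc D i = c := by
  by_cases h' : c < D.rank
  · exact ⟨.inl ⟨c, h'⟩, rfl⟩
  · exact ⟨.inr ⟨c - D.rank, by omega⟩, by simp only [enc]; omega⟩

/-- Value in row `i` of a column given as (row, power, coefficient). -/
def colVal {R : Type*} [CommRing R] (t : R) (i : ℕ) : List (ℕ × ℕ × ℤ) → R
  | [] => 0
  | q :: L => (if q.1 = i then (q.2.2 : R) * t ^ q.2.1 else 0) + colVal t i L

theorem colVal_append {R : Type*} [CommRing R] (t : R) (i : ℕ) (L₁ L₂ : List (ℕ × ℕ × ℤ)) :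
    colVal t i (L₁ ++ L₂) = colVal t i L₁ + colVal t i L₂ := by
  induction L₁ with
  | nil => simp [colVal]
  | cons q L ih => simp [colVal, ih, add_assoc]

theorem colVal_addIdx_eq_zero {R : Type*} [CommRing R] (t : R) {base i : ℕ} (h : i < base) :
    ∀ (k : ℕ) (L : List (ℕ × ℤ)), colVal t i (addIdx base k L) = 0 := by
  intro k L
  induction L generalizing k with
  | nil => rfl
  | cons q L ih =>
    obtain ⟨u, m⟩ := q
    simp [addIdx_cons, colVal, ih, show base + u ≠ i by omega]

theorem colVal_addIdx {R : Type*} [CommRing R] (t : R) (base u : ℕ) :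
    ∀ (k : ℕ) (L : List (ℕ × ℤ)),
      colVal t (base + u) (addIdx base (k + 1) L) =
        ((((L.zipIdx k).filter fun q => decide (q.1.1 = u)).map fun q => (q.2 + 1, q.1.2)).map
          fun km => ((km.2 : ℤ) : R) * t ^ km.1).sum := by
  intro k L
  induction L generalizing k with
  | nil => rfl
  | cons q L ih =>
    obtain ⟨v, m⟩ := q
    rw [addIdx_cons, colVal, List.zipIdx_cons, List.filter_cons, ih (k + 1)]
    by_cases h : v = u <;> simp [h]

theorem colVal_zipIdx {R : Type*} [CommRing R] (t : R) (i : ℕ) : ∀ (k : ℕ) (L : List ℤ),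
    colVal t i ((L.zipIdx k).map fun q => (q.2, 1, q.1)) =
      if k ≤ i ∧ i < k + L.length then ((L.getD (i - k) 0 : ℤ) : R) * t else 0 := by
  intro k L
  induction L generalizing k with
  | nil => simp [colVal]
  | cons a L ih =>
    rw [List.zipIdx_cons, List.map_cons, colVal, ih (k + 1)]
    rcases lt_trichotomy k i with h | h | h
    · obtain ⟨j, rfl⟩ : ∃ j, i = k + 1 + j := ⟨i - k - 1, by omega⟩
      have e1 : k + 1 + j - (k + 1) = j := by omega
      have e2 : k + 1 + j - k = j + 1 := by omega
      simp [show k ≠ k + 1 + j by omega, e1, e2,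
        show (k ≤ k + 1 + j) by omega, show (k + 1 + j < k + (L.length + 1)) ↔ j < L.length by omega]
    · subst h; simp
    · simp [show k ≠ i by omega, show ¬ (k + 1 ≤ i) by omega, show ¬ (k ≤ i) by omega]

variable {D T}

theorem colOf_eq_addIdx {r c : ℕ} (h1 : c ≠ D.rank + (D.nroots - 1 - r))
    (h2 : c < D.rank + D.nroots) :
    colOf D T r c = addIdx D.rank 1 (decRaw T.K (T.slot r c)) := by
  rw [colOf_def, nbeq_false_iff.2 h1, cond_false,
    show Nat.blt c (D.rank + D.nroots) = true from Nat.ble_eq_true_of_le h2, cond_true]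

theorem colOf_neg {r c : ℕ} (h1 : c = D.rank + (D.nroots - 1 - r)) :
    colOf D T r c = negCol D r := by
  rw [colOf_def, nbeq_iff.2 h1, cond_true]

theorem chkTab_row (h : chkTab D T = true) {r : ℕ} (hr : r < D.nroots) :
    D.negIdx.getD r 0 = D.nroots - 1 - r ∧ r ≠ D.nroots - 1 - r ∧
    decRaw T.K (T.slot r (D.rank + r)) = [] ∧ (D.coroot.getD r #[]).toList.length = D.rank ∧
    (∀ i < D.rank, decRaw T.K (T.slot r i) =
      cond ((D.cartanSR.getD i #[]).getD r 0 == 0) [] [(r, -((D.cartanSR.getD i #[]).getD r 0))]) ∧
    (D.chain.getD r #[]).toList.map (fun e => (e.1, e.2.toList)) = chainRebuilt D T r := by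
  have := allBelow_iff.1 h r hr
  simp only [chkTabRow, Bool.and_eq_true, beq_iff_eq, bne_iff_ne, allBelow_iff] at this
  tauto

/-- The filtered chain table rebuilt from the packed one. -/
theorem filter_chain (h : chkTab D T = true) {r s : ℕ} (hr : r < D.nroots) (hs : s < D.nroots)
    (h1 : s ≠ r) (h2 : s ≠ D.nroots - 1 - r) :
    ((D.chain.getD r #[]).toList.filter (fun e => decide (e.1 = s))).map (fun e => e.2.toList) =
      match decRaw T.K (T.slot r (D.rank + s)) with
      | [] => []
      | L => [L] := by
  obtain ⟨-, -, -, -, -, hchain⟩ := chkTab_row h hr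
  have key : ((D.chain.getD r #[]).toList.filter (fun e => decide (e.1 = s))).map
      (fun e => e.2.toList) =
      (((D.chain.getD r #[]).toList.map (fun e => (e.1, e.2.toList))).filter
        (fun e => decide (e.1 = s))).map Prod.snd := by
    rw [List.filter_map, List.map_map]; rfl
  rw [key, hchain, chainRebuilt_eq, List.filter_filterMap, List.map_filterMap]
  have aux : ∀ n, List.filterMap
      (fun x => Option.map Prod.snd (Option.filter (fun e => decide (e.1 = s))
        (cond (x == D.nroots - 1 - r || x == r) none
          (match decRaw T.K (T.slot r (D.rank + x)) with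
            | [] => none
            | L => some (x, L))))) (List.range n) =
      if s < n then (match decRaw T.K (T.slot r (D.rank + s)) with
        | [] => []
        | L => [L]) else [] := by
    intro n
    induction n with
    | zero => simp
    | succ n ih =>
      rw [List.range_succ, List.filterMap_append, ih]
      by_cases hn : n = s
      · subst hn
        simp only [List.filterMap_cons, List.filterMap_nil, lt_irrefl, if_false, List.nil_append,
          Nat.lt_succ_self, if_true]
        simp only [show (n == D.nroots - 1 - r || n == r) = false by simp [h1, h2], cond_false]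
        cases hdec : decRaw T.K (T.slot r (D.rank + n)) with
        | nil => simp
        | cons a L => simp [Option.filter]
      · have hlast : ∀ o : Option (ℕ × List (ℕ × ℤ)), (∀ e, o = some e → e.1 = n) →
            Option.map Prod.snd (Option.filter (fun e => decide (e.1 = s)) o) = none := by
          intro o ho
          cases o with
          | none => rfl
          | some e => simp [Option.filter, ho e rfl, hn]
        simp only [List.filterMap_cons, List.filterMap_nil]
        rw [hlast]
        · simp [show (s < n + 1) ↔ (s < n) by omega]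
        · intro e he
          cases hb : (n == D.nroots - 1 - r || n == r) with
          | true => simp [hb] at he
          | false =>
            rw [hb, cond_false] at he
            cases hdec : decRaw T.K (T.slot r (D.rank + n)) with
            | nil => simp [hdec] at he
            | cons a L => simp only [hdec, Option.some.injEq] at he; rw [← he]
  rw [aux, if_pos hs]

/-- The matrix `x_r(t)` in terms of the packed table. -/
theorem x_apply (h : chkTab D T = true) (F : Type*) [Field F] {r : ℕ} (hr : r < D.nroots)
    (t : F) (i j : D.Idx) :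
    D.x F r t i j = (if i = j then 1 else 0) + colVal t (enc D i) (colOf D T r (enc D j)) := by
  obtain ⟨hneg, hne, hdiag, hlen, hcar, -⟩ := chkTab_row h hr
  rw [ChevalleyDatum.x, dif_pos hr]
  rcases j with c | s
  · -- coroot column
    have hc1 : (c : ℕ) ≠ D.rank + (D.nroots - 1 - r) := by have := c.2; omega
    have hc2 : (c : ℕ) < D.rank + D.nroots := by have := c.2; omega
    rw [show colOf D T r (enc D (Sum.inl c)) = addIdx D.rank 1 (decRaw T.K (T.slot r c)) from
      colOf_eq_addIdx hc1 hc2]
    rw [hcar c c.2]
    rcases i with i | u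
    · rw [colVal_addIdx_eq_zero t (show enc D (Sum.inl i) < D.rank from i.2), add_zero]
      simp [ChevalleyDatum.xMat, Matrix.of_apply, Fin.ext_iff]
    · by_cases ha : (D.cartanSR.getD (c : ℕ) #[]).getD r 0 = 0
      · simp only [ChevalleyDatum.xMat, Matrix.of_apply, ha]
        simp [addIdx_cons, addIdx_nil, colVal, enc]
      · rw [beq_eq_false_iff_ne.2 ha, cond_false]
        simp only [ChevalleyDatum.xMat, Matrix.of_apply, enc, reduceCtorEq, if_false, zero_add]
        by_cases hu : (u : ℕ) = r
        · simp [addIdx_cons, addIdx_nil, colVal, hu, Fin.ext_iff]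
        · simp [addIdx_cons, addIdx_nil, colVal, hu, Ne.symm hu, Fin.ext_iff]
  · by_cases hs1 : (s : ℕ) = r
    · -- the column of `r`
      have hc1 : D.rank + (s : ℕ) ≠ D.rank + (D.nroots - 1 - r) := by omega
      rw [show colOf D T r (enc D (Sum.inr s)) =
          addIdx D.rank 1 (decRaw T.K (T.slot r (D.rank + r))) by
        simp only [enc, hs1]; exact colOf_eq_addIdx (by omega) (by omega)]
      rw [hdiag]
      rcases i with i | u
      · simp [ChevalleyDatum.xMat, Matrix.of_apply, addIdx_cons, addIdx_nil, colVal, Fin.ext_iff, hs1]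
      · simp [ChevalleyDatum.xMat, Matrix.of_apply, addIdx_cons, addIdx_nil, colVal, Fin.ext_iff, hs1]
    · by_cases hs2 : (s : ℕ) = D.nroots - 1 - r
      · -- the column of `-r`
        rw [show colOf D T r (enc D (Sum.inr s)) = negCol D r from colOf_neg (show D.rank + (s : ℕ) = _ by rw [hs2])]
        rw [negCol, colVal_append, colVal_zipIdx, hlen]
        rcases i with i | u
        · have hi := i.2
          have e : (D.coroot.getD r #[]).toList.getD (i : ℕ) 0 =
              (D.coroot.getD r #[]).getD (i : ℕ) 0 := by
            simp [Array.getD_eq_getD_getElem?, List.getD_eq_getElem?_getD]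
          simp only [ChevalleyDatum.xMat, Matrix.of_apply, enc, reduceCtorEq, if_false, zero_add,
            Fin.ext_iff, hs1, hneg, hs2, if_true, Nat.sub_zero, colVal, Nat.zero_le, true_and,
            hi, show D.rank + r ≠ (i : ℕ) by omega, add_zero]
          rw [e]
          simp [hne.symm]
        · have hu := u.2
          simp only [ChevalleyDatum.xMat, Matrix.of_apply, enc, Fin.ext_iff, hs1, hneg, hs2,
            if_true, colVal, Sum.inr.injEq, hne.symm, if_false,
            show ¬ (0 ≤ D.rank + (u : ℕ) ∧ D.rank + (u : ℕ) < 0 + D.rank) by omega, zero_add,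
            add_zero]
          by_cases h3 : (u : ℕ) = D.nroots - 1 - r
          · simp [h3, hne]
          · by_cases h4 : (u : ℕ) = r
            · simp [h3, h4, hne]
            · simp [h3, h4, Ne.symm h4]
      · -- a column in a chain
        rw [show colOf D T r (enc D (Sum.inr s)) =
            addIdx D.rank 1 (decRaw T.K (T.slot r (D.rank + s))) from
          colOf_eq_addIdx (show D.rank + (s : ℕ) ≠ _ by omega) (enc_lt D (Sum.inr s))]
        rcases i with i | u
        · rw [colVal_addIdx_eq_zero t (show enc D (Sum.inl i) < D.rank from i.2)]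
          simp [ChevalleyDatum.xMat, Matrix.of_apply, Fin.ext_iff, hs1, hneg, hs2]
        · have hcc : (((D.chainCoeff r (s : ℕ) (u : ℕ)).map
              fun km => ((km.2 : ℤ) : F) * t ^ km.1).sum) =
              colVal t (D.rank + (u : ℕ))
                (addIdx D.rank 1 (decRaw T.K (T.slot r (D.rank + s)))) := by
            rw [ChevalleyDatum.chainCoeff]
            have hf := filter_chain h hr s.2 hs1 hs2
            have e : ∀ l : List (ℕ × Array (ℕ × ℤ)), (l.flatMap fun e =>
                ((e.2.toList.zipIdx).filter (fun q => decide (q.1.1 = (u : ℕ)))).map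
                  fun q => (q.2 + 1, q.1.2)) =
                (l.map fun e => e.2.toList).flatMap fun L =>
                  ((L.zipIdx).filter (fun q => decide (q.1.1 = (u : ℕ)))).map
                    fun q => (q.2 + 1, q.1.2) := fun l => by rw [List.flatMap_map]
            rw [e, hf, colVal_addIdx]
            cases decRaw T.K (T.slot r (D.rank + s)) with
            | nil => simp
            | cons a L => simp
          simp [ChevalleyDatum.xMat, Matrix.of_apply, Fin.ext_iff, hs1, hneg, hs2, enc, hcc]

end Cfsg.Agent.Chev
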