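import Cfsg.Agent.Chev.Poly

/-!
The sum `∑ q ^ N(w)` with the roots weighted by orbit-constant weights.
-/

set_option autoImplicit false

namespace Cfsg.Agent.Chev

open Cfsg.Lie

universe u

variable {D : ChevalleyDatum}

/-- The weight of the inverted roots. -/
def wCount (wt : Fin D.nroots → ℕ) (π : Equiv.Perm (Fin D.nroots)) : ℕ := ∑ r ∈ invSet π, wt r

/-- The weight of the negative roots at which a functional is positive. -/
def wPosNeg (wt : Fin D.nroots → ℕ) (f : Fin D.nroots → ℤ) : ℕ :=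
  ∑ r ∈ Finset.univ.filter (fun r : Fin D.nroots => (r : ℕ) < half D ∧ 0 < f r), wt r

section

variable (hF : Facts.{u} D) (wt : Fin D.nroots → ℕ)
include hF

theorem wt_invariant (hwt : ∀ i r, wt (wPerm hF i r) = wt r) {π : Equiv.Perm (Fin D.nroots)}
    (hπ : π ∈ weyl hF) (r : Fin D.nroots) : wt (π r) = wt r := by
  obtain ⟨w, rfl⟩ := exists_pWord hF hπ
  induction w with
  | nil => rfl
  | cons i w ih => rw [pWord_cons, Equiv.Perm.mul_apply, hwt, ih (pWord_mem hF w)]

theorem wCount_split (hwt : ∀ i r, wt (wPerm hF i r) = wt r) {J : Finset (Fin D.rank)}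
    {k : Fin D.rank} {u v : Equiv.Perm (Fin D.nroots)}
    (hu : u ∈ wJ hF J) (hmin : ∀ i ∈ J.erase k, half D ≤ (u (sRoot hF i) : ℕ))
    (hv : v ∈ wJ hF (J.erase k)) :
    wCount wt (u * v) = wPosNeg wt (cosetFun k u) + wCount wt v := by
  classical
  have hk : k ∉ J.erase k := Finset.notMem_erase k J
  rw [wCount, wCount, ← Finset.sum_filter_add_sum_filter_not (invSet (u * v))
    (fun r => coef D r k ≠ 0)]
  have hvJ : v ∈ wJ hF J := wJ_mono hF (Finset.erase_subset k J) hv
  congr 1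
  · rw [wPosNeg]
    refine Finset.sum_bij (fun r _ => (u * v) r) ?_ (fun a _ b _ e => (u * v).injective e) ?_
      (fun r _ => (wt_invariant hF wt hwt (wJ_le hF J (Subgroup.mul_mem _ hu hvJ)) r).symm)
    · intro r hr
      simp only [invSet, Finset.mem_filter, Finset.mem_univ, true_and] at hr ⊢
      refine ⟨hr.1.2, ?_⟩
      rw [cosetFun, Equiv.Perm.mul_apply, inv_app, coef_of_not_mem hF hv r hk]
      exact lt_of_le_of_ne (coef_nonneg hF r.2 hr.1.1) (Ne.symm hr.2)
    · intro s hs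
      simp only [Finset.mem_filter, Finset.mem_univ, true_and] at hs
      refine ⟨v⁻¹ (u⁻¹ s), ?_, by simp⟩
      have e : coef D (v⁻¹ (u⁻¹ s) : Fin D.nroots) k = coef D (u⁻¹ s : Fin D.nroots) k :=
        coef_of_not_mem hF (Subgroup.inv_mem _ hv) _ hk
      have hpos : 0 < coef D (v⁻¹ (u⁻¹ s) : Fin D.nroots) k := by rw [e]; exact hs.2
      simp only [invSet, Finset.mem_filter, Finset.mem_univ, true_and]
      refine ⟨⟨(pos_iff_exists_coef hF (v⁻¹ (u⁻¹ s)).2).2 ⟨k, k.2, hpos⟩, by simpa using hs.1⟩,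
        hpos.ne'⟩
  · refine Finset.sum_congr ?_ fun _ _ => rfl
    ext r
    simp only [invSet, Finset.mem_filter, Finset.mem_univ, true_and, not_not]
    rw [Equiv.Perm.mul_apply]
    have key : ∀ r : Fin D.nroots, (∀ j, j ∉ J.erase k → coef D r j = 0) →
        half D ≤ (r : ℕ) → half D ≤ (u r : ℕ) := by
      intro r hr0 hrp
      obtain ⟨w, hw, rfl⟩ := exists_pWord_J hF hu
      by_contra hneg
      obtain ⟨j, hj, hpos⟩ := (pos_iff_exists_coef hF (neg_lt hF (pWord hF w r).2)).1
        ((pos_negF_iff hF (pWord hF w r)).2 (not_le.1 hneg))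
      rw [hF.coef_neg _ (pWord hF w r).2 j hj] at hpos
      have hnn : 0 ≤ coef D (pWord hF w r : ℕ) j := by
        rw [show j = ((⟨j, hj⟩ : Fin D.rank) : ℕ) from rfl, coef_pWord hF w r ⟨j, hj⟩]
        refine Finset.sum_nonneg fun l _ => ?_
        by_cases hl : l ∈ J.erase k
        · exact mul_nonneg (coef_nonneg hF r.2 hrp)
            (coef_nonneg hF (pWord hF w (sRoot hF l)).2 (hmin l hl))
        · rw [hr0 l hl, zero_mul]
      omega
    constructor
    · rintro ⟨⟨h1, h2⟩, h0⟩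
      refine ⟨h1, ?_⟩
      by_contra hvr
      refine absurd h2 (not_lt.2 (key (v r) (fun j hj => ?_) (not_lt.1 hvr)))
      rw [coef_of_not_mem hF hv r hj]
      by_cases hjk : j = k
      · rw [hjk]; exact h0
      · exact coef_eq_zero_of_inverted hF (Subgroup.mul_mem _ hu hvJ) h1 h2
          fun hJ => hj (Finset.mem_erase.2 ⟨hjk, hJ⟩)
    · rintro ⟨h1, h2⟩
      have h0 : ∀ j, j ∉ J.erase k → coef D r j = 0 := fun j hj =>
        coef_eq_zero_of_inverted hF hv h1 h2 hj
      refine ⟨⟨h1, ?_⟩, h0 k hk⟩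
      have hp := key (negF hF (v r)) (fun j hj => ?_) ((pos_negF_iff hF (v r)).2 h2)
      · obtain ⟨w, -, rfl⟩ := exists_pWord_J hF hu
        rw [pWord_negF, pos_negF_iff] at hp
        exact hp
      · show coef D (D.neg (v r : ℕ)) j = 0
        rw [hF.coef_neg _ (v r).2 j j.2, coef_of_not_mem hF hv r hj, h0 j hj, neg_zero]

/-- `∑ q ^ N(w)` with weights, over a standard parabolic subgroup. -/
noncomputable def wpoin (J : Finset (Fin D.rank)) (q : ℕ) : ℕ :=
  ∑ π ∈ (wJ hF J : Set (Equiv.Perm (Fin D.nroots))).toFinite.toFinset, q ^ wCount wt π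

theorem wpoin_empty (q : ℕ) : wpoin hF wt ∅ q = 1 := by
  have h : wJ hF (∅ : Finset (Fin D.rank)) = ⊥ := by simp [wJ]
  have hs : (wJ hF (∅ : Finset (Fin D.rank)) : Set (Equiv.Perm (Fin D.nroots))).toFinite.toFinset
      = {1} := by
    ext π
    simp [h]
  rw [wpoin, hs, Finset.sum_singleton, wCount]
  rw [show invSet (D := D) (1 : Equiv.Perm (Fin D.nroots)) = ∅ from
    Finset.filter_eq_empty_iff.2 fun r _ h => absurd h.2 (not_lt.2 h.1)]
  simp

/-- The recursion along an orbit. -/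
theorem wpoin_step (hwt : ∀ i r, wt (wPerm hF i r) = wt r) {J : Finset (Fin D.rank)}
    {k : Fin D.rank} (q : ℕ) (L : List (Fin D.rank → ℤ)) (hnd : L.Nodup)
    (hone : Pi.single k (1 : ℤ) ∈ L)
    (hclosed : ∀ v ∈ L, ∀ i ∈ J, stepV i v ∈ L)
    (hreach : ∀ v ∈ L, ∃ π ∈ wJ hF J, cosetFun k π = fun r : Fin D.nroots => lamF v (r : ℕ)) :
    wpoin hF wt J q =
      (L.map fun v => q ^ wPosNeg wt (fun r : Fin D.nroots => lamF v (r : ℕ))).sum *
        wpoin hF wt (J.erase k) q := by
  classical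
  set S := (wJ hF J : Set (Equiv.Perm (Fin D.nroots))).toFinite.toFinset with hS
  set T := (wJ hF (J.erase k) : Set (Equiv.Perm (Fin D.nroots))).toFinite.toFinset with hT
  set Λ := L.toFinset.image fun v => fun r : Fin D.nroots => lamF v (r : ℕ) with hΛ
  have hmaps : ∀ π ∈ S, cosetFun k π ∈ Λ := by
    intro π hπ
    rw [hS, Set.Finite.mem_toFinset, SetLike.mem_coe] at hπ
    obtain ⟨w, hw, rfl⟩ := exists_pWord_J hF hπ
    clear hπ
    suffices H : ∃ v ∈ L, cosetFun k (pWord hF w) = fun r : Fin D.nroots => lamF v (r : ℕ) by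
      obtain ⟨v, hv, e⟩ := H
      exact Finset.mem_image.2 ⟨v, List.mem_toFinset.2 hv, e.symm⟩
    induction w with
    | nil => exact ⟨_, hone, cosetFun_one k⟩
    | cons i w ih =>
      simp only [List.mem_cons, forall_eq_or_imp] at hw
      obtain ⟨v, hv, e⟩ := ih hw.2
      exact ⟨_, hclosed v hv i hw.1, cosetFun_step hF e⟩
  have hfib : ∀ f ∈ Λ, ∑ π ∈ S with cosetFun k π = f, q ^ wCount wt π =
      q ^ wPosNeg wt f * wpoin hF wt (J.erase k) q := by
    intro f hf
    obtain ⟨v, hv, rfl⟩ := Finset.mem_image.1 hf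
    obtain ⟨π₀, hπ₀, e₀⟩ := hreach v (List.mem_toFinset.1 hv)
    obtain ⟨u, hu, hcu, hmin⟩ := exists_minimal hF (k := k) hπ₀
    rw [wpoin, ← hT, Finset.mul_sum]
    refine Finset.sum_bij' (fun π _ => u⁻¹ * π) (fun τ _ => u * τ) ?_ ?_ ?_ ?_ ?_
    · intro π hπ
      simp only [hS, hT, Finset.mem_filter, Set.Finite.mem_toFinset, SetLike.mem_coe] at hπ ⊢
      exact (cosetFun_eq_iff hF hu hπ.1).1 (hcu.trans (e₀.trans hπ.2.symm))
    · intro τ hτ
      simp only [hS, hT, Finset.mem_filter, Set.Finite.mem_toFinset, SetLike.mem_coe] at hτ ⊢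
      have huτ : u * τ ∈ wJ hF J :=
        Subgroup.mul_mem _ hu (wJ_mono hF (Finset.erase_subset k J) hτ)
      refine ⟨huτ, ?_⟩
      rw [← e₀, ← hcu]
      exact ((cosetFun_eq_iff hF hu huτ).2 (by rwa [inv_mul_cancel_left])).symm
    · intro π _; exact mul_inv_cancel_left u π
    · intro τ _; exact inv_mul_cancel_left u τ
    · intro π hπ
      simp only [hS, Finset.mem_filter, Set.Finite.mem_toFinset, SetLike.mem_coe] at hπ
      have h := (cosetFun_eq_iff hF hu hπ.1).1 (hcu.trans (e₀.trans hπ.2.symm))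
      have := wCount_split hF wt hwt hu hmin h
      rw [mul_inv_cancel_left, hcu, e₀] at this
      rw [this, pow_add]
  rw [wpoin, ← hS, ← Finset.sum_fiberwise_of_maps_to hmaps, Finset.sum_congr rfl hfib,
    ← Finset.sum_mul, hΛ, Finset.sum_image (fun a _ b _ e => lamF_injective hF (congrFun e)),
    List.sum_toFinset _ hnd]

end

/-- The weighted count of negative roots at which a functional given by a list is positive. -/
noncomputable def degW (rows : List (List ℤ)) (wts : List ℕ) (l : List ℤ) : ℕ :=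
  ((List.range rows.length).map fun r => cond (zpos (dotL (rows.getD r []) l)) (wts.getD r 0) 0).sum

variable {C : Cert}

theorem degW_eq (h : Checks D C) {rows : List (List ℤ)} (hr : chkRows D C rows = true)
    {wts : List ℕ} {l : List ℤ} (hl : l.length = D.rank) :
    degW rows wts l = wPosNeg (fun r : Fin D.nroots => wts.getD (r : ℕ) 0)
      (fun r : Fin D.nroots => lamF (vecOf D l) (r : ℕ)) := by
  classical
  have hN := (base_split h).2.1
  simp only [chkRows, Bool.and_eq_true, allBelow_iff, nbeq_iff, zbeq_iff] at hr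
  have e : ((Finset.univ : Finset (Fin D.nroots)).filter fun r : Fin D.nroots =>
      (r : ℕ) < half D ∧ 0 < lamF (vecOf D l) (r : ℕ)).map Fin.valEmbedding =
      (Finset.range (half D)).filter fun r => 0 < lamF (vecOf D l) r := by
    ext x
    simp only [Finset.mem_map, Finset.mem_filter, Finset.mem_univ, true_and,
      Fin.valEmbedding_apply, Finset.mem_range]
    exact ⟨fun ⟨r, hr, hx⟩ => hx ▸ hr, fun hx => ⟨⟨x, by omega⟩, hx, rfl⟩⟩
  rw [wPosNeg]
  trans ∑ r ∈ ((Finset.univ : Finset (Fin D.nroots)).filter fun r : Fin D.nroots =>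
    (r : ℕ) < half D ∧ 0 < lamF (vecOf D l) (r : ℕ)).map Fin.valEmbedding, wts.getD r 0
  swap
  · rw [Finset.sum_map]; rfl
  rw [e, Finset.sum_filter, degW, hr.1,
    ← List.sum_toFinset _ List.nodup_range, List.toFinset_range, Finset.sum_range, Finset.sum_range]
  refine Finset.sum_congr rfl fun x _ => ?_
  obtain ⟨hlen, hrow⟩ := hr.2 x x.2
  have hd : dotL (rows.getD x []) l = lamF (vecOf D l) (x : ℕ) := by
    rw [dotL_eq _ _ (hlen.trans hl.symm), lamF]
    refine Fintype.sum_equiv (finCongr hlen) _ _ fun j => ?_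
    rw [finCongr_apply, Fin.val_cast, coef_eq h (hlen ▸ j.2) (by omega), ← hrow j (hlen ▸ j.2)]
    rfl
  rw [hd]
  by_cases hp : 0 < lamF (vecOf D l) (x : ℕ)
  · rw [zpos_iff.2 hp, if_pos hp]; rfl
  · rw [show zpos (lamF (vecOf D l) (x : ℕ)) = false from
      Bool.eq_false_iff.2 fun h' => hp (zpos_iff.1 h'), if_neg hp]; rfl

variable (h : Checks D C)
include h

theorem wpoin_level (hF : Facts.{u} D) {rows : List (List ℤ)} (hrows : chkRows D C rows = true)
    (wts : List ℕ)
    (hwt : ∀ i (r : Fin D.nroots), wts.getD (wPerm hF i r : ℕ) 0 = wts.getD (r : ℕ) 0)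
    (q : ℕ) {L : Level} {J : List ℕ} (hk : L.k < D.rank)
    (hkJ : L.k ∉ J) (hJ : ∀ i ∈ J, i < D.rank) (hL : chkLevel D C rows (L.k :: J) L = true) :
    wpoin hF (fun r : Fin D.nroots => wts.getD (r : ℕ) 0) (setJ D (L.k :: J)) q =
      (L.pts.map fun l => q ^ degW rows wts l).sum *
        wpoin hF (fun r : Fin D.nroots => wts.getD (r : ℕ) 0) (setJ D J) q := by
  simp only [chkLevel, Bool.and_eq_true, allBelow_iff, force_eq, nblt_iff, nble_iff, nbeq_iff,
    eqv_iff, List.contains_iff_mem] at hL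
  obtain ⟨⟨⟨⟨⟨⟨hhead, hlen⟩, hnd⟩, hpar⟩, hsucc⟩, hdeg⟩, -⟩ := hL
  have hget : ∀ idx < L.pts.length, L.pts.getD idx [] ∈ L.pts := fun idx hidx => by
    rw [List.getD_eq_getElem _ _ hidx]; exact List.getElem_mem hidx
  have hone : vecOf D (L.pts.getD 0 []) = Pi.single (⟨L.k, hk⟩ : Fin D.rank) 1 := by
    rw [hhead]
    funext j
    simp only [vecOf, List.getD_eq_getElem?_getD, List.getElem?_map, List.getElem?_range j.2,
      Option.map_some, Option.getD_some]
    by_cases e : (j : ℕ) = L.k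
    · rw [nbeq_iff.2 e, cond_true, show j = ⟨L.k, hk⟩ from Fin.ext e, Pi.single_eq_same]
    · rw [nbeq_false_iff.2 e, cond_false,
        Pi.single_eq_of_ne (fun e' => e (congrArg Fin.val e'))]
  have hJ' : ∀ i ∈ L.k :: J, i < D.rank := List.forall_mem_cons.2 ⟨hk, hJ⟩
  have hone' : Pi.single (⟨L.k, hk⟩ : Fin D.rank) (1 : ℤ) ∈ L.pts.map (vecOf D) :=
    List.mem_map.2 ⟨_, hget 0 hlen, hone⟩
  rw [← setJ_erase hk hkJ, wpoin_step hF _ hwt q (L.pts.map (vecOf D)) (nodup_of_chk hnd) hone']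
  · rw [List.map_map]
    congr 2
    refine List.map_congr_left fun l hl => ?_
    obtain ⟨idx, hidx, rfl⟩ := List.mem_iff_getElem.1 hl
    have hlen' := (hdeg idx hidx).1
    rw [List.getD_eq_getElem _ _ hidx] at hlen'
    rw [degW_eq h hrows hlen']
    rfl
  · intro v hv i hi
    obtain ⟨l, hl, rfl⟩ := List.mem_map.1 hv
    obtain ⟨idx, hidx, rfl⟩ := List.mem_iff_getElem.1 hl
    simp only [setJ, Finset.mem_filter, Finset.mem_univ, true_and] at hi
    obtain ⟨m, hm, hmi⟩ := List.mem_iff_getElem.1 hi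
    obtain ⟨ht, he⟩ := hsucc idx hidx m hm
    rw [List.getD_eq_getElem (L.k :: J) _ hm, hmi, List.getD_eq_getElem L.pts _ hidx,
      vecOf_stepL h] at he
    exact he ▸ List.mem_map_of_mem (hget _ ht)
  · intro v hv
    obtain ⟨l, hl, rfl⟩ := List.mem_map.1 hv
    obtain ⟨idx, hidx, rfl⟩ := List.mem_iff_getElem.1 hl
    suffices H : ∀ idx < L.pts.length, ∃ π ∈ wJ hF (setJ D (L.k :: J)),
        cosetFun ⟨L.k, hk⟩ π = fun r : Fin D.nroots => lamF (vecOf D (L.pts.getD idx [])) (r : ℕ) by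
      have := H idx hidx
      rwa [List.getD_eq_getElem _ _ hidx] at this
    intro idx
    induction idx using Nat.strong_induction_on with
    | _ idx ih =>
      intro hidx
      cases idx with
      | zero => exact ⟨1, Subgroup.one_mem _, by rw [hone]; exact cosetFun_one _⟩
      | succ idx =>
        obtain ⟨⟨hp, hi⟩, he⟩ := hpar idx (by omega)
        obtain ⟨π, hπ, hc⟩ := ih (L.par.getD idx (0, 0)).1 (by omega) (by omega)
        refine ⟨wPerm hF ⟨(L.par.getD idx (0, 0)).2, hJ' _ hi⟩ * π,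
          Subgroup.mul_mem _ (Subgroup.subset_closure ⟨⟨_, hJ' _ hi⟩, by
            simpa [setJ] using hi, rfl⟩) hπ, ?_⟩
        have := cosetFun_step hF (i := ⟨(L.par.getD idx (0, 0)).2, hJ' _ hi⟩) hc
        rw [← vecOf_stepL h, ← he] at this
        exact this

/-- The lists of weighted degrees of a chain. -/
noncomputable def wDegs (rows : List (List ℤ)) (wts : List ℕ) (Ls : List Level) : List (List ℕ) :=
  Ls.map fun L => L.pts.map (degW rows wts)

theorem wpoin_chain (hF : Facts.{u} D) {rows : List (List ℤ)} (hrows : chkRows D C rows = true)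
    (wts : List ℕ)
    (hwt : ∀ i (r : Fin D.nroots), wts.getD (wPerm hF i r : ℕ) 0 = wts.getD (r : ℕ) 0)
    (q : ℕ) : ∀ (Ls : List Level), chkChain D C rows Ls = true →
      wpoin hF (fun r : Fin D.nroots => wts.getD (r : ℕ) 0) (setJ D (Ls.map Level.k)) q =
          (Ls.map fun L => (L.pts.map fun l => q ^ degW rows wts l).sum).prod ∧
        ∀ i ∈ Ls.map Level.k, i < D.rank
  | [], _ => by
    constructor
    · rw [show setJ D (([] : List Level).map Level.k) = ∅ by ext i; simp [setJ]]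
      exact wpoin_empty hF _ q
    · simp
  | L :: Ls, hc => by
    simp only [chkChain, Bool.and_eq_true, nblt_iff, Bool.not_eq_true', ← Bool.not_eq_true,
      List.contains_iff_mem] at hc
    obtain ⟨⟨⟨hk, hkJ⟩, hL⟩, hrest⟩ := hc
    obtain ⟨h1, h2⟩ := wpoin_chain hF hrows wts hwt q Ls hrest
    refine ⟨?_, List.forall_mem_cons.2 ⟨hk, h2⟩⟩
    rw [List.map_cons, wpoin_level h hF hrows wts hwt q hk hkJ h2 hL, h1, List.map_cons,
      List.prod_cons]

theorem wpoin_univ (hF : Facts.{u} D) {rows : List (List ℤ)} (hrows : chkRows D C rows = true)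
    (wts : List ℕ)
    (hwt : ∀ i (r : Fin D.nroots), wts.getD (wPerm hF i r : ℕ) 0 = wts.getD (r : ℕ) 0)
    (q : ℕ) {Ls : List Level} (hc : chkChain D C rows Ls = true)
    (hall : allBelow (fun i => (Ls.map Level.k).contains i) D.rank = true) :
    wpoin hF (fun r : Fin D.nroots => wts.getD (r : ℕ) 0) Finset.univ q =
      (Ls.map fun L => (L.pts.map fun l => q ^ degW rows wts l).sum).prod := by
  rw [← (wpoin_chain h hF hrows wts hwt q Ls hc).1]
  congr 1
  ext i
  simp only [allBelow_iff, List.contains_iff_mem] at hall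
  simpa [setJ] using hall i i.2

end Cfsg.Agent.Chev
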