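import Cfsg.Agent.Chev.Generation
import Cfsg.Agent.Chev.WeylOrders
import Cfsg.Agent.Chev.RankOne
import Cfsg.Agent.Chev.Simplicity
import Mathlib.FieldTheory.Finite.Basic

/-!
Two generators of a Chevalley group, found from a checked list of deductions.
-/

set_option autoImplicit false
set_option maxHeartbeats 400000

namespace Cfsg.Agent.Chev

open Cfsg.Lie
open scoped MatrixGroups

universe u

variable (D : ChevalleyDatum) (C : Cert)

/-- The first `m` roots of the orbit of `r` under a word. -/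
noncomputable def orbitL (w : List ℕ) (m : ℕ) : ℕ → List ℕ :=
  Nat.rec (motive := fun _ => ℕ → List ℕ) (fun _ => [])
    (fun _ ih r => r :: force (appWord C w r) ih) m

/-- The term of `k` has a unit coefficient and the other terms are known; with `two` only
parities count. -/
noncomputable def chkTermsG (two : Bool) (known : List ℕ) (L : List (ℕ × ℤ × ℕ × ℕ)) (k : ℕ) : Bool :=
  (L.all fun c => Nat.beq c.1 k || known.contains c.1 || (two && Nat.beq (c.2.1.natAbs % 2) 0)) &&
    ((L.filter fun c => Nat.beq c.1 k).map fun c =>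
      cond two (c.2.1.natAbs % 2, 1) (c.2.1.natAbs, c.2.2.2)) == [(1, 1)]

/-- A list of deductions. A step `(false, p, q, k)` takes the commutator of two known root
subgroups, `(true, p, q, k)` conjugates a known root element by `x_p(1) x_{-p}(1)`. -/
noncomputable def chkDerive (two : Bool) (w : List ℕ) (m : ℕ) (G : List ℕ) :
    List ℕ → List (Bool × ℕ × ℕ × ℕ) → Bool
  | known, [] => allBelow (fun i => known.contains (D.simple i) &&
      known.contains (negN D (D.simple i))) D.rank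
  | known, (y, p, q, k) :: l =>
      Nat.blt p D.nroots && !Nat.beq q p && !Nat.beq q (negN D p) && known.contains q &&
      (if y then two && G.contains p && (C.cTerms D (negN D p) q).all fun c =>
          Nat.beq (c.2.1.natAbs % 2) 0
        else known.contains p) &&
      chkTermsG two known (C.cTerms D p q) k &&
      chkDerive two w m G (orbitL C w m k ++ known) l

/-- Two generators `h x_{b₁}(1)` and `x_{b₂}(1) n`. -/
noncomputable def chkTorusGen (w : List ℕ) (m i b₁ b₂ b' g : ℕ)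
    (steps : List (Bool × ℕ × ℕ × ℕ)) : Bool :=
  (w.all fun j => Nat.blt j D.rank) && Nat.blt i D.rank && Nat.blt b₁ D.nroots &&
    Nat.blt b' D.nroots && Nat.beq (appWord C w b') b₂ &&
    zbeq (C.cA i b₁) 0 && Nat.beq (C.cA i b₂).natAbs 1 && Nat.beq (C.cA i b').natAbs 1 &&
    (orbitL C w m b₁).contains g && Nat.ble 1 (C.cA i g).natAbs && Nat.ble (C.cA i g).natAbs 2 &&
    chkDerive D C false w m [] (orbitL C w m g ++ orbitL C w m b₂) steps

/-- Two generators `x_b(1) x_g(1) x_{-g}(1)` and `n`, over the field with two elements. -/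
noncomputable def chkTwoGen (w : List ℕ) (m b g : ℕ) (steps : List (Bool × ℕ × ℕ × ℕ)) : Bool :=
  (w.all fun j => Nat.blt j D.rank) && Nat.blt g D.nroots && Nat.blt b D.nroots &&
    !Nat.beq b g && !Nat.beq b (negN D g) &&
    ((C.cTerms D g b).all fun c => Nat.beq (c.2.1.natAbs % 2) 0) &&
    ((C.cTerms D (negN D g) b).all fun c => Nat.beq (c.2.1.natAbs % 2) 0) &&
    chkDerive D C true w m (orbitL C w m g ++ orbitL C w m (negN D g)) (orbitL C w m b) steps

variable {D C} {F : Type u} [Field F]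

/-- An additive set closed under multiplication by the squares is everything. -/
theorem mem_of_squares [Fintype F] {S : AddSubgroup F} {t : F} (ht : t ≠ 0)
    (hS : ∀ u : F, u ≠ 0 → u ^ 2 * t ∈ S) (z : F) : z ∈ S := by
  have h0 : ∀ u : F, u ^ 2 * t ∈ S := fun u => by
    by_cases hu : u = 0
    · subst hu; simp
    · exact hS u hu
  have hz : ∃ a b : F, a ^ 2 + b ^ 2 = z / t := by
    by_cases hc : ringChar F = 2
    · obtain ⟨a, ha⟩ := FiniteField.isSquare_of_char_two hc (z / t)
      exact ⟨a, 0, by rw [ha]; ring⟩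
    · open Polynomial in
      obtain ⟨a, b, hab⟩ := FiniteField.exists_root_sum_quadratic (f := (X : F[X]) ^ 2)
        (g := (X : F[X]) ^ 2 - C (z / t)) (degree_X_pow 2) (degree_X_pow_sub_C (by norm_num) _)
        (FiniteField.odd_card_of_char_ne_two hc)
      refine ⟨a, b, ?_⟩
      simp only [eval_pow, eval_X, eval_sub, eval_C] at hab
      linear_combination hab
  obtain ⟨a, b, hab⟩ := hz
  rw [show z = a ^ 2 * t + b ^ 2 * t by rw [← add_mul, hab, div_mul_cancel₀ z ht]]
  exact add_mem (h0 a) (h0 b)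

variable (h : Checks D C) (hF : Facts.{u} D)
include h hF

theorem negN_val {r : ℕ} (hr : r < D.nroots) : negN D r = D.neg r := (neg_eq h hr).symm

theorem orbitL_spec {w : List (Fin D.rank)} {P : ℕ → Prop}
    (hP : ∀ r : Fin D.nroots, P r → P (pWord hF w r : ℕ)) :
    ∀ (m r : ℕ), r < D.nroots → P r →
      ∀ s ∈ orbitL C (w.map Fin.val) m r, s < D.nroots ∧ P s := by
  intro m
  induction m with
  | zero => intro r _ _ s hs; simp [orbitL] at hs
  | succ m ih =>
    intro r hr h0 s hs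
    have e : orbitL C (w.map Fin.val) (m + 1) r =
        r :: orbitL C (w.map Fin.val) m (appWord C (w.map Fin.val) r) := by
      simp [orbitL, force_eq]
    rw [e, List.mem_cons] at hs
    rcases hs with rfl | hs
    · exact ⟨hr, h0⟩
    · rw [appWord_eq h hF w ⟨r, hr⟩] at hs
      exact ih _ (Fin.is_lt _) (hP ⟨r, hr⟩ h0) s hs

variable {M : Subgroup (GL D.Idx F)} {w : List (Fin D.rank)}

theorem full_step (hn : nWord hF w ∈ M) (r : Fin D.nroots)
    (hr : ∀ t : F, xG hF r t ∈ M) (t : F) : xG hF (pWord hF w r : ℕ) t ∈ M := by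
  obtain ⟨c, hc0, hc⟩ := isMon_nWord hF w (F := F) r
  have e := hc (t / c)
  rw [mul_div_cancel₀ t hc0] at e
  rw [show xG hF (pWord hF w r : ℕ) t = nWord hF w * xG hF r (t / c) * (nWord hF w)⁻¹ by
    rw [e, mul_inv_cancel_right]]
  exact M.mul_mem (M.mul_mem hn (hr _)) (M.inv_mem hn)

theorem nonzero_step (hn : nWord hF w ∈ M) (r : Fin D.nroots)
    (hr : ∃ t : F, t ≠ 0 ∧ xG hF r t ∈ M) :
    ∃ t : F, t ≠ 0 ∧ xG hF (pWord hF w r : ℕ) t ∈ M := by
  obtain ⟨t, ht0, ht⟩ := hr
  obtain ⟨c, hc0, hc⟩ := isMon_nWord hF w (F := F) r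
  refine ⟨c * t, mul_ne_zero hc0 ht0, ?_⟩
  rw [show xG hF (pWord hF w r : ℕ) (c * t) = nWord hF w * xG hF r t * (nWord hF w)⁻¹ by
    rw [hc, mul_inv_cancel_right]]
  exact M.mul_mem (M.mul_mem hn ht) (M.inv_mem hn)

theorem pair_step (h2 : ∀ x : F, x = 0 ∨ x = 1) (hn : nWord hF w ∈ M) (r : Fin D.nroots)
    (hr : xG hF r (1 : F) * xG hF (negN D r) (1 : F) ∈ M) :
    xG hF (pWord hF w r : ℕ) (1 : F) * xG hF (negN D (pWord hF w r : ℕ)) (1 : F) ∈ M := by
  have hone : ∀ s : Fin D.nroots, nWord hF w * xG hF s (1 : F) =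
      xG hF (pWord hF w s : ℕ) (1 : F) * nWord hF w := fun s => by
    obtain ⟨c, hc0, hc⟩ := isMon_nWord hF w (F := F) s
    rw [hc, (h2 c).resolve_left hc0, mul_one]
  have e : (pWord hF w (negF hF r) : ℕ) = negN D (pWord hF w r : ℕ) := by
    rw [pWord_negF, negN_val h hF (Fin.is_lt _)]; rfl
  have e2 : negN D r = (negF hF r : ℕ) := negN_val h hF r.2
  rw [e2] at hr
  rw [← e, show xG hF (pWord hF w r : ℕ) (1 : F) * xG hF (pWord hF w (negF hF r) : ℕ) (1 : F) =
      nWord hF w * (xG hF r (1 : F) * xG hF (negF hF r : ℕ) (1 : F)) * (nWord hF w)⁻¹ by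
    rw [← mul_assoc (nWord hF w), hone, mul_assoc _ (nWord hF w), hone, ← mul_assoc,
      mul_inv_cancel_right]]
  exact M.mul_mem (M.mul_mem hn hr) (M.inv_mem hn)

omit h in
theorem terms_even (h2 : ∀ x : F, x = 0 ∨ x = 1) {L : List (ℕ × ℤ × ℕ × ℕ)}
    (hL : L.all (fun c => Nat.beq (c.2.1.natAbs % 2) 0) = true) (t v : F) :
    wordG hF (L.map fun c => (c.1, (c.2.1 : F) * t ^ c.2.2.1 * v ^ c.2.2.2)) = 1 := by
  rw [List.all_eq_true] at hL
  refine Subgroup.mem_bot.1 (wordG_mem hF fun z hz => ?_)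
  obtain ⟨c, hc, rfl⟩ := List.mem_map.1 hz
  have h' := nbeq_iff.1 (hL c hc)
  obtain ⟨d, hd⟩ : (2 : ℤ) ∣ c.2.1 := Int.dvd_of_emod_eq_zero (by omega)
  have h20 : (2 : F) = 0 := by
    rcases h2 2 with e | e
    · exact e
    · exact absurd (show (1 : F) = 0 by linear_combination e) one_ne_zero
  rw [hd]
  simp [h20, xG_zero]

omit h in
theorem xG_self_inv (h2 : ∀ x : F, x = 0 ∨ x = 1) (r : ℕ) :
    (xG hF r (1 : F))⁻¹ = xG hF r 1 := by
  rw [xG_inv]
  rcases h2 (-1) with e | e
  · exact absurd (neg_eq_zero.1 e) one_ne_zero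
  · rw [e]

theorem comm_even (h2 : ∀ x : F, x = 0 ∨ x = 1) {p q : ℕ} (hp : p < D.nroots) (hq : q < D.nroots)
    (hqp : q ≠ p) (hqn : q ≠ negN D p)
    (he : (C.cTerms D p q).all (fun c => Nat.beq (c.2.1.natAbs % 2) 0) = true) (t v : F) :
    xG hF q v * xG hF p t = xG hF p t * xG hF q v := by
  rw [xG_comm hF hp hq hqp (by rwa [← negN_val h hF hp]), ChevalleyDatum.commWord,
    commTerms_eq h, terms_even hF h2 he, mul_one]

theorem extract {two : Bool} (h2 : two = true → ∀ x : F, x = 0 ∨ x = 1) {known : List ℕ}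
    (hk : ∀ r ∈ known, r < D.nroots ∧ ∀ t : F, xG hF r t ∈ M)
    {p q k : ℕ} (hp : p < D.nroots) (hq : q < D.nroots)
    (hc : chkTermsG two known (C.cTerms D p q) k = true)
    (hw : ∀ v : F, wordG hF (D.commWord F p q 1 v) ∈ M) :
    k < D.nroots ∧ ∀ t : F, xG hF k t ∈ M := by
  have e0 := commTerms_eq h p q
  simp only [chkTermsG, Bool.and_eq_true, List.all_eq_true, Bool.or_eq_true, nbeq_iff,
    List.contains_iff_mem, beq_iff_eq] at hc
  obtain ⟨hall, hfil⟩ := hc
  rw [← e0] at hall hfil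
  have key : ∀ (L : List (ℕ × ℤ × ℕ × ℕ)) (v : F),
      (∀ c ∈ L, (c.1 = k ∨ c.1 ∈ known) ∨ two = true ∧ c.2.1.natAbs % 2 = 0) →
      wordG hF (L.map fun c => (c.1, (c.2.1 : F) * (-(1 : F)) ^ c.2.2.1 * v ^ c.2.2.2)) ∈ M →
      ∀ c₀, (L.filter fun c => Nat.beq c.1 k) = [c₀] →
        xG hF k ((c₀.2.1 : F) * (-(1 : F)) ^ c₀.2.2.1 * v ^ c₀.2.2.2) ∈ M := by
    have hother : ∀ (c : ℕ × ℤ × ℕ × ℕ) (v : F),
        ((c.1 = k ∨ c.1 ∈ known) ∨ two = true ∧ c.2.1.natAbs % 2 = 0) → c.1 ≠ k →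
        xG hF c.1 ((c.2.1 : F) * (-(1 : F)) ^ c.2.2.1 * v ^ c.2.2.2) ∈ M := by
      rintro c v ((h' | h') | ⟨ht, h'⟩) hne
      · exact absurd h' hne
      · exact (hk _ h').2 _
      · obtain ⟨d, hd⟩ : (2 : ℤ) ∣ c.2.1 := Int.dvd_of_emod_eq_zero (by omega)
        have h20 : (2 : F) = 0 := by
          rcases h2 ht 2 with e | e
          · exact e
          · exact absurd (show (1 : F) = 0 by linear_combination e) one_ne_zero
        rw [hd]
        simp [h20, xG_zero, M.one_mem]
    intro L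
    induction L with
    | nil => intro v _ _ c₀ h'; simp at h'
    | cons c L ih =>
      intro v hL hw c₀ hc₀
      rw [List.map_cons, wordG_cons] at hw
      obtain ⟨h0, hL⟩ := List.forall_mem_cons.1 hL
      by_cases hck : c.1 = k
      · rw [List.filter_cons_of_pos (by simp [hck, nbeq_iff])] at hc₀
        simp only [List.cons.injEq] at hc₀
        obtain ⟨rfl, hnil⟩ := hc₀
        have hrest : wordG hF
            (L.map fun c => (c.1, (c.2.1 : F) * (-(1 : F)) ^ c.2.2.1 * v ^ c.2.2.2)) ∈ M := by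
          refine wordG_mem hF fun z hz => ?_
          obtain ⟨c', hc', rfl⟩ := List.mem_map.1 hz
          refine hother c' v (hL c' hc') fun e => ?_
          have : c' ∈ L.filter fun c => Nat.beq c.1 k := List.mem_filter.2 ⟨hc', nbeq_iff.2 e⟩
          rw [hnil] at this
          simp at this
        rw [hck] at hw
        exact (Subgroup.mul_mem_cancel_right M hrest).1 hw
      · rw [List.filter_cons_of_neg (by simpa [nbeq_iff] using hck)] at hc₀
        exact ih v hL ((Subgroup.mul_mem_cancel_left M (hother c v h0 hck)).1 hw) c₀ hc₀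
  rcases hL : (D.commTerms p q).filter (fun c => Nat.beq c.1 k) with _ | ⟨c₀, L⟩
  · simp [hL] at hfil
  simp only [hL, List.map_cons, List.cons.injEq, List.map_eq_nil_iff] at hfil
  obtain ⟨hco, rfl⟩ := hfil
  have hmem : c₀ ∈ (D.commTerms p q).filter fun c => Nat.beq c.1 k := by rw [hL]; simp
  rw [List.mem_filter, nbeq_iff] at hmem
  refine ⟨hmem.2 ▸ hF.comm_lt p q hp hq c₀ hmem.1, fun t => ?_⟩
  set e : F := (c₀.2.1 : F) * (-(1 : F)) ^ c₀.2.2.1 with he
  cases two with
  | false =>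
    simp only [cond_false, Prod.mk.injEq] at hco
    have hee : e * e = 1 := by
      rw [he, mul_mul_mul_comm, ← pow_add, ← two_mul, pow_mul, neg_one_sq, one_pow, mul_one]
      rcases Int.natAbs_eq c₀.2.1 with e' | e' <;> rw [e', hco.1] <;> simp
    have := key (D.commTerms p q) (e * t) hall (hw (e * t)) c₀ hL
    rw [hco.2, pow_one, ← mul_assoc, hee, one_mul] at this
    exact this
  | true =>
    simp only [cond_true, Prod.mk.injEq] at hco
    rcases h2 rfl t with rfl | rfl
    · rw [xG_zero]; exact M.one_mem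
    have hodd : (c₀.2.1 : F) ≠ 0 := by
      obtain ⟨d, hd⟩ : ∃ d : ℤ, c₀.2.1 = 2 * d + 1 :=
        Int.natAbs_odd.1 (Nat.odd_iff.2 hco.1)
      have h20 : (2 : F) = 0 := by
        rcases h2 rfl 2 with e | e
        · exact e
        · exact absurd (show (1 : F) = 0 by linear_combination e) one_ne_zero
      rw [hd]
      simp [h20]
    have he1 : e = 1 :=
      (h2 rfl e).resolve_left (mul_ne_zero hodd (pow_ne_zero _ (neg_ne_zero.2 one_ne_zero)))
    have := key (D.commTerms p q) 1 hall (hw 1) c₀ hL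
    rwa [one_pow, mul_one, ← he, he1] at this

theorem group_le_of_derive {two : Bool} (h2 : two = true → ∀ x : F, x = 0 ∨ x = 1) {m : ℕ}
    {G : List ℕ} (hn : nWord hF w ∈ M)
    (hG : ∀ r ∈ G, r < D.nroots ∧ xG hF r (1 : F) * xG hF (negN D r) (1 : F) ∈ M) :
    ∀ (l : List (Bool × ℕ × ℕ × ℕ)) (known : List ℕ),
      chkDerive D C two (w.map Fin.val) m G known l = true →
      (∀ r ∈ known, r < D.nroots ∧ ∀ t : F, xG hF r t ∈ M) → D.group F ≤ M
  | [], known, hc, hk => by
    simp only [chkDerive, allBelow_iff, Bool.and_eq_true, List.contains_iff_mem] at hc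
    rw [group_eq_closure_simple hF, Subgroup.closure_le]
    rintro g ⟨i, t, rfl | rfl⟩
    · exact (hk _ (hc i i.2).1).2 t
    · rw [← negN_val h hF (hF.simple_lt i i.2)]
      exact (hk _ (hc i i.2).2).2 t
  | (y, p, q, k) :: l, known, hc, hk => by
    simp only [chkDerive, Bool.and_eq_true, nblt_iff, Bool.not_eq_true', nbeq_false_iff,
      List.contains_iff_mem] at hc
    obtain ⟨⟨⟨⟨⟨⟨hp, hqp⟩, hqn⟩, hq⟩, hy⟩, hterms⟩, hrest⟩ := hc
    obtain ⟨hq', hqM⟩ := hk q hq
    have hqn' : q ≠ D.neg p := by rwa [← negN_val h hF hp]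
    have hw : ∀ v : F, wordG hF (D.commWord F p q 1 v) ∈ M := by
      intro v
      have e := xG_comm hF hp hq' hqp hqn' (1 : F) v
      cases y with
      | false =>
        simp only [Bool.false_eq_true, if_false, List.contains_iff_mem] at hy
        have hpM := (hk p hy).2 (1 : F)
        exact (M.mul_mem_cancel_left (M.mul_mem hpM (hqM v))).1
          (e ▸ M.mul_mem (hqM v) hpM)
      | true =>
        simp only [if_true, Bool.and_eq_true, List.contains_iff_mem] at hy
        obtain ⟨⟨rfl, hpG⟩, heven⟩ := hy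
        obtain ⟨-, hyM⟩ := hG p hpG
        have hnp : negN D p < D.nroots := by rw [negN_val h hF hp]; exact neg_lt hF hp
        have hcomm := comm_even h hF (h2 rfl) hnp hq' hqn (by
          rw [negN_val h hF hnp, negN_val h hF hp, neg_neg_root hF hp]; exact hqp) heven (1 : F) v
        set a := xG hF p (1 : F)
        set b := xG hF (negN D p) (1 : F)
        set x := xG hF q v
        have ha : a⁻¹ = a := xG_self_inv hF (h2 rfl) p
        have hc' : (a * b) * x * (a * b)⁻¹ = a * x * a⁻¹ := by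
          rw [mul_assoc a b x, ← hcomm]; group
        have hm : a * x * a⁻¹ ∈ M := hc' ▸ M.mul_mem (M.mul_mem hyM (hqM v)) (M.inv_mem hyM)
        rw [ha] at hm
        rw [show wordG hF (D.commWord F p q 1 v) = x⁻¹ * (a⁻¹ * x * a) by
          rw [mul_assoc a⁻¹, e]; group, ha]
        exact M.mul_mem (M.inv_mem (hqM v)) hm
    obtain ⟨hk', hkM⟩ := extract h hF h2 hk hp hq' hterms hw
    refine group_le_of_derive h2 hn hG l _ hrest fun r hr => ?_
    rcases List.mem_append.1 hr with hr | hr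
    · exact orbitL_spec h hF (w := w) (P := fun r => ∀ t : F, xG hF r t ∈ M)
        (fun r hr t => full_step h hF hn r hr t) m k hk' hkM r hr
    · exact hk r hr

omit h in
theorem exists_gens_of_le {a b : GL D.Idx F} (ha : a ∈ D.group F) (hb : b ∈ D.group F)
    (hle : D.group F ≤ Subgroup.closure {a, b}) :
    ∃ a b : ↥(D.group F), Subgroup.closure ({a, b} : Set ↥(D.group F)) = ⊤ := by
  refine ⟨⟨a, ha⟩, ⟨b, hb⟩, Subgroup.map_injective (D.group F).subtype_injective ?_⟩
  rw [MonoidHom.map_closure, Set.image_pair, ← MonoidHom.range_eq_map, Subgroup.range_subtype]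
  exact le_antisymm ((Subgroup.closure_le _).2 (by rintro x (rfl | rfl); exacts [ha, hb])) hle

omit h in
theorem exists_word {l : List ℕ} (hl : ∀ j ∈ l, j < D.rank) :
    ∃ w : List (Fin D.rank), w.map Fin.val = l :=
  ⟨l.attach.map fun j => ⟨j.1, hl j.1 j.2⟩, by
    rw [List.map_map]; exact List.attach_map_subtype_val _⟩

theorem two_gen_two {l : List ℕ} {m b g : ℕ} {steps : List (Bool × ℕ × ℕ × ℕ)}
    (h2 : ∀ x : F, x = 0 ∨ x = 1) (hc : chkTwoGen D C l m b g steps = true) :
    ∃ a b : ↥(D.group F), Subgroup.closure ({a, b} : Set ↥(D.group F)) = ⊤ := by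
  simp only [chkTwoGen, Bool.and_eq_true, List.all_eq_true (p := fun j => Nat.blt j D.rank),
    nblt_iff, Bool.not_eq_true', nbeq_false_iff] at hc
  obtain ⟨⟨⟨⟨⟨⟨⟨hl, hg⟩, hb⟩, hbg⟩, hbng⟩, he1⟩, he2⟩, hd⟩ := hc
  obtain ⟨w, rfl⟩ := exists_word hF hl
  set x := xG hF b (1 : F) with hx
  set u := xG hF g (1 : F) with hu
  set v := xG hF (negN D g) (1 : F) with hv
  have hng : negN D g < D.nroots := by rw [negN_val h hF hg]; exact neg_lt hF hg
  have hxu : x * u = u * x := comm_even h hF h2 hg hb hbg hbng he1 1 1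
  have hxv : x * v = v * x := comm_even h hF h2 hng hb hbng (by
    rw [negN_val h hF hng, negN_val h hF hg, neg_neg_root hF hg]; exact hbg) he2 1 1
  have hy3 : (u * v) ^ 3 = 1 := by
    obtain ⟨φ, -, hφ⟩ := exists_sl2Hom hF hg (F := F)
    let U : Matrix.SpecialLinearGroup (Fin 2) F :=
      ⟨!![1, 1; 0, 1], by simp [Matrix.det_fin_two]⟩
    let V : Matrix.SpecialLinearGroup (Fin 2) F :=
      ⟨!![1, 0; 1, 1], by simp [Matrix.det_fin_two]⟩
    have eU : φ U = u := Units.ext ((hφ U 1).1 rfl)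
    have eV : φ V = v := by
      rw [hv, negN_val h hF hg]; exact Units.ext ((hφ V 1).2 rfl)
    have h20 : (2 : F) = 0 := by
      rcases h2 2 with e | e
      · exact e
      · exact absurd (show (1 : F) = 0 by linear_combination e) one_ne_zero
    have e : (U * V) ^ 3 = 1 := by
      apply Subtype.ext
      simp only [pow_succ, pow_zero, one_mul, Matrix.SpecialLinearGroup.coe_mul,
        Matrix.SpecialLinearGroup.coe_one]
      ext i j
      fin_cases i <;> fin_cases j <;> simp [U, V, Matrix.mul_apply, Fin.sum_univ_two] <;>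
        linear_combination (norm := ring_nf) (0 : F) * h20 <;>
        simp [show (4 : F) = 2 * 2 by norm_num, show (8 : F) = 2 * 4 by norm_num,
          show (12 : F) = 2 * 6 by norm_num, h20]
    rw [← eU, ← eV, ← map_mul, ← map_pow, e, map_one]
  set a := x * (u * v)
  set M := Subgroup.closure {a, nWord hF w} with hM
  have haM : a ∈ M := Subgroup.subset_closure (Set.mem_insert _ _)
  have hnM : nWord hF w ∈ M := Subgroup.subset_closure (Set.mem_insert_of_mem _ rfl)
  have hcomm : Commute x (u * v) := Commute.mul_right hxu hxv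
  have hxM : x ∈ M := by
    have : a ^ 3 = x := by
      rw [hcomm.mul_pow, hy3, mul_one, pow_succ, pow_two]
      have := xG_self_inv hF h2 b
      rw [← hx] at this
      rw [inv_eq_iff_mul_eq_one.1 this, one_mul]
    exact this ▸ M.pow_mem haM 3
  have hyM : u * v ∈ M := (M.mul_mem_cancel_left hxM).1 haM
  have hvu : xG hF (negN D g) (1 : F) * xG hF (negN D (negN D g)) (1 : F) ∈ M := by
    rw [negN_val h hF hng, show D.neg (negN D g) = g by
      rw [negN_val h hF hg, neg_neg_root hF hg]]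
    have := M.inv_mem hyM
    rwa [mul_inv_rev, xG_self_inv hF h2, xG_self_inv hF h2] at this
  refine exists_gens_of_le hF ?_ (monomial_le_group hF (nWord_mem hF w))
    (group_le_of_derive h hF (fun _ => h2) hnM ?_ steps _ hd ?_)
  · exact mul_mem (xG_mem_group hF _ _) (mul_mem (xG_mem_group hF _ _) (xG_mem_group hF _ _))
  · intro r hr
    rcases List.mem_append.1 hr with hr | hr
    · exact orbitL_spec h hF (w := w)
        (P := fun r => xG hF r (1 : F) * xG hF (negN D r) (1 : F) ∈ M)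
        (fun r hr => pair_step h hF h2 hnM r hr) m g hg hyM r hr
    · exact orbitL_spec h hF (w := w)
        (P := fun r => xG hF r (1 : F) * xG hF (negN D r) (1 : F) ∈ M)
        (fun r hr => pair_step h hF h2 hnM r hr) m _ hng hvu r hr
  · refine orbitL_spec h hF (w := w) (P := fun r => ∀ t : F, xG hF r t ∈ M)
      (fun r hr t => full_step h hF hnM r hr t) m b hb fun t => ?_
    rcases h2 t with rfl | rfl
    · rw [xG_zero]; exact M.one_mem
    · exact hxM

theorem two_gen_torus [Fintype F] {l : List ℕ} {m i b₁ b₂ b' g : ℕ}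
    {steps : List (Bool × ℕ × ℕ × ℕ)} (hq : ∃ x : F, x ≠ 0 ∧ x ≠ 1)
    (hc : chkTorusGen D C l m i b₁ b₂ b' g steps = true) :
    ∃ a b : ↥(D.group F), Subgroup.closure ({a, b} : Set ↥(D.group F)) = ⊤ := by
  simp only [chkTorusGen, Bool.and_eq_true, List.all_eq_true, nblt_iff, nbeq_iff, zbeq_iff,
    nble_iff, List.contains_iff_mem] at hc
  obtain ⟨⟨⟨⟨⟨⟨⟨⟨⟨⟨⟨hl, hi⟩, hb₁⟩, hb'⟩, hσ⟩, hA1⟩, hA2⟩, hA'⟩, hgo⟩, hg1⟩, hg2⟩, hd⟩ := hc
  obtain ⟨w, rfl⟩ := exists_word hF hl
  obtain ⟨k, hk⟩ := IsCyclic.exists_generator (α := Fˣ)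
  have hk1 : k ≠ 1 := by
    rintro rfl
    obtain ⟨x, hx0, hx1⟩ := hq
    obtain ⟨e, he⟩ := Subgroup.mem_zpowers_iff.1 (hk (Units.mk0 x hx0))
    simp only [one_zpow] at he
    exact hx1 (congrArg Units.val he).symm
  set c : Fin D.rank → Fˣ := Pi.mulSingle ⟨i, hi⟩ k with hcdef
  set H := (torusHom c : GL D.Idx F) with hH
  set n := (nWord hF w : GL D.Idx F) with hn
  have hchi : ∀ r < D.nroots, chiU c r = k ^ C.cA i r := fun r hr => by
    rw [hcdef, chiU_mulSingle hi, cartan_eq h hi hr]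
  have hunit : ∀ e : ℤ, e.natAbs = 1 → k ^ e ≠ 1 := fun e he => by
    rcases Int.natAbs_eq e with e' | e' <;> rw [e', he]
    · simpa using hk1
    · simpa using hk1
  obtain rfl : b₂ = (pWord hF w ⟨b', hb'⟩ : ℕ) := hσ ▸ appWord_eq h hF w ⟨b', hb'⟩
  have hb₂ : (pWord hF w ⟨b', hb'⟩ : ℕ) < D.nroots := Fin.is_lt _
  set b₂ : ℕ := (pWord hF w ⟨b', hb'⟩ : ℕ) with hb₂def
  set x₁ := xG hF b₁ (1 : F) with hx₁
  set x₂ := xG hF b₂ (1 : F) with hx₂
  set a := H * x₁
  set b := x₂ * n
  set M := Subgroup.closure {a, b} with hM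
  have haM : a ∈ M := Subgroup.subset_closure (Set.mem_insert _ _)
  have hbM : b ∈ M := Subgroup.subset_closure (Set.mem_insert_of_mem _ rfl)
  -- the two factors of `a`
  have hcomm : Commute H x₁ := by
    show H * x₁ = x₁ * H
    rw [hH, hx₁, torusHom_conj hF c hb₁, hchi b₁ hb₁, hA1, zpow_zero, Units.val_one, one_mul]
  have hx₁M : x₁ ∈ M := by
    classical
    have hc1 : c ^ (Fintype.card F - 1) = 1 := by
      funext j
      rw [Pi.pow_apply, ← Fintype.card_units, pow_card_eq_one, Pi.one_apply]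
    have hpow : ∀ N : ℕ, x₁ ^ N = xG hF b₁ (N : F) := by
      intro N
      induction N with
      | zero => simp [xG_zero]
      | succ N ih => rw [pow_succ, ih, hx₁, xG_mul, Nat.cast_succ]
    have e : a ^ (Fintype.card F - 1) = x₁⁻¹ := by
      rw [hcomm.mul_pow, hH, ← map_pow, hc1, map_one, one_mul, hpow, hx₁, xG_inv,
        Nat.cast_sub Fintype.card_pos, FiniteField.cast_card_eq_zero, Nat.cast_one, zero_sub]
    have := M.inv_mem (M.pow_mem haM (Fintype.card F - 1))
    rwa [e, inv_inv] at this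
  have hHM : H ∈ M := (M.mul_mem_cancel_right hx₁M).1 haM
  -- scalar multiples along the torus
  let par : ℕ → AddSubgroup F := fun r =>
    { carrier := {t | xG hF r t ∈ M}
      zero_mem' := by show xG hF r (0 : F) ∈ M; rw [xG_zero]; exact M.one_mem
      add_mem' := fun {s t} hs ht => by
        show xG hF r (s + t) ∈ M
        rw [← xG_mul]; exact M.mul_mem hs ht
      neg_mem' := fun {t} ht => by
        show xG hF r (-t) ∈ M
        rw [← xG_inv]; exact M.inv_mem ht }
  have hfull : ∀ r < D.nroots, 1 ≤ (C.cA i r).natAbs → (C.cA i r).natAbs ≤ 2 →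
      (∃ t : F, t ≠ 0 ∧ xG hF r t ∈ M) → ∀ t : F, xG hF r t ∈ M := by
    intro r hr he1 he2 ⟨t₀, ht0, ht⟩
    refine mem_of_squares (S := par r) ht0 fun u hu => ?_
    obtain ⟨e, he⟩ := Subgroup.mem_zpowers_iff.1 (hk (Units.mk0 u hu))
    obtain ⟨d, hd⟩ : C.cA i r ∣ 2 := by
      rw [← Int.natAbs_dvd_natAbs]
      interval_cases (C.cA i r).natAbs <;> decide
    have hm := M.mul_mem (M.mul_mem (M.zpow_mem hHM (e * d)) ht)
      (M.inv_mem (M.zpow_mem hHM (e * d)))
    rw [hH, ← map_zpow, torusHom_conj hF _ hr, mul_inv_cancel_right] at hm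
    have echi : chiU (c ^ (e * d)) r = Units.mk0 u hu ^ 2 := by
      rw [hcdef, ← Pi.mulSingle_zpow, chiU_mulSingle hi, cartan_eq h hi hr, ← zpow_mul,
        mul_assoc, mul_comm d, ← hd, zpow_mul, he]
      rfl
    rw [echi, Units.val_pow_eq_pow_val, Units.val_mk0] at hm
    exact hm
  -- the monomial factor of `b`
  obtain ⟨c', hc'⟩ := nWord_torus hF w c (F := F)
  have hH' : n * H * n⁻¹ = torusHom c' := by rw [hn, hH, hc', mul_inv_cancel_right]
  obtain ⟨cn, hcn0, hcn⟩ := isMon_nWord hF w (F := F) ⟨b', hb'⟩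
  have hchi' : (chiU c' b₂ : F) = (chiU c b' : F) := by
    have e1 : n * H * xG hF b' (1 : F) = xG hF b₂ (cn * chiU c b') * (torusHom c' * n) := by
      rw [mul_assoc n H, hH, torusHom_conj hF c hb', mul_one, ← mul_assoc, hn, hcn, mul_assoc,
        hc']
    have e2 : n * H * xG hF b' (1 : F) = xG hF b₂ ((chiU c' b₂ : F) * cn) * (torusHom c' * n) := by
      rw [hn, hH, hc', mul_assoc, hcn, mul_one, ← mul_assoc, torusHom_conj hF c' hb₂, mul_assoc]
    have e3 := mul_right_cancel (e1.symm.trans e2)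
    rw [← mul_inv_eq_one, xG_inv, xG_mul, xG_eq_one_iff hF hb₂] at e3
    exact mul_left_cancel₀ hcn0 (by linear_combination -e3)
  set d : F := 1 - (chiU c b' : F) with hddef
  have hd0 : d ≠ 0 := by
    rw [hddef, sub_ne_zero, ne_comm, Ne, Units.val_eq_one, hchi b' hb']
    exact hunit _ hA'
  have hz : xG hF b₂ d * torusHom c' ∈ M := by
    have := M.mul_mem (M.mul_mem hbM hHM) (M.inv_mem hbM)
    have e : b * H * b⁻¹ = xG hF b₂ d * torusHom c' := by
      calc b * H * b⁻¹ = x₂ * (n * H * n⁻¹) * x₂⁻¹ := by simp only [b]; group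
        _ = x₂ * (torusHom c' * xG hF b₂ (-1)) := by rw [hH', hx₂, xG_inv]; group
        _ = _ := by
          rw [torusHom_conj hF c' hb₂, ← mul_assoc, hx₂, xG_mul, hchi', hddef,
            mul_neg_one, ← sub_eq_add_neg]
    rwa [e] at this
  have hx₂M : ∀ t : F, xG hF b₂ t ∈ M := by
    refine hfull b₂ hb₂ (le_of_eq hA2.symm) (by omega) ⟨(chiU c b₂ : F) * d - d, ?_, ?_⟩
    · rw [← sub_one_mul]
      refine mul_ne_zero ?_ hd0
      rw [sub_ne_zero, Ne, Units.val_eq_one, hchi b₂ hb₂]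
      exact hunit _ hA2
    · have := M.mul_mem (M.mul_mem (M.mul_mem hHM hz) (M.inv_mem hHM)) (M.inv_mem hz)
      have hHH : H * torusHom c' = torusHom c' * H := by
        rw [hH, ← map_mul, ← map_mul, mul_comm]
      have e : H * (xG hF b₂ d * torusHom c') * H⁻¹ * (xG hF b₂ d * torusHom c')⁻¹ =
          xG hF b₂ ((chiU c b₂ : F) * d - d) := by
        rw [← mul_assoc H, hH, torusHom_conj hF c hb₂, ← hH, mul_assoc _ H, hHH, sub_eq_add_neg,
          ← xG_mul, ← xG_inv]
        group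
      rwa [e] at this
  have hnM : n ∈ M := (M.mul_mem_cancel_left (hx₂M 1)).1 hbM
  refine exists_gens_of_le hF ?_ ?_
    (group_le_of_derive h hF (two := false) (fun e => absurd e (by decide)) hnM
      (by simp) steps _ hd ?_)
  · exact mul_mem (borel_le_group hF (Subgroup.mem_sup_right (torusHom_mem hF c)))
      (xG_mem_group hF _ _)
  · exact mul_mem (xG_mem_group hF _ _) (monomial_le_group hF (nWord_mem hF w))
  intro r hr
  rcases List.mem_append.1 hr with hr | hr
  · obtain ⟨hglt, hgne⟩ := orbitL_spec h hF (w := w)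
      (P := fun r => ∃ t : F, t ≠ 0 ∧ xG hF r t ∈ M)
      (fun r hr => nonzero_step h hF hnM r hr) m b₁ hb₁ ⟨1, one_ne_zero, hx₁M⟩ g hgo
    exact orbitL_spec h hF (w := w) (P := fun r => ∀ t : F, xG hF r t ∈ M)
      (fun r hr t => full_step h hF hnM r hr t) m g hglt (hfull g hglt hg1 hg2 hgne) r hr
  · exact orbitL_spec h hF (w := w) (P := fun r => ∀ t : F, xG hF r t ∈ M)
      (fun r hr t => full_step h hF hnM r hr t) m b₂ hb₂ hx₂M r hr

end Cfsg.Agent.Chev
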