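import Cfsg.Agent.Chev.Torus
import Cfsg.Agent.BN.Coxeter
import Mathlib.GroupTheory.Perm.Basic

/-!
The monomial subgroup `N`, its permutation action on roots, and the exchange condition.
-/

set_option autoImplicit false

namespace Cfsg.Agent.Chev

open Cfsg.Lie
open scoped MatrixGroups

universe u

variable {D : ChevalleyDatum} {F : Type u} [Field F]

section

variable (hF : Facts.{u} D)
include hF

/-- The fundamental reflection as a permutation of the roots. -/
def wPerm (i : Fin D.rank) : Equiv.Perm (Fin D.nroots) :=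
  Function.Involutive.toPerm (fun s => ⟨D.reflectRoot i s, hF.refl_lt i i.2 s s.2⟩)
    fun s => Fin.ext (hF.refl_refl i i.2 s s.2)

@[simp] theorem wPerm_val (i : Fin D.rank) (s : Fin D.nroots) :
    (wPerm hF i s : ℕ) = D.reflectRoot i s := rfl

theorem wPerm_sq (i : Fin D.rank) : wPerm hF i * wPerm hF i = 1 := by
  ext s
  simp [hF.refl_refl i i.2 s s.2]

theorem wPerm_inv (i : Fin D.rank) : (wPerm hF i)⁻¹ = wPerm hF i :=
  inv_eq_of_mul_eq_one_right (wPerm_sq hF i)

/-- The fundamental root as an element of `Fin D.nroots`. -/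
def sRoot (i : Fin D.rank) : Fin D.nroots := ⟨D.simple i, hF.simple_lt i i.2⟩

/-- The negative of a root. -/
def negF (r : Fin D.nroots) : Fin D.nroots := ⟨D.neg r, neg_lt hF r.2⟩

theorem wPerm_sRoot (i : Fin D.rank) : wPerm hF i (sRoot hF i) = negF hF (sRoot hF i) :=
  Fin.ext (hF.refl_simple i i.2)

theorem wPerm_negF (i : Fin D.rank) (r : Fin D.nroots) :
    wPerm hF i (negF hF r) = negF hF (wPerm hF i r) :=
  Fin.ext (hF.refl_neg i i.2 r r.2)

theorem negF_negF (r : Fin D.nroots) : negF hF (negF hF r) = r :=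
  Fin.ext (neg_neg_root hF r.2)

theorem pos_negF_iff (r : Fin D.nroots) : half D ≤ (negF hF r : ℕ) ↔ (r : ℕ) < half D :=
  half_le_neg_iff hF r.2

/-- The permutation of a word in fundamental reflections. -/
def pWord (w : List (Fin D.rank)) : Equiv.Perm (Fin D.nroots) := (w.map (wPerm hF)).prod

theorem pWord_cons (i : Fin D.rank) (w : List (Fin D.rank)) :
    pWord hF (i :: w) = wPerm hF i * pWord hF w := rfl

theorem pWord_append (v w : List (Fin D.rank)) :
    pWord hF (v ++ w) = pWord hF v * pWord hF w := by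
  simp [pWord]

theorem pWord_reverse (w : List (Fin D.rank)) : pWord hF w.reverse = (pWord hF w)⁻¹ := by
  induction w with
  | nil => simp [pWord]
  | cons i w ih => rw [List.reverse_cons, pWord_append, ih,
      show pWord hF [i] = wPerm hF i from by simp [pWord], pWord_cons, mul_inv_rev, wPerm_inv]

theorem pWord_negF (w : List (Fin D.rank)) (r : Fin D.nroots) :
    pWord hF w (negF hF r) = negF hF (pWord hF w r) := by
  induction w with
  | nil => rfl
  | cons i w ih => rw [pWord_cons, Equiv.Perm.mul_apply, Equiv.Perm.mul_apply, ih, wPerm_negF]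

/-- The product of the representatives `n_p` along a word. -/
def nWord (w : List (Fin D.rank)) : GL D.Idx F := (w.map fun i : Fin D.rank => nS hF (i : ℕ)).prod

theorem nWord_cons (i : Fin D.rank) (w : List (Fin D.rank)) :
    nWord hF (i :: w) = nS hF (i : ℕ) * nWord hF w (F := F) := rfl

theorem nWord_append (v w : List (Fin D.rank)) :
    nWord hF (v ++ w) (F := F) = nWord hF v * nWord hF w := by
  simp [nWord]

/-- `g` permutes the root subgroups by `π`. -/
def IsMon (g : GL D.Idx F) (π : Equiv.Perm (Fin D.nroots)) : Prop :=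
  ∀ r : Fin D.nroots, ∃ c : F, c ≠ 0 ∧
    ∀ t : F, g * xG hF r t = xG hF (π r) (c * t) * g

theorem isMon_torus (c : Fin D.rank → Fˣ) : IsMon hF (torusHom c : GL D.Idx F) 1 := fun r =>
  ⟨(chiU c r : F), Units.ne_zero _, fun t => torusHom_conj hF c r.2 t⟩

theorem isMon_one : IsMon hF (1 : GL D.Idx F) 1 := fun r =>
  ⟨1, one_ne_zero, fun t => by simp⟩

theorem isMon_mul {g g' : GL D.Idx F} {π π' : Equiv.Perm (Fin D.nroots)} (h : IsMon hF g π)
    (h' : IsMon hF g' π') : IsMon hF (g * g') (π * π') := by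
  intro r
  obtain ⟨c', hc', h'⟩ := h' r
  obtain ⟨c, hc, h⟩ := h (π' r)
  refine ⟨c * c', mul_ne_zero hc hc', fun t => ?_⟩
  rw [mul_assoc, h', ← mul_assoc, h, Equiv.Perm.mul_apply, mul_assoc, mul_assoc c c' t]

theorem isMon_nS (i : Fin D.rank) : IsMon hF (nS hF (i : ℕ) : GL D.Idx F) (wPerm hF i) := fun r =>
  ⟨(etaN hF i r : F), left_ne_zero_of_mul_eq_one (etaN_cast_sq hF i.2 r.2),
    fun t => nS_conj_x hF i.2 r.2 t⟩

theorem isMon_nWord (w : List (Fin D.rank)) :
    IsMon hF (nWord hF w : GL D.Idx F) (pWord hF w) := by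
  induction w with
  | nil => exact isMon_one hF
  | cons i w ih => rw [nWord_cons, pWord_cons]; exact isMon_mul hF (isMon_nS hF i) ih

theorem isMon_unique {g : GL D.Idx F} {π π' : Equiv.Perm (Fin D.nroots)} (h : IsMon hF g π)
    (h' : IsMon hF g π') : π = π' := by
  ext r
  obtain ⟨c, hc, h⟩ := h r
  obtain ⟨c', -, h'⟩ := h' r
  have e := (h 1).symm.trans (h' 1)
  rw [mul_left_inj] at e
  exact congrArg id (eq_of_x_eq hF (π r).2 (by rwa [mul_one]) (congrArg Units.val e)).1

theorem isMon_conj_mem {g : GL D.Idx F} {π : Equiv.Perm (Fin D.nroots)} (h : IsMon hF g π)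
    (r : Fin D.nroots) (t : F) : ∃ v : F, g * xG hF r t * g⁻¹ = xG hF (π r) v := by
  obtain ⟨c, -, h⟩ := h r
  exact ⟨c * t, by rw [h, mul_inv_cancel_right]⟩

theorem nWord_conj_nG (w : List (Fin D.rank)) (r : Fin D.nroots) :
    ∃ e : F, (e = 1 ∨ e = -1) ∧
      ∀ t : F, nWord hF w * nG hF r t = nG hF (pWord hF w r) (e * t) * nWord hF w := by
  induction w with
  | nil => exact ⟨1, Or.inl rfl, fun t => by simp [nWord, pWord]⟩
  | cons i w ih =>
    obtain ⟨e, he, h⟩ := ih
    set η : F := ((etaN hF i (pWord hF w r) : ℤ) : F) with hη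
    have hη' : η = 1 ∨ η = -1 := by
      rcases (etaN_spec hF i.2).1 _ (pWord hF w r).2 with e' | e' <;> simp [hη, e']
    refine ⟨η * e, ?_, fun t => ?_⟩
    · rcases hη' with a | a <;> rcases he with b | b <;> simp [a, b]
    · rw [nWord_cons, mul_assoc, h, ← mul_assoc, nS_conj_nG hF i.2 (pWord hF w r).2, mul_assoc,
        ← hη, mul_assoc η]
      rfl

theorem nS_inv (i : Fin D.rank) :
    ∃ c, (nS hF (i : ℕ) : GL D.Idx F)⁻¹ = nS hF (i : ℕ) * torusHom c := by
  refine ⟨coH (D.simple i) (-1), ?_⟩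
  rw [← hG_eq_torus hF (hF.simple_lt i i.2), hG, nS, nG_inv]
  simp only [Units.val_neg, Units.val_one]
  rw [← mul_assoc, ← nG_inv hF (D.simple i) (1 : F), mul_inv_cancel, one_mul]

theorem nWord_torus (w : List (Fin D.rank)) (c : Fin D.rank → Fˣ) :
    ∃ c', (nWord hF w : GL D.Idx F) * torusHom c = torusHom c' * nWord hF w := by
  induction w generalizing c with
  | nil => exact ⟨c, by simp [nWord]⟩
  | cons i w ih =>
    obtain ⟨c', h⟩ := ih c
    refine ⟨c' * Pi.mulSingle ⟨i, i.2⟩ (chiU c' (D.simple i))⁻¹, ?_⟩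
    rw [nWord_cons, mul_assoc, h, ← mul_assoc, nS_conj_torus hF i.2, mul_assoc]

theorem torus_nWord (w : List (Fin D.rank)) (c : Fin D.rank → Fˣ) :
    ∃ c', torusHom c * nWord hF w = (nWord hF w : GL D.Idx F) * torusHom c' := by
  induction w generalizing c with
  | nil => exact ⟨c, by simp [nWord]⟩
  | cons i w ih =>
    have hi : (⟨i, i.2⟩ : Fin D.rank) = i := rfl
    obtain ⟨d, hd⟩ := nS_inv hF i (F := F)
    have h1 : ∃ a, torusHom c * nS hF (i : ℕ) = nS hF (i : ℕ) * torusHom a := by
      refine ⟨c * Pi.mulSingle ⟨i, i.2⟩ (chiU c (D.simple i))⁻¹, ?_⟩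
      rw [nS_conj_torus hF i.2]
      congr 2
      have hp := hF.simple_lt i i.2
      set χ := chiU c (D.simple i) with hχ
      have : chiU (c * Pi.mulSingle ⟨i, i.2⟩ χ⁻¹) (D.simple i) = χ⁻¹ := by
        have hsplit : chiU (c * Pi.mulSingle ⟨i, i.2⟩ χ⁻¹) (D.simple i) =
            chiU c (D.simple i) * chiU (Pi.mulSingle (⟨i, i.2⟩ : Fin D.rank) χ⁻¹) (D.simple i) := by
          simp [chiU, mul_zpow, Finset.prod_mul_distrib]
        rw [hsplit, chiU_mulSingle i.2, hF.cartan_self i i.2, ← hχ]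
        group
      rw [this, inv_inv, mul_assoc, ← Pi.mulSingle_mul, inv_mul_cancel, Pi.mulSingle_one, mul_one]
    obtain ⟨a, ha⟩ := h1
    obtain ⟨c', h⟩ := ih a
    exact ⟨c', by rw [nWord_cons, ← mul_assoc, ha, mul_assoc, h, mul_assoc]⟩

theorem nG_mem_sup {r : ℕ} (hr : r < D.nroots) :
    nG hF r (1 : F) ∈ D.diagonalSubgroup F ⊔
      Subgroup.closure (Set.range fun i : Fin D.rank => nS hF (i : ℕ)) := by
  set M := D.diagonalSubgroup F ⊔
    Subgroup.closure (Set.range fun i : Fin D.rank => nS hF (i : ℕ)) with hM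
  refine hF.root_induction (fun r => nG hF r (1 : F) ∈ M) (fun i hi => ?_) (fun i hi r hr ih => ?_)
    r hr
  · exact Subgroup.mem_sup_right (Subgroup.subset_closure ⟨⟨i, hi⟩, rfl⟩)
  · have hn : nS hF i ∈ M := Subgroup.mem_sup_right (Subgroup.subset_closure ⟨⟨i, hi⟩, rfl⟩)
    have e := nS_conj_nG hF hi hr (1 : F)
    rw [mul_one] at e
    have h1 : nG hF (D.reflectRoot i r) ((etaN hF i r : ℤ) : F) ∈ M := by
      rw [eq_mul_inv_of_mul_eq e.symm]
      exact Subgroup.mul_mem _ (Subgroup.mul_mem _ hn ih) (Subgroup.inv_mem _ hn)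
    rcases (etaN_spec hF hi).1 r hr with a | a <;> rw [a] at h1
    · simpa using h1
    · have := Subgroup.inv_mem _ h1
      simpa [nG_inv] using this

theorem mem_monomial_iff {g : GL D.Idx F} :
    g ∈ D.monomialSubgroup F ↔ ∃ w c, g = nWord hF w * torusHom c := by
  constructor
  · intro hg
    have hle : D.monomialSubgroup F ≤ Subgroup.closure
        ((Set.range fun c : Fin D.rank → Fˣ => (torusHom c : GL D.Idx F)) ∪
          Set.range fun i : Fin D.rank => nS hF (i : ℕ)) := by
      rw [Subgroup.closure_union]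
      refine sup_le ?_ ((Subgroup.closure_le _).2 ?_)
      · intro g hg
        obtain ⟨c, rfl⟩ := (mem_diagonal_iff hF).1 hg
        exact Subgroup.mem_sup_left (Subgroup.subset_closure ⟨c, rfl⟩)
      · rintro g ⟨r, hr, e⟩
        have : g = nG hF r 1 := Units.ext (e.trans (nG_val hF r 1).symm)
        subst this
        have hsub : D.diagonalSubgroup F ≤ Subgroup.closure
            (Set.range fun c : Fin D.rank → Fˣ => (torusHom c : GL D.Idx F)) := fun g hg => by
          obtain ⟨c, rfl⟩ := (mem_diagonal_iff hF).1 hg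
          exact Subgroup.subset_closure ⟨c, rfl⟩
        exact sup_le_sup hsub le_rfl (nG_mem_sup hF hr)
    have hg' := hle hg
    clear hg
    induction hg' using Subgroup.closure_induction_left with
    | one => exact ⟨[], 1, by simp [nWord]⟩
    | mul_left x hx y _ ih =>
      obtain ⟨w, c, rfl⟩ := ih
      rcases hx with ⟨d, rfl⟩ | ⟨i, rfl⟩
      · obtain ⟨d', e⟩ := torus_nWord hF w d
        exact ⟨w, d' * c, by rw [← mul_assoc, e, mul_assoc, map_mul]⟩
      · exact ⟨i :: w, c, by rw [nWord_cons, mul_assoc]⟩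
    | inv_mul_cancel x hx y _ ih =>
      obtain ⟨w, c, rfl⟩ := ih
      rcases hx with ⟨d, rfl⟩ | ⟨i, rfl⟩
      · obtain ⟨d', e⟩ := torus_nWord hF w d⁻¹
        exact ⟨w, d' * c, by rw [← map_inv, ← mul_assoc, e, mul_assoc, map_mul]⟩
      · obtain ⟨d, hd⟩ := nS_inv hF i (F := F)
        obtain ⟨d', e⟩ := torus_nWord hF w d
        refine ⟨i :: w, d' * c, ?_⟩
        show (nS hF (i : ℕ))⁻¹ * _ = _
        rw [hd, mul_assoc, ← mul_assoc (torusHom d), e, nWord_cons, map_mul]
        simp only [mul_assoc]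
  · rintro ⟨w, c, rfl⟩
    refine Subgroup.mul_mem _ (Subgroup.list_prod_mem _ fun g hg => ?_)
      (Subgroup.mem_sup_left (torusHom_mem hF c))
    obtain ⟨i, -, rfl⟩ := List.mem_map.1 hg
    exact Subgroup.mem_sup_right (Subgroup.subset_closure
      ⟨D.simple i, hF.simple_lt i i.2, nG_val hF _ 1⟩)

theorem nWord_mem (w : List (Fin D.rank)) : (nWord hF w : GL D.Idx F) ∈ D.monomialSubgroup F :=
  (mem_monomial_iff hF).2 ⟨w, 1, by simp⟩

theorem nS_mem (i : Fin D.rank) : (nS hF (i : ℕ) : GL D.Idx F) ∈ D.monomialSubgroup F := by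
  simpa [nWord] using nWord_mem hF [i] (F := F)

theorem isMon_of_mem {g : GL D.Idx F} (hg : g ∈ D.monomialSubgroup F) :
    ∃ π, IsMon hF g π := by
  obtain ⟨w, c, rfl⟩ := (mem_monomial_iff hF).1 hg
  exact ⟨pWord hF w * 1, isMon_mul hF (isMon_nWord hF w) (isMon_torus hF c)⟩

/-- The exchange condition at the level of permutations and of representatives. -/
theorem exchange_word : ∀ (w : List (Fin D.rank)) (i : Fin D.rank),
    (pWord hF w (sRoot hF i) : ℕ) < half D →
    ∃ u j v, w = u ++ j :: v ∧ pWord hF w * wPerm hF i = pWord hF (u ++ v) ∧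
      ∃ c, (nWord hF w : GL D.Idx F) * nS hF (i : ℕ) = nWord hF (u ++ v) * torusHom c := by
  intro w i h
  suffices H : ∃ u j v, w = u ++ j :: v ∧
      ∃ c, (nWord hF w : GL D.Idx F) * nS hF (i : ℕ) = nWord hF (u ++ v) * torusHom c by
    obtain ⟨u, j, v, hw, c, hc⟩ := H
    refine ⟨u, j, v, hw, ?_, c, hc⟩
    have h1 := isMon_mul hF (isMon_nWord hF w (F := F)) (isMon_nS hF i)
    rw [hc] at h1
    have h2 := isMon_mul hF (isMon_nWord hF (u ++ v) (F := F)) (isMon_torus hF c)
    rw [mul_one] at h2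
    exact isMon_unique hF h1 h2
  induction w with
  | nil => exact absurd (hF.simple_pos i i.2) (by simpa [pWord, sRoot] using h)
  | cons j w ih =>
    by_cases hpos : half D ≤ (pWord hF w (sRoot hF i) : ℕ)
    · have hj : pWord hF w (sRoot hF i) = sRoot hF j := by
        by_contra hne
        have := hF.refl_pos j j.2 _ (pWord hF w (sRoot hF i)).2 hpos fun e => hne (Fin.ext e)
        rw [pWord_cons, Equiv.Perm.mul_apply, wPerm_val] at h
        omega
      refine ⟨[], j, w, rfl, ?_⟩
      obtain ⟨e, he, hK⟩ := nWord_conj_nG hF w (sRoot hF i) (F := F)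
      have hK1 : (nWord hF w : GL D.Idx F) * nS hF (i : ℕ) =
          nG hF (D.simple j) e * nWord hF w := by
        have := hK 1
        rw [hj, mul_one] at this
        exact this
      have hd : ∃ d, (nS hF (j : ℕ) : GL D.Idx F) * nG hF (D.simple j) e = torusHom d := by
        rcases he with rfl | rfl
        · obtain ⟨d, hd⟩ := nS_inv hF j (F := F)
          refine ⟨d⁻¹, ?_⟩
          rw [map_inv, eq_inv_iff_mul_eq_one]
          show nS hF (j : ℕ) * nS hF (j : ℕ) * torusHom d = 1
          rw [mul_assoc, ← hd, mul_inv_cancel]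
        · exact ⟨1, by rw [map_one, nS, ← nG_inv, mul_inv_cancel]⟩
      obtain ⟨d, hd⟩ := hd
      obtain ⟨d', hd'⟩ := torus_nWord hF w d
      exact ⟨d', by rw [nWord_cons, mul_assoc, hK1, ← mul_assoc, hd, hd', List.nil_append]⟩
    · obtain ⟨u, k, v, rfl, c, hc⟩ := ih (by omega)
      refine ⟨j :: u, k, v, rfl, c, ?_⟩
      rw [nWord_cons, mul_assoc, hc, List.cons_append, nWord_cons, mul_assoc]

/-- A word acting trivially on the roots gives an element of `H`. -/
theorem nWord_mem_diagonal : ∀ w : List (Fin D.rank), pWord hF w = 1 →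
    (nWord hF w : GL D.Idx F) ∈ D.diagonalSubgroup F := by
  suffices H : ∀ n, ∀ w : List (Fin D.rank), w.length = n → pWord hF w = 1 →
      (nWord hF w : GL D.Idx F) ∈ D.diagonalSubgroup F from fun w => H _ w rfl
  intro n
  induction n using Nat.strong_induction_on with
  | _ n ih =>
    intro w hn hw
    rcases List.eq_nil_or_concat w with rfl | ⟨w', k, rfl⟩
    · exact Subgroup.one_mem _
    rw [List.concat_eq_append] at hn hw ⊢
    have hw' : pWord hF w' = wPerm hF k := by
      rw [pWord_append, show pWord hF [k] = wPerm hF k from by simp [pWord], mul_eq_one_iff_eq_inv,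
        wPerm_inv] at hw
      exact hw
    have hneg : (pWord hF w' (sRoot hF k) : ℕ) < half D := by
      rw [hw', wPerm_sRoot]
      exact (neg_lt_half_iff hF (sRoot hF k).2).2 (hF.simple_pos k k.2)
    obtain ⟨u, j, v, huv, hp, c, hc⟩ := exchange_word hF w' k hneg (F := F)
    rw [pWord_append, show pWord hF [k] = wPerm hF k from by simp [pWord], hp] at hw
    have hlen : (u ++ v).length < n := by
      rw [← hn, huv]; simp
    have := ih _ hlen (u ++ v) rfl hw
    rw [nWord_append, show (nWord hF [k] : GL D.Idx F) = nS hF (k : ℕ) by simp [nWord], hc]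
    exact Subgroup.mul_mem _ this (torusHom_mem hF c)

theorem mem_diagonal_of_isMon_one {g : GL D.Idx F} (hg : g ∈ D.monomialSubgroup F)
    (h : IsMon hF g 1) : g ∈ D.diagonalSubgroup F := by
  obtain ⟨w, c, rfl⟩ := (mem_monomial_iff hF).1 hg
  refine Subgroup.mul_mem _ (nWord_mem_diagonal hF w ?_) (torusHom_mem hF c)
  have := isMon_unique hF (isMon_mul hF (isMon_nWord hF w) (isMon_torus hF c)) h
  rwa [mul_one] at this

open Classical in
/-- The permutation of the roots induced by an element. -/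
noncomputable def monPerm (g : GL D.Idx F) : Equiv.Perm (Fin D.nroots) :=
  if h : ∃ π, IsMon hF g π then h.choose else 1

theorem monPerm_eq {g : GL D.Idx F} {π : Equiv.Perm (Fin D.nroots)} (h : IsMon hF g π) :
    monPerm hF g = π := by
  have h' : ∃ π, IsMon hF g π := ⟨π, h⟩
  rw [monPerm, dif_pos h']
  exact isMon_unique hF h'.choose_spec h

theorem isMon_monPerm {g : GL D.Idx F} (hg : g ∈ D.monomialSubgroup F) :
    IsMon hF g (monPerm hF g) := by
  have h' := isMon_of_mem hF hg
  rw [monPerm, dif_pos h']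
  exact h'.choose_spec

/-- The action of `N` on the roots. -/
noncomputable def monHom : ↥(D.monomialSubgroup F) →* Equiv.Perm (Fin D.nroots) where
  toFun g := monPerm hF (g : GL D.Idx F)
  map_one' := monPerm_eq hF (isMon_one hF)
  map_mul' a b := monPerm_eq hF (isMon_mul hF (isMon_monPerm hF a.2) (isMon_monPerm hF b.2))

theorem monHom_ker :
    (monHom hF (F := F)).ker = (D.diagonalSubgroup F).subgroupOf (D.monomialSubgroup F) := by
  ext g
  rw [MonoidHom.mem_ker, Subgroup.mem_subgroupOf]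
  constructor
  · intro h
    refine mem_diagonal_of_isMon_one hF g.2 ?_
    have := isMon_monPerm hF g.2
    rwa [show monPerm hF (g : GL D.Idx F) = 1 from h] at this
  · intro h
    obtain ⟨c, hc⟩ := (mem_diagonal_iff hF).1 h
    exact monPerm_eq hF (hc ▸ isMon_torus hF c)

theorem diagonal_subgroupOf_normal :
    ((D.diagonalSubgroup F).subgroupOf (D.monomialSubgroup F)).Normal :=
  monHom_ker hF (F := F) ▸ MonoidHom.normal_ker _

/-- The Weyl group, as permutations of the roots. -/
def weyl : Subgroup (Equiv.Perm (Fin D.nroots)) := Subgroup.closure (Set.range (wPerm hF))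

theorem pWord_mem (w : List (Fin D.rank)) : pWord hF w ∈ weyl hF :=
  Subgroup.list_prod_mem _ fun g hg => by
    obtain ⟨i, -, rfl⟩ := List.mem_map.1 hg
    exact Subgroup.subset_closure ⟨i, rfl⟩

theorem exists_pWord {g : Equiv.Perm (Fin D.nroots)} (hg : g ∈ weyl hF) :
    ∃ w, pWord hF w = g := by
  induction hg using Subgroup.closure_induction_left with
  | one => exact ⟨[], rfl⟩
  | mul_left x hx y _ ih =>
    obtain ⟨i, rfl⟩ := hx
    obtain ⟨w, rfl⟩ := ih
    exact ⟨i :: w, rfl⟩
  | inv_mul_cancel x hx y _ ih =>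
    obtain ⟨i, rfl⟩ := hx
    obtain ⟨w, rfl⟩ := ih
    exact ⟨i :: w, by rw [pWord_cons, wPerm_inv]⟩

theorem monHom_range : (monHom hF (F := F)).range = weyl hF := by
  refine le_antisymm ?_ ((Subgroup.closure_le _).2 ?_)
  · rintro g ⟨a, rfl⟩
    obtain ⟨w, c, hwc⟩ := (mem_monomial_iff hF).1 a.2
    show monPerm hF (a : GL D.Idx F) ∈ weyl hF
    rw [hwc, monPerm_eq hF (isMon_mul hF (isMon_nWord hF w) (isMon_torus hF c)), mul_one]
    exact pWord_mem hF w
  · rintro g ⟨i, rfl⟩
    exact ⟨⟨nS hF (i : ℕ), nS_mem hF i⟩, monPerm_eq hF (isMon_nS hF i)⟩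

theorem wPerm_injective : Function.Injective (wPerm hF) := by
  intro i j e
  have h1 := hF.simple_pos i i.2
  have h2 : (wPerm hF i (sRoot hF i) : ℕ) < half D := by
    rw [wPerm_sRoot]; exact (neg_lt_half_iff hF (sRoot hF i).2).2 h1
  rw [e, wPerm_val] at h2
  by_contra hne
  have hs : D.simple i ≠ D.simple j := by
    intro e'
    apply hne
    apply Fin.ext
    by_contra hne'
    have a := hF.coef_simple i i.2 i i.2
    rw [e', hF.coef_simple j j.2 i i.2, if_pos rfl, if_neg hne'] at a
    exact absurd a (by norm_num)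
  have := hF.refl_pos j j.2 (D.simple i) (hF.simple_lt i i.2) h1 hs
  exact absurd h2 (not_lt.2 this)

end

/-- The field used to transfer facts from representatives to permutations. -/
abbrev AuxF : Type u := ULift.{u} ℚ

theorem exchange_perm (hF : Facts.{u} D) (w : List (Fin D.rank)) (i : Fin D.rank)
    (h : (pWord hF w (sRoot hF i) : ℕ) < half D) :
    ∃ u j v, w = u ++ j :: v ∧ pWord hF w * wPerm hF i = pWord hF (u ++ v) := by
  obtain ⟨u, j, v, h1, h2, -⟩ := exchange_word hF w i h (F := AuxF.{u})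
  exact ⟨u, j, v, h1, h2⟩

theorem exists_longest (hF : Facts.{u} D) : ∃ w : List (Fin D.rank),
    ∀ r : Fin D.nroots, ((pWord hF w r : ℕ) < half D ↔ half D ≤ (r : ℕ)) := by
  obtain ⟨l, hl, hlong⟩ := hF.longest
  refine ⟨l.attach.map fun i => ⟨i.1, hl i.1 i.2⟩, ?_⟩
  have key : ∀ (w : List (Fin D.rank)) (r : Fin D.nroots),
      (pWord hF w r : ℕ) = (w.map Fin.val).foldr (fun i s => D.reflectRoot i s) r := by
    intro w r
    induction w with
    | nil => rfl
    | cons i w ih => rw [pWord_cons, Equiv.Perm.mul_apply, wPerm_val, ih]; rfl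
  have hmap : (l.attach.map fun i => (⟨i.1, hl i.1 i.2⟩ : Fin D.rank)).map Fin.val = l := by
    rw [List.map_map]; exact List.attach_map_subtype_val l
  set w := l.attach.map fun i => (⟨i.1, hl i.1 i.2⟩ : Fin D.rank) with hw
  have hfwd : ∀ r : Fin D.nroots, half D ≤ (r : ℕ) → (pWord hF w r : ℕ) < half D := fun r hr => by
    rw [key, hmap]; exact hlong r r.2 hr
  refine fun r => ⟨fun h => ?_, hfwd r⟩
  by_contra hr
  have := hfwd (negF hF r) ((pos_negF_iff hF r).2 (not_le.1 hr))
  rw [pWord_negF] at this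
  have := (pos_negF_iff hF (pWord hF w r)).2 h
  omega

end Cfsg.Agent.Chev
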