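import Cfsg.Agent.Chev.WeylCoxeter
import Cfsg.Agent.Chev.WeylOrders
import Cfsg.Agent.Chev.Parabolic
import Mathlib.GroupTheory.Subgroup.Center

/-!
The centre of the Weyl group.
-/

set_option autoImplicit false

namespace Cfsg.Agent.Chev

open Cfsg.Lie

universe u

variable (D : ChevalleyDatum) (C : Cert)

/-- A root negated by a fundamental reflection is the fundamental root or its negative, and some
root has all its coefficients positive. -/
noncomputable def chkCenter : Bool :=
  (allBelow (fun i => allBelow (fun s =>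
    !Nat.beq (C.cW i s) (negN D s) || Nat.beq s (D.simple i) ||
      Nat.beq s (negN D (D.simple i))) D.nroots) D.rank) &&
  ((List.range D.nroots).any fun r => allBelow (fun j => decide (0 < C.cR r j)) D.rank)

/-- A power of a word negates every root. -/
noncomputable def chkMinusOne (w : List ℕ) (k : ℕ) : Bool :=
  allBelow (fun s => Nat.beq (appPow C w k s) (negN D s)) D.nroots

/-- The longest element does not negate every fundamental root. -/
noncomputable def chkNoMinusOne : Bool :=
  (allBelow (fun i => Nat.blt (appWord C C.longest (D.simple i)) (half D)) D.rank) &&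
  ((List.range D.rank).any fun i =>
    !Nat.beq (appWord C C.longest (D.simple i)) (negN D (D.simple i)))

variable {D C} (h : Checks D C) (hF : Facts.{u} D)
include h

theorem negF_val (r : Fin D.nroots) : (negF hF r : ℕ) = negN D r := neg_eq h r.2

theorem eq_negF_of_center (hc : chkCenter D C = true) {z : ↥(weyl hF)}
    (hz : z ∈ Subgroup.center ↥(weyl hF)) :
    z = 1 ∨ ∀ i, (z : Equiv.Perm (Fin D.nroots)) (sRoot hF i) = negF hF (sRoot hF i) := by
  simp only [chkCenter, Bool.and_eq_true, allBelow_iff, List.any_eq_true, List.mem_range,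
    Bool.or_eq_true, Bool.not_eq_true', nbeq_false_iff, nbeq_iff, decide_eq_true_eq] at hc
  obtain ⟨hrefl, r, hr, hpos⟩ := hc
  obtain ⟨w, hw⟩ := exists_pWord hF z.2
  have hsign : ∀ i, ∃ e : ℤ, (e = 1 ∧ (z : Equiv.Perm (Fin D.nroots)) (sRoot hF i) = sRoot hF i ∨
      e = -1 ∧ (z : Equiv.Perm (Fin D.nroots)) (sRoot hF i) = negF hF (sRoot hF i)) := by
    intro i
    have hcomm := congrArg (fun x : ↥(weyl hF) => (x : Equiv.Perm (Fin D.nroots)) (sRoot hF i))
      (Subgroup.mem_center_iff.1 hz (wGen hF i))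
    simp only [Subgroup.coe_mul, Equiv.Perm.mul_apply] at hcomm
    set s := (z : Equiv.Perm (Fin D.nroots)) (sRoot hF i) with hs
    have e : wPerm hF i s = negF hF s := by
      show (wGen hF i : Equiv.Perm (Fin D.nroots)) s = _
      rw [hcomm]
      show (z : Equiv.Perm (Fin D.nroots)) (wPerm hF i (sRoot hF i)) = _
      rw [wPerm_sRoot, weyl_negF hF z.2]
    have e' := congrArg Fin.val e
    rw [wPerm_val, (refl_split h i.2 s.2).1, negF_val h hF] at e'
    rcases hrefl i i.2 s s.2 with (h1 | h1) | h1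
    · exact absurd e' h1
    · exact ⟨1, .inl ⟨rfl, Fin.ext h1⟩⟩
    · exact ⟨-1, .inr ⟨rfl, Fin.ext (h1.trans (negF_val h hF (sRoot hF i)).symm)⟩⟩
  choose e he using hsign
  have hcoef : ∀ (i j : Fin D.rank),
      coef D (pWord hF w (sRoot hF i) : ℕ) j = if i = j then e i else 0 := by
    intro i j
    rw [hw]
    rcases he i with ⟨e1, e2⟩ | ⟨e1, e2⟩
    · rw [e2, e1]
      show coef D (D.simple i) j = _
      rw [hF.coef_simple i i.2 j j.2]
      by_cases hij : i = j
      · subst hij; simp
      · rw [if_neg hij, if_neg fun e => hij (Fin.ext e).symm]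
    · rw [e2, coef_negF hF, e1]
      show -coef D (D.simple i) j = _
      rw [hF.coef_simple i i.2 j j.2]
      by_cases hij : i = j
      · subst hij; simp
      · rw [if_neg hij, if_neg fun e => hij (Fin.ext e).symm, neg_zero]
  have hzr : ∀ j : Fin D.rank, coef D ((z : Equiv.Perm (Fin D.nroots)) ⟨r, hr⟩ : ℕ) j =
      coef D r j * e j := by
    intro j
    rw [← hw, coef_pWord hF w ⟨r, hr⟩ j, Finset.sum_eq_single j]
    · rw [hcoef, if_pos rfl]
    · intro l _ hl; rw [hcoef, if_neg hl, mul_zero]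
    · intro hj; exact absurd (Finset.mem_univ _) hj
  have hp : ∀ j : Fin D.rank, 0 < coef D r j := fun j => by
    rw [coef_eq h j.2 hr]; exact hpos j j.2
  by_cases hside : half D ≤ ((z : Equiv.Perm (Fin D.nroots)) ⟨r, hr⟩ : ℕ)
  · left
    refine Subtype.ext (eq_one_of_pos hF z.2 fun i => ?_)
    rcases he i with ⟨-, e2⟩ | ⟨e1, -⟩
    · rw [e2]; exact (simple_split h i.2).2.1
    · have := coef_nonneg hF (Fin.is_lt _) hside (j := i)
      rw [hzr, e1] at this
      have := hp i
      omega
  · right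
    intro i
    rcases he i with ⟨e1, -⟩ | ⟨-, e2⟩
    · have := coef_nonpos hF (not_le.1 hside) i
      rw [hzr, e1] at this
      have := hp i
      omega
    · exact e2

theorem center_eq_bot (hc : chkCenter D C = true) (hn : chkNoMinusOne D C = true)
    (hl : ∀ i ∈ C.longest, i < D.rank) : Subgroup.center ↥(weyl hF) = ⊥ := by
  simp only [chkNoMinusOne, Bool.and_eq_true, allBelow_iff, nblt_iff, List.any_eq_true,
    List.mem_range, Bool.not_eq_true', nbeq_false_iff] at hn
  obtain ⟨hneg, k, hk, hne⟩ := hn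
  rw [Subgroup.eq_bot_iff_forall]
  intro z hz
  refine (eq_negF_of_center h hF hc hz).resolve_right fun hz' => hne ?_
  set w : List (Fin D.rank) := C.longest.attach.map fun i => ⟨i.1, hl i.1 i.2⟩ with hw
  have hmap : w.map Fin.val = C.longest := by
    rw [hw, List.map_map]; exact List.attach_map_subtype_val _
  have hlong : ∀ i, (pWord hF w (sRoot hF i) : ℕ) < half D := fun i => by
    rw [← appWord_eq h hF, hmap]; exact hneg i i.2
  have e : pWord hF w * (z : Equiv.Perm (Fin D.nroots)) = 1 := by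
    refine eq_one_of_pos hF (mul_mem (pWord_mem hF w) z.2) fun i => ?_
    rw [Equiv.Perm.mul_apply, hz' i, pWord_negF]
    exact (pos_negF_iff hF _).2 (hlong i)
  have := congrArg (fun π : Equiv.Perm (Fin D.nroots) => π (sRoot hF ⟨k, hk⟩)) e
  simp only [Equiv.Perm.mul_apply, hz', pWord_negF, Equiv.Perm.one_apply] at this
  have h' := congrArg (negF hF) this
  rw [negF_negF] at h'
  have h'' := congrArg Fin.val h'
  rw [← appWord_eq h hF, hmap, negF_val h hF] at h''
  exact h''

theorem center_eq_pair (hc : chkCenter D C = true) {w : List (Fin D.rank)} {k : ℕ}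
    (hm : chkMinusOne D C (w.map Fin.val) k = true) (hrk : 0 < D.rank) :
    Subgroup.center ↥(weyl hF) ≤ Subgroup.zpowers (w.map (wGen hF)).prod ∧
      Nat.card ↥(Subgroup.center ↥(weyl hF)) = 2 := by
  simp only [chkMinusOne, allBelow_iff, nbeq_iff] at hm
  set c := (w.map (wGen hF)).prod
  have happ : ∀ r, ((c ^ k : ↥(weyl hF)) : Equiv.Perm (Fin D.nroots)) r = negF hF r := fun r =>
    Fin.ext (by
      rw [Subgroup.coe_pow, coe_prod_wGen, ← appPow_eq h hF, negF_val h hF]
      exact hm r r.2)
  have hcen : c ^ k ∈ Subgroup.center ↥(weyl hF) := Subgroup.mem_center_iff.2 fun g =>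
    Subtype.ext (Equiv.ext fun r => by
      simp only [Subgroup.coe_mul, Equiv.Perm.mul_apply, happ, weyl_negF hF g.2])
  have hne : c ^ k ≠ 1 := fun e => by
    have h2 := happ (sRoot hF ⟨0, hrk⟩)
    rw [e, Subgroup.coe_one, Equiv.Perm.one_apply] at h2
    have h3 := (simple_split h hrk).2.1
    have h4 := (pos_negF_iff hF (sRoot hF ⟨0, hrk⟩)).1 (by rw [← h2]; exact h3)
    exact absurd (show half D ≤ (sRoot hF ⟨0, hrk⟩ : ℕ) from h3) (not_le.2 h4)
  have hall : ∀ z ∈ Subgroup.center ↥(weyl hF), z = 1 ∨ z = c ^ k := fun z hz =>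
    (eq_negF_of_center h hF hc hz).imp_right fun hz' => by
      refine (mul_inv_eq_one.1 (Subtype.ext (eq_one_of_pos hF (z * (c ^ k)⁻¹).2 fun i => ?_)))
      have e1 : ((c ^ k : ↥(weyl hF)) : Equiv.Perm (Fin D.nroots))⁻¹ (sRoot hF i) =
          negF hF (sRoot hF i) := by
        rw [Equiv.Perm.inv_eq_iff_eq, happ, negF_negF]
      rw [Subgroup.coe_mul, Subgroup.coe_inv, Equiv.Perm.mul_apply, e1, weyl_negF hF z.2, hz',
        negF_negF]
      exact (simple_split h i.2).2.1
  refine ⟨fun z hz => ?_, ?_⟩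
  · rcases hall z hz with rfl | rfl
    · exact one_mem _
    · exact Subgroup.npow_mem_zpowers _ _
  · rw [← SetLike.coe_sort_coe, Nat.card_coe_set_eq, show (Subgroup.center ↥(weyl hF) :
      Set ↥(weyl hF)) = {1, c ^ k} from ?_, Set.ncard_pair hne.symm]
    ext z
    exact ⟨hall z, by rintro (rfl | rfl); exacts [one_mem _, hcen]⟩

omit h

/-- The centre of the Coxeter group is read off in the Weyl group. -/
theorem coxeter_center (M : CoxeterMatrix (Fin D.rank))
    (hM : ∀ i j, orderOf (wPerm hF i * wPerm hF j) = M i j) (w : List (Fin D.rank)) (n : ℕ)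
    (hz : Subgroup.center ↥(weyl hF) ≤ Subgroup.zpowers (w.map (wGen hF)).prod)
    (hn : Nat.card ↥(Subgroup.center ↥(weyl hF)) = n) :
    Nat.card ↥(Subgroup.center M.Group) = n ∧
      Subgroup.center M.Group ≤ Subgroup.zpowers (w.map M.simple).prod := by
  obtain ⟨cs, hcs⟩ := exists_weylCoxeter hF M hM
  have e : cs.mulEquiv (w.map (wGen hF)).prod = (w.map M.simple).prod := by
    rw [map_list_prod, List.map_map]
    refine congrArg List.prod (List.map_congr_left fun i _ => ?_)
    show cs.mulEquiv (wGen hF i) = M.simple i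
    rw [← hcs i]
    exact cs.mulEquiv.apply_symm_apply _
  refine ⟨(Nat.card_congr (Subgroup.centerCongr cs.mulEquiv).toEquiv).symm.trans hn,
    fun z hzc => ?_⟩
  obtain ⟨z', rfl⟩ := cs.mulEquiv.surjective z
  have : z' ∈ Subgroup.center ↥(weyl hF) := Subgroup.mem_center_iff.2 fun g =>
    cs.mulEquiv.injective (by rw [map_mul, map_mul, Subgroup.mem_center_iff.1 hzc])
  obtain ⟨m, hm⟩ := Subgroup.mem_zpowers_iff.1 (hz this)
  exact Subgroup.mem_zpowers_iff.2 ⟨m, by rw [← e, ← map_zpow, hm]⟩

end Cfsg.Agent.Chev
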